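import Mathlib.CategoryTheory.Adjunction.Unique
import Mathlib.CategoryTheory.Adjunction.Basic

/-!
# Lax structures on right adjoints and their mates (helper31 library)

Categories `𝒞`, `𝒟` with bifunctors `T𝒞`, `T𝒟` (no coherence), an adjunction `F ⊣ G` and a
"lax structure" `T𝒟 (G A) (G B) ⟶ G (T𝒞 A B)` on `G`.  The mate is the induced "oplax
structure" `F (T𝒟 M N) ⟶ T𝒞 (F M) (F N)`.  We prove naturality of the mate, and its compatibility
with composition of adjunctions, with replacing the right adjoint by an isomorphic one, and with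
the uniqueness isomorphism between two left adjoints of the same functor.
-/

set_option autoImplicit false
universe v₁ v₂ v₃ u₁ u₂ u₃
open CategoryTheory

namespace Groth.Agent.H31.Mate

section Bimap

variable {𝒞 : Type u₁} [Category.{v₁} 𝒞] (T : 𝒞 ⥤ 𝒞 ⥤ 𝒞)

/-- The action of a bifunctor on a pair of morphisms. -/
def bimap {A A' B B' : 𝒞} (f : A ⟶ A') (g : B ⟶ B') :
    (T.obj A).obj B ⟶ (T.obj A').obj B' :=
  (T.map f).app B ≫ (T.obj A').map g

lemma bimap_comp {A A' A'' B B' B'' : 𝒞} (f : A ⟶ A') (f' : A' ⟶ A'') (g : B ⟶ B')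
    (g' : B' ⟶ B'') :
    bimap T (f ≫ f') (g ≫ g') = bimap T f g ≫ bimap T f' g' := by
  simp only [bimap, Functor.map_comp, NatTrans.comp_app, Category.assoc]
  rw [← (T.map f').naturality_assoc g]

@[simp]
lemma bimap_id (A B : 𝒞) : bimap T (𝟙 A) (𝟙 B) = 𝟙 _ := by
  simp [bimap]

instance {A A' B B' : 𝒞} (f : A ⟶ A') (g : B ⟶ B') [IsIso f] [IsIso g] : IsIso (bimap T f g) := by
  unfold bimap
  infer_instance

end Bimap

variable {𝒞 : Type u₁} [Category.{v₁} 𝒞] {𝒟 : Type u₂} [Category.{v₂} 𝒟]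
  {ℰ : Type u₃} [Category.{v₃} ℰ]
  (T𝒞 : 𝒞 ⥤ 𝒞 ⥤ 𝒞) (T𝒟 : 𝒟 ⥤ 𝒟 ⥤ 𝒟) (Tℰ : ℰ ⥤ ℰ ⥤ ℰ)

/-- A lax structure on `G : 𝒞 ⥤ 𝒟` with respect to the bifunctors `T𝒞`, `T𝒟`. -/
structure Lax (G : 𝒞 ⥤ 𝒟) where
  /-- the structure map -/
  lam : ∀ A B : 𝒞, (T𝒟.obj (G.obj A)).obj (G.obj B) ⟶ G.obj ((T𝒞.obj A).obj B)
  nat : ∀ {A A' B B' : 𝒞} (f : A ⟶ A') (g : B ⟶ B'),
    bimap T𝒟 (G.map f) (G.map g) ≫ lam A' B' = lam A B ≫ G.map (bimap T𝒞 f g)

variable {T𝒞 T𝒟 Tℰ}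

section Mate

variable {F : 𝒟 ⥤ 𝒞} {G : 𝒞 ⥤ 𝒟} (adj : F ⊣ G) (l : Lax T𝒞 T𝒟 G)

/-- The mate of a lax structure on the right adjoint. -/
def mate (M N : 𝒟) : F.obj ((T𝒟.obj M).obj N) ⟶ (T𝒞.obj (F.obj M)).obj (F.obj N) :=
  (adj.homEquiv _ _).symm
    (bimap T𝒟 (adj.unit.app M) (adj.unit.app N) ≫ l.lam (F.obj M) (F.obj N))

lemma homEquiv_mate (M N : 𝒟) :
    adj.homEquiv _ _ (mate adj l M N) =
      bimap T𝒟 (adj.unit.app M) (adj.unit.app N) ≫ l.lam (F.obj M) (F.obj N) := by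
  simp [mate]

lemma mate_natural {M M' N N' : 𝒟} (f : M ⟶ M') (g : N ⟶ N') :
    F.map (bimap T𝒟 f g) ≫ mate adj l M' N' =
      mate adj l M N ≫ bimap T𝒞 (F.map f) (F.map g) := by
  apply (adj.homEquiv _ _).injective
  rw [adj.homEquiv_naturality_left, adj.homEquiv_naturality_right, homEquiv_mate, homEquiv_mate,
    Category.assoc, ← l.nat, ← Category.assoc, ← Category.assoc, ← bimap_comp, ← bimap_comp]
  congr 2
  · exact adj.unit.naturality f
  · exact adj.unit.naturality g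

end Mate

section Comp

variable {F : 𝒟 ⥤ 𝒞} {G : 𝒞 ⥤ 𝒟} (adj : F ⊣ G) (l : Lax T𝒞 T𝒟 G)
  {F' : 𝒞 ⥤ ℰ} {G' : ℰ ⥤ 𝒞} (adj' : F' ⊣ G') (l' : Lax Tℰ T𝒞 G')

/-- The composite lax structure. -/
def Lax.comp : Lax Tℰ T𝒟 (G' ⋙ G) where
  lam A B := l.lam (G'.obj A) (G'.obj B) ≫ G.map (l'.lam A B)
  nat {A A' B B'} f g := by
    dsimp
    rw [← Category.assoc, l.nat, Category.assoc, Category.assoc, ← G.map_comp, ← G.map_comp,
      l'.nat]

lemma mate_comp (M N : 𝒟) :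
    mate (adj.comp adj') (l.comp l') M N =
      F'.map (mate adj l M N) ≫ mate adj' l' (F.obj M) (F.obj N) := by
  apply ((adj.comp adj').homEquiv _ _).injective
  rw [homEquiv_mate]
  rw [Adjunction.comp_homEquiv]
  dsimp only [Equiv.trans_apply]
  rw [adj'.homEquiv_naturality_left]
  erw [homEquiv_mate adj' l']
  rw [adj.homEquiv_naturality_right, homEquiv_mate]
  dsimp only [Lax.comp, Functor.comp_obj]
  rw [Adjunction.comp_unit_app, Adjunction.comp_unit_app, bimap_comp]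
  simp only [Category.assoc, Functor.map_comp]
  congr 1
  rw [← Category.assoc, l.nat, Category.assoc]

end Comp

section OfIso

variable {F : 𝒟 ⥤ 𝒞} {G G' : 𝒞 ⥤ 𝒟} (adj : F ⊣ G) (l : Lax T𝒞 T𝒟 G) (l' : Lax T𝒞 T𝒟 G')
  (θ : G ≅ G')

/-- Replacing the right adjoint by an isomorphic functor with a compatible lax structure does not
change the mate. -/
lemma mate_ofNatIsoRight
    (h : ∀ A B : 𝒞, l.lam A B ≫ θ.hom.app _ =
      bimap T𝒟 (θ.hom.app A) (θ.hom.app B) ≫ l'.lam A B) (M N : 𝒟) :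
    mate (adj.ofNatIsoRight θ) l' M N = mate adj l M N := by
  apply ((adj.ofNatIsoRight θ).homEquiv _ _).injective
  rw [homEquiv_mate, Adjunction.homEquiv_ofNatIsoRight_apply, homEquiv_mate, Category.assoc, h,
    ← Category.assoc, ← bimap_comp]
  congr 2

end OfIso

section Uniq

variable {F₁ F₂ : 𝒟 ⥤ 𝒞} {G : 𝒞 ⥤ 𝒟} (adj₁ : F₁ ⊣ G) (adj₂ : F₂ ⊣ G) (l : Lax T𝒞 T𝒟 G)

/-- The mates with respect to two left adjoints of the same functor correspond under the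
uniqueness isomorphism. -/
lemma mate_leftAdjointUniq (M N : 𝒟) :
    mate adj₁ l M N ≫ bimap T𝒞 ((adj₁.leftAdjointUniq adj₂).hom.app M)
        ((adj₁.leftAdjointUniq adj₂).hom.app N) =
      (adj₁.leftAdjointUniq adj₂).hom.app _ ≫ mate adj₂ l M N := by
  apply (adj₁.homEquiv _ _).injective
  rw [adj₁.homEquiv_naturality_right, homEquiv_mate, Category.assoc, ← l.nat,
    ← Category.assoc, ← bimap_comp, Adjunction.unit_leftAdjointUniq_hom_app,
    Adjunction.unit_leftAdjointUniq_hom_app]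
  rw [Adjunction.homEquiv_unit, Functor.map_comp, ← Category.assoc,
    Adjunction.unit_leftAdjointUniq_hom_app, ← Adjunction.homEquiv_unit, homEquiv_mate]

end Uniq

end Groth.Agent.H31.Mate
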