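import Groth.Agent.H31.StalkPullback
import Groth.Agent.H31.Mate

/-!
# The pullback of modules along a morphism of schemes commutes with tensor products
(helper31 library)
-/

set_option autoImplicit false
set_option backward.isDefEq.respectTransparency false
universe u
open CategoryTheory CategoryTheory.Limits Opposite TopologicalSpace MonoidalCategory
  AlgebraicGeometry TensorProduct

namespace Groth.Agent.H31.PullTensor

open Groth.Agent.H31 Groth.Agent.H31.Stalk Groth.Agent.H40.StalkTensor
  Groth.Agent.H40.FlatBridge2 Groth.Agent.H31.Mate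

section Desc

variable {X : TopCat.{u}} {R : X.Presheaf CommRingCat.{u}}
  (N M T : PresheafOfModules.{u} (R ⋙ forget₂ CommRingCat RingCat))

/-- The value of a morphism of presheaves of modules on a section. -/
noncomputable def sec {A B : PresheafOfModules.{u} (R ⋙ forget₂ CommRingCat RingCat)}
    (φ : A ⟶ B) (U : Opens X) : A.obj (op U) →+ B.obj (op U) :=
  (((PresheafOfModules.toPresheaf _).map φ).app (op U)).hom

lemma sec_comp {A B C : PresheafOfModules.{u} (R ⋙ forget₂ CommRingCat RingCat)}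
    (φ : A ⟶ B) (ψ : B ⟶ C) (U : Opens X) (a : A.obj (op U)) :
    sec (φ ≫ ψ) U a = sec ψ U (sec φ U a) := rfl

lemma sec_smul {A B : PresheafOfModules.{u} (R ⋙ forget₂ CommRingCat RingCat)}
    (φ : A ⟶ B) (U : Opens X) (r : R.obj (op U)) (a : A.obj (op U)) :
    sec φ U (r • a) = r • sec φ U a :=
  (φ.app (op U)).hom.map_smul r a

lemma sec_res {A B : PresheafOfModules.{u} (R ⋙ forget₂ CommRingCat RingCat)}
    (φ : A ⟶ B) {U V : Opens X} (i : V ⟶ U) (a : A.obj (op U)) :
    sec φ V (A.map i.op a) = B.map i.op (sec φ U a) :=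
  congrArg (fun f => f.hom a) (((PresheafOfModules.toPresheaf _).map φ).naturality i.op)

lemma hom_ext_sec {A B : PresheafOfModules.{u} (R ⋙ forget₂ CommRingCat RingCat)}
    {φ ψ : A ⟶ B} (h : ∀ (U : Opens X) (a : A.obj (op U)), sec φ U a = sec ψ U a) : φ = ψ := by
  apply (PresheafOfModules.toPresheaf _).map_injective
  ext U a
  exact h U.unop a

/-- A morphism out of the sectionwise tensor product, from a compatible family of bilinear
maps. -/
noncomputable def tensorDesc
    (B : ∀ U : Opens X, N.obj (op U) →ₗ[R.obj (op U)] M.obj (op U) →ₗ[R.obj (op U)] T.obj (op U))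
    (hres : ∀ (U V : Opens X) (i : V ⟶ U) (n : N.obj (op U)) (m : M.obj (op U)),
      T.map i.op (B U n m) = B V (N.map i.op n) (M.map i.op m)) :
    N ⊗ M ⟶ T :=
  PresheafOfModules.homMk (M₁ := N ⊗ M) (M₂ := T)
    { app := fun U => AddCommGrpCat.ofHom
        (show ↑((N ⊗ M).presheaf.obj (op U.unop)) →+ T.obj (op U.unop) from
          (TensorProduct.lift (B U.unop)).toAddMonoidHom)
      naturality := fun U V i => by
        ext s
        induction s using tm_induction with
        | zero => simp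
        | tmul n m => exact (hres U.unop V.unop i.unop n m).symm
        | add a b ha hb =>
          rw [map_add, map_add, ha, hb] }
    (fun U r s => (TensorProduct.lift (B U.unop)).map_smul r s)

lemma tensorDesc_tm
    (B : ∀ U : Opens X, N.obj (op U) →ₗ[R.obj (op U)] M.obj (op U) →ₗ[R.obj (op U)] T.obj (op U))
    (hres : ∀ (U V : Opens X) (i : V ⟶ U) (n : N.obj (op U)) (m : M.obj (op U)),
      T.map i.op (B U n m) = B V (N.map i.op n) (M.map i.op m))
    (U : Opens X) (n : N.obj (op U)) (m : M.obj (op U)) :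
    sec (tensorDesc N M T B hres) U (tm N M U n m) = B U n m := rfl

variable {N M T} in
lemma tensor_hom_ext {g g' : N ⊗ M ⟶ T}
    (h : ∀ (U : Opens X) (n : N.obj (op U)) (m : M.obj (op U)),
      sec g U (tm N M U n m) = sec g' U (tm N M U n m)) : g = g' := by
  refine hom_ext_sec (fun U s => ?_)
  induction s using tm_induction with
  | zero => rw [map_zero, map_zero]
  | tmul n m => exact h U n m
  | add a b ha hb => rw [map_add, map_add, ha, hb]

end Desc

section Shf

variable {X : TopCat.{u}} (O : Sheaf (Opens.grothendieckTopology X) CommRingCat.{u})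

lemma shf_hom_ext {A : PM O} {P : ModSite.Mod O} {g g' : (shf O).obj A ⟶ P}
    (h : η A ≫ (toPM O).map g = η A ≫ (toPM O).map g') : g = g' := by
  apply ((shfAdj O).homEquiv A P).injective
  rw [Adjunction.homEquiv_unit, Adjunction.homEquiv_unit]
  exact h

/-- Morphisms out of a sheafification. -/
noncomputable def shfDesc {A : PM O} {P : ModSite.Mod O} (g : A ⟶ (toPM O).obj P) :
    (shf O).obj A ⟶ P :=
  ((shfAdj O).homEquiv A P).symm g

lemma η_shfDesc {A : PM O} {P : ModSite.Mod O} (g : A ⟶ (toPM O).obj P) :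
    η A ≫ (toPM O).map (shfDesc O g) = g := by
  have h := ((shfAdj O).homEquiv A P).apply_symm_apply g
  rw [Adjunction.homEquiv_unit] at h
  exact h

variable {O}

lemma sec_shfDesc {A : PM O} {P : ModSite.Mod O} (g : A ⟶ (toPM O).obj P) (U : Opens X)
    (a : A.obj (op U)) :
    sec ((toPM O).map (shfDesc O g)) U (sec (η A) U a) = sec g U a := by
  rw [← sec_comp, η_shfDesc]

lemma sec_shf_map {A A' : PM O} (h : A ⟶ A') (U : Opens X) (a : A.obj (op U)) :
    sec ((toPM O).map ((shf O).map h)) U (sec (η A) U a) = sec (η A') U (sec h U a) := by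
  rw [← sec_comp, ← sec_comp]
  exact congrArg (fun φ => sec φ U a) ((shfAdj O).unit.naturality h).symm

lemma shf_tensor_hom_ext {N M : PM O} {P : ModSite.Mod O} {g g' : (shf O).obj (N ⊗ M) ⟶ P}
    (h : ∀ (U : Opens X) (n : N.obj (op U)) (m : M.obj (op U)),
      sec ((toPM O).map g) U (sec (η (N ⊗ M)) U (tm N M U n m)) =
        sec ((toPM O).map g') U (sec (η (N ⊗ M)) U (tm N M U n m))) : g = g' := by
  apply shf_hom_ext
  apply tensor_hom_ext
  intro U n m
  rw [sec_comp, sec_comp]
  exact h U n m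

lemma sec_bimap_η {A A' B B' : ModSite.Mod O} (a : A ⟶ A') (b : B ⟶ B') (U : Opens X)
    (n : ((toPM O).obj A).obj (op U)) (m : ((toPM O).obj B).obj (op U)) :
    sec ((toPM O).map (bimap (ModSite.tensorBi O) a b)) U
        (sec (η ((toPM O).obj A ⊗ (toPM O).obj B)) U (tm _ _ U n m)) =
      sec (η ((toPM O).obj A' ⊗ (toPM O).obj B')) U
        (tm _ _ U (sec ((toPM O).map a) U n) (sec ((toPM O).map b) U m)) := by
  have h1 : bimap (ModSite.tensorBi O) a b =
      (shf O).map (((toPM O).map a ▷ (toPM O).obj B) ≫ ((toPM O).obj A' ◁ (toPM O).map b)) := by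
    rw [Functor.map_comp]
    rfl
  have h2 := sec_shf_map (O := O)
    (((toPM O).map a ▷ (toPM O).obj B) ≫ ((toPM O).obj A' ◁ (toPM O).map b)) U (tm _ _ U n m)
  rw [h1]
  exact h2

end Shf

section Sky

variable {X : TopCat.{u}} (O : Sheaf (Opens.grothendieckTopology X) CommRingCat.{u}) (x : X)

/-- The pointwise tensor product of sections of skyscrapers. -/
noncomputable def skB (P Q : ModuleCat.{u} (Rx O.obj x)) (U : Opens X) :
    (skPM O.obj x P).obj (op U) →ₗ[O.obj.obj (op U)] (skPM O.obj x Q).obj (op U) →ₗ[O.obj.obj (op U)]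
      (skPM O.obj x (P ⊗ Q : ModuleCat.{u} (Rx O.obj x))).obj (op U) :=
  LinearMap.mk₂ _
    (fun (s : SkSec x P U) (t : SkSec x Q U) =>
      (show SkSec x (P ⊗ Q : ModuleCat.{u} (Rx O.obj x)) U from
        fun h => s h ⊗ₜ[Rx O.obj x] t h))
    (fun s s' t => funext fun h => TensorProduct.add_tmul (s h) (s' h) (t h))
    (fun r s t => funext fun h =>
      (TensorProduct.smul_tmul' (TopCat.Presheaf.germ O.obj U x h.down r) (s h) (t h)).symm)
    (fun s t t' => funext fun h => TensorProduct.tmul_add (s h) (t h) (t' h))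
    (fun r s t => funext fun h =>
      TensorProduct.tmul_smul (TopCat.Presheaf.germ O.obj U x h.down r) (s h) (t h))

lemma skB_apply (P Q : ModuleCat.{u} (Rx O.obj x)) (U : Opens X) (s : SkSec x P U)
    (t : SkSec x Q U) (h : PLift (x ∈ U)) :
    (skB O x P Q U s t : SkSec x (P ⊗ Q : ModuleCat.{u} (Rx O.obj x)) U) h = s h ⊗ₜ t h := rfl

/-- The lax structure of the skyscraper functor, on presheaves. -/
noncomputable def κ (P Q : ModuleCat.{u} (Rx O.obj x)) :
    skPM O.obj x P ⊗ skPM O.obj x Q ⟶ skPM O.obj x (P ⊗ Q : ModuleCat.{u} (Rx O.obj x)) :=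
  tensorDesc _ _ _ (skB O x P Q) (fun U V i s t => rfl)

/-- The lax structure of the skyscraper functor. -/
noncomputable def lamS (P Q : ModuleCat.{u} (Rx O.obj x)) :
    ((ModSite.tensorBi O).obj ((skyF O x).obj P)).obj ((skyF O x).obj Q) ⟶
      (skyF O x).obj (P ⊗ Q) :=
  shfDesc O (A := skPM O.obj x P ⊗ skPM O.obj x Q)
    (P := (skyF O x).obj (P ⊗ Q)) (κ O x P Q)

lemma sec_lamS (P Q : ModuleCat.{u} (Rx O.obj x)) (U : Opens X) (s : SkSec x P U)
    (t : SkSec x Q U) (h : PLift (x ∈ U)) :
    (sec ((toPM O).map (lamS O x P Q)) U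
      (sec (η (skPM O.obj x P ⊗ skPM O.obj x Q)) U (tm _ _ U s t)) :
        SkSec x (P ⊗ Q : ModuleCat.{u} (Rx O.obj x)) U) h = s h ⊗ₜ t h := by
  have := sec_shfDesc (O := O) (A := skPM O.obj x P ⊗ skPM O.obj x Q)
    (P := (skyF O x).obj (P ⊗ Q)) (κ O x P Q) U (tm _ _ U s t)
  exact congrFun this h

/-- The lax structure on the skyscraper functor. -/
noncomputable def laxSky :
    Lax (curriedTensor (ModuleCat.{u} (Rx O.obj x))) (ModSite.tensorBi O) (skyF O x) where
  lam := lamS O x
  nat {P P' Q Q'} f g := by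
    refine shf_tensor_hom_ext (N := skPM O.obj x P) (M := skPM O.obj x Q)
      (P := (skyF O x).obj (P' ⊗ Q')) ?_
    intro U s t
    rw [Functor.map_comp, Functor.map_comp, sec_comp, sec_comp]
    have h1 := sec_bimap_η (O := O) ((skyF O x).map f) ((skyF O x).map g) U s t
    refine (congrArg (fun w => sec ((toPM O).map (lamS O x P' Q')) U w) h1).trans ?_
    refine funext (fun h => ?_)
    have h2 := sec_lamS O x P' Q' U (sec ((toPM O).map ((skyF O x).map f)) U s)
      (sec ((toPM O).map ((skyF O x).map g)) U t) h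
    have h3 := sec_lamS O x P Q U s t h
    refine h2.trans ?_
    refine Eq.trans ?_ (congrArg (fun w => (bimap (curriedTensor (ModuleCat.{u} (Rx O.obj x))) f g).hom w)
      h3).symm
    rfl

theorem σ_τ (M N : ModSite.Mod O) :
    σ O x ((toPM O).obj M ⊗ (toPM O).obj N) ≫ (τ O x M N).hom =
      (thetaIso x ((toPM O).obj M) ((toPM O).obj N)).hom := by
  simp [τ]

theorem mate_laxSky (M N : ModSite.Mod O) :
    mate (adj O x) (laxSky O x) M N = (τ O x M N).hom := by
  rw [mate, Equiv.symm_apply_eq, Adjunction.homEquiv_unit]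
  refine shf_tensor_hom_ext (N := (toPM O).obj M) (M := (toPM O).obj N) ?_
  intro U m n
  rw [Functor.map_comp, Functor.map_comp, sec_comp, sec_comp]
  have h1 := sec_bimap_η (O := O) ((adj O x).unit.app M) ((adj O x).unit.app N) U m n
  refine (congrArg (fun w => sec ((toPM O).map
    (lamS O x ((stk O x).obj M) ((stk O x).obj N))) U w) h1).trans ?_
  refine funext (fun h => ?_)
  have h2 := sec_lamS O x ((stk O x).obj M) ((stk O x).obj N) U
    (sec ((toPM O).map ((adj O x).unit.app M)) U m)
    (sec ((toPM O).map ((adj O x).unit.app N)) U n) h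
  refine h2.trans ?_
  have h3 : gm ((toPM O).obj ((shf O).obj ((toPM O).obj M ⊗ (toPM O).obj N))) x U h.down
      (sec (η ((toPM O).obj M ⊗ (toPM O).obj N)) U (tm _ _ U m n)) =
      (σ O x ((toPM O).obj M ⊗ (toPM O).obj N)).hom
        (gm ((toPM O).obj M ⊗ (toPM O).obj N) x U h.down (tm _ _ U m n)) :=
    (stkP_map_gm x (η ((toPM O).obj M ⊗ (toPM O).obj N)) U h.down (tm _ _ U m n)).symm
  have h4 : (τ O x M N).hom.hom ((σ O x ((toPM O).obj M ⊗ (toPM O).obj N)).hom
      (gm ((toPM O).obj M ⊗ (toPM O).obj N) x U h.down (tm _ _ U m n))) =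
      gm ((toPM O).obj M) x U h.down m ⊗ₜ gm ((toPM O).obj N) x U h.down n := by
    have := congrArg (fun φ => φ.hom (gm ((toPM O).obj M ⊗ (toPM O).obj N) x U h.down
      (tm _ _ U m n))) (σ_τ O x M N)
    refine this.trans ?_
    exact theta_germ_tm ((toPM O).obj M) ((toPM O).obj N) x U h.down m n
  refine Eq.trans ?_ (h4.symm.trans (congrArg (fun w => (τ O x M N).hom.hom w) h3.symm))
  rfl

end Sky

section Res

variable {R S : Type u} [CommRing R] [CommRing S] (φ : R →+* S)

lemma bimap_curriedTensor {C : Type*} [Category C] [MonoidalCategory C] {A A' B B' : C}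
    (f : A ⟶ A') (g : B ⟶ B') : bimap (curriedTensor C) f g = f ⊗ₘ g := by
  rw [MonoidalCategory.tensorHom_def]
  rfl

/-- The lax structure on the restriction of scalars. -/
noncomputable def laxRes :
    Lax (curriedTensor (ModuleCat.{u} S)) (curriedTensor (ModuleCat.{u} R))
      (ModuleCat.restrictScalars.{u} φ) where
  lam P Q := Functor.LaxMonoidal.μ (ModuleCat.restrictScalars.{u} φ) P Q
  nat f g := by
    rw [bimap_curriedTensor, bimap_curriedTensor]
    exact Functor.LaxMonoidal.μ_natural (ModuleCat.restrictScalars.{u} φ) f g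

theorem mate_laxRes (M N : ModuleCat.{u} R) :
    mate (ModuleCat.extendRestrictScalarsAdj.{u, u, u} φ) (laxRes φ) M N =
      Functor.OplaxMonoidal.δ (ModuleCat.extendScalars.{u, u, u} φ) M N := by
  rw [mate, Equiv.symm_apply_eq, Adjunction.homEquiv_unit, bimap_curriedTensor]
  exact (Adjunction.unit_app_tensor_comp_map_δ
    (adj := ModuleCat.extendRestrictScalarsAdj.{u, u, u} φ) M N).symm

instance isIso_mate_laxRes (M N : ModuleCat.{u} R) :
    IsIso (mate (ModuleCat.extendRestrictScalarsAdj.{u, u, u} φ) (laxRes φ) M N) := by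
  rw [mate_laxRes]
  infer_instance

end Res

section Push

variable {X Y : Scheme.{u}} (f : X ⟶ Y)

/-- The pushforward of presheaves of modules along `f`. -/
noncomputable abbrev fp : PM (shX X) ⥤ PM (shX Y) :=
  PresheafOfModules.pushforward (f.toRingCatSheafHom).hom

/-- The ring map on sections. -/
noncomputable abbrev φV (V : Opens Y) :
    (shX Y).obj.obj (op V) →+* (shX X).obj.obj (op (f ⁻¹ᵁ V)) := (f.app V).hom

lemma fp_smul (P : PM (shX X)) (V : Opens Y) (r : (shX Y).obj.obj (op V))
    (a : P.obj (op (f ⁻¹ᵁ V))) :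
    (r • (show ((fp f).obj P).obj (op V) from a)) =
      (show ((fp f).obj P).obj (op V) from (φV f V r • a)) := rfl

/-- The bilinear map defining the lax structure of the presheaf pushforward. -/
noncomputable def pushB (P Q : PM (shX X)) (V : Opens Y) :
    ((fp f).obj P).obj (op V) →ₗ[(shX Y).obj.obj (op V)]
      ((fp f).obj Q).obj (op V) →ₗ[(shX Y).obj.obj (op V)] ((fp f).obj (P ⊗ Q)).obj (op V) :=
  LinearMap.mk₂ _
    (fun (a : P.obj (op (f ⁻¹ᵁ V))) (b : Q.obj (op (f ⁻¹ᵁ V))) =>
      (show ((fp f).obj (P ⊗ Q)).obj (op V) from tm P Q (f ⁻¹ᵁ V) a b))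
    (fun (a a' : P.obj (op (f ⁻¹ᵁ V))) (b : Q.obj (op (f ⁻¹ᵁ V))) =>
      TensorProduct.add_tmul (R := (shX X).obj.obj (op (f ⁻¹ᵁ V))) a a' b)
    (fun r (a : P.obj (op (f ⁻¹ᵁ V))) (b : Q.obj (op (f ⁻¹ᵁ V))) =>
      (TensorProduct.smul_tmul' (R := (shX X).obj.obj (op (f ⁻¹ᵁ V))) (φV f V r) a b).symm)
    (fun (a : P.obj (op (f ⁻¹ᵁ V))) (b b' : Q.obj (op (f ⁻¹ᵁ V))) =>
      TensorProduct.tmul_add (R := (shX X).obj.obj (op (f ⁻¹ᵁ V))) a b b')
    (fun r (a : P.obj (op (f ⁻¹ᵁ V))) (b : Q.obj (op (f ⁻¹ᵁ V))) =>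
      TensorProduct.tmul_smul (R := (shX X).obj.obj (op (f ⁻¹ᵁ V))) (φV f V r) a b)

/-- The lax structure of the presheaf pushforward. -/
noncomputable def ℓ (P Q : PM (shX X)) : (fp f).obj P ⊗ (fp f).obj Q ⟶ (fp f).obj (P ⊗ Q) :=
  tensorDesc _ _ _ (pushB f P Q) (fun U V i a b => rfl)

/-- The presheaf-level map defining the lax structure of `f_*`. -/
noncomputable def Λ (A B : X.Modules) :
    (toPM (shX Y)).obj ((Scheme.Modules.pushforward f).obj A) ⊗
        (toPM (shX Y)).obj ((Scheme.Modules.pushforward f).obj B) ⟶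
      (toPM (shX Y)).obj ((Scheme.Modules.pushforward f).obj
        (((ModSite.tensorBi (shX X)).obj A).obj B)) :=
  ℓ f ((toPM (shX X)).obj A) ((toPM (shX X)).obj B) ≫
    (fp f).map (η ((toPM (shX X)).obj A ⊗ (toPM (shX X)).obj B))

/-- The lax structure of `f_*`. -/
noncomputable def lamPush (A B : X.Modules) :
    ((ModSite.tensorBi (shX Y)).obj ((Scheme.Modules.pushforward f).obj A)).obj
        ((Scheme.Modules.pushforward f).obj B) ⟶
      (Scheme.Modules.pushforward f).obj (((ModSite.tensorBi (shX X)).obj A).obj B) :=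
  shfDesc (shX Y) (Λ f A B)

lemma sec_lamPush (A B : X.Modules) (V : Opens Y)
    (a : ((toPM (shX X)).obj A).obj (op (f ⁻¹ᵁ V))) (b : ((toPM (shX X)).obj B).obj (op (f ⁻¹ᵁ V))) :
    sec ((toPM (shX Y)).map (lamPush f A B)) V
        (sec (η ((toPM (shX Y)).obj ((Scheme.Modules.pushforward f).obj A) ⊗
          (toPM (shX Y)).obj ((Scheme.Modules.pushforward f).obj B))) V
            (tm _ _ V (show ((toPM (shX Y)).obj ((Scheme.Modules.pushforward f).obj A)).obj (op V)
              from a) (show ((toPM (shX Y)).obj ((Scheme.Modules.pushforward f).obj B)).obj (op V)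
                from b))) =
      (show ((toPM (shX Y)).obj ((Scheme.Modules.pushforward f).obj
          (((ModSite.tensorBi (shX X)).obj A).obj B))).obj (op V) from
        sec (η ((toPM (shX X)).obj A ⊗ (toPM (shX X)).obj B)) (f ⁻¹ᵁ V) (tm _ _ (f ⁻¹ᵁ V) a b)) :=
  sec_shfDesc (O := shX Y) (Λ f A B) V _

lemma sec_push_map {A A' : X.Modules} (g : A ⟶ A') (V : Opens Y)
    (a : ((toPM (shX X)).obj A).obj (op (f ⁻¹ᵁ V))) :
    sec ((toPM (shX Y)).map ((Scheme.Modules.pushforward f).map g)) V
        (show ((toPM (shX Y)).obj ((Scheme.Modules.pushforward f).obj A)).obj (op V) from a) =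
      (show ((toPM (shX Y)).obj ((Scheme.Modules.pushforward f).obj A')).obj (op V) from
        sec ((toPM (shX X)).map g) (f ⁻¹ᵁ V) a) := rfl

/-- The lax structure on `f_*`. -/
noncomputable def laxPush :
    Lax (ModSite.tensorBi (shX X)) (ModSite.tensorBi (shX Y)) (Scheme.Modules.pushforward f) where
  lam := lamPush f
  nat {A A' B B'} a b := by
    refine shf_tensor_hom_ext
      (N := (toPM (shX Y)).obj ((Scheme.Modules.pushforward f).obj A))
      (M := (toPM (shX Y)).obj ((Scheme.Modules.pushforward f).obj B)) ?_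
    intro V s t
    rw [Functor.map_comp, Functor.map_comp, sec_comp, sec_comp]
    have h1 := sec_bimap_η (O := shX Y) ((Scheme.Modules.pushforward f).map a)
      ((Scheme.Modules.pushforward f).map b) V s t
    refine (congrArg (fun w => sec ((toPM (shX Y)).map (lamPush f A' B')) V w) h1).trans ?_
    refine (sec_lamPush f A' B' V _ _).trans ?_
    refine Eq.trans ?_ (congrArg (fun w => sec ((toPM (shX Y)).map
      ((Scheme.Modules.pushforward f).map (bimap (ModSite.tensorBi (shX X)) a b))) V w)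
      (sec_lamPush f A B V s t)).symm
    exact (sec_bimap_η (O := shX X) a b (f ⁻¹ᵁ V) s t).symm

end Push

section IsoStk

variable {X : TopCat.{u}} (O : Sheaf (Opens.grothendieckTopology X) CommRingCat.{u})

/-- Isomorphisms of sheaves of modules are detected on stalks. -/
theorem isIso_of_stk {A B : ModSite.Mod O} (g : A ⟶ B)
    (h : ∀ x : X, IsIso ((stk O x).map g)) : IsIso g := by
  have hm : Mono g := by
    apply Preadditive.mono_of_isZero_kernel
    apply isZero_of_stk
    intro x
    have := h x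
    exact IsZero.of_iso (isZero_kernel_of_mono ((stk O x).map g))
      (PreservesKernel.iso (stk O x) g)
  have he : Epi g := by
    apply Preadditive.epi_of_isZero_cokernel
    apply isZero_of_stk
    intro x
    have := h x
    exact IsZero.of_iso (isZero_cokernel_of_epi ((stk O x).map g))
      (PreservesCokernel.iso (stk O x) g)
  exact isIso_of_mono_of_epi g

end IsoStk

section Main

variable {X Y : Scheme.{u}} (f : X ⟶ Y) (x : X)

/-- The lax structure on `sky_x ⋙ f_*`. -/
noncomputable abbrev lax₁ :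
    Lax (curriedTensor (ModuleCat.{u} (Rx (shX X).obj x))) (ModSite.tensorBi (shX Y))
      (skyF (shX X) x ⋙ Scheme.Modules.pushforward f) :=
  (laxPush f).comp (laxSky (shX X) x)

/-- The lax structure on `restriction of scalars ⋙ sky_{f x}`. -/
noncomputable abbrev lax₂ :
    Lax (curriedTensor (ModuleCat.{u} (Rx (shX X).obj x))) (ModSite.tensorBi (shX Y))
      (ModuleCat.restrictScalars (φx f x) ⋙ skyF (shX Y) (f x)) :=
  (laxSky (shX Y) (f x)).comp (laxRes (φx f x))

theorem compat (P Q : ModuleCat.{u} (Rx (shX X).obj x)) :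
    (lax₂ f x).lam P Q ≫ (pushSkyIso f x).symm.hom.app
        ((curriedTensor (ModuleCat.{u} (Rx (shX X).obj x))).obj P |>.obj Q) =
      bimap (ModSite.tensorBi (shX Y)) ((pushSkyIso f x).symm.hom.app P)
        ((pushSkyIso f x).symm.hom.app Q) ≫ (lax₁ f x).lam P Q := by
  refine shf_tensor_hom_ext
    (N := skPM (shX Y).obj (f x) ((ModuleCat.restrictScalars (φx f x)).obj P))
    (M := skPM (shX Y).obj (f x) ((ModuleCat.restrictScalars (φx f x)).obj Q)) ?_
  intro V s t
  rw [Functor.map_comp, Functor.map_comp, sec_comp, sec_comp]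
  have h1 := sec_bimap_η (O := shX Y) ((pushSkyIso f x).symm.hom.app P)
    ((pushSkyIso f x).symm.hom.app Q) V s t
  refine Eq.trans ?_ (congrArg (fun w => sec ((toPM (shX Y)).map ((lax₁ f x).lam P Q)) V w)
    h1).symm
  refine funext (fun h => ?_)
  -- left hand side
  have hL := sec_lamS (shX Y) (f x) ((ModuleCat.restrictScalars (φx f x)).obj P)
    ((ModuleCat.restrictScalars (φx f x)).obj Q) V s t ⟨h.down⟩
  have hL2 : (Functor.LaxMonoidal.μ (ModuleCat.restrictScalars (φx f x)) P Q).hom
      ((s ⟨h.down⟩ : P) ⊗ₜ[Rx (shX Y).obj (f x)] (t ⟨h.down⟩ : Q)) =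
      (s ⟨h.down⟩ : P) ⊗ₜ[Rx (shX X).obj x] (t ⟨h.down⟩ : Q) :=
    ModuleCat.restrictScalars_μ_tmul (φx f x) P Q _ _
  -- right hand side
  have hR := sec_lamS (shX X) x P Q (f ⁻¹ᵁ V)
    (sec ((toPM (shX Y)).map ((pushSkyIso f x).symm.hom.app P)) V s)
    (sec ((toPM (shX Y)).map ((pushSkyIso f x).symm.hom.app Q)) V t) h
  refine Eq.trans ?_ (Eq.trans hL2 ?_)
  · exact congrArg (fun w => (Functor.LaxMonoidal.μ (ModuleCat.restrictScalars (φx f x)) P Q).hom w)
      hL
  · refine Eq.trans ?_ (Eq.trans hR.symm ?_)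
    · rfl
    · have h2 := sec_lamPush f ((skyF (shX X) x).obj P) ((skyF (shX X) x).obj Q) V
        (sec ((toPM (shX Y)).map ((pushSkyIso f x).symm.hom.app P)) V s)
        (sec ((toPM (shX Y)).map ((pushSkyIso f x).symm.hom.app Q)) V t)
      exact congrFun (congrArg (fun w => sec ((toPM (shX X)).map (lamS (shX X) x P Q)) (f ⁻¹ᵁ V) w)
        h2.symm) h

/-- The oplax structure of `f^*`. -/
noncomputable def pullμ (M N : Y.Modules) :
    (Scheme.Modules.pullback f).obj (((ModSite.tensorBi (shX Y)).obj M).obj N) ⟶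
      ((ModSite.tensorBi (shX X)).obj ((Scheme.Modules.pullback f).obj M)).obj
        ((Scheme.Modules.pullback f).obj N) :=
  mate (Scheme.Modules.pullbackPushforwardAdjunction f) (laxPush f) M N

theorem pullμ_natural {M M' N N' : Y.Modules} (a : M ⟶ M') (b : N ⟶ N') :
    (Scheme.Modules.pullback f).map (bimap (ModSite.tensorBi (shX Y)) a b) ≫ pullμ f M' N' =
      pullμ f M N ≫ bimap (ModSite.tensorBi (shX X)) ((Scheme.Modules.pullback f).map a)
        ((Scheme.Modules.pullback f).map b) :=
  mate_natural (Scheme.Modules.pullbackPushforwardAdjunction f) (laxPush f) a b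

theorem isIso_stk_pullμ (M N : Y.Modules) : IsIso ((stk (shX X) x).map (pullμ f M N)) := by
  have e1 : mate (adjPullStk f x) (lax₁ f x) M N =
      (stk (shX X) x).map (pullμ f M N) ≫
        (τ (shX X) x ((Scheme.Modules.pullback f).obj M) ((Scheme.Modules.pullback f).obj N)).hom := by
    have := mate_comp (Scheme.Modules.pullbackPushforwardAdjunction f) (laxPush f)
      (adj (shX X) x) (laxSky (shX X) x) M N
    rw [mate_laxSky] at this
    exact this
  have e2 : mate (adjStkExt f x) (lax₁ f x) M N =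
      mate ((adj (shX Y) (f x)).comp (ModuleCat.extendRestrictScalarsAdj.{u, u, u} (φx f x)))
        (lax₂ f x) M N :=
    mate_ofNatIsoRight ((adj (shX Y) (f x)).comp
      (ModuleCat.extendRestrictScalarsAdj.{u, u, u} (φx f x))) (lax₂ f x) (lax₁ f x)
      (pushSkyIso f x).symm (compat f x) M N
  have e3 : mate ((adj (shX Y) (f x)).comp (ModuleCat.extendRestrictScalarsAdj.{u, u, u} (φx f x)))
        (lax₂ f x) M N =
      (ModuleCat.extendScalars.{u, u, u} (φx f x)).map (τ (shX Y) (f x) M N).hom ≫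
        mate (ModuleCat.extendRestrictScalarsAdj.{u, u, u} (φx f x)) (laxRes (φx f x))
          ((stk (shX Y) (f x)).obj M) ((stk (shX Y) (f x)).obj N) := by
    have := mate_comp (adj (shX Y) (f x)) (laxSky (shX Y) (f x))
      (ModuleCat.extendRestrictScalarsAdj.{u, u, u} (φx f x)) (laxRes (φx f x)) M N
    rw [mate_laxSky] at this
    exact this
  have e4 := mate_leftAdjointUniq (adjPullStk f x) (adjStkExt f x) (lax₁ f x) M N
  have i3 : IsIso (mate ((adj (shX Y) (f x)).comp
      (ModuleCat.extendRestrictScalarsAdj.{u, u, u} (φx f x))) (lax₂ f x) M N) := by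
    rw [e3]
    infer_instance
  have i2 : IsIso (mate (adjStkExt f x) (lax₁ f x) M N) := by
    rw [e2]
    exact i3
  have i4 : IsIso (mate (adjPullStk f x) (lax₁ f x) M N ≫
      bimap (curriedTensor (ModuleCat.{u} (Rx (shX X).obj x)))
        (((adjPullStk f x).leftAdjointUniq (adjStkExt f x)).hom.app M)
        (((adjPullStk f x).leftAdjointUniq (adjStkExt f x)).hom.app N)) := by
    rw [e4]
    infer_instance
  have i1 : IsIso (mate (adjPullStk f x) (lax₁ f x) M N) :=
    IsIso.of_isIso_comp_right _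
      (bimap (curriedTensor (ModuleCat.{u} (Rx (shX X).obj x)))
        (((adjPullStk f x).leftAdjointUniq (adjStkExt f x)).hom.app M)
        (((adjPullStk f x).leftAdjointUniq (adjStkExt f x)).hom.app N))
  rw [e1] at i1
  exact IsIso.of_isIso_comp_right _
    (τ (shX X) x ((Scheme.Modules.pullback f).obj M) ((Scheme.Modules.pullback f).obj N)).hom

instance isIso_pullμ (M N : Y.Modules) : IsIso (pullμ f M N) :=
  isIso_of_stk (shX X) _ (fun x => isIso_stk_pullμ f x M N)

/-- `f^* (M ⊗ N) ≅ f^* M ⊗ f^* N`. -/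
noncomputable def pullTensorIso (M N : Y.Modules) :
    (Scheme.Modules.pullback f).obj (((ModSite.tensorBi (shX Y)).obj M).obj N) ≅
      ((ModSite.tensorBi (shX X)).obj ((Scheme.Modules.pullback f).obj M)).obj
        ((Scheme.Modules.pullback f).obj N) :=
  asIso (pullμ f M N)

end Main

end Groth.Agent.H31.PullTensor
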