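import Groth.Agent.H31.FlatGrid
import Mathlib.Algebra.Homology.ShortComplex.HomologicalComplex
import Mathlib.Algebra.Homology.HomologicalComplexAbelian
import Mathlib.Algebra.Homology.Additive

/-!
# Bounded below acyclic complexes of flat objects stay acyclic after tensoring
(helper31 library; generic over a `TensorLike` bifunctor)
-/

set_option autoImplicit false
universe v u
open CategoryTheory CategoryTheory.Limits

namespace Groth.Agent.H31

variable {A : Type u} [Category.{v} A] [Abelian A] {T : A ⥤ A ⥤ A}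

theorem TensorLike.flat_of_isZero (hT : TensorLike T) {Z : A} (hZ : IsZero Z) :
    (T.flip.obj Z).PreservesMonomorphisms := by
  constructor
  intro M M' u hu
  have := hT.left_zero M
  have h0 : IsZero ((T.obj M).obj Z) := (T.obj M).map_isZero hZ
  exact ⟨fun a b _ => h0.eq_of_tgt a b⟩

section

variable {ι : Type*} {c : ComplexShape ι} (M : HomologicalComplex A c)

/-- The short exact sequence `0 → coker d_{ij} → X_k → coker d_{jk} → 0` at an exact spot. -/
theorem shortExact_coker (i j k : ι) (h : (M.sc' i j k).Exact) :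
    (ShortComplex.mk (cokernel.desc (M.d i j) (M.d j k) (M.d_comp_d i j k))
      (cokernel.π (M.d j k)) (by
        rw [← cancel_epi (cokernel.π (M.d i j))]
        simp)).ShortExact := by
  have hmono : Mono (cokernel.desc (M.d i j) (M.d j k) (M.d_comp_d i j k)) :=
    h.mono_cokernelDesc
  refine ShortComplex.ShortExact.mk' (ShortComplex.exact_of_g_is_cokernel _ ?_) hmono
    (inferInstanceAs (Epi (cokernel.π (M.d j k))))
  exact isCokernelOfComp (cokernel.π (M.d i j)) (M.d j k) (cokernelIsCokernel (M.d j k)) _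
    (cokernel.π_desc _ _ _)

end

theorem TensorLike.flat_coker (hT : TensorLike T) (M : ChainComplex A ℤ) (hac : M.Acyclic)
    (i₀ : ℤ) (hb : ∀ i, i < i₀ → IsZero (M.X i))
    (hM : ∀ i, (T.flip.obj (M.X i)).PreservesMonomorphisms) :
    ∀ i j : ℤ, i = j + 1 → (T.flip.obj (cokernel (M.d i j))).PreservesMonomorphisms := by
  have hz : ∀ j, j < i₀ → (T.flip.obj (cokernel (M.d (j + 1) j))).PreservesMonomorphisms := by
    intro j hj
    apply hT.flat_of_isZero
    have h0 := hb j hj
    rw [IsZero.iff_id_eq_zero, ← cancel_epi (cokernel.π (M.d (j + 1) j))]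
    exact h0.eq_of_src _ _
  have hstep : ∀ j, (T.flip.obj (cokernel (M.d (j + 1) j))).PreservesMonomorphisms →
      (T.flip.obj (cokernel (M.d (j + 1 + 1) (j + 1)))).PreservesMonomorphisms := by
    intro j hj
    have hex : (M.sc' (j + 1 + 1) (j + 1) j).Exact :=
      (M.exactAt_iff' (j + 1 + 1) (j + 1) j (by simp) (by simp)).1 (hac (j + 1))
    have hS := shortExact_coker M _ _ _ hex
    exact hT.flat_left _ hS (hM j) hj
  have main : ∀ j, (T.flip.obj (cokernel (M.d (j + 1) j))).PreservesMonomorphisms := by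
    intro j
    by_cases h : j < i₀
    · exact hz j h
    · exact Int.leInduction (m := i₀ - 1)
        (motive := fun n _ => (T.flip.obj (cokernel (M.d (n + 1) n))).PreservesMonomorphisms)
        (hz _ (by omega)) (fun n _ ih => hstep n ih) j (by omega)
  intro i j hij
  subst hij
  exact main j

theorem TensorLike.acyclic_map_of_flat (hT : TensorLike T) (M : ChainComplex A ℤ)
    (hac : M.Acyclic) (i₀ : ℤ) (hb : ∀ i, i < i₀ → IsZero (M.X i))
    (hM : ∀ i, (T.flip.obj (M.X i)).PreservesMonomorphisms) (G : A)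
    [(T.flip.obj G).PreservesZeroMorphisms] :
    (((T.flip.obj G).mapHomologicalComplex (ComplexShape.down ℤ)).obj M).Acyclic := by
  intro j
  rw [HomologicalComplex.exactAt_iff' _ (j + 1) j (j - 1) (by simp) (by simp)]
  have hfl := hT.flat_coker M hac i₀ hb hM
  have := hT.right_colim G
  let S₁ : ShortComplex A :=
    ShortComplex.mk (M.d (j + 1) j) (cokernel.π (M.d (j + 1) j)) (cokernel.condition _)
  have hS₁ : S₁.Exact := ShortComplex.exact_of_g_is_cokernel _ (cokernelIsCokernel _)
  have hepi : Epi S₁.g := inferInstanceAs (Epi (cokernel.π (M.d (j + 1) j)))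
  have hS₁' : (S₁.map (T.flip.obj G)).Exact :=
    hS₁.map_of_epi_of_preservesCokernel _ hepi inferInstance
  have hex : (M.sc' (j + 1) j (j - 1)).Exact :=
    (M.exactAt_iff' (j + 1) j (j - 1) (by simp) (by simp)).1 (hac j)
  have hSES := shortExact_coker M (j + 1) j (j - 1) hex
  have hmono : Mono ((T.flip.obj G).map
      (cokernel.desc (M.d (j + 1) j) (M.d j (j - 1)) (M.d_comp_d _ _ _))) :=
    hT.mono_map_of_flat _ hSES (hfl j (j - 1) (by omega)) G
  let φ : S₁.map (T.flip.obj G) ⟶ (M.sc' (j + 1) j (j - 1)).map (T.flip.obj G) :=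
    { τ₁ := 𝟙 _
      τ₂ := 𝟙 _
      τ₃ := (T.flip.obj G).map
        (cokernel.desc (M.d (j + 1) j) (M.d j (j - 1)) (M.d_comp_d _ _ _))
      comm₁₂ := (Category.id_comp _).trans (Category.comp_id _).symm
      comm₂₃ := (Category.id_comp _).trans
        ((congrArg (T.flip.obj G).map
          (cokernel.π_desc (M.d (j + 1) j) (M.d j (j - 1)) (M.d_comp_d _ _ _)).symm).trans
          ((T.flip.obj G).map_comp _ _)) }
  have h1 : Epi φ.τ₁ := inferInstanceAs (Epi (𝟙 _))
  have h2 : IsIso φ.τ₂ := inferInstanceAs (IsIso (𝟙 _))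
  have h3 : Mono φ.τ₃ := hmono
  exact (ShortComplex.exact_iff_of_epi_of_isIso_of_mono φ).1 hS₁'

end Groth.Agent.H31
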