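import Groth.Agent.H31.FlatSite
import Mathlib.CategoryTheory.Abelian.GrothendieckAxioms.FunctorCategory
import Mathlib.CategoryTheory.Abelian.GrothendieckAxioms.Colim
import Mathlib.Algebra.Category.Grp.AB

/-!
# Exactness of colimits in categories of (pre)sheaves of modules (helper31 library)
-/

set_option autoImplicit false
universe u
open CategoryTheory CategoryTheory.Limits MonoidalCategory Opposite

namespace Groth.Agent.H31

variable {C : Type u} [SmallCategory C] {J : GrothendieckTopology C} {O : Sheaf J CommRingCat.{u}}

instance toPresheaf_reflectsFiniteLimits :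
    ReflectsFiniteLimits (PresheafOfModules.toPresheaf.{u} (R₀ O)) where
  reflects _ _ _ := inferInstance

theorem hasExactColimitsOfShape_PM (K : Type u) [SmallCategory K]
    [HasExactColimitsOfShape K AddCommGrpCat.{u}] : HasExactColimitsOfShape K (PM O) :=
  HasExactColimitsOfShape.domain_of_functor K (PresheafOfModules.toPresheaf.{u} (R₀ O))

theorem hasExactColimitsOfShape_Mod (K : Type u) [SmallCategory K]
    [HasExactColimitsOfShape K AddCommGrpCat.{u}] :
    HasExactColimitsOfShape K (ModSite.Mod O) := by
  have := hasExactColimitsOfShape_PM (O := O) K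
  have : (incl O).Full := inferInstanceAs (SheafOfModules.forget (ModSite.ringSh O) ⋙
    PresheafOfModules.restrictScalars (𝟙 (ModSite.ringSh O).obj)).Full
  have : (incl O).Faithful := inferInstanceAs (SheafOfModules.forget (ModSite.ringSh O) ⋙
    PresheafOfModules.restrictScalars (𝟙 (ModSite.ringSh O).obj)).Faithful
  exact (shfAdj O).hasExactColimitsOfShape K

/-- A colimit of flat modules over a shape with exact colimits is flat. -/
theorem isFlat_of_isColimit (K : Type u) [SmallCategory K]
    [HasExactColimitsOfShape K AddCommGrpCat.{u}] (D : K ⥤ ModSite.Mod O)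
    (hD : ∀ i, ModSite.IsFlat (D.obj i)) (c : Cocone D) (hc : IsColimit c) :
    ModSite.IsFlat c.pt := by
  rw [isFlat_iff_preservesMonomorphisms]
  constructor
  intro M M' u hu
  have := hasExactColimitsOfShape_Mod (O := O) K
  let φ : D ⋙ (ModSite.tensorBi O).obj M ⟶ D ⋙ (ModSite.tensorBi O).obj M' :=
    Functor.whiskerLeft D ((ModSite.tensorBi O).map u)
  have hφ : ∀ i, Mono (φ.app i) := fun i =>
    ((isFlat_iff_preservesMonomorphisms _).1 (hD i)).preserves u
  have : Mono φ := NatTrans.mono_of_mono_app φ
  exact colim.map_mono' φ (isColimitOfPreserves ((ModSite.tensorBi O).obj M) hc)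
    (isColimitOfPreserves ((ModSite.tensorBi O).obj M') hc)
    (((ModSite.tensorBi O).map u).app c.pt)
    (fun j => ((ModSite.tensorBi O).map u).naturality (c.ι.app j))

end Groth.Agent.H31
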