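import Mathlib.CategoryTheory.Abelian.Pseudoelements
import Mathlib.Algebra.Homology.ShortComplex.ExactFunctor

/-!
# A diagram chase: tensoring a short exact sequence with flat cokernel (helper31 library)

`mono_of_grid`: in an abelian category, given a commutative grid
```
X11 -i1-> X12 -p1-> X13
 |a        |b        |c
X21 -i2-> X22 -p2-> X23
 |a'       |b'
X31 -i3-> X32
```
with `p1` epi, `i1 ≫ p1 = 0`, row 2 exact, column 1 exact, `b` mono, `b ≫ b' = 0`, `i3` mono,
the morphism `c` is mono.
-/

set_option autoImplicit false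
universe v u
open CategoryTheory CategoryTheory.Limits CategoryTheory.Abelian

namespace Groth.Agent.H31

section Grid

variable {A : Type u} [Category.{v} A] [Abelian A]

open Pseudoelement in
theorem mono_of_grid {X11 X12 X13 X21 X22 X23 X31 X32 : A}
    (i1 : X11 ⟶ X12) (p1 : X12 ⟶ X13) (i2 : X21 ⟶ X22) (p2 : X22 ⟶ X23) (i3 : X31 ⟶ X32)
    (a : X11 ⟶ X21) (a' : X21 ⟶ X31) (b : X12 ⟶ X22) (b' : X22 ⟶ X32) (c : X13 ⟶ X23)
    (sq1 : i1 ≫ b = a ≫ i2) (sq2 : p1 ≫ c = b ≫ p2) (sq3 : i2 ≫ b' = a' ≫ i3)
    [Epi p1] (h1 : i1 ≫ p1 = 0)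
    (w2 : i2 ≫ p2 = 0) (ex2 : (ShortComplex.mk i2 p2 w2).Exact)
    (wK : a ≫ a' = 0) (exK : (ShortComplex.mk a a' wK).Exact)
    [Mono b] (hb : b ≫ b' = 0) [Mono i3] : Mono c := by
  apply mono_of_zero_of_map_zero
  intro x hx
  obtain ⟨y, rfl⟩ := pseudo_surjective_of_epi p1 x
  have h2 : p2 (b y) = 0 := by
    rw [← Pseudoelement.comp_apply, ← sq2, Pseudoelement.comp_apply]; exact hx
  obtain ⟨z, hz⟩ := pseudo_exact_of_exact ex2 (b y) h2
  dsimp at z hz
  have h3 : i3 (a' z) = 0 := by
    rw [← Pseudoelement.comp_apply, ← sq3, Pseudoelement.comp_apply, hz, ← Pseudoelement.comp_apply, hb, zero_apply]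
  have h4 : a' z = 0 := zero_of_map_zero i3 (pseudo_injective_of_mono i3) _ h3
  obtain ⟨w, hw⟩ := pseudo_exact_of_exact exK z h4
  dsimp at w hw
  have h5 : b (i1 w) = b y := by
    rw [← Pseudoelement.comp_apply, sq1, Pseudoelement.comp_apply, hw, hz]
  have h6 : i1 w = y := pseudo_injective_of_mono b h5
  rw [← h6, ← Pseudoelement.comp_apply, h1, zero_apply]

end Grid

section Bifunctor

variable {A : Type u} [Category.{v} A] [Abelian A] (T : A ⥤ A ⥤ A)

/-- Axioms on a "tensor product" bifunctor on an abelian category needed for the flatness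
lemmas: right exact in each variable, symmetric, and with enough flat objects. -/
structure TensorLike : Prop where
  left_colim : ∀ M, PreservesFiniteColimits (T.obj M)
  right_colim : ∀ N, PreservesFiniteColimits (T.flip.obj N)
  left_zero : ∀ M, (T.obj M).PreservesZeroMorphisms
  right_zero : ∀ N, (T.flip.obj N).PreservesZeroMorphisms
  symm : ∀ M, Nonempty (T.obj M ≅ T.flip.obj M)
  enough : ∀ G, ∃ (P : A) (π : P ⟶ G), (T.flip.obj P).PreservesMonomorphisms ∧ Epi π

variable {T}

theorem TensorLike.mono_map_of_flat (hT : TensorLike T) (S : ShortComplex A) (hS : S.ShortExact)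
    (hF : (T.flip.obj S.X₃).PreservesMonomorphisms) (G : A) :
    Mono ((T.flip.obj G).map S.f) := by
  obtain ⟨P, π, hP, hπ⟩ := hT.enough G
  have := hT.left_colim
  have := hT.right_colim
  have := hT.left_zero
  have := hT.right_zero
  have hmono := hS.mono_f
  have hepi := hS.epi_g
  have exπ : (ShortComplex.mk (kernel.ι π) π (kernel.condition π)).Exact :=
    ShortComplex.exact_kernel π
  have ex2 := exπ.map_of_epi_of_preservesCokernel (T.obj S.X₂) hπ inferInstance
  have exK := hS.exact.map_of_epi_of_preservesCokernel (T.flip.obj (kernel π)) hepi inferInstance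
  have hb : Mono ((T.map S.f).app P) := hP.preserves S.f
  have hi3 : Mono ((T.obj S.X₃).map (kernel.ι π)) := by
    obtain ⟨e⟩ := hT.symm S.X₃
    have : (T.obj S.X₃).PreservesMonomorphisms := Functor.PreservesMonomorphisms.of_iso e.symm
    infer_instance
  have hp1 : Epi ((T.obj S.X₁).map π) := inferInstance
  exact mono_of_grid ((T.obj S.X₁).map (kernel.ι π)) ((T.obj S.X₁).map π)
    ((T.obj S.X₂).map (kernel.ι π)) ((T.obj S.X₂).map π) ((T.obj S.X₃).map (kernel.ι π))
    ((T.map S.f).app (kernel π)) ((T.map S.g).app (kernel π))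
    ((T.map S.f).app P) ((T.map S.g).app P) ((T.map S.f).app G)
    ((T.map S.f).naturality (kernel.ι π)) ((T.map S.f).naturality π)
    ((T.map S.g).naturality (kernel.ι π))
    (by rw [← Functor.map_comp, kernel.condition, Functor.map_zero])
    ((ShortComplex.mk (kernel.ι π) π (kernel.condition π)).map (T.obj S.X₂)).zero ex2
    (S.map (T.flip.obj (kernel π))).zero exK
    (by
      have : (T.flip.obj P).map S.f ≫ (T.flip.obj P).map S.g = 0 := by
        rw [← Functor.map_comp, S.zero, Functor.map_zero]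
      exact this)

theorem TensorLike.shortExact_map_of_flat (hT : TensorLike T) (S : ShortComplex A)
    (hS : S.ShortExact) (hF : (T.flip.obj S.X₃).PreservesMonomorphisms) (G : A)
    [(T.flip.obj G).PreservesZeroMorphisms] :
    (S.map (T.flip.obj G)).ShortExact := by
  have := hT.right_colim
  have hepi := hS.epi_g
  have h1 : Mono (S.map (T.flip.obj G)).f := hT.mono_map_of_flat S hS hF G
  have h2 : Epi (S.map (T.flip.obj G)).g := by
    show Epi ((T.flip.obj G).map S.g)
    infer_instance
  exact ShortComplex.ShortExact.mk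
    (hS.exact.map_of_epi_of_preservesCokernel (T.flip.obj G) hepi inferInstance)

theorem TensorLike.shortExact_map_obj (hT : TensorLike T) (S : ShortComplex A)
    (hS : S.ShortExact) (hF : (T.flip.obj S.X₃).PreservesMonomorphisms) (M : A)
    [(T.obj M).PreservesZeroMorphisms] :
    (S.map (T.obj M)).ShortExact := by
  obtain ⟨e⟩ := hT.symm M
  have := hT.right_zero M
  exact ShortComplex.shortExact_of_iso (S.mapNatIso e).symm
    (hT.shortExact_map_of_flat S hS hF M)

theorem TensorLike.flat_middle (hT : TensorLike T) (S : ShortComplex A) (hS : S.ShortExact)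
    (h₁ : (T.flip.obj S.X₁).PreservesMonomorphisms)
    (h₃ : (T.flip.obj S.X₃).PreservesMonomorphisms) :
    (T.flip.obj S.X₂).PreservesMonomorphisms := by
  constructor
  intro M M' u hu
  have := hT.left_zero
  let φ : S.map (T.obj M) ⟶ S.map (T.obj M') := S.mapNatTrans (T.map u)
  have e1 := hT.shortExact_map_obj S hS h₃ M
  have e2 := hT.shortExact_map_obj S hS h₃ M'
  have := e1.mono_f
  have := e2.mono_f
  have : Mono φ.τ₁ := h₁.preserves u
  have : Mono φ.τ₃ := h₃.preserves u
  exact ShortComplex.mono_τ₂_of_exact_of_mono φ e1.exact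

theorem TensorLike.flat_left (hT : TensorLike T) (S : ShortComplex A) (hS : S.ShortExact)
    (h₂ : (T.flip.obj S.X₂).PreservesMonomorphisms)
    (h₃ : (T.flip.obj S.X₃).PreservesMonomorphisms) :
    (T.flip.obj S.X₁).PreservesMonomorphisms := by
  constructor
  intro M M' u hu
  have := hT.left_zero
  let φ : S.map (T.obj M) ⟶ S.map (T.obj M') := S.mapNatTrans (T.map u)
  have e1 := hT.shortExact_map_obj S hS h₃ M
  have := e1.mono_f
  have : Mono φ.τ₂ := h₂.preserves u
  have h : Mono (φ.τ₁ ≫ (S.map (T.obj M')).f) := by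
    rw [φ.comm₁₂]
    infer_instance
  exact mono_of_mono φ.τ₁ (S.map (T.obj M')).f

end Bifunctor

end Groth.Agent.H31
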