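import Groth.Agent.H31.KFlat
import Groth.Agent.H31.FlatGrid
import Groth.Prelude.Def_KFlatSite
import Mathlib.Algebra.Category.ModuleCat.AB
import Mathlib.Algebra.Category.ModuleCat.Monoidal.Closed
import Mathlib.Algebra.Category.ModuleCat.Monoidal.Symmetric
import Mathlib.RingTheory.Flat.Basic

/-!
# K-flat complexes over a commutative ring (helper31 library)
-/

set_option autoImplicit false
universe u
open CategoryTheory CategoryTheory.Limits HomologicalComplex MonoidalCategory

namespace Groth.Agent.H31.KFlatRing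

open Groth.Agent.H31 Groth.Agent.H31.KFlat

variable (R : Type u) [CommRing R]

instance (ι : Type) : HasExactColimitsOfShape (Discrete ι) (ModuleCat.{u} R) := by
  have : HasExactColimitsOfShape (Discrete (ULift.{u} ι)) (ModuleCat.{u} R) := inferInstance
  exact HasExactColimitsOfShape.of_domain_equivalence (ModuleCat.{u} R)
    (Discrete.equivalence Equiv.ulift : Discrete (ULift.{u} ι) ≌ _)

variable {R}

theorem tensorRight_preservesMono_of_flat (N : ModuleCat.{u} R) [Module.Flat R N] :
    (tensorRight N).PreservesMonomorphisms := by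
  constructor
  intro A B f hf
  rw [ModuleCat.mono_iff_injective] at hf ⊢
  exact Module.Flat.rTensor_preserves_injective_linearMap (R := R) (M := N) f.hom hf

/-- Enough flat modules: the free module on the underlying set. -/
theorem exists_epi_of_flat (G : ModuleCat.{u} R) :
    ∃ (P : ModuleCat.{u} R) (π : P ⟶ G), (tensorRight P).PreservesMonomorphisms ∧ Epi π := by
  refine ⟨ModuleCat.of R (G →₀ R), ModuleCat.ofHom (Finsupp.linearCombination R id), ?_, ?_⟩
  · exact tensorRight_preservesMono_of_flat (ModuleCat.of R (G →₀ R))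
  · rw [ModuleCat.epi_iff_surjective]
    intro g
    exact ⟨Finsupp.single g 1, by simp⟩

theorem tensorLike : TensorLike (curriedTensor (ModuleCat.{u} R)) where
  left_colim M := inferInstanceAs (PreservesFiniteColimits (tensorLeft M))
  right_colim N := by
    have : PreservesFiniteColimits (tensorLeft N) := inferInstance
    exact preservesFiniteColimits_of_natIso (BraidedCategory.tensorLeftIsoTensorRight N)
  left_zero M := inferInstanceAs (tensorLeft M).PreservesZeroMorphisms
  right_zero N := inferInstanceAs (tensorRight N).PreservesZeroMorphisms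
  symm M := ⟨BraidedCategory.tensorLeftIsoTensorRight M⟩
  enough G := exists_epi_of_flat G

theorem isKFlat_iff (K : DRing.Cx R) :
    DRing.IsKFlat R K ↔ ∀ L : DRing.Cx R, L.Acyclic →
      (mapBifunctor L K (curriedTensor (ModuleCat.{u} R)) (ComplexShape.up ℤ)).Acyclic :=
  forall_congr' fun L => by
    rw [acyclic_iff_forall_isZero_homology, acyclic_iff_forall_isZero_homology]
    rfl

/-- A short exact sequence of complexes with flat third terms stays short exact after
`Tot(L ⊗ -)`. -/
theorem shortExact_tensor_of_flat (S : ShortComplex (DRing.Cx R))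
    (hS : S.ShortExact) (h3 : DRing.TermwiseFlat S.X₃) (L : DRing.Cx R) :
    (S.map ((curriedTensor (ModuleCat.{u} R)).map₂CochainComplex.obj L)).ShortExact :=
  shortExact_map_obj (curriedTensor (ModuleCat.{u} R)) L S (fun p q => by
    have h₁ : (S.map (eval (ModuleCat.{u} R) (ComplexShape.up ℤ) q)).ShortExact :=
      hS.map_of_exact _
    have := h3 q
    exact tensorLike.shortExact_map_obj _ h₁
      (tensorRight_preservesMono_of_flat (S.X₃.X q)) (L.X p))

theorem isKFlat_shortExact (S : ShortComplex (DRing.Cx R))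
    (hS : S.ShortExact) (h3 : DRing.TermwiseFlat S.X₃) :
    (DRing.IsKFlat R S.X₁ → DRing.IsKFlat R S.X₂ → DRing.IsKFlat R S.X₃) ∧
    (DRing.IsKFlat R S.X₁ → DRing.IsKFlat R S.X₃ → DRing.IsKFlat R S.X₂) ∧
    (DRing.IsKFlat R S.X₂ → DRing.IsKFlat R S.X₃ → DRing.IsKFlat R S.X₁) := by
  have key := fun L => shortExact_tensor_of_flat S hS h3 L
  simp only [isKFlat_iff]
  exact ⟨fun h₁ h₂ L hL => acyclic_X₃_of_shortExact (key L) (h₁ L hL) (h₂ L hL),
    fun h₁ h₃ L hL => (key L).acyclic_X₂ (h₁ L hL) (h₃ L hL),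
    fun h₂ h₃ L hL => acyclic_X₁_of_shortExact (key L) (h₂ L hL) (h₃ L hL)⟩

theorem isKFlat_mappingCone {K₁ K₂ : DRing.Cx R} (φ : K₁ ⟶ K₂) :
    (DRing.IsKFlat R K₁ → DRing.IsKFlat R K₂ → DRing.IsKFlat R (CochainComplex.mappingCone φ)) ∧
    (DRing.IsKFlat R K₁ → DRing.IsKFlat R (CochainComplex.mappingCone φ) → DRing.IsKFlat R K₂) ∧
    (DRing.IsKFlat R K₂ → DRing.IsKFlat R (CochainComplex.mappingCone φ) → DRing.IsKFlat R K₁) := by
  have key := fun L => acyclic_mappingCone_right (curriedTensor (ModuleCat.{u} R)) L φ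
  simp only [isKFlat_iff]
  exact ⟨fun h₁ h₂ L hL => (key L).1 (h₁ L hL) (h₂ L hL),
    fun h₁ h₃ L hL => (key L).2.1 (h₁ L hL) (h₃ L hL),
    fun h₂ h₃ L hL => (key L).2.2 (h₂ L hL) (h₃ L hL)⟩

end Groth.Agent.H31.KFlatRing
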