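import Groth.Agent.H31.TensorSite3
import Groth.Agent.H31.FlatGrid
import Mathlib.RingTheory.Flat.Basic
import Mathlib.Algebra.Category.ModuleCat.Presheaf.EpiMono

/-!
# Flat modules on a ringed site (helper31 library)
-/

set_option autoImplicit false
universe u
open CategoryTheory CategoryTheory.Limits MonoidalCategory Opposite

namespace Groth.Agent.H31

variable {C : Type u} [SmallCategory C] {J : GrothendieckTopology C} {O : Sheaf J CommRingCat.{u}}

/-- The symmetry of the tensor product of sheaves of modules. -/
noncomputable def braidIso (M : ModSite.Mod O) :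
    (ModSite.tensorBi O).obj M ≅ (ModSite.tensorBi O).flip.obj M :=
  NatIso.ofComponents
    (fun N => (shf O).mapIso (β_ ((toPM O).obj M) ((toPM O).obj N)))
    (by
      intro N N' f
      have h : (toPM O).obj M ◁ (toPM O).map f ≫ (β_ ((toPM O).obj M) ((toPM O).obj N')).hom =
          (β_ ((toPM O).obj M) ((toPM O).obj N)).hom ≫ (toPM O).map f ▷ (toPM O).obj M :=
        BraidedCategory.braiding_naturality_right _ _
      exact ((shf O).map_comp _ _).symm.trans ((congrArg (shf O).map h).trans
        ((shf O).map_comp _ _)))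

instance (N : ModSite.Mod O) : ((ModSite.tensorBi O).flip.obj N).IsLeftAdjoint := hasSheafHom N

instance (M : ModSite.Mod O) : ((ModSite.tensorBi O).obj M).IsLeftAdjoint :=
  Functor.isLeftAdjoint_of_iso (braidIso M).symm

instance (N : ModSite.Mod O) : ((ModSite.tensorBi O).flip.obj N).Additive :=
  have := preservesBinaryBiproducts_of_preservesBinaryCoproducts
    ((ModSite.tensorBi O).flip.obj N)
  Functor.additive_of_preservesBinaryBiproducts _

theorem isFlat_iff_preservesMonomorphisms (N : ModSite.Mod O) :
    ModSite.IsFlat N ↔ ((ModSite.tensorBi O).flip.obj N).PreservesMonomorphisms := by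
  constructor
  · rintro ⟨h1, _⟩
    infer_instance
  · intro h
    refine ⟨?_, inferInstance⟩
    rw [Functor.preservesFiniteLimits_iff_forall_exact_map_and_mono]
    intro S hS
    have := hS.epi_g
    have := hS.mono_f
    exact ⟨hS.exact.map_of_epi_of_preservesCokernel _ inferInstance inferInstance,
      inferInstance⟩

/-- A presheaf of modules all of whose modules of sections are flat. -/
def PointwiseFlat (N₀ : PM O) : Prop := ∀ V : Cᵒᵖ, Module.Flat (O.obj.obj V) (N₀.obj V)

theorem tensorRight_preservesMono_of_pointwiseFlat (N₀ : PM O) (h : PointwiseFlat N₀) :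
    (tensorRight N₀).PreservesMonomorphisms := by
  constructor
  intro A B f hf
  apply PresheafOfModules.mono_of_injective
  intro V
  have h1 : Function.Injective (f.app V) := PresheafOfModules.injective_of_mono f V
  have := h V
  exact Module.Flat.rTensor_preserves_injective_linearMap (R := O.obj.obj V) (M := N₀.obj V)
    (f.app V).hom h1

instance toPM_isRightAdjoint : (toPM O).IsRightAdjoint :=
  have := (shfAdj O).isRightAdjoint
  Functor.isRightAdjoint_of_iso (inclIso (O := O))

instance shf_preservesFiniteLimits : PreservesFiniteLimits (shf O) :=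
  inferInstanceAs (PreservesFiniteLimits
    (PresheafOfModules.sheafification.{u} (𝟙 (ModSite.ringSh O).obj)))

theorem T_preservesMono_of_pointwiseFlat (N₀ : PM O) (h : PointwiseFlat N₀) :
    (T N₀).PreservesMonomorphisms := by
  have := tensorRight_preservesMono_of_pointwiseFlat N₀ h
  infer_instance

theorem isFlat_shf_of_pointwiseFlat (N₀ : PM O) (h : PointwiseFlat N₀) :
    ModSite.IsFlat ((shf O).obj N₀) := by
  rw [isFlat_iff_preservesMonomorphisms]
  have := T_preservesMono_of_pointwiseFlat N₀ h
  exact Functor.PreservesMonomorphisms.of_iso (tensorRightShfIso N₀)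

/-- The free presheaf of modules on the underlying presheaf of sets of a presheaf of modules. -/
noncomputable def freeOnSelf (G₀ : PM O) : PM O :=
  PresheafOfModules.freeObj (R := R₀ O) (G₀.presheaf ⋙ forget AddCommGrpCat.{u})

/-- The canonical epimorphism from the free presheaf of modules. -/
noncomputable def freeOnSelfπ (G₀ : PM O) : freeOnSelf G₀ ⟶ G₀ :=
  PresheafOfModules.freeObjDesc (𝟙 _)

instance (G₀ : PM O) : Epi (freeOnSelfπ G₀) := by
  apply PresheafOfModules.epi_of_surjective
  intro V m
  exact ⟨ModuleCat.freeMk m, ModuleCat.freeDesc_apply _ _⟩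

theorem pointwiseFlat_freeObj (F : Cᵒᵖ ⥤ Type u) :
    PointwiseFlat (O := O) (PresheafOfModules.freeObj (R := R₀ O) F) := by
  intro V
  exact inferInstanceAs (Module.Flat (O.obj.obj V) (F.obj V →₀ O.obj.obj V))

/-- Every sheaf of modules is a quotient of a flat one. -/
theorem exists_epi_of_isFlat (F : ModSite.Mod O) :
    ∃ (G : ModSite.Mod O) (π : G ⟶ F), ModSite.IsFlat G ∧ Epi π := by
  refine ⟨(shf O).obj (freeOnSelf ((toPM O).obj F)),
    (shf O).map (freeOnSelfπ ((toPM O).obj F)) ≫ (shfAdj O).counit.app F,
    isFlat_shf_of_pointwiseFlat _ (pointwiseFlat_freeObj _), ?_⟩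
  have : (shf O).IsLeftAdjoint := (shfAdj O).isLeftAdjoint
  have h1 : Epi ((shf O).map (freeOnSelfπ ((toPM O).obj F))) := inferInstance
  have h2 : IsIso ((shfAdj O).counit.app F) := isIso_counit F
  have h3 : Epi ((shfAdj O).counit.app F) := inferInstance
  exact epi_comp' h1 h3

theorem tensorLike_tensorBi : TensorLike (ModSite.tensorBi O) where
  left_colim M := inferInstance
  right_colim N := inferInstance
  left_zero M := inferInstance
  right_zero N := inferInstance
  symm M := ⟨braidIso M⟩
  enough G := by
    obtain ⟨P, π, hP, hπ⟩ := exists_epi_of_isFlat G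
    exact ⟨P, π, (isFlat_iff_preservesMonomorphisms P).1 hP, hπ⟩

theorem tensor_shortExact_of_isFlat (S : ShortComplex (ModSite.Mod O)) (hS : S.ShortExact)
    (hF : ModSite.IsFlat S.X₃) (G : ModSite.Mod O)
    [((ModSite.tensorBi O).flip.obj G).PreservesZeroMorphisms] :
    (S.map ((ModSite.tensorBi O).flip.obj G)).ShortExact :=
  tensorLike_tensorBi.shortExact_map_of_flat S hS ((isFlat_iff_preservesMonomorphisms _).1 hF) G

theorem isFlat_middle (S : ShortComplex (ModSite.Mod O)) (hS : S.ShortExact)
    (h₁ : ModSite.IsFlat S.X₁) (h₃ : ModSite.IsFlat S.X₃) : ModSite.IsFlat S.X₂ :=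
  (isFlat_iff_preservesMonomorphisms _).2 (tensorLike_tensorBi.flat_middle S hS
    ((isFlat_iff_preservesMonomorphisms _).1 h₁) ((isFlat_iff_preservesMonomorphisms _).1 h₃))

theorem isFlat_left (S : ShortComplex (ModSite.Mod O)) (hS : S.ShortExact)
    (h₂ : ModSite.IsFlat S.X₂) (h₃ : ModSite.IsFlat S.X₃) : ModSite.IsFlat S.X₁ :=
  (isFlat_iff_preservesMonomorphisms _).2 (tensorLike_tensorBi.flat_left S hS
    ((isFlat_iff_preservesMonomorphisms _).1 h₂) ((isFlat_iff_preservesMonomorphisms _).1 h₃))

end Groth.Agent.H31
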