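import Mathlib.Algebra.Category.ModuleCat.Sheaf.Abelian
import Mathlib.Algebra.Category.ModuleCat.Sheaf.Colimits
import Mathlib.Algebra.Category.ModuleCat.Presheaf.Generator
import Mathlib.Algebra.Category.ModuleCat.Presheaf.Colimits
import Mathlib.Algebra.Category.Grp.FilteredColimits
import Mathlib.CategoryTheory.Abelian.GrothendieckAxioms.FunctorCategory
import Mathlib.CategoryTheory.Abelian.GrothendieckAxioms.Colim
import Mathlib.CategoryTheory.Abelian.GrothendieckCategory.EnoughInjectives
import Mathlib.Algebra.Category.Grp.AB

/-!
# Sheaves of modules on a small site form a Grothendieck abelian category (helper31 library)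
-/

set_option autoImplicit false
universe u
open CategoryTheory CategoryTheory.Limits Opposite

namespace Groth.Agent.H31.GrothAb

variable {C : Type u} [SmallCategory C] (J : GrothendieckTopology C) (R : Sheaf J RingCat.{u})

instance toPresheaf_reflectsFiniteLimits (R₀ : Cᵒᵖ ⥤ RingCat.{u}) :
    ReflectsFiniteLimits (PresheafOfModules.toPresheaf.{u} R₀) where
  reflects _ _ _ := inferInstance

theorem hasExactColimitsOfShape_presheafOfModules (R₀ : Cᵒᵖ ⥤ RingCat.{u})
    (K : Type u) [SmallCategory K]
    [HasExactColimitsOfShape K AddCommGrpCat.{u}] :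
    HasExactColimitsOfShape K (PresheafOfModules.{u} R₀) :=
  HasExactColimitsOfShape.domain_of_functor K (PresheafOfModules.toPresheaf.{u} R₀)

theorem hasExactColimitsOfShape_sheafOfModules (K : Type u) [SmallCategory K]
    [HasExactColimitsOfShape K AddCommGrpCat.{u}] :
    HasExactColimitsOfShape K (SheafOfModules.{u} R) := by
  have := hasExactColimitsOfShape_presheafOfModules R.obj K
  exact (PresheafOfModules.sheafificationAdjunction.{u} (𝟙 R.obj)).hasExactColimitsOfShape K

/-- The generating family of sheaves of modules. -/
noncomputable def gen (X : C) : SheafOfModules.{u} R :=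
  (PresheafOfModules.sheafification.{u} (𝟙 R.obj)).obj
    ((PresheafOfModules.free R.obj).obj (yoneda.obj X))

theorem isSeparating_gen : ObjectProperty.IsSeparating (.ofObj (gen J R)) := by
  intro F G f g hfg
  refine (SheafOfModules.forget R ⋙ PresheafOfModules.restrictScalars (𝟙 R.obj)).map_injective
    (PresheafOfModules.freeYoneda.isSeparating R.obj _ _ ?_)
  rintro _ ⟨X⟩ a
  apply ((PresheafOfModules.sheafificationAdjunction.{u} (𝟙 R.obj)).homEquiv _ _).symm.injective
  rw [Adjunction.homEquiv_naturality_right_symm, Adjunction.homEquiv_naturality_right_symm]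
  exact hfg _ (ObjectProperty.ofObj_apply _ X)
      (((PresheafOfModules.sheafificationAdjunction.{u} (𝟙 R.obj)).homEquiv _ _).symm a)

theorem isGrothendieckAbelian : IsGrothendieckAbelian.{u} (SheafOfModules.{u} R) where
  ab5OfSize := ⟨fun K _ _ => hasExactColimitsOfShape_sheafOfModules J R K⟩
  hasSeparator := ⟨⟨_, (isSeparating_gen J R).isSeparator_coproduct⟩⟩

theorem enoughInjectives : EnoughInjectives (SheafOfModules.{u} R) := by
  have := isGrothendieckAbelian J R
  infer_instance

end Groth.Agent.H31.GrothAb
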