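import Groth.Agent.H31.KFlat
import Groth.Agent.H31.GrothAb
import Groth.Agent.H31.FlatSite
import Groth.Prelude.Def_KFlatSite
import Mathlib.Algebra.Category.Grp.AB

/-!
# K-flat complexes on ringed sites (helper31 library)
-/

set_option autoImplicit false
universe u
open CategoryTheory CategoryTheory.Limits HomologicalComplex

namespace Groth.Agent.H31.KFlat

section AB4

variable {C : Type u} [SmallCategory C] (J : GrothendieckTopology C) (R : Sheaf J RingCat.{u})

/-- Coproducts indexed by types in universe `0` are exact in sheaves of modules. -/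
theorem hasExactColimitsOfShape_discrete_sheafOfModules (ι : Type) :
    HasExactColimitsOfShape (Discrete ι) (SheafOfModules.{u} R) := by
  have : HasExactColimitsOfShape (Discrete (ULift.{u} ι)) (SheafOfModules.{u} R) :=
    GrothAb.hasExactColimitsOfShape_sheafOfModules J R (Discrete (ULift.{u} ι))
  exact HasExactColimitsOfShape.of_domain_equivalence (SheafOfModules.{u} R)
    (Discrete.equivalence Equiv.ulift : Discrete (ULift.{u} ι) ≌ _)

end AB4

variable {C : Type u} [SmallCategory C] {J : GrothendieckTopology C} {O : Sheaf J CommRingCat.{u}}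

instance (ι : Type) : HasExactColimitsOfShape (Discrete ι) (ModSite.Mod O) :=
  hasExactColimitsOfShape_discrete_sheafOfModules J (ModSite.ringSh O) ι

theorem isKFlat_iff (K : CochainComplex (ModSite.Mod O) ℤ) :
    ModSite.IsKFlat K ↔ ∀ L : CochainComplex (ModSite.Mod O) ℤ, L.Acyclic →
      (mapBifunctor L K (ModSite.tensorBi O) (ComplexShape.up ℤ)).Acyclic :=
  forall_congr' fun L => by
    rw [acyclic_iff_forall_isZero_homology, acyclic_iff_forall_isZero_homology]
    rfl

/-- K-flat complexes: tensoring on the left with a quasi-isomorphism. -/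
theorem quasiIso_tensor_of_isKFlat (K : CochainComplex (ModSite.Mod O) ℤ)
    (hK : ∀ L : CochainComplex (ModSite.Mod O) ℤ, L.Acyclic →
      (mapBifunctor L K (ModSite.tensorBi O) (ComplexShape.up ℤ)).Acyclic)
    {F F' : CochainComplex (ModSite.Mod O) ℤ} (φ : F ⟶ F') [QuasiIso φ] :
    QuasiIso (mapBifunctorMap φ (𝟙 K) (ModSite.tensorBi O) (ComplexShape.up ℤ)) :=
  quasiIso_mapBifunctorMap_left (ModSite.tensorBi O) φ K
    (hK _ ((quasiIso_iff_acyclic_mappingCone φ).1 inferInstance))

theorem isKFlat_mappingCone {K₁ K₂ : CochainComplex (ModSite.Mod O) ℤ} (φ : K₁ ⟶ K₂) :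
    (ModSite.IsKFlat K₁ → ModSite.IsKFlat K₂ → ModSite.IsKFlat (CochainComplex.mappingCone φ)) ∧
    (ModSite.IsKFlat K₁ → ModSite.IsKFlat (CochainComplex.mappingCone φ) → ModSite.IsKFlat K₂) ∧
    (ModSite.IsKFlat K₂ → ModSite.IsKFlat (CochainComplex.mappingCone φ) → ModSite.IsKFlat K₁) := by
  have key := fun L => acyclic_mappingCone_right (ModSite.tensorBi O) L φ
  simp only [isKFlat_iff]
  exact ⟨fun h₁ h₂ L hL => (key L).1 (h₁ L hL) (h₂ L hL),
    fun h₁ h₃ L hL => (key L).2.1 (h₁ L hL) (h₃ L hL),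
    fun h₂ h₃ L hL => (key L).2.2 (h₂ L hL) (h₃ L hL)⟩

/-- A short exact sequence of complexes with flat third terms stays short exact after
`Tot(L ⊗ -)`. -/
theorem shortExact_tensor_of_flat (S : ShortComplex (CochainComplex (ModSite.Mod O) ℤ))
    (hS : S.ShortExact) (h3 : ∀ n : ℤ, ModSite.IsFlat (S.X₃.X n))
    (L : CochainComplex (ModSite.Mod O) ℤ) :
    (S.map ((ModSite.tensorBi O).map₂CochainComplex.obj L)).ShortExact :=
  shortExact_map_obj (ModSite.tensorBi O) L S (fun p q => by
    have h₁ : (S.map (eval (ModSite.Mod O) (ComplexShape.up ℤ) q)).ShortExact :=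
      hS.map_of_exact _
    have h₂ := tensor_shortExact_of_isFlat _ h₁ (h3 q) (L.X p)
    exact ShortComplex.shortExact_of_iso
      ((S.map (eval (ModSite.Mod O) (ComplexShape.up ℤ) q)).mapNatIso (braidIso (L.X p))).symm h₂)

theorem isKFlat_shortExact (S : ShortComplex (CochainComplex (ModSite.Mod O) ℤ))
    (hS : S.ShortExact) (h3 : ∀ n : ℤ, ModSite.IsFlat (S.X₃.X n)) :
    (ModSite.IsKFlat S.X₁ → ModSite.IsKFlat S.X₂ → ModSite.IsKFlat S.X₃) ∧
    (ModSite.IsKFlat S.X₁ → ModSite.IsKFlat S.X₃ → ModSite.IsKFlat S.X₂) ∧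
    (ModSite.IsKFlat S.X₂ → ModSite.IsKFlat S.X₃ → ModSite.IsKFlat S.X₁) := by
  have key := fun L => shortExact_tensor_of_flat S hS h3 L
  simp only [isKFlat_iff]
  exact ⟨fun h₁ h₂ L hL => acyclic_X₃_of_shortExact (key L) (h₁ L hL) (h₂ L hL),
    fun h₁ h₃ L hL => (key L).acyclic_X₂ (h₁ L hL) (h₃ L hL),
    fun h₂ h₃ L hL => acyclic_X₁_of_shortExact (key L) (h₂ L hL) (h₃ L hL)⟩

end Groth.Agent.H31.KFlat
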