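import Groth.Agent.H31.KFlatColim
import Groth.Agent.H31.KFlatSite
import Groth.Agent.H31.AB5
import Groth.Agent.H31.KFlatRing

/-!
# Colimits of K-flat complexes (helper31 library)
-/

set_option autoImplicit false
universe u
open CategoryTheory CategoryTheory.Limits HomologicalComplex MonoidalCategory

namespace Groth.Agent.H31.KFlat

section Site

variable {C : Type u} [SmallCategory C] {J : GrothendieckTopology C} {O : Sheaf J CommRingCat.{u}}

/-- Sequential colimits are exact in sheaves of modules. -/
theorem hasExactColimitsOfShape_nat_Mod : HasExactColimitsOfShape ℕ (ModSite.Mod O) := by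
  let e : ℕ ≌ ULiftHom.{u} (ULift.{u} ℕ) := ULiftHomULiftCategory.equiv.{u, u} ℕ
  have : IsFiltered (ULiftHom.{u} (ULift.{u} ℕ)) := IsFiltered.of_equivalence e
  have h0 : HasExactColimitsOfShape (ULiftHom.{u} (ULift.{u} ℕ)) AddCommGrpCat.{u} :=
    inferInstance
  have := hasExactColimitsOfShape_Mod (O := O) (ULiftHom.{u} (ULift.{u} ℕ))
  exact HasExactColimitsOfShape.of_domain_equivalence (ModSite.Mod O) e.symm

theorem isKFlat_of_isColimit_nat (K : ℕ ⥤ CochainComplex (ModSite.Mod O) ℤ)
    (hK : ∀ n : ℕ, ModSite.IsKFlat (K.obj n)) (s : Cocone K) (hs : IsColimit s) :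
    ModSite.IsKFlat s.pt := by
  have := hasExactColimitsOfShape_nat_Mod (O := O)
  rw [isKFlat_iff]
  intro L hL
  exact acyclic_mapBifunctor_of_isColimit (ModSite.tensorBi O) L K s hs
    (fun j => (isKFlat_iff _).1 (hK j) L hL)

end Site

end Groth.Agent.H31.KFlat

namespace Groth.Agent.H31.KFlatRing

open Groth.Agent.H31.KFlat

variable {R : Type u} [CommRing R]

instance (X : ModuleCat.{u} R) (J : Type u) [SmallCategory J] :
    PreservesColimitsOfShape J ((curriedTensor (ModuleCat.{u} R)).obj X) :=
  inferInstanceAs (PreservesColimitsOfShape J (tensorLeft X))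

theorem isKFlat_of_isColimit_filtered (J : Type u) [SmallCategory J] [IsFiltered J]
    (F : J ⥤ DRing.Cx R) (hF : ∀ j : J, DRing.IsKFlat R (F.obj j)) (s : Cocone F)
    (hs : IsColimit s) : DRing.IsKFlat R s.pt := by
  rw [isKFlat_iff]
  intro L hL
  exact acyclic_mapBifunctor_of_isColimit (curriedTensor (ModuleCat.{u} R)) L F s hs
    (fun j => (isKFlat_iff _).1 (hF j) L hL)

end Groth.Agent.H31.KFlatRing
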