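import Groth.Agent.H31.ExtZeroSh

/-!
# Consequences of the projection formula for extension by zero (helper31 library)

* `tensorUnitIso` : `O ⊗ G ≅ G`; `isFlat_unit`;
* `isFlat_restr`, `isFlat_jSh`, `isFlat_extZero`, `isFlat_freeOn`;
* `freeOnTensorIso : j_! O_X ⊗ M ≅ j_! (M|_X)`;
* `restrSheafHomIso : Hom(M, -)|_X ≅ Hom(M|_X, (-)|_X)`;
* `unitHomAddEquiv`, `sectSheafHomAddEquiv`.
-/

set_option autoImplicit false
universe u
open CategoryTheory CategoryTheory.Limits MonoidalCategory Opposite

namespace Groth.Agent.H31.ExtZero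

open Groth.Agent.H31

variable {C : Type u} [SmallCategory C] {J : GrothendieckTopology C}

section Unit

variable (O : Sheaf J CommRingCat.{u})

/-- `O ⊗ G ≅ G`. -/
noncomputable def tensorUnitIso (G : ModSite.Mod O) :
    ((ModSite.tensorBi O).obj (SheafOfModules.unit (ModSite.ringSh O))).obj G ≅ G :=
  (show ((ModSite.tensorBi O).obj (SheafOfModules.unit (ModSite.ringSh O))).obj G ≅
      (shf O).obj ((toPM O).obj G) from (shf O).mapIso (λ_ ((toPM O).obj G))) ≪≫
    @asIso _ _ _ _ ((shfAdj O).counit.app G) (isIso_counit G)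

theorem pointwiseFlat_unit :
    PointwiseFlat ((toPM O).obj (SheafOfModules.unit (ModSite.ringSh O))) := by
  intro V
  exact (inferInstance : Module.Flat (O.obj.obj V) (O.obj.obj V))

theorem isFlat_unit : ModSite.IsFlat (SheafOfModules.unit (ModSite.ringSh O)) := by
  rw [isFlat_iff_preservesMonomorphisms]
  exact T_preservesMono_of_pointwiseFlat _ (pointwiseFlat_unit O)

end Unit

variable {O : Sheaf J CommRingCat.{u}}

theorem isFlat_of_iso {M M' : ModSite.Mod O} (e : M ≅ M') (h : ModSite.IsFlat M) :
    ModSite.IsFlat M' := by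
  rw [isFlat_iff_preservesMonomorphisms] at h ⊢
  exact Functor.PreservesMonomorphisms.of_iso ((ModSite.tensorBi O).flip.mapIso e)

/-- Restriction to `C/V` preserves flatness. -/
theorem isFlat_restr (M : ModSite.Mod O) (hM : ModSite.IsFlat M) (V : C) :
    ModSite.IsFlat ((ModSite.restr O V).obj M) := by
  rw [isFlat_iff_preservesMonomorphisms] at hM ⊢
  have hM' : (T ((toPM O).obj M)).PreservesMonomorphisms := hM
  have h1 : (jSh O V ⋙ T ((toPM O).obj M)).PreservesMonomorphisms := inferInstance
  have h2 : (T (O := O.over V) ((res O V).obj ((toPM O).obj M)) ⋙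
      jSh O V).PreservesMonomorphisms :=
    Functor.PreservesMonomorphisms.of_iso (projIsoLeft ((toPM O).obj M)).symm
  exact Functor.preservesMonomorphisms_of_preserves_of_reflects
    (T (O := O.over V) ((res O V).obj ((toPM O).obj M))) (jSh O V)

/-- Extension by zero preserves flatness. -/
theorem isFlat_jSh (U : C) (M : ModSite.Mod (O.over U)) (hM : ModSite.IsFlat M) :
    ModSite.IsFlat ((jSh O U).obj M) := by
  rw [isFlat_iff_preservesMonomorphisms] at hM ⊢
  have h0 : ((ModSite.tensorBi (O.over U)).obj M).PreservesMonomorphisms :=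
    Functor.PreservesMonomorphisms.of_iso (braidIso M).symm
  have h1 : (ModSite.restr O U).PreservesMonomorphisms := inferInstance
  have h2 : (ModSite.restr O U ⋙ (ModSite.tensorBi (O.over U)).obj M ⋙
      jSh O U).PreservesMonomorphisms := inferInstance
  have h3 : ((ModSite.tensorBi O).obj ((jSh O U).obj M)).PreservesMonomorphisms :=
    Functor.PreservesMonomorphisms.of_iso (projIsoRight M)
  exact Functor.PreservesMonomorphisms.of_iso (braidIso ((jSh O U).obj M))

theorem isFlat_extZero (U : C) (M : ModSite.Mod (O.over U)) (hM : ModSite.IsFlat M) :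
    ModSite.IsFlat ((ModSite.extZero O U).obj M) :=
  isFlat_of_iso ((extZeroIso O U).app M).symm (isFlat_jSh U M hM)

theorem isFlat_freeOn (U : C) : ModSite.IsFlat (ModSite.freeOn O U) :=
  isFlat_extZero U _ (isFlat_unit (O.over U))

/-- `j_! O_X ⊗ M ≅ j_! (M|_X)`. -/
noncomputable def freeOnTensorIso (X : C) (M : ModSite.Mod O) :
    ((ModSite.tensorBi O).obj (ModSite.freeOn O X)).obj M ≅
      (ModSite.extZero O X).obj ((ModSite.restr O X).obj M) :=
  ((ModSite.tensorBi O).mapIso ((extZeroIso O X).app (SheafOfModules.unit _))).app M ≪≫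
    ((projIsoRight (SheafOfModules.unit _)).app M).symm ≪≫
    (jSh O X).mapIso (tensorUnitIso (O.over X) ((ModSite.restr O X).obj M)) ≪≫
    ((extZeroIso O X).app _).symm

/-- `Hom(M, -)|_X ≅ Hom(M|_X, (-)|_X)`. -/
noncomputable def restrSheafHomIso (X : C) (M : ModSite.Mod O) [ModSite.HasSheafHom M]
    [ModSite.HasSheafHom ((ModSite.restr O X).obj M)] :
    ModSite.sheafHom M ⋙ ModSite.restr O X ≅
      ModSite.restr O X ⋙ ModSite.sheafHom ((ModSite.restr O X).obj M) :=
  let adj1 : jSh O X ⋙ (ModSite.tensorBi O).flip.obj M ⊣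
      ModSite.sheafHom M ⋙ ModSite.restr O X :=
    (jShAdj O X).comp (ModSite.sheafHomAdj M)
  let adj2 : (ModSite.tensorBi (O.over X)).flip.obj ((ModSite.restr O X).obj M) ⋙ jSh O X ⊣
      ModSite.restr O X ⋙ ModSite.sheafHom ((ModSite.restr O X).obj M) :=
    (ModSite.sheafHomAdj ((ModSite.restr O X).obj M)).comp (jShAdj O X)
  adj1.rightAdjointUniq (adj2.ofNatIsoLeft (projIsoLeft ((toPM O).obj M)))

section AddEquivs

variable {A : Type*} [Category A] [Preadditive A]

/-- Post-composition with an isomorphism, as an additive equivalence. -/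
def postAddEquiv {X Y Z : A} (e : Y ≅ Z) : (X ⟶ Y) ≃+ (X ⟶ Z) where
  toFun f := f ≫ e.hom
  invFun g := g ≫ e.inv
  left_inv f := by simp
  right_inv g := by simp
  map_add' f g := Preadditive.add_comp _ _ _ f g e.hom

/-- Pre-composition with an isomorphism, as an additive equivalence. -/
def preAddEquiv {X Y Z : A} (e : X ≅ Y) : (Y ⟶ Z) ≃+ (X ⟶ Z) where
  toFun f := e.hom ≫ f
  invFun g := e.inv ≫ g
  left_inv f := by simp
  right_inv g := by simp
  map_add' f g := Preadditive.comp_add _ _ _ e.hom f g

end AddEquivs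

/-- Maps from the unit sheaf of modules are sections over a terminal object. -/
noncomputable def unitHomAddEquiv {D : Type u} [SmallCategory D] {K : GrothendieckTopology D}
    {R : Sheaf K RingCat.{u}} (G : SheafOfModules.{u} R) {T : D} (hT : IsTerminal T) :
    (SheafOfModules.unit R ⟶ G) ≃+ G.val.obj (op T) where
  toFun f := f.val.app (op T) (1 : R.obj.obj (op T))
  invFun s := G.unitHomEquiv.symm (PresheafOfModules.sectionsMk
    (fun V => G.val.map (hT.from V.unop).op s) (fun V W g =>
      (G.val.map_comp_apply _ _ _).symm.trans (G.val.congr_map_apply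
        (Quiver.Hom.unop_inj (hT.hom_ext _ _)) s)))
  left_inv f := by
    apply G.unitHomEquiv.injective
    rw [Equiv.apply_symm_apply]
    ext V
    have h1 := PresheafOfModules.naturality_apply f.val (hT.from V.unop).op
      (1 : R.obj.obj (op T))
    have h2 : (SheafOfModules.unit R).val.map (hT.from V.unop).op (1 : R.obj.obj (op T)) =
        (1 : R.obj.obj V) := PresheafOfModules.unit_map_one _ _
    exact h1.symm.trans (congrArg (f.val.app V) h2)
  right_inv s := by
    let σ : G.val.sections := PresheafOfModules.sectionsMk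
      (fun V => G.val.map (hT.from V.unop).op s) (fun V W g =>
        (G.val.map_comp_apply _ _ _).symm.trans (G.val.congr_map_apply
          (Quiver.Hom.unop_inj (hT.hom_ext _ _)) s))
    have h := congrArg (fun τ : G.val.sections => τ.val (op T))
      (G.unitHomEquiv.apply_symm_apply σ)
    refine Eq.trans h ?_
    have h3 : (hT.from T).op = 𝟙 (op T) := Quiver.Hom.unop_inj (hT.hom_ext _ _)
    refine (G.val.congr_map_apply h3 s).trans ?_
    rw [PresheafOfModules.map_id]
    rfl
  map_add' f g := by
    rw [SheafOfModules.add_val]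
    rfl

/-- Sections of the internal hom over `X` are the maps between the restrictions to `C/X`. -/
noncomputable def sectSheafHomAddEquiv (M N : ModSite.Mod O) [ModSite.HasSheafHom M] (X : C) :
    ModSite.sect ((ModSite.sheafHom M).obj N) X ≃+
      ((ModSite.restr O X).obj M ⟶ (ModSite.restr O X).obj N) :=
  (show ModSite.sect ((ModSite.sheafHom M).obj N) X ≃+
      (SheafOfModules.unit (ModSite.ringSh (O.over X)) ⟶
        (ModSite.restr O X).obj ((ModSite.sheafHom M).obj N)) from
    (unitHomAddEquiv ((ModSite.restr O X).obj ((ModSite.sheafHom M).obj N))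
      (Over.mkIdTerminal (X := X))).symm).trans <|
  (postAddEquiv ((restrSheafHomIso X M).app N)).trans <|
  ((ModSite.sheafHomAdj ((ModSite.restr O X).obj M)).homAddEquiv _ _).symm.trans <|
  preAddEquiv (tensorUnitIso (O.over X) ((ModSite.restr O X).obj M)).symm

end Groth.Agent.H31.ExtZero
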