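import Groth.Agent.H31.KFlatSingle
import Groth.Agent.H31.KFlatSite
import Groth.Agent.H31.KFlatRing
import Groth.Agent.H31.ExtZeroFlat

/-!
# Complexes concentrated in one degree with a flat term are K-flat (helper31 library)
-/

set_option autoImplicit false
universe u
open CategoryTheory CategoryTheory.Limits HomologicalComplex MonoidalCategory

namespace Groth.Agent.H31.KFlat

variable {C : Type u} [SmallCategory C] {J : GrothendieckTopology C} {O : Sheaf J CommRingCat.{u}}

theorem isKFlat_of_concentrated (S : CochainComplex (ModSite.Mod O) ℤ) (j : ℤ)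
    (hS : ∀ q, q ≠ j → IsZero (S.X q)) (hf : ModSite.IsFlat (S.X j)) : ModSite.IsKFlat S := by
  rw [isKFlat_iff]
  intro L hL
  obtain ⟨h1, h2⟩ := hf
  exact acyclic_mapBifunctor_of_concentrated (ModSite.tensorBi O) L S j hS hL

theorem isKFlat_single (A : ModSite.Mod O) (hA : ModSite.IsFlat A) (j : ℤ) :
    ModSite.IsKFlat ((CochainComplex.singleFunctor (ModSite.Mod O) j).obj A) := by
  refine isKFlat_of_concentrated _ j (fun q hq => ?_) ?_
  · exact HomologicalComplex.isZero_single_obj_X (ComplexShape.up ℤ) j A q hq
  · exact ExtZero.isFlat_of_iso (HomologicalComplex.singleObjXSelf (ComplexShape.up ℤ) j A).symm hA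

end Groth.Agent.H31.KFlat

namespace Groth.Agent.H31.KFlatRing

open Groth.Agent.H31.KFlat

variable {R : Type u} [CommRing R]

theorem preservesFiniteLimits_tensorRight_of_flat (N : ModuleCat.{u} R) [Module.Flat R N] :
    PreservesFiniteLimits ((curriedTensor (ModuleCat.{u} R)).flip.obj N) := by
  have hm : ((curriedTensor (ModuleCat.{u} R)).flip.obj N).PreservesMonomorphisms :=
    tensorRight_preservesMono_of_flat N
  have hc : PreservesFiniteColimits ((curriedTensor (ModuleCat.{u} R)).flip.obj N) :=
    tensorLike.right_colim N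
  have ha : ((curriedTensor (ModuleCat.{u} R)).flip.obj N).Additive :=
    additive_flip_obj (curriedTensor (ModuleCat.{u} R)) N
  rw [Functor.preservesFiniteLimits_iff_forall_exact_map_and_mono]
  intro S hS
  have := hS.epi_g
  have := hS.mono_f
  exact ⟨hS.exact.map_of_epi_of_preservesCokernel _ inferInstance inferInstance,
    inferInstance⟩

theorem isKFlat_of_concentrated (S : DRing.Cx R) (j : ℤ)
    (hS : ∀ q, q ≠ j → IsZero (S.X q)) (hf : Module.Flat R (S.X j)) : DRing.IsKFlat R S := by
  rw [isKFlat_iff]
  intro L hL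
  have h1 := preservesFiniteLimits_tensorRight_of_flat (S.X j)
  have h2 : PreservesFiniteColimits ((curriedTensor (ModuleCat.{u} R)).flip.obj (S.X j)) :=
    tensorLike.right_colim (S.X j)
  exact acyclic_mapBifunctor_of_concentrated (curriedTensor (ModuleCat.{u} R)) L S j hS hL

end Groth.Agent.H31.KFlatRing
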