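import Groth.Agent.H31.StupidTower
import Groth.Agent.H31.KFlatColimSite
import Groth.Agent.H31.KFlatSingleSite
import Groth.Agent.H31.FlatAcyclic

/-!
# Bounded above complexes of flat modules are K-flat (helper31 library)
-/

set_option autoImplicit false
universe u
open CategoryTheory CategoryTheory.Limits HomologicalComplex MonoidalCategory

namespace Groth.Agent.H31.KFlat

variable {C : Type u} [SmallCategory C] {J : GrothendieckTopology C} {O : Sheaf J CommRingCat.{u}}

theorem isFlat_of_isZero (X : ModSite.Mod O) (hX : IsZero X) : ModSite.IsFlat X :=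
  (isFlat_iff_preservesMonomorphisms X).2 (tensorLike_tensorBi.flat_of_isZero hX)

theorem isKFlat_of_bounded_above_flat (K : CochainComplex (ModSite.Mod O) ℤ) (b : ℤ)
    (hb : ∀ q, b < q → IsZero (K.X q)) (hflat : ∀ n : ℤ, ModSite.IsFlat (K.X n)) :
    ModSite.IsKFlat K := by
  refine Tower.bounded_above_induction (A := ModSite.Mod O)
    (fun K => ModSite.IsKFlat K) (fun X => ModSite.IsFlat X) ?_ ?_ ?_ ?_ ?_ K b hb hflat
  · intro X Y e h
    exact ExtZero.isFlat_of_iso e h
  · intro X hX
    exact isFlat_of_isZero X hX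
  · intro S j hS hf
    exact isKFlat_of_concentrated S j hS hf
  · intro S hS h3 h1 h3'
    exact (isKFlat_shortExact S hS h3).2.1 h1 h3'
  · intro Φ s hs h
    exact isKFlat_of_isColimit_nat Φ h s hs

end Groth.Agent.H31.KFlat

namespace Groth.Agent.H31.KFlatRing

open Groth.Agent.H31.KFlat

variable {R : Type u} [CommRing R]

/-- Sequential colimits are exact in modules. -/
theorem hasExactColimitsOfShape_nat : HasExactColimitsOfShape ℕ (ModuleCat.{u} R) := by
  let e : ℕ ≌ ULiftHom.{u} (ULift.{u} ℕ) := ULiftHomULiftCategory.equiv.{u, u} ℕ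
  have : IsFiltered (ULiftHom.{u} (ULift.{u} ℕ)) := IsFiltered.of_equivalence e
  have h0 : HasExactColimitsOfShape (ULiftHom.{u} (ULift.{u} ℕ)) (ModuleCat.{u} R) :=
    inferInstance
  exact HasExactColimitsOfShape.of_domain_equivalence (ModuleCat.{u} R) e.symm

instance (X : ModuleCat.{u} R) :
    PreservesColimitsOfShape ℕ ((curriedTensor (ModuleCat.{u} R)).obj X) :=
  inferInstanceAs (PreservesColimitsOfShape ℕ (tensorLeft X))

theorem isKFlat_of_isColimit_nat (F : ℕ ⥤ DRing.Cx R)
    (hF : ∀ j : ℕ, DRing.IsKFlat R (F.obj j)) (s : Cocone F)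
    (hs : IsColimit s) : DRing.IsKFlat R s.pt := by
  have := hasExactColimitsOfShape_nat (R := R)
  rw [isKFlat_iff]
  intro L hL
  exact acyclic_mapBifunctor_of_isColimit (curriedTensor (ModuleCat.{u} R)) L F s hs
    (fun j => (isKFlat_iff _).1 (hF j) L hL)

theorem flat_of_isZero (X : ModuleCat.{u} R) (hX : IsZero X) : Module.Flat R X := by
  have : Subsingleton X := ModuleCat.subsingleton_of_isZero hX
  have : Module.Free R X := Module.Free.of_subsingleton R X
  infer_instance

theorem isKFlat_of_bounded_above_flat (K : DRing.Cx R) (b : ℤ)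
    (hb : DRing.VanishesAbove K b) (hflat : DRing.TermwiseFlat K) : DRing.IsKFlat R K :=
  Tower.bounded_above_induction (DRing.IsKFlat R) (fun X : ModuleCat.{u} R => Module.Flat R X)
    (fun {X Y} e h => by
      have := h
      exact Module.Flat.of_linearEquiv e.symm.toLinearEquiv)
    (fun X hX => flat_of_isZero X hX)
    (fun S j hS hf => isKFlat_of_concentrated S j hS hf)
    (fun S hS h3 h1 h3' => (isKFlat_shortExact S hS h3).2.1 h1 h3')
    (fun Φ s hs h => isKFlat_of_isColimit_nat Φ h s hs)
    K b hb hflat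

end Groth.Agent.H31.KFlatRing
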