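import Groth.Agent.H31.KFlatResolutionGen
import Groth.Agent.H31.KFlatBounded

/-!
# K-flat resolutions on ringed sites and over rings (helper31 library)
-/

set_option autoImplicit false
universe u
open CategoryTheory CategoryTheory.Limits HomologicalComplex MonoidalCategory

namespace Groth.Agent.H31.KFlat

variable {C : Type u} [SmallCategory C] {J : GrothendieckTopology C} {O : Sheaf J CommRingCat.{u}}

/-- Every complex of `O`-modules has a K-flat resolution with flat terms which is a degreewise
epimorphism. -/
theorem exists_isKFlat_resolution (G : CochainComplex (ModSite.Mod O) ℤ) :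
    ∃ (K : CochainComplex (ModSite.Mod O) ℤ) (q : K ⟶ G), ModSite.IsKFlat K ∧
      (∀ n : ℤ, ModSite.IsFlat (K.X n)) ∧ QuasiIso q ∧ ∀ n : ℤ, Epi (q.f n) := by
  have := hasExactColimitsOfShape_nat_Mod (O := O)
  obtain ⟨P, q, h1, h2, h3, h4⟩ :=
    exists_kflat_resolution (T := ModSite.tensorBi O) tensorLike_tensorBi G
  exact ⟨P, q, (isKFlat_iff P).2 h1,
    fun n => (isFlat_iff_preservesMonomorphisms _).2 (h2 n), h3, h4⟩

end Groth.Agent.H31.KFlat

namespace Groth.Agent.H31.KFlatRing

open Groth.Agent.H31.KFlat

variable {R : Type u} [CommRing R]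

theorem flat_of_preservesMono (N : ModuleCat.{u} R)
    (h : ((curriedTensor (ModuleCat.{u} R)).flip.obj N).PreservesMonomorphisms) :
    Module.Flat R N := by
  rw [Module.Flat.iff_rTensor_preserves_injective_linearMap'.{u}]
  intro M M' _ _ _ _ f hf
  have hm : Mono (ModuleCat.ofHom f) := (ModuleCat.mono_iff_injective _).2 hf
  have h1 := h.preserves (ModuleCat.ofHom f)
  exact (ModuleCat.mono_iff_injective _).1 h1

/-- Every complex of `R`-modules has a K-flat resolution with flat terms which is degreewise
surjective. -/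
theorem exists_isKFlat_resolution (M : DRing.Cx R) :
    ∃ (K : DRing.Cx R) (f : K ⟶ M), DRing.IsKFlat R K ∧ DRing.TermwiseFlat K ∧ QuasiIso f ∧
      ∀ i : ℤ, Function.Surjective (f.f i) := by
  have := hasExactColimitsOfShape_nat (R := R)
  obtain ⟨P, q, h1, h2, h3, h4⟩ :=
    exists_kflat_resolution (T := curriedTensor (ModuleCat.{u} R)) tensorLike M
  exact ⟨P, q, (isKFlat_iff P).2 h1, fun i => flat_of_preservesMono _ (h2 i), h3,
    fun i => (ModuleCat.epi_iff_surjective _).1 (h4 i)⟩

end Groth.Agent.H31.KFlatRing
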