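import Groth.Agent.H31.KFlatResolutionGen
import Mathlib.Algebra.Homology.BifunctorFlip

/-!
# Quasi-isomorphisms between K-flat complexes stay quasi-isomorphisms after tensoring
(helper31 library)
-/

set_option autoImplicit false
set_option backward.isDefEq.respectTransparency false

namespace Groth.Agent.H31.KFlat

open CategoryTheory Limits HomologicalComplex CochainComplex

variable {A : Type*} [Category A] [Abelian A] {T : A ⥤ A ⥤ A}

/-- `T.flip.flip.obj N` is `T.obj N`. -/
def flipFlipObjIso (T : A ⥤ A ⥤ A) (N : A) : T.obj N ≅ T.flip.flip.obj N :=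
  NatIso.ofComponents (fun _ => Iso.refl _) (by intros; simp)

theorem tensorLike_flip (hT : TensorLike T) : TensorLike T.flip where
  left_colim M := hT.right_colim M
  right_colim N := by
    have := hT.left_colim N
    exact preservesFiniteColimits_of_natIso (flipFlipObjIso T N)
  left_zero M := hT.right_zero M
  right_zero N := by
    have := hT.left_zero N
    exact ⟨fun X Y => (T.obj N).map_zero X Y⟩
  symm M := by
    obtain ⟨e⟩ := hT.symm M
    exact ⟨e.symm ≪≫ flipFlipObjIso T M⟩
  enough G := by
    obtain ⟨P, π, hP, hπ⟩ := hT.enough G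
    obtain ⟨e⟩ := hT.symm P
    have h1 : (T.obj P).PreservesMonomorphisms := Functor.PreservesMonomorphisms.of_iso e.symm
    exact ⟨P, π, Functor.PreservesMonomorphisms.of_iso (flipFlipObjIso T P), hπ⟩

variable (T) [T.Additive] [∀ X, (T.obj X).Additive]
  [∀ (K₁ : CochainComplex A ℤ) (K₂ : CochainComplex A ℤ),
    HasMapBifunctor K₁ K₂ T (ComplexShape.up ℤ)]

theorem additive_flip : T.flip.Additive where
  map_add := by
    intros
    ext
    simp

variable [∀ X : A, PreservesColimitsOfShape ℕ (T.flip.obj X)] [HasColimitsOfShape ℕ A]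
  [HasExactColimitsOfShape ℕ A]
  [∀ ι : Type, HasColimitsOfShape (Discrete ι) A]
  [∀ ι : Type, HasExactColimitsOfShape (Discrete ι) A]

/-- Resolutions which are K-flat in the left variable. -/
theorem exists_left_kflat_resolution (hT : TensorLike T) (F : CochainComplex A ℤ) :
    ∃ (F' : CochainComplex A ℤ) (r : F' ⟶ F),
      (∀ L : CochainComplex A ℤ, L.Acyclic →
        (mapBifunctor F' L T (ComplexShape.up ℤ)).Acyclic) ∧ QuasiIso r := by
  have : T.flip.Additive := additive_flip T
  have : ∀ X, (T.flip.obj X).Additive := fun X => additive_flip_obj T X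
  obtain ⟨P, q, h1, -, h3, -⟩ := exists_kflat_resolution (T := T.flip) (tensorLike_flip hT) F
  exact ⟨P, q, fun L hL =>
    acyclic_of_iso (mapBifunctorFlipIso P L T (ComplexShape.up ℤ)) (h1 L hL), h3⟩

/-- A quasi-isomorphism between K-flat complexes remains a quasi-isomorphism after
`Tot(F ⊗ -)`, for any complex `F`. -/
theorem quasiIso_mapBifunctorMap_of_kflat (hT : TensorLike T) {P Q : CochainComplex A ℤ}
    (α : P ⟶ Q) [QuasiIso α]
    (hP : ∀ L : CochainComplex A ℤ, L.Acyclic →
      (mapBifunctor L P T (ComplexShape.up ℤ)).Acyclic)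
    (hQ : ∀ L : CochainComplex A ℤ, L.Acyclic →
      (mapBifunctor L Q T (ComplexShape.up ℤ)).Acyclic)
    (F : CochainComplex A ℤ) :
    QuasiIso (mapBifunctorMap (𝟙 F) α T (ComplexShape.up ℤ)) := by
  apply quasiIso_mapBifunctorMap_right
  have hC : (mappingCone α).Acyclic := (quasiIso_iff_acyclic_mappingCone α).1 inferInstance
  have hCK : ∀ L : CochainComplex A ℤ, L.Acyclic →
      (mapBifunctor L (mappingCone α) T (ComplexShape.up ℤ)).Acyclic := fun L hL =>
    (acyclic_mappingCone_right T L α).1 (hP L hL) (hQ L hL)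
  obtain ⟨F', r, hF', hr⟩ := exists_left_kflat_resolution T hT F
  have h3 := hF' _ hC
  have h4 := hCK _ ((quasiIso_iff_acyclic_mappingCone r).1 hr)
  have h5 : QuasiIso (mapBifunctorMap r (𝟙 (mappingCone α)) T (ComplexShape.up ℤ)) :=
    quasiIso_mapBifunctorMap_left T r _ h4
  exact fun i => (quasiIsoAt_iff_exactAt
    (mapBifunctorMap r (𝟙 (mappingCone α)) T (ComplexShape.up ℤ)) i (h3 i)).1 inferInstance

end Groth.Agent.H31.KFlat
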