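import Groth.Agent.H31.KFlatRing
import Mathlib.Algebra.Homology.HomotopyCategory.Pretriangulated

/-!
# K-flatness is invariant under homotopy equivalence; distinguished triangles (helper31 library)
-/

set_option autoImplicit false
universe u
open CategoryTheory CategoryTheory.Limits HomologicalComplex MonoidalCategory

namespace Groth.Agent.H31.KFlat

section Acyclic

variable {B : Type*} [Category B] [Abelian B]

/-- A complex which is a retract up to homotopy of an acyclic complex is acyclic. -/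
theorem acyclic_of_retract_upToHomotopy {X X' : CochainComplex B ℤ} (a : X' ⟶ X) (b : X ⟶ X')
    (h : Homotopy (a ≫ b) (𝟙 X')) (hX : X.Acyclic) : X'.Acyclic := by
  rw [acyclic_iff_forall_isZero_homology] at hX ⊢
  intro i
  rw [IsZero.iff_id_eq_zero]
  have h1 : homologyMap (a ≫ b) i = homologyMap (𝟙 X') i := h.homologyMap_eq i
  rw [homologyMap_id] at h1
  rw [← h1, homologyMap_comp, (hX i).eq_of_tgt (homologyMap a i) 0, zero_comp]

end Acyclic

section Bifunctor

variable {C₁ C₂ D : Type*} [Category C₁] [Category C₂] [Category D]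
  [Abelian C₁] [Abelian C₂] [Abelian D]
  (F : C₁ ⥤ C₂ ⥤ D) [F.Additive] [∀ X, (F.obj X).Additive]
  [∀ (K₁ : CochainComplex C₁ ℤ) (K₂ : CochainComplex C₂ ℤ),
    HasMapBifunctor K₁ K₂ F (ComplexShape.up ℤ)]

theorem acyclic_mapBifunctor_of_homotopyEquiv (L : CochainComplex C₁ ℤ)
    {K K' : CochainComplex C₂ ℤ} (e : HomotopyEquiv K K')
    (h : (mapBifunctor L K F (ComplexShape.up ℤ)).Acyclic) :
    (mapBifunctor L K' F (ComplexShape.up ℤ)).Acyclic := by
  refine acyclic_of_retract_upToHomotopy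
    (mapBifunctorMap (𝟙 L) e.inv F (ComplexShape.up ℤ))
    (mapBifunctorMap (𝟙 L) e.hom F (ComplexShape.up ℤ)) ?_ h
  have H := mapBifunctorMapHomotopy₂ (𝟙 L) e.homotopyInvHomId F (ComplexShape.up ℤ)
  have e1 : mapBifunctorMap (𝟙 L) (𝟙 K') F (ComplexShape.up ℤ) = 𝟙 _ :=
    (F.map₂CochainComplex.obj L).map_id K'
  have e2 : mapBifunctorMap (𝟙 L) (e.inv ≫ e.hom) F (ComplexShape.up ℤ) =
      mapBifunctorMap (𝟙 L) e.inv F (ComplexShape.up ℤ) ≫
        mapBifunctorMap (𝟙 L) e.hom F (ComplexShape.up ℤ) :=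
    (F.map₂CochainComplex.obj L).map_comp e.inv e.hom
  rw [e1, e2] at H
  exact H

end Bifunctor

end Groth.Agent.H31.KFlat

namespace Groth.Agent.H31.KFlatRing

open Groth.Agent.H31.KFlat

variable {R : Type u} [CommRing R]

theorem isKFlat_of_homotopyEquiv {K K' : DRing.Cx R} (e : HomotopyEquiv K K')
    (h : DRing.IsKFlat R K) : DRing.IsKFlat R K' := by
  rw [isKFlat_iff] at h ⊢
  exact fun L hL => acyclic_mapBifunctor_of_homotopyEquiv _ L e (h L hL)

theorem isKFlat_distTriang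
    (T : Pretriangulated.Triangle (HomotopyCategory (ModuleCat.{u} R) (ComplexShape.up ℤ)))
    (hT : T ∈ Pretriangulated.distinguishedTriangles) :
    (DRing.IsKFlat R T.obj₁.as → DRing.IsKFlat R T.obj₂.as → DRing.IsKFlat R T.obj₃.as) ∧
    (DRing.IsKFlat R T.obj₁.as → DRing.IsKFlat R T.obj₃.as → DRing.IsKFlat R T.obj₂.as) ∧
    (DRing.IsKFlat R T.obj₂.as → DRing.IsKFlat R T.obj₃.as → DRing.IsKFlat R T.obj₁.as) := by
  obtain ⟨X, Y, φ, ⟨e⟩⟩ := hT
  let e₁ : HomotopyEquiv T.obj₁.as X := HomotopyCategory.homotopyEquivOfIso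
    (show (HomotopyCategory.quotient _ _).obj T.obj₁.as ≅ (HomotopyCategory.quotient _ _).obj X
      from Pretriangulated.Triangle.π₁.mapIso e)
  let e₂ : HomotopyEquiv T.obj₂.as Y := HomotopyCategory.homotopyEquivOfIso
    (show (HomotopyCategory.quotient _ _).obj T.obj₂.as ≅ (HomotopyCategory.quotient _ _).obj Y
      from Pretriangulated.Triangle.π₂.mapIso e)
  let e₃ : HomotopyEquiv T.obj₃.as (CochainComplex.mappingCone φ) :=
    HomotopyCategory.homotopyEquivOfIso
    (show (HomotopyCategory.quotient _ _).obj T.obj₃.as ≅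
      (HomotopyCategory.quotient _ _).obj (CochainComplex.mappingCone φ)
      from Pretriangulated.Triangle.π₃.mapIso e)
  obtain ⟨k1, k2, k3⟩ := isKFlat_mappingCone φ
  exact ⟨fun h₁ h₂ => isKFlat_of_homotopyEquiv e₃.symm
      (k1 (isKFlat_of_homotopyEquiv e₁ h₁) (isKFlat_of_homotopyEquiv e₂ h₂)),
    fun h₁ h₃ => isKFlat_of_homotopyEquiv e₂.symm
      (k2 (isKFlat_of_homotopyEquiv e₁ h₁) (isKFlat_of_homotopyEquiv e₃ h₃)),
    fun h₂ h₃ => isKFlat_of_homotopyEquiv e₁.symm
      (k3 (isKFlat_of_homotopyEquiv e₂ h₂) (isKFlat_of_homotopyEquiv e₃ h₃))⟩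

end Groth.Agent.H31.KFlatRing
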