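import Groth.Agent.H31.KFlat

/-!
# Functors commuting with total complexes of bifunctors (helper31 library)

`totIso` : given additive `H : D ⥤ D'` preserving (countable) coproducts and isomorphisms
`H (F (K₁^p, K₂^q)) ≅ F' (K₁'^p, K₂'^q)` compatible with both differentials, the complex
`H (Tot F(K₁, K₂))` is isomorphic to `Tot F'(K₁', K₂')`.
-/

set_option autoImplicit false

namespace Groth.Agent.H31.KFlat

open CategoryTheory Limits HomologicalComplex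

section TotFunctor

variable {C₁ C₂ D C₁' C₂' D' : Type*} [Category C₁] [Category C₂] [Category D]
  [Category C₁'] [Category C₂'] [Category D']
  [Abelian C₁] [Abelian C₂] [Abelian D] [Abelian C₁'] [Abelian C₂'] [Abelian D']
  (F : C₁ ⥤ C₂ ⥤ D) [F.Additive] [∀ X, (F.obj X).Additive]
  (F' : C₁' ⥤ C₂' ⥤ D') [F'.Additive] [∀ X, (F'.obj X).Additive]
  [∀ (K₁ : CochainComplex C₁ ℤ) (K₂ : CochainComplex C₂ ℤ),
    HasMapBifunctor K₁ K₂ F (ComplexShape.up ℤ)]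
  [∀ (K₁ : CochainComplex C₁' ℤ) (K₂ : CochainComplex C₂' ℤ),
    HasMapBifunctor K₁ K₂ F' (ComplexShape.up ℤ)]

/-- The composite of a summand inclusion with the differential of the total complex. -/
theorem ι_d (K₁ : CochainComplex C₁ ℤ) (K₂ : CochainComplex C₂ ℤ) (p q n n' : ℤ)
    (h : ComplexShape.π (ComplexShape.up ℤ) (ComplexShape.up ℤ) (ComplexShape.up ℤ) (p, q) = n)
    (h1 : ComplexShape.π (ComplexShape.up ℤ) (ComplexShape.up ℤ) (ComplexShape.up ℤ)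
      (p + 1, q) = n')
    (h2 : ComplexShape.π (ComplexShape.up ℤ) (ComplexShape.up ℤ) (ComplexShape.up ℤ)
      (p, q + 1) = n') :
    ιMapBifunctor K₁ K₂ F (ComplexShape.up ℤ) p q n h ≫
        (mapBifunctor K₁ K₂ F (ComplexShape.up ℤ)).d n n' =
      ComplexShape.ε₁ (ComplexShape.up ℤ) (ComplexShape.up ℤ) (ComplexShape.up ℤ) (p, q) •
        ((F.map (K₁.d p (p + 1))).app (K₂.X q) ≫
          ιMapBifunctor K₁ K₂ F (ComplexShape.up ℤ) (p + 1) q n' h1) +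
      ComplexShape.ε₂ (ComplexShape.up ℤ) (ComplexShape.up ℤ) (ComplexShape.up ℤ) (p, q) •
        ((F.obj (K₁.X p)).map (K₂.d q (q + 1)) ≫
          ιMapBifunctor K₁ K₂ F (ComplexShape.up ℤ) p (q + 1) n' h2) := by
  rw [mapBifunctor.d_eq, Preadditive.comp_add, mapBifunctor.ι_D₁, mapBifunctor.ι_D₂,
    mapBifunctor.d₁_eq K₁ K₂ F (ComplexShape.up ℤ)
      (show (ComplexShape.up ℤ).Rel p (p + 1) from rfl) q n' h1,
    mapBifunctor.d₂_eq K₁ K₂ F (ComplexShape.up ℤ) p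
      (show (ComplexShape.up ℤ).Rel q (q + 1) from rfl) n' h2]

variable (H : D ⥤ D') [H.Additive] [∀ J : Type, PreservesColimitsOfShape (Discrete J) H]
  (K₁ : CochainComplex C₁ ℤ) (K₂ : CochainComplex C₂ ℤ)
  (K₁' : CochainComplex C₁' ℤ) (K₂' : CochainComplex C₂' ℤ)
  (e : ∀ p q : ℤ, H.obj ((F.obj (K₁.X p)).obj (K₂.X q)) ≅ (F'.obj (K₁'.X p)).obj (K₂'.X q))

/-- The degreewise isomorphism `H (Tot^n F(K₁, K₂)) ≅ Tot^n F'(K₁', K₂')`. -/
noncomputable def totIsoX (n : ℤ) :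
    H.obj ((mapBifunctor K₁ K₂ F (ComplexShape.up ℤ)).X n) ≅
      (mapBifunctor K₁' K₂' F' (ComplexShape.up ℤ)).X n :=
  IsColimit.coconePointsIsoOfNatIso
    (isColimitOfPreserves H ((gr F K₁ K₂).isColimitCofanMapObj pp n))
    ((gr F' K₁' K₂').isColimitCofanMapObj pp n)
    (Discrete.natIso (fun i => e i.as.1.1 i.as.1.2))

theorem ι_totIsoX_hom (p q n : ℤ)
    (h : ComplexShape.π (ComplexShape.up ℤ) (ComplexShape.up ℤ) (ComplexShape.up ℤ) (p, q) = n) :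
    H.map (ιMapBifunctor K₁ K₂ F (ComplexShape.up ℤ) p q n h) ≫
        (totIsoX F F' H K₁ K₂ K₁' K₂' e n).hom =
      (e p q).hom ≫ ιMapBifunctor K₁' K₂' F' (ComplexShape.up ℤ) p q n h :=
  IsColimit.comp_coconePointsIsoOfNatIso_hom
    (isColimitOfPreserves H ((gr F K₁ K₂).isColimitCofanMapObj pp n))
    ((gr F' K₁' K₂').isColimitCofanMapObj pp n)
    (Discrete.natIso (fun i => e i.as.1.1 i.as.1.2)) (Discrete.mk ⟨(p, q), h⟩)

variable
  (h₁ : ∀ p q : ℤ, H.map ((F.map (K₁.d p (p + 1))).app (K₂.X q)) ≫ (e (p + 1) q).hom =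
      (e p q).hom ≫ (F'.map (K₁'.d p (p + 1))).app (K₂'.X q))
  (h₂ : ∀ p q : ℤ, H.map ((F.obj (K₁.X p)).map (K₂.d q (q + 1))) ≫ (e p (q + 1)).hom =
      (e p q).hom ≫ (F'.obj (K₁'.X p)).map (K₂'.d q (q + 1)))

include h₁ h₂ in
theorem totIsoX_comm (n n' : ℤ) (hn : n + 1 = n') :
    (totIsoX F F' H K₁ K₂ K₁' K₂' e n).hom ≫
        (mapBifunctor K₁' K₂' F' (ComplexShape.up ℤ)).d n n' =
      H.map ((mapBifunctor K₁ K₂ F (ComplexShape.up ℤ)).d n n') ≫
        (totIsoX F F' H K₁ K₂ K₁' K₂' e n').hom := by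
  refine (isColimitOfPreserves H ((gr F K₁ K₂).isColimitCofanMapObj pp n)).hom_ext ?_
  rintro ⟨⟨⟨p, q⟩, h0⟩⟩
  have h : ComplexShape.π (ComplexShape.up ℤ) (ComplexShape.up ℤ) (ComplexShape.up ℤ)
      (p, q) = n := h0
  have hpq : p + q = n := h
  have h1 : ComplexShape.π (ComplexShape.up ℤ) (ComplexShape.up ℤ) (ComplexShape.up ℤ)
      (p + 1, q) = n' := by
    show p + 1 + q = n'
    omega
  have h2 : ComplexShape.π (ComplexShape.up ℤ) (ComplexShape.up ℤ) (ComplexShape.up ℤ)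
      (p, q + 1) = n' := by
    show p + (q + 1) = n'
    omega
  show H.map (ιMapBifunctor K₁ K₂ F (ComplexShape.up ℤ) p q n h) ≫ _ =
    H.map (ιMapBifunctor K₁ K₂ F (ComplexShape.up ℤ) p q n h) ≫ _
  rw [← Category.assoc, ι_totIsoX_hom, Category.assoc, ι_d F' K₁' K₂' p q n n' h h1 h2,
    ← Category.assoc, ← H.map_comp, ι_d F K₁ K₂ p q n n' h h1 h2]
  simp only [Units.smul_def, H.map_add, H.map_zsmul, H.map_comp, Preadditive.add_comp,
    Preadditive.comp_add, Preadditive.zsmul_comp, Preadditive.comp_zsmul, Category.assoc,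
    ι_totIsoX_hom]
  rw [reassoc_of% (h₁ p q), reassoc_of% (h₂ p q)]

/-- `H (Tot F(K₁, K₂)) ≅ Tot F'(K₁', K₂')`. -/
noncomputable def totIso :
    (H.mapHomologicalComplex (ComplexShape.up ℤ)).obj (mapBifunctor K₁ K₂ F (ComplexShape.up ℤ)) ≅
      mapBifunctor K₁' K₂' F' (ComplexShape.up ℤ) :=
  HomologicalComplex.Hom.isoOfComponents (fun n => totIsoX F F' H K₁ K₂ K₁' K₂' e n)
    (fun n n' hnn' => totIsoX_comm F F' H K₁ K₂ K₁' K₂' e h₁ h₂ n n' hnn')

end TotFunctor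

end Groth.Agent.H31.KFlat
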