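import Groth.Agent.H31.KFlatQuasiIso
import Mathlib.CategoryTheory.Abelian.Refinements

/-!
# Cycles of acyclic K-flat complexes with flat terms are flat (helper31 library)
-/

set_option autoImplicit false
set_option backward.isDefEq.respectTransparency false

namespace Groth.Agent.H31.KFlat

open CategoryTheory Limits HomologicalComplex CochainComplex

section Abstract

variable {A B : Type*} [Category A] [Category B] [Abelian A] [Abelian B]

theorem epi_toCycles_of_exactAt (K : CochainComplex A ℤ) (b c : ℤ) (hbc : b + 1 = c)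
    (h : K.ExactAt c) : Epi (K.toCycles b c) := by
  have hb : (ComplexShape.up ℤ).prev c = b := by simp; omega
  have hc : (ComplexShape.up ℤ).next c = c + 1 := by simp
  have hex : (K.sc' b c (c + 1)).Exact := (K.exactAt_iff' b c (c + 1) hb hc).1 h
  have h1 : Epi (K.sc' b c (c + 1)).toCycles := hex.epi_toCycles
  have h2 := K.toCycles_cyclesIsoSc'_hom b c (c + 1) hb hc
  have h3 : K.toCycles b c =
      (K.sc' b c (c + 1)).toCycles ≫ (K.cyclesIsoSc' b c (c + 1) hb hc).inv := by
    rw [← h2, Category.assoc, Iso.hom_inv_id, Category.comp_id]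
  rw [h3]
  infer_instance

/-- If `K` is exact in degree `c` and `G(K)` is exact in degree `c - 1`, where `G` preserves
epimorphisms, then `G(Z^c K) ⟶ G(K^c)` is a monomorphism. -/
theorem mono_map_iCycles (G : A ⥤ B) [G.PreservesZeroMorphisms] [G.PreservesEpimorphisms]
    (K : CochainComplex A ℤ) (a b c : ℤ) (hbc : b + 1 = c)
    (hK : K.ExactAt c) (hG : ((K.sc' a b c).map G).Exact) :
    Mono (G.map (K.iCycles c)) := by
  have : Epi (K.toCycles b c) := epi_toCycles_of_exactAt K b c hbc hK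
  apply Preadditive.mono_of_cancel_zero
  intro W x hx
  obtain ⟨W₁, π₁, hπ₁, y, hy⟩ :=
    surjective_up_to_refinements_of_epi (G.map (K.toCycles b c)) x
  have hy0 : y ≫ G.map (K.d b c) = 0 := by
    rw [← K.toCycles_i b c, G.map_comp, ← Category.assoc, ← hy, Category.assoc, hx, comp_zero]
  obtain ⟨W₂, π₂, hπ₂, z, hz⟩ := hG.exact_up_to_refinements y hy0
  have hz' : π₂ ≫ y = z ≫ G.map (K.d a b) := hz
  have h0 : (π₂ ≫ π₁) ≫ x = 0 := by
    rw [Category.assoc, hy, ← Category.assoc, hz', Category.assoc, ← G.map_comp,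
      K.d_toCycles, G.map_zero, comp_zero]
  have hepi : Epi (π₂ ≫ π₁) := epi_comp _ _
  exact (cancel_epi (π₂ ≫ π₁)).1 (h0.trans comp_zero.symm)

end Abstract

section SingleLeft

variable {C₁ C₂ D : Type*} [Category C₁] [Category C₂] [Category D]
  [Abelian C₁] [Abelian C₂] [Abelian D]
  (F : C₁ ⥤ C₂ ⥤ D) [F.Additive] [∀ X, (F.obj X).Additive]
  [∀ (K₁ : CochainComplex C₁ ℤ) (K₂ : CochainComplex C₂ ℤ),
    HasMapBifunctor K₁ K₂ F (ComplexShape.up ℤ)]

theorem isIso_ιMapBifunctor_of_isZero_left (S : CochainComplex C₁ ℤ) (K : CochainComplex C₂ ℤ)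
    (j : ℤ) (hS : ∀ p, p ≠ j → IsZero (S.X p)) (q n : ℤ)
    (h : ComplexShape.π (ComplexShape.up ℤ) (ComplexShape.up ℤ) (ComplexShape.up ℤ) (j, q) = n) :
    IsIso (ιMapBifunctor S K F (ComplexShape.up ℤ) j q n h) := by
  refine isIso_inj_of_isZero ((gr F S K).cofanMapObj pp n)
    ((gr F S K).isColimitCofanMapObj pp n) ⟨(j, q), h⟩ ?_
  rintro ⟨⟨p', q'⟩, hpq'⟩ hne
  have hp : p' ≠ j := by
    rintro rfl
    apply hne
    have h1 : p' + q' = n := hpq'
    have h2 : p' + q = n := h
    have h3 : q' = q := by omega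
    subst h3
    rfl
  have : (F.flip.obj (K.X q')).Additive := additive_flip_obj F _
  exact (F.flip.obj (K.X q')).map_isZero (hS p' hp)

/-- If `S` is concentrated in degree `0` and `Tot(F(S, K))` is acyclic, then `F(S^0, K)` is
exact. -/
theorem exact_map_of_acyclic_mapBifunctor_left (S : CochainComplex C₁ ℤ)
    (K : CochainComplex C₂ ℤ) (hS : ∀ p, p ≠ 0 → IsZero (S.X p))
    (hac : (mapBifunctor S K F (ComplexShape.up ℤ)).Acyclic) (a b c : ℤ) (hab : a + 1 = b)
    (hbc : b + 1 = c) : ((K.sc' a b c).map (F.obj (S.X 0))).Exact := by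
  have π0 : ∀ q : ℤ, ComplexShape.π (ComplexShape.up ℤ) (ComplexShape.up ℤ) (ComplexShape.up ℤ)
      ((0 : ℤ), q) = q := fun q => zero_add q
  have i1 := isIso_ιMapBifunctor_of_isZero_left F S K 0 hS a a (π0 a)
  have i2 := isIso_ιMapBifunctor_of_isZero_left F S K 0 hS b b (π0 b)
  have i3 := isIso_ιMapBifunctor_of_isZero_left F S K 0 hS c c (π0 c)
  have hd0 : S.d 0 1 = 0 := (hS 1 (by omega)).eq_of_tgt _ _
  have key : ∀ (a b : ℤ) (hab : a + 1 = b),
      ιMapBifunctor S K F (ComplexShape.up ℤ) 0 a a (π0 a) ≫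
          (mapBifunctor S K F (ComplexShape.up ℤ)).d a b =
        (F.obj (S.X 0)).map (K.d a b) ≫ ιMapBifunctor S K F (ComplexShape.up ℤ) 0 b b (π0 b) := by
    intro a b hab
    rw [mapBifunctor.d_eq, Preadditive.comp_add, mapBifunctor.ι_D₁, mapBifunctor.ι_D₂,
      mapBifunctor.d₁_eq S K F (ComplexShape.up ℤ) (show (ComplexShape.up ℤ).Rel 0 1 from rfl)
        a b (by show (1 : ℤ) + a = b; omega),
      mapBifunctor.d₂_eq S K F (ComplexShape.up ℤ) 0
        (show (ComplexShape.up ℤ).Rel a b from hab) b (π0 b),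
      hd0, Functor.map_zero, NatTrans.app_zero, zero_comp, smul_zero, zero_add]
    have hε : ComplexShape.ε₂ (ComplexShape.up ℤ) (ComplexShape.up ℤ) (ComplexShape.up ℤ)
        ((0 : ℤ), a) = 1 := rfl
    rw [hε, one_smul]
  have hex : ((mapBifunctor S K F (ComplexShape.up ℤ)).sc' a b c).Exact :=
    ((mapBifunctor S K F (ComplexShape.up ℤ)).exactAt_iff' a b c (by simp; omega)
      (by simp; omega)).1 (hac b)
  refine ShortComplex.exact_of_iso (ShortComplex.isoMk
    (@asIso _ _ _ _ _ i1) (@asIso _ _ _ _ _ i2) (@asIso _ _ _ _ _ i3) ?_ ?_).symm hex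
  · exact key a b hab
  · exact key b c hbc

end SingleLeft

section Main

variable {A : Type*} [Category A] [Abelian A] (T : A ⥤ A ⥤ A)
  [T.Additive] [∀ X, (T.obj X).Additive]
  [∀ (K₁ : CochainComplex A ℤ) (K₂ : CochainComplex A ℤ),
    HasMapBifunctor K₁ K₂ T (ComplexShape.up ℤ)]
  [∀ X : A, PreservesColimitsOfShape ℕ (T.flip.obj X)] [HasColimitsOfShape ℕ A]
  [HasExactColimitsOfShape ℕ A]
  [∀ ι : Type, HasColimitsOfShape (Discrete ι) A]
  [∀ ι : Type, HasExactColimitsOfShape (Discrete ι) A]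

/-- If `K` is K-flat and acyclic then `Tot(N[0] ⊗ K)` is acyclic for every object `N`. -/
theorem acyclic_mapBifunctor_single_of_kflat_acyclic (hT : TensorLike T)
    (K : CochainComplex A ℤ)
    (hK : ∀ L : CochainComplex A ℤ, L.Acyclic →
      (mapBifunctor L K T (ComplexShape.up ℤ)).Acyclic)
    (hac : K.Acyclic) (S : CochainComplex A ℤ) :
    (mapBifunctor S K T (ComplexShape.up ℤ)).Acyclic := by
  obtain ⟨P, r, hP, hr⟩ := exists_left_kflat_resolution T hT S
  have h3 : (mapBifunctor P K T (ComplexShape.up ℤ)).Acyclic := hP K hac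
  have h4 : (mapBifunctor (mappingCone r) K T (ComplexShape.up ℤ)).Acyclic :=
    hK _ ((quasiIso_iff_acyclic_mappingCone r).1 hr)
  have h5 : QuasiIso (mapBifunctorMap r (𝟙 K) T (ComplexShape.up ℤ)) :=
    quasiIso_mapBifunctorMap_left T r K h4
  exact fun i => (quasiIsoAt_iff_exactAt
    (mapBifunctorMap r (𝟙 K) T (ComplexShape.up ℤ)) i (h3 i)).1 inferInstance

/-- For `K` K-flat and acyclic, `N ⊗ Z^n(K) ⟶ N ⊗ K^n` is a monomorphism for every `N`. -/
theorem mono_map_iCycles_of_kflat_acyclic (hT : TensorLike T) (K : CochainComplex A ℤ)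
    (hK : ∀ L : CochainComplex A ℤ, L.Acyclic →
      (mapBifunctor L K T (ComplexShape.up ℤ)).Acyclic)
    (hac : K.Acyclic) (N : A) (n : ℤ) : Mono ((T.obj N).map (K.iCycles n)) := by
  let S : CochainComplex A ℤ := (singleFunctor A 0).obj N
  have hS : ∀ p : ℤ, p ≠ 0 → IsZero (S.X p) := fun p hp =>
    isZero_single_obj_X (ComplexShape.up ℤ) 0 N p hp
  have hacS := acyclic_mapBifunctor_single_of_kflat_acyclic T hT K hK hac S
  have hex := exact_map_of_acyclic_mapBifunctor_left T S K hS hacS (n - 2) (n - 1) n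
    (by omega) (by omega)
  have := hT.left_colim (S.X 0)
  have hm : Mono ((T.obj (S.X 0)).map (K.iCycles n)) :=
    mono_map_iCycles (T.obj (S.X 0)) K (n - 2) (n - 1) n (by omega) (hac n) hex
  let e : T.obj (S.X 0) ≅ T.obj N := T.mapIso (singleObjXSelf (ComplexShape.up ℤ) 0 N)
  have nat := e.hom.naturality (K.iCycles n)
  have h1 : Mono (e.hom.app (K.cycles n) ≫ (T.obj N).map (K.iCycles n)) := by
    rw [← nat]
    infer_instance
  have h2 : (T.obj N).map (K.iCycles n) =
      e.inv.app (K.cycles n) ≫ e.hom.app (K.cycles n) ≫ (T.obj N).map (K.iCycles n) := by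
    rw [← Category.assoc, ← NatTrans.comp_app, Iso.inv_hom_id, NatTrans.id_app, Category.id_comp]
  rw [h2]
  infer_instance

/-- The cycles of an acyclic K-flat complex with flat terms are flat. -/
theorem flat_cycles_of_kflat_acyclic (hT : TensorLike T) (K : CochainComplex A ℤ)
    (hK : ∀ L : CochainComplex A ℤ, L.Acyclic →
      (mapBifunctor L K T (ComplexShape.up ℤ)).Acyclic)
    (hac : K.Acyclic) (hfl : ∀ i, (T.flip.obj (K.X i)).PreservesMonomorphisms) (n : ℤ) :
    (T.flip.obj (K.cycles n)).PreservesMonomorphisms := by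
  constructor
  intro M' M u hu
  show Mono ((T.map u).app (K.cycles n))
  have hZ : Mono ((T.obj M').map (K.iCycles n)) :=
    mono_map_iCycles_of_kflat_acyclic T hT K hK hac M' n
  have hX : Mono ((T.map u).app (K.X n)) := (hfl n).preserves u
  have nat : (T.map u).app (K.cycles n) ≫ (T.obj M).map (K.iCycles n) =
      (T.obj M').map (K.iCycles n) ≫ (T.map u).app (K.X n) :=
    ((T.map u).naturality (K.iCycles n)).symm
  have h : Mono ((T.map u).app (K.cycles n) ≫ (T.obj M).map (K.iCycles n)) := by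
    rw [nat]
    infer_instance
  exact mono_of_mono ((T.map u).app (K.cycles n)) ((T.obj M).map (K.iCycles n))

end Main

end Groth.Agent.H31.KFlat
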