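import Groth.Agent.H31.MVApply

/-!
# The unit of `RΓ` on complexes, and `Γ(X, j_* -) = Γ(U, -)` (helper31)
-/

set_option backward.isDefEq.respectTransparency false
set_option autoImplicit false
universe u
open CategoryTheory CategoryTheory.Limits AlgebraicGeometry Pretriangulated
attribute [local instance] HasDerivedCategory.standard

namespace Groth.Agent.H31.MV

open Groth.Agent.H5.KInjDer Groth.Agent.H31.RpushRestrict

section

variable (X : Scheme.{u}) [DCoh.HasRΓ X]

/-- The unit of `RΓ` on the level of complexes. -/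
noncomputable abbrev uΓ :
    (DCoh.gammaAb X).mapHomologicalComplex (ComplexShape.up ℤ) ⋙ DerivedCategory.Q ⟶
      DerivedCategory.Q ⋙ DCoh.RΓ X :=
  unitC (DCoh.gammaAb X) (DCoh.RΓ X)
    ((DCoh.gammaKh X).totalRightDerivedUnit DerivedCategory.Qh
      (HomotopyCategory.quasiIso X.Modules (ComplexShape.up ℤ)))

instance isRightDerivedFunctor_uΓ : (DCoh.RΓ X).IsRightDerivedFunctor (uΓ X)
    (HomologicalComplex.quasiIso X.Modules (ComplexShape.up ℤ)) :=
  isRightDerivedFunctor_unitC _ _ _

/-- The unit of `RΓ` is an isomorphism on K-injective complexes. -/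
theorem isIso_uΓ_app (I : CochainComplex X.Modules ℤ) [I.IsKInjective] : IsIso ((uΓ X).app I) :=
  isIso_app_of_isKInjective _ (inverts_map_Q (DCoh.gammaAb X)) (uΓ X) I

end

/-- `Γ(X, j_* M) = Γ(W, M)`. -/
noncomputable def gammaPushIso {X : Scheme.{u}} (W : X.Opens) :
    Scheme.Modules.pushforward W.ι ⋙ DCoh.gammaAb X ≅ DCoh.gammaAb (W : Scheme.{u}) :=
  NatIso.ofComponents (fun M => Iso.refl _) (fun f => by
    simp only [Iso.refl_hom, Category.comp_id, Category.id_comp]
    rfl)

end Groth.Agent.H31.MV
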