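import Groth.Agent.H31.RpushSupport
import Groth.Agent.H31.MVGamma

/-!
# Derived categories and arbitrary open immersions (helper31)

Versions for an arbitrary open immersion `j : U ⟶ Y` of results of `LocalD`, `RpushRestrict`,
`RpushSupport` (which are for inclusions of open subschemes `U.ι`).
-/

set_option backward.isDefEq.respectTransparency false
set_option autoImplicit false
universe u
open CategoryTheory CategoryTheory.Limits AlgebraicGeometry TopologicalSpace Opposite
attribute [local instance] HasDerivedCategory.standard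

namespace Groth.Agent.H31.OpenImmD

open Groth.Agent.H5.KInjDer Groth.Agent.H31.Stalk Groth.Agent.H31.RpushRestrict
  Groth.Agent.H31.LocalD Groth.Agent.H31.RpushSupport

section Modules

variable {U Y : Scheme.{u}} (j : U ⟶ Y) [IsOpenImmersion j]

theorem subsingleton_stalk_restrict_iff_gen (M : Y.Modules) (x : U) :
    Subsingleton ((M.restrict j).presheaf.stalk x) ↔ Subsingleton (M.presheaf.stalk (j x)) :=
  ((forget Ab).mapIso ((Scheme.Modules.restrictStalkNatIso j x).app M)).toEquiv.subsingleton_congr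

/-- A module vanishing on two jointly surjective open immersions vanishes. -/
theorem isZero_of_cover_gen {U' : Scheme.{u}} (j' : U' ⟶ Y) [IsOpenImmersion j'] (M : Y.Modules)
    (hcov : ∀ y : Y, y ∈ Set.range j ∨ y ∈ Set.range j')
    (h : IsZero (M.restrict j)) (h' : IsZero (M.restrict j')) : IsZero M := by
  refine isZero_of_subsingleton_stalks M (fun y => ?_)
  rcases hcov y with ⟨x, rfl⟩ | ⟨x, rfl⟩
  · exact (subsingleton_stalk_restrict_iff_gen j M x).1 (subsingleton_stalk_of_isZero _ h _)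
  · exact (subsingleton_stalk_restrict_iff_gen j' M x).1 (subsingleton_stalk_of_isZero _ h' _)

end Modules

section Derived

variable {U Y : Scheme.{u}} (j : U ⟶ Y) [IsOpenImmersion j]

noncomputable def HDRestrictIso_gen (K : DCoh.D Y) (i : ℤ) :
    DCoh.HD ((DCoh.restrictD j).obj K) i ≅ (DCoh.HD K i).restrict j :=
  (mapDerivedCategoryHomologyIso (Scheme.Modules.restrictFunctor j) i).app K

theorem isZero_of_restrictD_cover_gen {U' : Scheme.{u}} (j' : U' ⟶ Y) [IsOpenImmersion j']
    (K : DCoh.D Y) (hcov : ∀ y : Y, y ∈ Set.range j ∨ y ∈ Set.range j')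
    (h : IsZero ((DCoh.restrictD j).obj K)) (h' : IsZero ((DCoh.restrictD j').obj K)) :
    IsZero K := by
  rw [isZero_iff_homology]
  intro i
  refine isZero_of_cover_gen j j' _ hcov ?_ ?_
  · exact IsZero.of_iso ((isZero_iff_homology _).1 h i) (HDRestrictIso_gen j K i).symm
  · exact IsZero.of_iso ((isZero_iff_homology _).1 h' i) (HDRestrictIso_gen j' K i).symm

theorem isIso_of_restrictD_cover_gen {U' : Scheme.{u}} (j' : U' ⟶ Y) [IsOpenImmersion j']
    {K L : DCoh.D Y} (φ : K ⟶ L) (hcov : ∀ y : Y, y ∈ Set.range j ∨ y ∈ Set.range j')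
    (h : IsIso ((DCoh.restrictD j).map φ)) (h' : IsIso ((DCoh.restrictD j').map φ)) :
    IsIso φ := by
  obtain ⟨C, g, k, hT⟩ := Pretriangulated.distinguished_cocone_triangle φ
  have hC : IsZero C := by
    refine isZero_of_restrictD_cover_gen j j' C hcov ?_ ?_
    · have hT' := (DCoh.restrictD j).map_distinguished _ hT
      exact (Pretriangulated.Triangle.isZero₃_iff_isIso₁ _ hT').2 h
    · have hT' := (DCoh.restrictD j').map_distinguished _ hT
      exact (Pretriangulated.Triangle.isZero₃_iff_isIso₁ _ hT').2 h'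
  exact (Pretriangulated.Triangle.isZero₃_iff_isIso₁ _ hT).1 hC

/-- If `K` vanishes on the open `W`, its cohomology sheaves have vanishing stalks on `W`. -/
theorem subsingleton_stalk_HD_of_isZero_restrictD (K : DCoh.D Y) (W : Y.Opens)
    (hK : IsZero ((DCoh.restrictD W.ι).obj K)) (i : ℤ) (y : Y) (hy : y ∈ W) :
    Subsingleton ((DCoh.HD K i).presheaf.stalk y) := by
  have h1 : IsZero ((DCoh.HD K i).restrict W.ι) :=
    IsZero.of_iso ((isZero_iff_homology _).1 hK i) (HDRestrictIso W K i).symm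
  exact (subsingleton_stalk_restrict_iff W _ ⟨y, hy⟩).1 (subsingleton_stalk_of_isZero _ h1 _)

/-- If `K` vanishes on `W`, then `K|_U` vanishes on `j⁻¹ W`. -/
theorem isZero_restrictD_preimage (K : DCoh.D Y) (W : Y.Opens)
    (hK : IsZero ((DCoh.restrictD W.ι).obj K)) :
    IsZero ((DCoh.restrictD (j ⁻¹ᵁ W).ι).obj ((DCoh.restrictD j).obj K)) := by
  rw [isZero_iff_homology]
  intro i
  refine IsZero.of_iso ?_ (HDRestrictIso (j ⁻¹ᵁ W) _ i)
  refine isZero_of_subsingleton_stalks _ (fun x => ?_)
  rw [subsingleton_stalk_restrict_iff]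
  have e := (forget Ab.{u}).mapIso ((Scheme.Modules.toPresheaf U ⋙
    TopCat.Presheaf.stalkFunctor Ab.{u} ((j ⁻¹ᵁ W).ι x)).mapIso (HDRestrictIso_gen j K i))
  refine e.toEquiv.subsingleton_congr.2 ?_
  exact (subsingleton_stalk_restrict_iff_gen j (DCoh.HD K i) ((j ⁻¹ᵁ W).ι x)).2
    (subsingleton_stalk_HD_of_isZero_restrictD K W hK i _ x.2)

variable [DCoh.HasRpush j]

/-- The derived adjunction `j^* ⊣ Rj_*`; its counit is invertible. -/
theorem exists_restrict_Rpush_adj_gen :
    ∃ adjD : DCoh.restrictD j ⊣ DCoh.Rpush j, IsIso adjD.counit := by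
  obtain ⟨adjD, h⟩ := exists_derivedAdj (Scheme.Modules.restrictAdjunction j)
    (DCoh.Rpush j) (uC j)
  exact ⟨adjD, isIso_counit_of_isIso_counit (Scheme.Modules.restrictAdjunction j)
    (DCoh.Rpush j) (uC j) adjD h⟩

/-- If `E` vanishes on an open `W` whose complement lies in the image of `j`, then
`E ≅ Rj_* (j^* E)`. -/
theorem mem_essImage_Rpush_of_isZero_restrictD (W : Y.Opens)
    (hW : (W : Set Y)ᶜ ⊆ Set.range j) (E : DCoh.D Y)
    (hE : IsZero ((DCoh.restrictD W.ι).obj E)) : (DCoh.Rpush j).essImage E := by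
  obtain ⟨adjD, hε⟩ := exists_restrict_Rpush_adj_gen j
  haveI : DCoh.HasRpush (j ∣_ W) := hasRpush _
  have hiso : IsIso (adjD.unit.app E) := by
    refine isIso_of_restrictD_cover_gen j W.ι _ (fun y => ?_) ?_ ?_
    · by_cases hy : y ∈ W
      · exact Or.inr ⟨⟨y, hy⟩, rfl⟩
      · exact Or.inl (hW hy)
    · have h1 : (DCoh.restrictD j).map (adjD.unit.app E) ≫
          adjD.counit.app ((DCoh.restrictD j).obj E) = 𝟙 _ :=
        adjD.left_triangle_components E
      haveI : IsIso (adjD.counit.app ((DCoh.restrictD j).obj E)) := inferInstance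
      haveI : IsIso ((DCoh.restrictD j).map (adjD.unit.app E) ≫
          adjD.counit.app ((DCoh.restrictD j).obj E)) := by rw [h1]; infer_instance
      exact IsIso.of_isIso_comp_right _ (adjD.counit.app ((DCoh.restrictD j).obj E))
    · have h2 := isZero_restrictD_preimage j E W hE
      have htgt : IsZero ((DCoh.restrictD W.ι).obj
          ((DCoh.Rpush j).obj ((DCoh.restrictD j).obj E))) :=
        IsZero.of_iso (isZero_Rpush_obj (j ∣_ W) _ h2)
          ((restrictRpushIso j W).app ((DCoh.restrictD j).obj E))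
      exact ⟨0, hE.eq_of_src _ _, htgt.eq_of_src _ _⟩
  exact ⟨_, ⟨(asIso (adjD.unit.app E)).symm⟩⟩

/-- For any adjunction `j^* ⊣ Rj_*`, the counit is invertible. -/
theorem isIso_counit_app_of_adj (adj : DCoh.restrictD j ⊣ DCoh.Rpush j) (F : DCoh.D U) :
    IsIso (adj.counit.app F) := by
  obtain ⟨adjD, hε⟩ := exists_restrict_Rpush_adj_gen j
  haveI : (DCoh.Rpush j).Full := adjD.fullyFaithfulROfIsIsoCounit.full
  haveI : (DCoh.Rpush j).Faithful := adjD.fullyFaithfulROfIsIsoCounit.faithful
  infer_instance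

/-- For any adjunction `j^* ⊣ Rj_*`, the unit is invertible on objects vanishing on an open whose
complement lies in the image of `j`. -/
theorem isIso_unit_app_of_isZero_restrictD (adj : DCoh.restrictD j ⊣ DCoh.Rpush j) (W : Y.Opens)
    (hW : (W : Set Y)ᶜ ⊆ Set.range j) (E : DCoh.D Y)
    (hE : IsZero ((DCoh.restrictD W.ι).obj E)) : IsIso (adj.unit.app E) := by
  obtain ⟨adjD, hε⟩ := exists_restrict_Rpush_adj_gen j
  haveI : (DCoh.Rpush j).Full := adjD.fullyFaithfulROfIsIsoCounit.full
  haveI : (DCoh.Rpush j).Faithful := adjD.fullyFaithfulROfIsIsoCounit.faithful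
  exact (adj.isIso_unit_app_iff_mem_essImage).2
    (mem_essImage_Rpush_of_isZero_restrictD j W hW E hE)

end Derived

section RgammaZ

variable {Y : Scheme.{u}} (W : Y.Opens)

/-- Sections with support in the complement of `W` vanish on `W`. -/
theorem isZero_restrict_gammaZ (F : Y.Modules) :
    IsZero ((Scheme.Modules.restrictFunctor W.ι).obj ((DCoh.gammaZ W.ι).obj F)) := by
  haveI : IsIso ((Scheme.Modules.restrictFunctor W.ι).map
      ((Scheme.Modules.restrictAdjunction W.ι).unit.app F)) :=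
    Groth.Agent.H31.MV.isIso_restrict_η W W le_rfl F
  exact IsZero.of_iso (isZero_kernel_of_mono ((Scheme.Modules.restrictFunctor W.ι).map
      ((Scheme.Modules.restrictAdjunction W.ι).unit.app F)))
    (PreservesKernel.iso (Scheme.Modules.restrictFunctor W.ι)
      ((Scheme.Modules.restrictAdjunction W.ι).unit.app F))

variable [CxOX.HasRgammaZ W.ι]

/-- The unit of `RΓ_Z` on the level of complexes. -/
noncomputable abbrev uZ :
    (DCoh.gammaZ W.ι).mapHomologicalComplex (ComplexShape.up ℤ) ⋙ DerivedCategory.Q ⟶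
      DerivedCategory.Q ⋙ CxOX.RgammaZ W.ι :=
  unitC (DCoh.gammaZ W.ι) (CxOX.RgammaZ W.ι)
    ((CxOX.gammaZKh W.ι).totalRightDerivedUnit DerivedCategory.Qh
      (HomotopyCategory.quasiIso Y.Modules (ComplexShape.up ℤ)))

instance isRightDerivedFunctor_uZ : (CxOX.RgammaZ W.ι).IsRightDerivedFunctor (uZ W)
    (HomologicalComplex.quasiIso Y.Modules (ComplexShape.up ℤ)) :=
  isRightDerivedFunctor_unitC _ _ _

theorem isIso_uZ_app (I : CochainComplex Y.Modules ℤ) [I.IsKInjective] : IsIso ((uZ W).app I) :=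
  isIso_app_of_isKInjective _ (inverts_map_Q (DCoh.gammaZ W.ι)) (uZ W) I

/-- `RΓ_Z(G)` vanishes on the complement of `Z`. -/
theorem isZero_restrictD_RgammaZ (G : DCoh.D Y) :
    IsZero ((DCoh.restrictD W.ι).obj ((CxOX.RgammaZ W.ι).obj G)) := by
  obtain ⟨I, hK, -, ⟨eG⟩⟩ := Groth.Agent.H31.MV.exists_kinj_rep G
  haveI := hK
  haveI := isIso_uZ_app W I
  have e1 : (CxOX.RgammaZ W.ι).obj G ≅ DerivedCategory.Q.obj
      (((DCoh.gammaZ W.ι).mapHomologicalComplex (ComplexShape.up ℤ)).obj I) :=
    (CxOX.RgammaZ W.ι).mapIso eG ≪≫ (asIso ((uZ W).app I)).symm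
  have hz : IsZero (((Scheme.Modules.restrictFunctor W.ι).mapHomologicalComplex
      (ComplexShape.up ℤ)).obj
        (((DCoh.gammaZ W.ι).mapHomologicalComplex (ComplexShape.up ℤ)).obj I)) := by
    rw [IsZero.iff_id_eq_zero]
    apply HomologicalComplex.hom_ext
    intro n
    exact (isZero_restrict_gammaZ W (I.X n)).eq_of_src _ _
  exact IsZero.of_iso (DerivedCategory.Q.map_isZero hz)
    ((DCoh.restrictD W.ι).mapIso e1 ≪≫
      (Scheme.Modules.restrictFunctor W.ι).mapDerivedCategoryFactors.app _)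

end RgammaZ

end Groth.Agent.H31.OpenImmD
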