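import Mathlib
import Groth.Prelude.Def_CurvBase
import Groth.Agent.H14.NN.Defs

/-!
# (BCINJ) for S7889 (helper14): stalk maps of a base field extension are injective
-/

set_option autoImplicit false
set_option linter.style.haveILetI false
universe u
open CategoryTheory CategoryTheory.Limits AlgebraicGeometry

namespace Groth.Agent.H31.NN_BCINJ

/-- a flat morphism has injective stalk maps -/
theorem stalkMap_injective_of_flat {X Y : Scheme.{u}} (f : X ⟶ Y) [Flat f] (x : X) :
    Function.Injective (f.stalkMap x).hom := by
  letI : Algebra (Y.presheaf.stalk (f.base x)) (X.presheaf.stalk x) :=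
    (f.stalkMap x).hom.toAlgebra
  haveI : Module.Flat (Y.presheaf.stalk (f.base x)) (X.presheaf.stalk x) :=
    AlgebraicGeometry.Flat.stalkMap f x
  haveI : IsLocalHom (algebraMap (Y.presheaf.stalk (f.base x)) (X.presheaf.stalk x)) :=
    inferInstanceAs (IsLocalHom (f.stalkMap x).hom)
  haveI : Module.FaithfullyFlat (Y.presheaf.stalk (f.base x)) (X.presheaf.stalk x) :=
    Module.FaithfullyFlat.of_flat_of_isLocalHom
  exact FaithfulSMul.algebraMap_injective (Y.presheaf.stalk (f.base x)) (X.presheaf.stalk x)

theorem stalkMap_bcFst_injective (k : Type u) [Field k] (X : Scheme.{u})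
    [X.Over (Spec (CommRingCat.of k))]
    (K : Type u) [Field K] [Algebra k K] (xb : Curv2.bc k X K) :
    Function.Injective ((Curv2.bcFst k X K).stalkMap xb).hom := by
  haveI : Flat (Spec.map (CommRingCat.ofHom (algebraMap k K))) := by
    rw [Flat.SpecMap_iff]
    change (algebraMap k K).Flat
    rw [RingHom.flat_algebraMap_iff]
    infer_instance
  exact stalkMap_injective_of_flat (Curv2.bcFst k X K) xb

end Groth.Agent.H31.NN_BCINJ
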