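import Groth.Agent.H31.LocalD
import Groth.Agent.S1032
import Groth.Agent.S0476

/-!
# `Rj_*` and supports (helper31)

* `hasRpush f` : the total right derived functor of `f_*` exists.
* `isZero_Rpush_obj` : `Rf_*` preserves zero objects.
* `exists_restrict_Rpush_adj` : `(-)|_U ⊣ Rj_*` with invertible counit.
* `iso_Rpush_restrict_of_support`.
-/

set_option backward.isDefEq.respectTransparency false
set_option autoImplicit false
universe u
open CategoryTheory CategoryTheory.Limits AlgebraicGeometry TopologicalSpace Opposite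
attribute [local instance] HasDerivedCategory.standard

namespace Groth.Agent.H31.RpushSupport

open Groth.Agent.H5.KInjDer Groth.Agent.H31.Stalk Groth.Agent.H31.RpushRestrict
  Groth.Agent.H31.LocalD Groth.Agent.H40.StalkTensor Groth.Agent.H40.FlatBridge2

/-- The total right derived functor of `f_*` exists. -/
theorem hasRpush {X Y : Scheme.{u}} (f : X ⟶ Y) : DCoh.HasRpush f :=
  (Groth.Agent.S1032.result (A := X.Modules)
    (fun K => by
      obtain ⟨I, g, h1, h2, -, -⟩ := Groth.Agent.S0476.result K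
      exact ⟨I, g, h1, h2⟩) (DCoh.pushKh f)).1

/-- `Rf_*` preserves zero objects. -/
theorem isZero_Rpush_obj {X Y : Scheme.{u}} (f : X ⟶ Y) [DCoh.HasRpush f] (Z : DCoh.D X)
    (hZ : IsZero Z) : IsZero ((DCoh.Rpush f).obj Z) := by
  haveI := hasLpull f
  rw [IsZero.iff_id_eq_zero]
  apply ((LpullRpushAdj f).homEquiv _ _).symm.injective
  exact hZ.eq_of_tgt _ _

variable {X : Scheme.{u}} (U : X.Opens) [DCoh.HasRpush U.ι]

/-- The derived adjunction `(-)|_U ⊣ Rj_*`; its counit is invertible. -/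
theorem exists_restrict_Rpush_adj :
    ∃ adjD : DCoh.restrictD U.ι ⊣ DCoh.Rpush U.ι, IsIso adjD.counit := by
  obtain ⟨adjD, h⟩ := exists_derivedAdj (Scheme.Modules.restrictAdjunction U.ι)
    (DCoh.Rpush U.ι) (uC U.ι)
  exact ⟨adjD, isIso_counit_of_isIso_counit (Scheme.Modules.restrictAdjunction U.ι)
    (DCoh.Rpush U.ι) (uC U.ι) adjD h⟩

/-- If the cohomology sheaves of `E` are supported on a closed subset `T ⊆ U`, then
`E ≅ Rj_* (E|_U)`. -/
theorem iso_Rpush_restrict_of_support (T : Set X) (hT : IsClosed T) (hTU : T ⊆ (U : Set X))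
    (E : DCoh.D X) (hE : ∀ i : ℤ, CohB1.support (DCoh.HD E i) ⊆ T) :
    Nonempty (E ≅ (DCoh.Rpush U.ι).obj ((DCoh.restrictD U.ι).obj E)) := by
  obtain ⟨adjD, hε⟩ := exists_restrict_Rpush_adj U
  let W : X.Opens := ⟨Tᶜ, hT.isOpen_compl⟩
  have hUW : U ⊔ W = ⊤ := by
    ext x
    simp only [Opens.coe_sup, Opens.coe_top, Set.mem_union, Set.mem_univ, iff_true]
    by_cases hx : x ∈ T
    · exact Or.inl (hTU hx)
    · exact Or.inr hx
  haveI : DCoh.HasRpush (U.ι ∣_ W) := hasRpush _
  have hiso : IsIso (adjD.unit.app E) := by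
    refine isIso_of_restrictD_cover _ U W hUW ?_ ?_
    · have h1 : (DCoh.restrictD U.ι).map (adjD.unit.app E) ≫
          adjD.counit.app ((DCoh.restrictD U.ι).obj E) = 𝟙 _ :=
        adjD.left_triangle_components E
      haveI : IsIso (adjD.counit.app ((DCoh.restrictD U.ι).obj E)) := inferInstance
      haveI : IsIso ((DCoh.restrictD U.ι).map (adjD.unit.app E) ≫
          adjD.counit.app ((DCoh.restrictD U.ι).obj E)) := by rw [h1]; infer_instance
      exact IsIso.of_isIso_comp_right _ (adjD.counit.app ((DCoh.restrictD U.ι).obj E))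
    · have hW : ∀ x : W, W.ι x ∉ T := fun x => x.2
      have hsrc : IsZero ((DCoh.restrictD W.ι).obj E) :=
        isZero_restrictD_of_support E T hE W hW
      have h2 : IsZero ((DCoh.restrictD (U.ι ⁻¹ᵁ W).ι).obj ((DCoh.restrictD U.ι).obj E)) := by
        refine isZero_restrictD_of_support _ ((fun x : U => U.ι x) ⁻¹' T)
          (support_HD_restrictD E T hE U) _ (fun x => ?_)
        exact x.2
      have htgt : IsZero ((DCoh.restrictD W.ι).obj
          ((DCoh.Rpush U.ι).obj ((DCoh.restrictD U.ι).obj E))) :=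
        IsZero.of_iso (isZero_Rpush_obj (U.ι ∣_ W) _ h2)
          ((restrictRpushIso U.ι W).app ((DCoh.restrictD U.ι).obj E))
      exact ⟨0, hsrc.eq_of_src _ _, htgt.eq_of_src _ _⟩
  exact ⟨asIso (adjD.unit.app E)⟩


section ExtZero

omit [DCoh.HasRpush U.ι]

/-- A module all of whose sections vanish is zero. -/
theorem isZero_of_subsingleton_sections {Y : Scheme.{u}} (N : Y.Modules)
    (h : ∀ W : Y.Opens, Subsingleton Γ(N, W)) : IsZero N := by
  rw [IsZero.iff_id_eq_zero]
  apply Scheme.Modules.hom_ext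
  intro W
  haveI := h W
  ext s
  exact Subsingleton.elim _ _

/-- The restriction to `U` of a skyscraper at a point outside `U` vanishes. -/
theorem isZero_restrict_sky (x : X) (hx : x ∉ U) (P : ModuleCat.{u} (Rx (shX X).obj x)) :
    IsZero ((Scheme.Modules.restrictFunctor U.ι).obj ((skyF (shX X) x).obj P)) := by
  apply isZero_of_subsingleton_sections
  intro W
  haveI : IsEmpty (PLift (x ∈ U.ι ''ᵁ W)) := ⟨fun h => hx (U.ι_image_le W h.down)⟩
  show Subsingleton (PLift (x ∈ U.ι ''ᵁ W) → P)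
  infer_instance

/-- The stalks of `j_! G` vanish outside `U`. -/
theorem subsingleton_stalk_extZero (G : (U : Scheme.{u}).Modules) (x : X) (hx : x ∉ U) :
    Subsingleton (((CxOX.extZero U.ι).obj G).presheaf.stalk x) := by
  have hz : IsZero ((stk (shX X) x).obj ((CxOX.extZero U.ι).obj G)) := by
    rw [IsZero.iff_id_eq_zero]
    apply ((adj (shX X) x).homEquiv _ _).injective
    apply ((CxOX.extZeroAdj U.ι).homEquiv _ _).injective
    exact (isZero_restrict_sky U x hx _).eq_of_tgt _ _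
  refine ⟨fun a b => ?_⟩
  have h0 := (IsZero.iff_id_eq_zero _).1 hz
  have ha : ∀ c : ↑((stk (shX X) x).obj ((CxOX.extZero U.ι).obj G)), c = 0 := fun c => by
    have := congrArg (fun φ => (ModuleCat.Hom.hom φ) c) h0
    simpa using this
  exact (ha a).trans (ha b).symm

theorem subsingleton_stalk_congr {Y : Scheme.{u}} {M N : Y.Modules} (e : M ≅ N) (y : Y) :
    Subsingleton (M.presheaf.stalk y) ↔ Subsingleton (N.presheaf.stalk y) :=
  ((forget Ab.{u}).mapIso ((Scheme.Modules.toPresheaf Y ⋙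
    TopCat.Presheaf.stalkFunctor Ab.{u} y).mapIso e)).toEquiv.subsingleton_congr

/-- The unit of `j_! ⊣ j^*` is invertible. -/
instance isIso_extZeroAdj_unit : IsIso (CxOX.extZeroAdj U.ι).unit := by
  let t : Adjunction.Triple (CxOX.extZero U.ι) (Scheme.Modules.restrictFunctor U.ι)
      (Scheme.Modules.pushforward U.ι) :=
    ⟨CxOX.extZeroAdj U.ι, Scheme.Modules.restrictAdjunction U.ι⟩
  exact t.isIso_unit_iff_isIso_counit.2 (inferInstanceAs (IsIso
    (Scheme.Modules.restrictAdjunction U.ι).counit))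

/-- The support of `j_! G`. -/
theorem support_extZero (G : (U : Scheme.{u}).Modules) :
    CohB1.support ((CxOX.extZero U.ι).obj G) ⊆ (fun x : U => U.ι x) '' CohB1.support G := by
  intro x hx
  by_cases hxU : x ∈ U
  · refine ⟨⟨x, hxU⟩, ?_, rfl⟩
    intro hs
    apply hx
    have e : G ≅ ((CxOX.extZero U.ι).obj G).restrict U.ι :=
      asIso ((CxOX.extZeroAdj U.ι).unit.app G)
    exact (subsingleton_stalk_restrict_iff U _ ⟨x, hxU⟩).1
      ((subsingleton_stalk_congr e _).1 hs)
  · exact absurd (subsingleton_stalk_extZero U G x hxU) hx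

end ExtZero

/-- If the cohomology sheaves of `F ∈ D(O_U)` are supported on a subset `T ⊆ U` closed in `X`, then
`j_! F ≅ Rj_* F`. -/
theorem iso_extZeroD_Rpush_of_support [PreservesFiniteLimits (CxOX.extZero U.ι)]
    (T : Set X) (hT : IsClosed T) (hTU : T ⊆ (U : Set X)) (F : DCoh.D (U : Scheme.{u}))
    (hF : ∀ i : ℤ, (fun x : (U : Scheme.{u}) => U.ι x) '' CohB1.support (DCoh.HD F i) ⊆ T) :
    Nonempty ((CxOX.extZeroD U.ι).obj F ≅ (DCoh.Rpush U.ι).obj F) := by
  have hE : ∀ i : ℤ, CohB1.support (DCoh.HD ((CxOX.extZeroD U.ι).obj F) i) ⊆ T := fun i => by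
    have e : DCoh.HD ((CxOX.extZeroD U.ι).obj F) i ≅ (CxOX.extZero U.ι).obj (DCoh.HD F i) :=
      (mapDerivedCategoryHomologyIso (CxOX.extZero U.ι) i).app F
    intro x hx
    apply hF i
    apply support_extZero U (DCoh.HD F i)
    intro hs
    exact hx ((subsingleton_stalk_congr e x).2 hs)
  obtain ⟨e1⟩ := iso_Rpush_restrict_of_support U T hT hTU _ hE
  let K := DerivedCategory.Q.objPreimage F
  let eK : DerivedCategory.Q.obj K ≅ F := DerivedCategory.Q.objObjPreimageIso F
  have c : ((CxOX.extZero U.ι ⋙ Scheme.Modules.restrictFunctor U.ι).mapHomologicalComplex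
      (ComplexShape.up ℤ)).obj K ≅
      ((𝟭 (U : Scheme.{u}).Modules).mapHomologicalComplex (ComplexShape.up ℤ)).obj K :=
    (NatIso.mapHomologicalComplex (asIso (CxOX.extZeroAdj U.ι).unit).symm
      (ComplexShape.up ℤ)).app K
  have c' : ((Scheme.Modules.restrictFunctor U.ι).mapHomologicalComplex
      (ComplexShape.up ℤ)).obj (((CxOX.extZero U.ι).mapHomologicalComplex
      (ComplexShape.up ℤ)).obj K) ≅ K := c
  let e2 : (DCoh.restrictD U.ι).obj ((CxOX.extZeroD U.ι).obj F) ≅ F :=
    (DCoh.restrictD U.ι).mapIso ((CxOX.extZeroD U.ι).mapIso eK.symm) ≪≫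
    (DCoh.restrictD U.ι).mapIso ((CxOX.extZero U.ι).mapDerivedCategoryFactors.app K) ≪≫
    (Scheme.Modules.restrictFunctor U.ι).mapDerivedCategoryFactors.app _ ≪≫
    DerivedCategory.Q.mapIso c' ≪≫ eK
  exact ⟨e1 ≪≫ (DCoh.Rpush U.ι).mapIso e2⟩

end Groth.Agent.H31.RpushSupport
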