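import Groth.Agent.H31.MVApply
import Groth.Agent.H31.RpushSupport

/-!
# The Mayer–Vietoris sequence for extension by zero (helper31)

`0 → j_{W!} F|_W → j_{U!} F|_U ⊕ j_{V!} F|_V → F → 0` for `X = U ∪ V`, `W = U ∩ V`, and the associated
distinguished triangle in `D(O_X)`.
-/

set_option backward.isDefEq.respectTransparency false
set_option autoImplicit false
universe u
open CategoryTheory CategoryTheory.Limits AlgebraicGeometry TopologicalSpace Pretriangulated
attribute [local instance] HasDerivedCategory.standard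

namespace Groth.Agent.H31.MVS

open Groth.Agent.H31.MV Groth.Agent.H31.LocalD Groth.Agent.H31.RpushSupport

variable {X : Scheme.{u}}

section Stalks

/-- The stalk functor valued in abelian groups. -/
noncomputable abbrev sk (x : X) : X.Modules ⥤ Ab.{u} :=
  Scheme.Modules.toPresheaf X ⋙ TopCat.Presheaf.stalkFunctor Ab.{u} x

/-- A morphism of modules inducing isomorphisms on all stalks is an isomorphism. -/
theorem isIso_of_stalks {M N : X.Modules} (φ : M ⟶ N) (h : ∀ x : X, IsIso ((sk x).map φ)) :
    IsIso φ := by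
  let F : TopCat.Sheaf Ab.{u} X := ⟨M.presheaf, M.isSheaf⟩
  let G : TopCat.Sheaf Ab.{u} X := ⟨N.presheaf, N.isSheaf⟩
  let f : F ⟶ G := ⟨(Scheme.Modules.toPresheaf X).map φ⟩
  haveI : ∀ x : X, IsIso ((TopCat.Presheaf.stalkFunctor Ab.{u} x).map f.1) := h
  haveI : IsIso f := TopCat.Presheaf.isIso_of_stalkFunctor_map_iso f
  haveI : IsIso ((Scheme.Modules.toPresheaf X).map φ) :=
    inferInstanceAs (IsIso ((TopCat.Sheaf.forget Ab.{u} X).map f))
  exact isIso_of_reflects_iso φ (Scheme.Modules.toPresheaf X)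

theorem isIso_stalk_of_isIso_restrict (U : X.Opens) {M N : X.Modules} (φ : M ⟶ N)
    (h : IsIso ((Scheme.Modules.restrictFunctor U.ι).map φ)) (x : X) (hx : x ∈ U) :
    IsIso ((sk x).map φ) := by
  have e := Scheme.Modules.restrictStalkNatIso U.ι (⟨x, hx⟩ : U)
  have h1 : IsIso ((Scheme.Modules.restrictFunctor U.ι ⋙ Scheme.Modules.toPresheaf _ ⋙
      TopCat.Presheaf.stalkFunctor _ (⟨x, hx⟩ : U)).map φ) := by
    show IsIso ((Scheme.Modules.toPresheaf (U : Scheme.{u}) ⋙
      TopCat.Presheaf.stalkFunctor Ab.{u} (⟨x, hx⟩ : U)).map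
      ((Scheme.Modules.restrictFunctor U.ι).map φ))
    infer_instance
  exact (NatIso.isIso_map_iff e φ).1 h1

theorem isIso_restrict_of_stalks (U : X.Opens) {M N : X.Modules} (φ : M ⟶ N)
    (h : ∀ x ∈ U, IsIso ((sk x).map φ)) :
    IsIso ((Scheme.Modules.restrictFunctor U.ι).map φ) := by
  refine isIso_of_stalks _ (fun x => ?_)
  have e := Scheme.Modules.restrictStalkNatIso U.ι x
  exact (NatIso.isIso_map_iff e φ).2 (h x.1 x.2)

theorem isIso_of_subsingleton {A B : Ab.{u}} (f : A ⟶ B) (hA : Subsingleton A)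
    (hB : Subsingleton B) : IsIso f := by
  have hA' : IsZero A := AddCommGrpCat.isZero_of_subsingleton A
  have hB' : IsZero B := AddCommGrpCat.isZero_of_subsingleton B
  exact ⟨⟨0, hA'.eq_of_src _ _, hB'.eq_of_src _ _⟩⟩

end Stalks

section Counit

/-- `j_! j^*`. -/
noncomputable abbrev S (U : X.Opens) : X.Modules ⥤ X.Modules :=
  Scheme.Modules.restrictFunctor U.ι ⋙ CxOX.extZero U.ι

/-- The counit `j_! j^* ⟶ 𝟭`. -/
noncomputable abbrev ε (U : X.Opens) : S U ⟶ 𝟭 X.Modules := (CxOX.extZeroAdj U.ι).counit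

theorem isIso_restrict_ε (U : X.Opens) (F : X.Modules) :
    IsIso ((Scheme.Modules.restrictFunctor U.ι).map ((ε U).app F)) := by
  have h := (CxOX.extZeroAdj U.ι).right_triangle_components F
  haveI : IsIso ((CxOX.extZeroAdj U.ι).unit.app ((Scheme.Modules.restrictFunctor U.ι).obj F)) :=
    inferInstance
  exact IsIso.of_isIso_fac_left h

theorem isIso_sk_ε (U : X.Opens) (F : X.Modules) (x : X) (hx : x ∈ U) :
    IsIso ((sk x).map ((ε U).app F)) :=
  isIso_stalk_of_isIso_restrict U _ (isIso_restrict_ε U F) x hx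

theorem subsingleton_sk_extZero (U : X.Opens) (G : (U : Scheme.{u}).Modules) (x : X) (hx : x ∉ U) :
    Subsingleton ((sk x).obj ((CxOX.extZero U.ι).obj G)) :=
  subsingleton_stalk_extZero U G x hx

theorem isIso_ε_extZero (U W : X.Opens) (h : W ≤ U) (G : (W : Scheme.{u}).Modules) :
    IsIso ((ε U).app ((CxOX.extZero W.ι).obj G)) := by
  refine isIso_of_stalks _ (fun x => ?_)
  by_cases hx : x ∈ U
  · exact isIso_sk_ε U _ x hx
  · exact isIso_of_subsingleton _ (subsingleton_sk_extZero U _ x hx)
      (subsingleton_sk_extZero W G x (fun hW => hx (h hW)))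

variable (U W : X.Opens) (h : W ≤ U)

/-- `j_{W!} F|_W ⟶ j_{U!} F|_U` for `W ≤ U`. -/
noncomputable def lam : S W ⟶ S U where
  app F := @inv _ _ _ _ ((ε U).app ((S W).obj F)) (isIso_ε_extZero U W h _) ≫
    (S U).map ((ε W).app F)
  naturality F F' φ := by
    haveI : IsIso ((ε U).app ((S W).obj F)) := isIso_ε_extZero U W h _
    haveI : IsIso ((ε U).app ((S W).obj F')) := isIso_ε_extZero U W h _
    have h1 : (S U).map ((S W).map φ) ≫ (ε U).app ((S W).obj F') =
        (ε U).app ((S W).obj F) ≫ (S W).map φ := (ε U).naturality ((S W).map φ)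
    have h2 : (S U).map ((ε W).app F) ≫ (S U).map φ =
        (S U).map ((S W).map φ) ≫ (S U).map ((ε W).app F') := by
      rw [← (S U).map_comp, ← (S U).map_comp]
      exact congrArg (S U).map ((ε W).naturality φ).symm
    have h3 : inv ((ε U).app ((S W).obj F)) ≫ (S U).map ((S W).map φ) =
        (S W).map φ ≫ inv ((ε U).app ((S W).obj F')) := by
      rw [IsIso.inv_comp_eq, ← Category.assoc, ← h1, Category.assoc, IsIso.hom_inv_id,
        Category.comp_id]
    show (S W).map φ ≫ inv ((ε U).app ((S W).obj F')) ≫ (S U).map ((ε W).app F') =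
      (inv ((ε U).app ((S W).obj F)) ≫ (S U).map ((ε W).app F)) ≫ (S U).map φ
    rw [Category.assoc, h2, ← Category.assoc, ← Category.assoc, h3]

theorem lam_ε (F : X.Modules) : (lam U W h).app F ≫ (ε U).app F = (ε W).app F := by
  haveI : IsIso ((ε U).app ((S W).obj F)) := isIso_ε_extZero U W h _
  have h1 : (S U).map ((ε W).app F) ≫ (ε U).app F = (ε U).app ((S W).obj F) ≫ (ε W).app F :=
    (ε U).naturality ((ε W).app F)
  show (inv ((ε U).app ((S W).obj F)) ≫ (S U).map ((ε W).app F)) ≫ (ε U).app F = _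
  rw [Category.assoc, h1, IsIso.inv_hom_id_assoc]

end Counit

section Seq

variable (U V : X.Opens)

/-- `F ↦ j_{U!} F|_U ⊞ j_{V!} F|_V`. -/
noncomputable def Bs : X.Modules ⥤ X.Modules where
  obj F := (S U).obj F ⊞ (S V).obj F
  map φ := biprod.map ((S U).map φ) ((S V).map φ)
  map_id F := by
    apply biprod.hom_ext <;> simp
  map_comp φ ψ := by
    apply biprod.hom_ext <;> simp

instance Bs_additive : (Bs U V).Additive where
  map_add {F G φ ψ} := by
    show biprod.map ((S U).map (φ + ψ)) ((S V).map (φ + ψ)) =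
      biprod.map ((S U).map φ) ((S V).map φ) + biprod.map ((S U).map ψ) ((S V).map ψ)
    apply biprod.hom_ext <;> simp [Functor.map_add]

noncomputable def fstS : Bs U V ⟶ S U where
  app F := biprod.fst
  naturality _ _ φ := by simp [Bs]

noncomputable def sndS : Bs U V ⟶ S V where
  app F := biprod.snd
  naturality _ _ φ := by simp [Bs]

noncomputable def inlS : S U ⟶ Bs U V where
  app F := biprod.inl
  naturality _ _ φ := by simp [Bs]

noncomputable def inrS : S V ⟶ Bs U V where
  app F := biprod.inr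
  naturality _ _ φ := by simp [Bs]

/-- `j_{W!} F|_W ⟶ j_{U!} F|_U ⊞ j_{V!} F|_V`. -/
noncomputable def aS : S (U ⊓ V) ⟶ Bs U V where
  app F := biprod.lift ((lam U (U ⊓ V) inf_le_left).app F) (-(lam V (U ⊓ V) inf_le_right).app F)
  naturality F F' φ := by
    apply biprod.hom_ext
    · simpa [Bs] using (lam U (U ⊓ V) inf_le_left).naturality φ
    · simpa [Bs] using (lam V (U ⊓ V) inf_le_right).naturality φ

/-- `j_{U!} F|_U ⊞ j_{V!} F|_V ⟶ F`. -/
noncomputable def bS : Bs U V ⟶ 𝟭 X.Modules where
  app F := biprod.desc ((ε U).app F) ((ε V).app F)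
  naturality F F' φ := by
    apply biprod.hom_ext'
    · simp [Bs]
    · simp [Bs]

theorem aS_bS (F : X.Modules) : (aS U V).app F ≫ (bS U V).app F = 0 := by
  show biprod.lift ((lam U (U ⊓ V) inf_le_left).app F) (-(lam V (U ⊓ V) inf_le_right).app F) ≫
    biprod.desc ((ε U).app F) ((ε V).app F) = 0
  rw [biprod.lift_desc, Preadditive.neg_comp, lam_ε, lam_ε, add_neg_cancel]

/-- The Mayer–Vietoris short complex for extension by zero. -/
noncomputable def MVSsc (F : X.Modules) : ShortComplex X.Modules :=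
  ShortComplex.mk ((aS U V).app F) ((bS U V).app F) (aS_bS U V F)

theorem isIso_sk_lam (U W : X.Opens) (h : W ≤ U) (F : X.Modules) (x : X) (hx : x ∈ W ∨ x ∉ U) :
    IsIso ((sk x).map ((lam U W h).app F)) := by
  rcases hx with hx | hx
  · haveI := isIso_sk_ε U F x (h hx)
    haveI : IsIso ((sk x).map ((lam U W h).app F) ≫ (sk x).map ((ε U).app F)) := by
      rw [← Functor.map_comp, lam_ε]
      exact isIso_sk_ε W F x hx
    exact IsIso.of_isIso_comp_right _ ((sk x).map ((ε U).app F))
  · exact isIso_of_subsingleton _ (subsingleton_sk_extZero W _ x (fun hW => hx (h hW)))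
      (subsingleton_sk_extZero U _ x hx)

theorem isIso_restrict_lam_right (F : X.Modules) :
    IsIso ((Scheme.Modules.restrictFunctor U.ι).map ((lam V (U ⊓ V) inf_le_right).app F)) := by
  refine isIso_restrict_of_stalks U _ (fun x hx => isIso_sk_lam V (U ⊓ V) inf_le_right F x ?_)
  by_cases hV : x ∈ V
  · exact Or.inl ⟨hx, hV⟩
  · exact Or.inr hV

theorem isIso_restrict_lam_left (F : X.Modules) :
    IsIso ((Scheme.Modules.restrictFunctor V.ι).map ((lam U (U ⊓ V) inf_le_left).app F)) := by
  refine isIso_restrict_of_stalks V _ (fun x hx => isIso_sk_lam U (U ⊓ V) inf_le_left F x ?_)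
  by_cases hU : x ∈ U
  · exact Or.inl ⟨hU, hx⟩
  · exact Or.inr hU

/-- The Mayer–Vietoris sequence `0 → j_{W!}F|_W → j_{U!}F|_U ⊕ j_{V!}F|_V → F → 0` is exact. -/
theorem MVS_shortExact (hUV : U ⊔ V = ⊤) (F : X.Modules) : (MVSsc U V F).ShortExact := by
  refine shortExact_of_cover _ U V hUV ?_ ?_
  · let R := Scheme.Modules.restrictFunctor U.ι
    refine shortExact_of_biproduct_isos ((MVSsc U V F).map R) (R.map biprod.inr)
      (R.map biprod.inl) (R.map biprod.snd) (R.map biprod.fst) ?_ ?_ ?_
    · rw [← R.map_comp, ← R.map_comp, ← R.map_add, add_comm, biprod.total]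
      exact R.map_id _
    · have h1 : ((MVSsc U V F).map R).f ≫ R.map biprod.snd =
          -R.map ((lam V (U ⊓ V) inf_le_right).app F) := by
        show R.map _ ≫ R.map _ = _
        rw [← R.map_comp, ← R.map_neg]
        exact congrArg R.map (biprod.lift_snd _ _)
      rw [h1]
      haveI := isIso_restrict_lam_right U V F
      exact isIso_neg' _
    · have h1 : R.map biprod.inl ≫ ((MVSsc U V F).map R).g = R.map ((ε U).app F) := by
        show R.map _ ≫ R.map _ = _
        rw [← R.map_comp]
        exact congrArg R.map (biprod.inl_desc _ _)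
      rw [h1]
      exact isIso_restrict_ε U F
  · let R := Scheme.Modules.restrictFunctor V.ι
    refine shortExact_of_biproduct_isos ((MVSsc U V F).map R) (R.map biprod.inl)
      (R.map biprod.inr) (R.map biprod.fst) (R.map biprod.snd) ?_ ?_ ?_
    · rw [← R.map_comp, ← R.map_comp, ← R.map_add, biprod.total]
      exact R.map_id _
    · have h1 : ((MVSsc U V F).map R).f ≫ R.map biprod.fst =
          R.map ((lam U (U ⊓ V) inf_le_left).app F) := by
        show R.map _ ≫ R.map _ = _
        rw [← R.map_comp]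
        exact congrArg R.map (biprod.lift_fst _ _)
      rw [h1]
      exact isIso_restrict_lam_left U V F
    · have h1 : R.map biprod.inr ≫ ((MVSsc U V F).map R).g = R.map ((ε V).app F) := by
        show R.map _ ≫ R.map _ = _
        rw [← R.map_comp]
        exact congrArg R.map (biprod.inr_desc _ _)
      rw [h1]
      exact isIso_restrict_ε V F

end Seq

section Triangle

variable (U V : X.Opens) (K : CochainComplex X.Modules ℤ)

noncomputable abbrev Sc (W : X.Opens) : CochainComplex X.Modules ℤ ⥤ CochainComplex X.Modules ℤ :=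
  (S W).mapHomologicalComplex (ComplexShape.up ℤ)

noncomputable abbrev Bsc : CochainComplex X.Modules ℤ ⥤ CochainComplex X.Modules ℤ :=
  (Bs U V).mapHomologicalComplex (ComplexShape.up ℤ)

noncomputable abbrev Idc : CochainComplex X.Modules ℤ ⥤ CochainComplex X.Modules ℤ :=
  (𝟭 X.Modules).mapHomologicalComplex (ComplexShape.up ℤ)

noncomputable def aSC : (Sc (U ⊓ V)).obj K ⟶ (Bsc U V).obj K :=
  (NatTrans.mapHomologicalComplex (aS U V) (ComplexShape.up ℤ)).app K

noncomputable def bSC : (Bsc U V).obj K ⟶ Idc.obj K :=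
  (NatTrans.mapHomologicalComplex (bS U V) (ComplexShape.up ℤ)).app K

theorem aSC_bSC : aSC U V K ≫ bSC U V K = 0 := by
  apply HomologicalComplex.hom_ext
  intro n
  exact aS_bS U V (K.X n)

/-- The short complex of complexes. -/
noncomputable def MVScx : ShortComplex (CochainComplex X.Modules ℤ) :=
  ShortComplex.mk (aSC U V K) (bSC U V K) (aSC_bSC U V K)

theorem MVScx_shortExact (hUV : U ⊔ V = ⊤) : (MVScx U V K).ShortExact := by
  refine HomologicalComplex.shortExact_of_degreewise_shortExact _ (fun n => ?_)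
  exact MVS_shortExact U V hUV (K.X n)

/-- The middle term is a biproduct in the derived category. -/
noncomputable def middleIsoS :
    DerivedCategory.Q.obj ((Bsc U V).obj K) ≅
      DerivedCategory.Q.obj ((Sc U).obj K) ⊞ DerivedCategory.Q.obj ((Sc V).obj K) :=
  let FF : CochainComplex X.Modules ℤ ⥤ DerivedCategory X.Modules := DerivedCategory.Q
  let b : BinaryBicone (FF.obj ((Sc U).obj K)) (FF.obj ((Sc V).obj K)) :=
    { pt := FF.obj ((Bsc U V).obj K)
      fst := FF.map ((NatTrans.mapHomologicalComplex (fstS U V) (ComplexShape.up ℤ)).app K)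
      snd := FF.map ((NatTrans.mapHomologicalComplex (sndS U V) (ComplexShape.up ℤ)).app K)
      inl := FF.map ((NatTrans.mapHomologicalComplex (inlS U V) (ComplexShape.up ℤ)).app K)
      inr := FF.map ((NatTrans.mapHomologicalComplex (inrS U V) (ComplexShape.up ℤ)).app K)
      inl_fst := by
        rw [← FF.map_comp, ← FF.map_id]
        congr 1
        apply HomologicalComplex.hom_ext
        intro n
        exact biprod.inl_fst
      inl_snd := by
        rw [← FF.map_comp, ← FF.map_zero]
        congr 1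
        apply HomologicalComplex.hom_ext
        intro n
        exact biprod.inl_snd
      inr_fst := by
        rw [← FF.map_comp, ← FF.map_zero]
        congr 1
        apply HomologicalComplex.hom_ext
        intro n
        exact biprod.inr_fst
      inr_snd := by
        rw [← FF.map_comp, ← FF.map_id]
        congr 1
        apply HomologicalComplex.hom_ext
        intro n
        exact biprod.inr_snd }
  have hb : b.IsBilimit := isBinaryBilimitOfTotal b (by
    show FF.map _ ≫ FF.map _ + FF.map _ ≫ FF.map _ = 𝟙 _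
    rw [← FF.map_comp, ← FF.map_comp, ← FF.map_add, ← FF.map_id]
    congr 1
    apply HomologicalComplex.hom_ext
    intro n
    exact biprod.total)
  biprod.uniqueUpToIso _ _ hb

/-- `Q(j_! (K|_W)) ≅ j_!(E|_W)`. -/
noncomputable def vertexIso (W : X.Opens) [PreservesFiniteLimits (CxOX.extZero W.ι)]
    (E : DCoh.D X) (eE : E ≅ DerivedCategory.Q.obj K) :
    DerivedCategory.Q.obj ((Sc W).obj K) ≅
      (CxOX.extZeroD W.ι).obj ((DCoh.restrictD W.ι).obj E) :=
  let J := ((Scheme.Modules.restrictFunctor W.ι).mapHomologicalComplex (ComplexShape.up ℤ)).obj K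
  (((CxOX.extZero W.ι).mapDerivedCategoryFactors.app J).symm :
      DerivedCategory.Q.obj ((Sc W).obj K) ≅ (CxOX.extZeroD W.ι).obj (DerivedCategory.Q.obj J)) ≪≫
    (CxOX.extZeroD W.ι).mapIso
      (((Scheme.Modules.restrictFunctor W.ι).mapDerivedCategoryFactors.app K).symm ≪≫
        (DCoh.restrictD W.ι).mapIso eE.symm)

/-- The Mayer–Vietoris distinguished triangle for extension by zero. -/
theorem exists_MVS_triangle (hUV : U ⊔ V = ⊤)
    [PreservesFiniteLimits (CxOX.extZero U.ι)] [PreservesFiniteLimits (CxOX.extZero V.ι)]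
    [PreservesFiniteLimits (CxOX.extZero (U ⊓ V).ι)] (E : DCoh.D X) :
    ∃ (a : (CxOX.extZeroD (U ⊓ V).ι).obj ((DCoh.restrictD (U ⊓ V).ι).obj E) ⟶
          ((CxOX.extZeroD U.ι).obj ((DCoh.restrictD U.ι).obj E) ⊞
            (CxOX.extZeroD V.ι).obj ((DCoh.restrictD V.ι).obj E)))
      (b : ((CxOX.extZeroD U.ι).obj ((DCoh.restrictD U.ι).obj E) ⊞
            (CxOX.extZeroD V.ι).obj ((DCoh.restrictD V.ι).obj E)) ⟶ E)
      (c : E ⟶ ((CxOX.extZeroD (U ⊓ V).ι).obj ((DCoh.restrictD (U ⊓ V).ι).obj E))⟦(1 : ℤ)⟧),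
      Triangle.mk a b c ∈ distTriang (DCoh.D X) := by
  let K := DerivedCategory.Q.objPreimage E
  have eE : E ≅ DerivedCategory.Q.obj K := (DerivedCategory.Q.objObjPreimageIso E).symm
  have hS := MVScx_shortExact U V K hUV
  exact exists_triangle_of_isos _ _ _ (DerivedCategory.triangleOfSES_distinguished hS)
    (vertexIso K (U ⊓ V) E eE)
    (middleIsoS U V K ≪≫ biprod.mapIso (vertexIso K U E eE) (vertexIso K V E eE))
    (DerivedCategory.Q.mapIso
      ((Functor.mapHomologicalComplexIdIso X.Modules (ComplexShape.up ℤ)).app K) ≪≫ eE.symm)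

end Triangle

end Groth.Agent.H31.MVS
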