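import Groth.Agent.H31.KFlatSite
import Groth.Prelude.Def_DCoh4

/-!
# K-flat complexes on schemes (helper31 library)
-/

set_option autoImplicit false
universe u
open CategoryTheory CategoryTheory.Limits HomologicalComplex AlgebraicGeometry

namespace Groth.Agent.H31.KFlatSch

open Groth.Agent.H31.KFlat

variable {X : Scheme.{u}}

instance (ι : Type) : HasExactColimitsOfShape (Discrete ι) X.Modules :=
  hasExactColimitsOfShape_discrete_sheafOfModules (Opens.grothendieckTopology X) X.ringCatSheaf ι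

theorem isKFlat_iff (K : CochainComplex X.Modules ℤ) :
    DCoh.IsKFlat K ↔ ∀ L : CochainComplex X.Modules ℤ, L.Acyclic →
      (mapBifunctor L K (DCoh.tensorBi (X := X)) (ComplexShape.up ℤ)).Acyclic :=
  forall_congr' fun L => by
    rw [acyclic_iff_forall_isZero_homology, acyclic_iff_forall_isZero_homology]
    rfl

theorem quasiIso_tensor_of_isKFlat (K : CochainComplex X.Modules ℤ) (hK : DCoh.IsKFlat K)
    {F F' : CochainComplex X.Modules ℤ} (φ : F ⟶ F') [QuasiIso φ] :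
    QuasiIso (mapBifunctorMap φ (𝟙 K) (DCoh.tensorBi (X := X)) (ComplexShape.up ℤ)) :=
  quasiIso_mapBifunctorMap_left (DCoh.tensorBi (X := X)) φ K
    ((isKFlat_iff K).1 hK _ ((quasiIso_iff_acyclic_mappingCone φ).1 inferInstance))

theorem isKFlat_mappingCone {K₁ K₂ : CochainComplex X.Modules ℤ} (φ : K₁ ⟶ K₂) :
    (DCoh.IsKFlat K₁ → DCoh.IsKFlat K₂ → DCoh.IsKFlat (CochainComplex.mappingCone φ)) ∧
    (DCoh.IsKFlat K₁ → DCoh.IsKFlat (CochainComplex.mappingCone φ) → DCoh.IsKFlat K₂) ∧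
    (DCoh.IsKFlat K₂ → DCoh.IsKFlat (CochainComplex.mappingCone φ) → DCoh.IsKFlat K₁) := by
  have key := fun L => acyclic_mappingCone_right (DCoh.tensorBi (X := X)) L φ
  simp only [isKFlat_iff]
  exact ⟨fun h₁ h₂ L hL => (key L).1 (h₁ L hL) (h₂ L hL),
    fun h₁ h₃ L hL => (key L).2.1 (h₁ L hL) (h₃ L hL),
    fun h₂ h₃ L hL => (key L).2.2 (h₂ L hL) (h₃ L hL)⟩

end Groth.Agent.H31.KFlatSch
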