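import Groth.Agent.H31.StalkTensorIso
import Groth.Agent.H31.KFlatRing
import Groth.Agent.H31.KFlatSch
import Groth.Prelude.Def_DerSch

/-!
# K-flatness is stalkwise (helper31 library)

* `isKFlat_iff_stalk` : on a ringed space, a complex of `O`-modules is K-flat iff all its stalk
  complexes are K-flat over the stalks of `O`.
* `stalkFunctorIso` : the prelude's `DerSch.stalkFunctor X x` is `stk X.sheaf x`.
* `isKFlat_iff_stalk_sch` : the scheme version, in the prelude's words.
-/

set_option autoImplicit false
set_option backward.isDefEq.respectTransparency false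
universe u
open CategoryTheory CategoryTheory.Limits Opposite TopologicalSpace MonoidalCategory
  HomologicalComplex AlgebraicGeometry

namespace Groth.Agent.H31.Stalk

open Groth.Agent.H31 Groth.Agent.H40.StalkTensor Groth.Agent.H40.FlatBridge2

section Space

variable {X : TopCat.{u}} (O : Sheaf (Opens.grothendieckTopology X) CommRingCat.{u}) (x : X)

/-- The stalk functor commutes with the total tensor product of complexes. -/
noncomputable def stkTotIso (L K : CochainComplex (ModSite.Mod O) ℤ) :
    ((stk O x).mapHomologicalComplex (ComplexShape.up ℤ)).obj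
        (mapBifunctor L K (ModSite.tensorBi O) (ComplexShape.up ℤ)) ≅
      mapBifunctor (((stk O x).mapHomologicalComplex (ComplexShape.up ℤ)).obj L)
        (((stk O x).mapHomologicalComplex (ComplexShape.up ℤ)).obj K)
        (curriedTensor (ModuleCat.{u} (Rx O.obj x))) (ComplexShape.up ℤ) :=
  KFlat.totIso (ModSite.tensorBi O) (curriedTensor (ModuleCat.{u} (Rx O.obj x))) (stk O x) L K
    (((stk O x).mapHomologicalComplex (ComplexShape.up ℤ)).obj L)
    (((stk O x).mapHomologicalComplex (ComplexShape.up ℤ)).obj K)
    (fun p q => τ O x (L.X p) (K.X q))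
    (fun p q => τ_natural_left O x (L.d p (p + 1)) (K.X q))
    (fun p q => τ_natural_right O x (L.X p) (K.d q (q + 1)))

/-- The stalk of `sky P ⊗ N`. -/
noncomputable def τsky (P : ModuleCat.{u} (Rx O.obj x)) (N : ModSite.Mod O) :
    (stk O x).obj (((ModSite.tensorBi O).obj ((skyF O x).obj P)).obj N) ≅ P ⊗ (stk O x).obj N :=
  τ O x ((skyF O x).obj P) N ≪≫
    whiskerRightIso (asIso ((adj O x).counit.app P)) ((stk O x).obj N)

theorem τsky_natural_left {P P' : ModuleCat.{u} (Rx O.obj x)} (f : P ⟶ P') (N : ModSite.Mod O) :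
    (stk O x).map (((ModSite.tensorBi O).map ((skyF O x).map f)).app N) ≫ (τsky O x P' N).hom =
      (τsky O x P N).hom ≫ (f ▷ (stk O x).obj N) := by
  simp only [τsky, Iso.trans_hom, whiskerRightIso_hom, asIso_hom]
  rw [← Category.assoc, τ_natural_left, Category.assoc, Category.assoc, ← comp_whiskerRight,
    ← comp_whiskerRight]
  have h : (stk O x).map ((skyF O x).map f) ≫ (adj O x).counit.app P' =
      (adj O x).counit.app P ≫ f := (adj O x).counit.naturality f
  rw [h]

theorem τsky_natural_right (P : ModuleCat.{u} (Rx O.obj x)) {N N' : ModSite.Mod O} (g : N ⟶ N') :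
    (stk O x).map (((ModSite.tensorBi O).obj ((skyF O x).obj P)).map g) ≫ (τsky O x P N').hom =
      (τsky O x P N).hom ≫ (P ◁ (stk O x).map g) := by
  simp only [τsky, Iso.trans_hom, whiskerRightIso_hom, asIso_hom]
  rw [← Category.assoc, τ_natural_right, Category.assoc, Category.assoc, whisker_exchange]
  rfl

/-- The stalk of `Tot (sky P ⊗ K)`. -/
noncomputable def stkSkyTotIso (P : CochainComplex (ModuleCat.{u} (Rx O.obj x)) ℤ)
    (K : CochainComplex (ModSite.Mod O) ℤ) :
    ((stk O x).mapHomologicalComplex (ComplexShape.up ℤ)).obj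
        (mapBifunctor (((skyF O x).mapHomologicalComplex (ComplexShape.up ℤ)).obj P) K
          (ModSite.tensorBi O) (ComplexShape.up ℤ)) ≅
      mapBifunctor P (((stk O x).mapHomologicalComplex (ComplexShape.up ℤ)).obj K)
        (curriedTensor (ModuleCat.{u} (Rx O.obj x))) (ComplexShape.up ℤ) :=
  KFlat.totIso (ModSite.tensorBi O) (curriedTensor (ModuleCat.{u} (Rx O.obj x))) (stk O x)
    (((skyF O x).mapHomologicalComplex (ComplexShape.up ℤ)).obj P) K P
    (((stk O x).mapHomologicalComplex (ComplexShape.up ℤ)).obj K)
    (fun p q => τsky O x (P.X p) (K.X q))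
    (fun p q => τsky_natural_left O x (P.d p (p + 1)) (K.X q))
    (fun p q => τsky_natural_right O x (P.X p) (K.d q (q + 1)))

variable {O} in
/-- K-flatness of a complex of modules on a ringed space can be checked on stalks. -/
theorem isKFlat_iff_stalk (K : CochainComplex (ModSite.Mod O) ℤ) :
    ModSite.IsKFlat K ↔ ∀ x : X, DRing.IsKFlat (Rx O.obj x)
      (((stk O x).mapHomologicalComplex (ComplexShape.up ℤ)).obj K) := by
  rw [KFlat.isKFlat_iff]
  constructor
  · intro hK x
    rw [KFlatRing.isKFlat_iff]
    intro P hP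
    have h1 := hK _ (acyclic_skyF O x P hP)
    have h2 := acyclic_stk O x _ h1
    exact KFlat.acyclic_of_iso (stkSkyTotIso O x P K) h2
  · intro h L hL
    apply acyclic_of_stk
    intro x
    have h1 := (KFlatRing.isKFlat_iff _).1 (h x) _ (acyclic_stk O x L hL)
    exact KFlat.acyclic_of_iso (stkTotIso O x L K).symm h1

end Space

section Ring

variable {R : Type u} [CommRing R]

theorem DRing_isKFlat_of_iso {K K' : DRing.Cx R} (e : K ≅ K') (h : DRing.IsKFlat R K) :
    DRing.IsKFlat R K' := by
  rw [KFlatRing.isKFlat_iff] at h ⊢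
  intro L hL
  exact KFlat.acyclic_of_iso
    (((curriedTensor (ModuleCat.{u} R)).map₂CochainComplex.obj L).mapIso e) (h L hL)

end Ring

section Scheme

/-- The structure sheaf of a scheme, typed as a sheaf for the Grothendieck topology of opens. -/
abbrev shX (X : Scheme.{u}) : Sheaf (Opens.grothendieckTopology X) CommRingCat.{u} := X.sheaf

variable (X : Scheme.{u}) (x : X)

/-- The prelude's stalk functor is the stalk functor of this library. -/
noncomputable def stalkFunctorIso : DerSch.stalkFunctor X x ≅ stk (shX X) x :=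
  NatIso.ofComponents (fun M => Iso.refl _) (by
    intro M N φ
    exact (Category.comp_id _).trans (Category.id_comp _).symm)

variable {X} in
theorem isKFlat_iff_stalk_sch (F : CochainComplex X.Modules ℤ) :
    DCoh.IsKFlat F ↔ ∀ x : X, DRing.IsKFlat (X.presheaf.stalk x)
      (((DerSch.stalkFunctor X x).mapHomologicalComplex (ComplexShape.up ℤ)).obj F) := by
  have h0 : DCoh.IsKFlat F ↔ ModSite.IsKFlat (O := shX X) F := Iff.rfl
  rw [h0, isKFlat_iff_stalk]
  refine forall_congr' (fun x => ?_)
  have inst : Functor.Additive (C := X.Modules) (D := ModuleCat.{u} (X.presheaf.stalk x))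
    (stk (shX X) x) := stk_additive (shX X) x
  have e := (NatIso.mapHomologicalComplex (stalkFunctorIso X x) (ComplexShape.up ℤ)).app F
  exact ⟨fun h => DRing_isKFlat_of_iso (R := X.presheaf.stalk x) e.symm h,
    fun h => DRing_isKFlat_of_iso (R := X.presheaf.stalk x) e h⟩

end Scheme

end Groth.Agent.H31.Stalk
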