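import Groth.Agent.H31.RpushRestrict
import Groth.Agent.H31.StalkKFlat
import Mathlib.Algebra.Homology.DerivedCategory.ExactFunctor
import Mathlib.Algebra.Homology.DerivedCategory.HomologySequence

/-!
# Local criteria for vanishing and isomorphisms in `D(O_X)` (helper31)

* `isZero_of_subsingleton_stalks`, `subsingleton_stalk_of_isZero`, `stalkRestrictEquiv`.
* `isZero_of_cover` : a module vanishing on the members of a two-element open cover vanishes.
* `mapDerivedCategoryHomologyIso` : exact functors commute with cohomology on derived categories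
  (as in helper56's `RestrictPC`, restated here to keep imports light).
* `isZero_iff_HD`, `isZero_of_restrictD_cover`, `isIso_of_restrictD_cover`.
* `isZero_restrictD_of_support`.
-/

set_option backward.isDefEq.respectTransparency false
set_option autoImplicit false
universe w₁ w₂ v₁ v₂ u₁ u₂ u
open CategoryTheory CategoryTheory.Limits AlgebraicGeometry TopologicalSpace Opposite ZeroObject

namespace Groth.Agent.H31.LocalD

open Groth.Agent.H31 Groth.Agent.H31.Stalk

section General

variable {C₁ : Type u₁} {C₂ : Type u₂} [Category.{v₁} C₁] [Category.{v₂} C₂] [Abelian C₁]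
  [Abelian C₂] [HasDerivedCategory.{w₁} C₁] [HasDerivedCategory.{w₂} C₂]
  (F : C₁ ⥤ C₂) [F.Additive] [PreservesFiniteLimits F] [PreservesFiniteColimits F]

/-- An exact functor commutes with the homology of cochain complexes. -/
noncomputable def mapHCHomologyIso (i : ℤ) :
    F.mapHomologicalComplex (ComplexShape.up ℤ) ⋙
      HomologicalComplex.homologyFunctor C₂ (ComplexShape.up ℤ) i ≅
      HomologicalComplex.homologyFunctor C₁ (ComplexShape.up ℤ) i ⋙ F :=
  NatIso.ofComponents (fun K => (K.sc i).mapHomologyIso F)
    (fun f => ShortComplex.mapHomologyIso_hom_naturality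
      ((HomologicalComplex.shortComplexFunctor C₁ (ComplexShape.up ℤ) i).map f) F)

/-- An exact functor commutes with the homology functors on derived categories. -/
noncomputable def mapDerivedCategoryHomologyIso (i : ℤ) :
    F.mapDerivedCategory ⋙ DerivedCategory.homologyFunctor C₂ i ≅
      DerivedCategory.homologyFunctor C₁ i ⋙ F :=
  letI : Localization.Lifting DerivedCategory.Q
      (HomologicalComplex.quasiIso C₁ (ComplexShape.up ℤ))
      (F.mapHomologicalComplex (ComplexShape.up ℤ) ⋙
        HomologicalComplex.homologyFunctor C₂ (ComplexShape.up ℤ) i)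
      (F.mapDerivedCategory ⋙ DerivedCategory.homologyFunctor C₂ i) :=
    ⟨(Functor.associator _ _ _).symm ≪≫
      Functor.isoWhiskerRight F.mapDerivedCategoryFactors _ ≪≫ Functor.associator _ _ _ ≪≫
      Functor.isoWhiskerLeft _ (DerivedCategory.homologyFunctorFactors C₂ i)⟩
  letI : Localization.Lifting DerivedCategory.Q
      (HomologicalComplex.quasiIso C₁ (ComplexShape.up ℤ))
      (HomologicalComplex.homologyFunctor C₁ (ComplexShape.up ℤ) i ⋙ F)
      (DerivedCategory.homologyFunctor C₁ i ⋙ F) :=
    ⟨(Functor.associator _ _ _).symm ≪≫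
      Functor.isoWhiskerRight (DerivedCategory.homologyFunctorFactors C₁ i) F⟩
  Localization.liftNatIso DerivedCategory.Q (HomologicalComplex.quasiIso C₁ (ComplexShape.up ℤ))
    _ _ _ _ (mapHCHomologyIso F i)

/-- An object of the derived category is zero iff all its cohomology objects are. -/
theorem isZero_iff_homology (K : DerivedCategory C₁) :
    IsZero K ↔ ∀ i : ℤ, IsZero ((DerivedCategory.homologyFunctor C₁ i).obj K) := by
  constructor
  · intro h i
    exact Functor.map_isZero _ h
  · intro h
    have : IsIso (0 : K ⟶ 0) := by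
      rw [DerivedCategory.isIso_iff]
      intro n
      exact ⟨0, (h n).eq_of_src _ _,
        (Functor.map_isZero (DerivedCategory.homologyFunctor C₁ n) (isZero_zero _)).eq_of_src _ _⟩
    exact IsZero.of_iso (isZero_zero _) (asIso (0 : K ⟶ 0))

end General

section Modules

variable {X : Scheme.{u}}

/-- A module all of whose stalks vanish is zero. -/
theorem isZero_of_subsingleton_stalks (M : X.Modules)
    (h : ∀ x : X, Subsingleton (M.presheaf.stalk x)) : IsZero M := by
  refine isZero_of_stk (O := shX X) M (fun x => ?_)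
  have : Subsingleton ↑((stk (shX X) x).obj M) := h x
  exact ModuleCat.isZero_of_subsingleton _

/-- Sections of a zero module vanish. -/
theorem subsingleton_sections_of_isZero (M : X.Modules) (h : IsZero M) (W : X.Opens) :
    Subsingleton Γ(M, W) := by
  refine ⟨fun s t => ?_⟩
  have h0 : (𝟙 M : M ⟶ M) = 0 := (IsZero.iff_id_eq_zero M).1 h
  have hs : ∀ a : Γ(M, W), a = 0 := fun a => by
    have := congrArg (fun φ : M ⟶ M => (φ.app W) a) h0
    simpa using this
  rw [hs s, hs t]

/-- Stalks of a zero module vanish. -/
theorem subsingleton_stalk_of_isZero (M : X.Modules) (h : IsZero M) (x : X) :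
    Subsingleton (M.presheaf.stalk x) := by
  refine ⟨fun a b => ?_⟩
  obtain ⟨U, hU, s, rfl⟩ := TopCat.Presheaf.exists_germ_eq M.presheaf a
  obtain ⟨V, hV, t, rfl⟩ := TopCat.Presheaf.exists_germ_eq M.presheaf b
  haveI := subsingleton_sections_of_isZero M h U
  haveI := subsingleton_sections_of_isZero M h V
  have hs : s = 0 := Subsingleton.elim _ _
  have ht : t = 0 := Subsingleton.elim _ _
  rw [hs, ht, map_zero, map_zero]

/-- The stalk of a restriction to an open subscheme. -/
noncomputable def stalkRestrictIso (U : X.Opens) (M : X.Modules) (x : U) :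
    (M.restrict U.ι).presheaf.stalk x ≅ M.presheaf.stalk (U.ι x) :=
  (Scheme.Modules.restrictStalkNatIso U.ι x).app M

theorem subsingleton_stalk_restrict_iff (U : X.Opens) (M : X.Modules) (x : U) :
    Subsingleton ((M.restrict U.ι).presheaf.stalk x) ↔ Subsingleton (M.presheaf.stalk (U.ι x)) :=
  ((forget Ab).mapIso (stalkRestrictIso U M x)).toEquiv.subsingleton_congr

/-- A module vanishing on both members of an open cover vanishes. -/
theorem isZero_of_cover (M : X.Modules) (U V : X.Opens) (hUV : U ⊔ V = ⊤)
    (hU : IsZero (M.restrict U.ι)) (hV : IsZero (M.restrict V.ι)) : IsZero M := by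
  refine isZero_of_subsingleton_stalks M (fun x => ?_)
  have hx : x ∈ U ⊔ V := by rw [hUV]; trivial
  rcases hx with hx | hx
  · exact (subsingleton_stalk_restrict_iff U M ⟨x, hx⟩).1
      (subsingleton_stalk_of_isZero _ hU _)
  · exact (subsingleton_stalk_restrict_iff V M ⟨x, hx⟩).1
      (subsingleton_stalk_of_isZero _ hV _)

end Modules

section Derived

attribute [local instance] HasDerivedCategory.standard

variable {X : Scheme.{u}}

/-- Restriction to an open subscheme commutes with cohomology sheaves. -/
noncomputable def HDRestrictIso (U : X.Opens)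
    [PreservesFiniteLimits (Scheme.Modules.restrictFunctor U.ι)] (K : DCoh.D X) (i : ℤ) :
    DCoh.HD ((DCoh.restrictD U.ι).obj K) i ≅ (DCoh.HD K i).restrict U.ι :=
  (mapDerivedCategoryHomologyIso (Scheme.Modules.restrictFunctor U.ι) i).app K

/-- An object of `D(O_X)` vanishing on both members of an open cover vanishes. -/
theorem isZero_of_restrictD_cover (K : DCoh.D X) (U V : X.Opens) (hUV : U ⊔ V = ⊤)
    [PreservesFiniteLimits (Scheme.Modules.restrictFunctor U.ι)]
    [PreservesFiniteLimits (Scheme.Modules.restrictFunctor V.ι)]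
    (hU : IsZero ((DCoh.restrictD U.ι).obj K)) (hV : IsZero ((DCoh.restrictD V.ι).obj K)) :
    IsZero K := by
  rw [isZero_iff_homology]
  intro i
  refine isZero_of_cover _ U V hUV ?_ ?_
  · exact IsZero.of_iso ((isZero_iff_homology _).1 hU i) (HDRestrictIso U K i).symm
  · exact IsZero.of_iso ((isZero_iff_homology _).1 hV i) (HDRestrictIso V K i).symm

/-- A morphism of `D(O_X)` which is an isomorphism on both members of an open cover is an
isomorphism. -/
theorem isIso_of_restrictD_cover {K L : DCoh.D X} (φ : K ⟶ L) (U V : X.Opens) (hUV : U ⊔ V = ⊤)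
    [PreservesFiniteLimits (Scheme.Modules.restrictFunctor U.ι)]
    [PreservesFiniteLimits (Scheme.Modules.restrictFunctor V.ι)]
    (hU : IsIso ((DCoh.restrictD U.ι).map φ)) (hV : IsIso ((DCoh.restrictD V.ι).map φ)) :
    IsIso φ := by
  obtain ⟨C, g, h, hT⟩ := Pretriangulated.distinguished_cocone_triangle φ
  have hC : IsZero C := by
    refine isZero_of_restrictD_cover C U V hUV ?_ ?_
    · have hT' := (DCoh.restrictD U.ι).map_distinguished _ hT
      exact (Pretriangulated.Triangle.isZero₃_iff_isIso₁ _ hT').2 hU
    · have hT' := (DCoh.restrictD V.ι).map_distinguished _ hT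
      exact (Pretriangulated.Triangle.isZero₃_iff_isIso₁ _ hT').2 hV
  exact (Pretriangulated.Triangle.isZero₃_iff_isIso₁ _ hT).1 hC

/-- An object whose cohomology sheaves are supported in `T` vanishes on opens disjoint from `T`. -/
theorem isZero_restrictD_of_support (K : DCoh.D X) (T : Set X)
    (hK : ∀ i : ℤ, CohB1.support (DCoh.HD K i) ⊆ T) (W : X.Opens)
    [PreservesFiniteLimits (Scheme.Modules.restrictFunctor W.ι)]
    (hW : ∀ x : W, W.ι x ∉ T) : IsZero ((DCoh.restrictD W.ι).obj K) := by
  rw [isZero_iff_homology]
  intro i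
  refine IsZero.of_iso ?_ (HDRestrictIso W K i)
  refine isZero_of_subsingleton_stalks _ (fun x => ?_)
  rw [subsingleton_stalk_restrict_iff]
  by_contra hx
  exact hW x (hK i hx)

/-- The support of the cohomology sheaves of a restriction. -/
theorem support_HD_restrictD (K : DCoh.D X) (T : Set X)
    (hK : ∀ i : ℤ, CohB1.support (DCoh.HD K i) ⊆ T) (U : X.Opens)
    [PreservesFiniteLimits (Scheme.Modules.restrictFunctor U.ι)] (i : ℤ) :
    CohB1.support (DCoh.HD ((DCoh.restrictD U.ι).obj K) i) ⊆ (fun x : U => U.ι x) ⁻¹' T := by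
  intro x hx
  apply hK i
  intro hs
  apply hx
  have e := (forget Ab.{u}).mapIso ((Scheme.Modules.toPresheaf (U : Scheme.{u}) ⋙
    TopCat.Presheaf.stalkFunctor Ab.{u} x).mapIso (HDRestrictIso U K i))
  exact e.toEquiv.subsingleton_congr.2 ((subsingleton_stalk_restrict_iff U _ x).2 hs)

end Derived

end Groth.Agent.H31.LocalD
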