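import Groth.Agent.H31.Lpull

/-!
# Composition of derived pullbacks (helper31 library)

* `isLeftDerivedFunctor_of_hasLeftRes`, `isLeftDerivedFunctor_kflat`, `isLeftDerivedFunctor_site` :
  recognition of left derived functors: it suffices that the counit is an isomorphism on K-flat
  complexes.
* `LpullCompIso` : `Lg^* ⋙ Lf^* ≅ L(f ≫ g)^*`.
-/

set_option autoImplicit false
set_option backward.isDefEq.respectTransparency false
universe u
open CategoryTheory CategoryTheory.Limits Opposite TopologicalSpace MonoidalCategory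
  HomologicalComplex AlgebraicGeometry
attribute [local instance] HasDerivedCategory.standard

namespace Groth.Agent.H31.Stalk

open Groth.Agent.H31 Groth.Agent.H31.KFlat Groth.Agent.H40.StalkTensor
  Groth.Agent.H40.FlatBridge2 Groth.Agent.H40.LeftDer Groth.Agent.H40.LTensorComp
  Groth.Agent.H40.LTensorDCoh

section Triangulated

open Pretriangulated ObjectProperty

variable {C : Type*} [Category C] [HasZeroObject C] [HasShift C ℤ] [Preadditive C]
  [∀ (n : ℤ), (shiftFunctor C n).Additive] [Pretriangulated C] [IsTriangulated C]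
  {A B : ObjectProperty C} [A.IsTriangulated] [B.IsTriangulated]
  [A.IsClosedUnderIsomorphisms] [B.IsClosedUnderIsomorphisms]

/-- Recognition of left derived functors: if every object has a left `A`-resolution, `F` inverts the
`B.trW`-morphisms between objects of `A` and `α` is an isomorphism on the objects of `A`, then
`(LF, α)` is a left derived functor of `F`. -/
theorem isLeftDerivedFunctor_of_hasLeftRes (hres : HasLeftRes A B) {H D₂ : Type*} [Category H]
    [Category D₂] (F : C ⥤ H)
    (hF : ∀ ⦃X Y : C⦄ (f : X ⟶ Y), A X → A Y → B.trW f → IsIso (F.map f))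
    (W : MorphismProperty C) (hW : W = B.trW)
    {L₂ : C ⥤ D₂} [L₂.IsLocalization W] {LF : D₂ ⥤ H} (α : L₂ ⋙ LF ⟶ F)
    (hα : ∀ P : C, A P → IsIso (α.app P)) : LF.IsLeftDerivedFunctor α W := by
  subst hW
  have := isLeftDerivabilityStructure hres
  have h : (B.inverseImage A.ι).trW.IsInvertedBy
      ((A.triangulatedLocalizerMorphism B).functor ⋙ F) := by
    intro X Y f hf
    rw [trW_inverseImage_ι_iff] at hf
    obtain ⟨Z, g, k, hT, hZ⟩ := hf
    exact hF f.hom X.property Y.property ⟨Z, g, k, hT, hZ.2⟩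
  exact Groth.Agent.H53.LeftDerOp.isLeftDerivedFunctor_of_isIso
    (A.triangulatedLocalizerMorphism B) h α (fun X₁ => hα X₁.obj X₁.property)

end Triangulated

section Gen

variable {A : Type*} [Category A] [Abelian A]
  {T : A ⥤ A ⥤ A} [T.Additive] [∀ X, (T.obj X).Additive]
  [∀ (K₁ : CochainComplex A ℤ) (K₂ : CochainComplex A ℤ),
    HasMapBifunctor K₁ K₂ T (ComplexShape.up ℤ)]
  [∀ ι : Type, HasColimitsOfShape (Discrete ι) A]
  [∀ ι : Type, HasExactColimitsOfShape (Discrete ι) A]
  [∀ X : A, PreservesColimitsOfShape ℕ (T.obj X)]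
  [∀ X : A, PreservesColimitsOfShape ℕ (T.flip.obj X)] [HasColimitsOfShape ℕ A]
  [HasExactColimitsOfShape ℕ A]

theorem isLeftDerivedFunctor_kflat (hT : TensorLike T) {H D₂ : Type*} [Category H] [Category D₂]
    (F : HomotopyCategory A (ComplexShape.up ℤ) ⥤ H)
    (hF : ∀ {P Q : CochainComplex A ℤ} (α : P ⟶ Q), KF T P → KF T Q → QuasiIso α →
      IsIso (F.map ((HomotopyCategory.quotient _ _).map α)))
    {L₂ : HomotopyCategory A (ComplexShape.up ℤ) ⥤ D₂}
    [L₂.IsLocalization (HomotopyCategory.quasiIso A (ComplexShape.up ℤ))] {LF : D₂ ⥤ H}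
    (α : L₂ ⋙ LF ⟶ F)
    (hα : ∀ P : CochainComplex A ℤ, KF T P →
      IsIso (α.app ((HomotopyCategory.quotient _ _).obj P))) :
    LF.IsLeftDerivedFunctor α (HomotopyCategory.quasiIso A (ComplexShape.up ℤ)) := by
  refine isLeftDerivedFunctor_of_hasLeftRes (hasLeftRes hT) F ?_ _
    (HomotopyCategory.quasiIso_eq_trW_subcategoryAcyclic A) α (fun P hP => hα P.as hP)
  intro X Y f hX hY hf
  obtain ⟨f', rfl⟩ : ∃ f' : X.as ⟶ Y.as, (HomotopyCategory.quotient _ _).map f' = f :=
    (HomotopyCategory.quotient _ _).map_surjective f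
  refine hF f' hX hY ?_
  rwa [← HomotopyCategory.quasiIso_eq_trW_subcategoryAcyclic,
    HomotopyCategory.quotient_map_mem_quasiIso_iff, HomologicalComplex.mem_quasiIso_iff] at hf

end Gen

section Site

variable {C : Type u} [SmallCategory C] {J : GrothendieckTopology C} {O : Sheaf J CommRingCat.{u}}

/-- Recognition of left derived functors on `K(Mod O)`: it suffices that the counit is an
isomorphism on K-flat complexes. -/
theorem isLeftDerivedFunctor_site {H D₂ : Type*} [Category H] [Category D₂]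
    (F : HomotopyCategory (ModSite.Mod O) (ComplexShape.up ℤ) ⥤ H)
    (hF : ∀ {P Q : CochainComplex (ModSite.Mod O) ℤ} (α : P ⟶ Q), ModSite.IsKFlat P →
      ModSite.IsKFlat Q → QuasiIso α → IsIso (F.map ((HomotopyCategory.quotient _ _).map α)))
    {L₂ : HomotopyCategory (ModSite.Mod O) (ComplexShape.up ℤ) ⥤ D₂}
    (hL : L₂.IsLocalization (HomotopyCategory.quasiIso (ModSite.Mod O) (ComplexShape.up ℤ)))
    {LF : D₂ ⥤ H} (α : L₂ ⋙ LF ⟶ F)
    (hα : ∀ P : CochainComplex (ModSite.Mod O) ℤ, ModSite.IsKFlat P →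
      IsIso (α.app ((HomotopyCategory.quotient _ _).obj P))) :
    LF.IsLeftDerivedFunctor α
      (HomotopyCategory.quasiIso (ModSite.Mod O) (ComplexShape.up ℤ)) := by
  have := hasExactColimitsOfShape_nat_Mod (O := O)
  exact isLeftDerivedFunctor_kflat (T := ModSite.tensorBi O) tensorLike_tensorBi F
    (fun α hP hQ hα => hF α ((isKFlat_iff _).2 hP) ((isKFlat_iff _).2 hQ) hα) α
    (fun P hP => hα P ((isKFlat_iff _).2 hP))

end Site

section Scheme

variable {X Y Z : Scheme.{u}} (f : X ⟶ Y) (g : Y ⟶ Z)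
  [DCoh.HasLpull f] [DCoh.HasLpull g]

/-- The counit of `Lg^* ⋙ Lf^*`, as a candidate left derived functor of `(f ≫ g)^*`. -/
noncomputable def compCounit :
    DerivedCategory.Qh ⋙ (DCoh.Lpull g ⋙ DCoh.Lpull f) ⟶ DCoh.pullKh (f ≫ g) :=
  (Functor.associator _ _ _).inv ≫
    Functor.whiskerRight ((DCoh.pullKh g).totalLeftDerivedCounit DerivedCategory.Qh
      (HomotopyCategory.quasiIso Z.Modules (ComplexShape.up ℤ))) (DCoh.Lpull f) ≫
    (Functor.associator _ _ _).hom ≫
    Functor.whiskerLeft ((Scheme.Modules.pullback g).mapHomotopyCategory (ComplexShape.up ℤ))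
      ((DCoh.pullKh f).totalLeftDerivedCounit DerivedCategory.Qh
        (HomotopyCategory.quasiIso Y.Modules (ComplexShape.up ℤ))) ≫
    (Functor.associator _ _ _).inv ≫
    Functor.whiskerRight (Functor.mapHomotopyCategoryCompIso
      (Scheme.Modules.pullbackComp f g) (ComplexShape.up ℤ)).hom DerivedCategory.Qh

theorem isIso_compCounit_app (P : CochainComplex Z.Modules ℤ) (hP : DCoh.IsKFlat P) :
    IsIso ((compCounit f g).app ((HomotopyCategory.quotient _ _).obj P)) := by
  have h1 := isIso_Lpull_counit_app g P hP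
  have h2 := isIso_Lpull_counit_app f _ (isKFlat_pullback g P hP)
  simp only [compCounit, NatTrans.comp_app, Functor.associator_inv_app, Functor.associator_hom_app,
    Functor.whiskerRight_app, Functor.whiskerLeft_app, Category.id_comp]
  have h2' : IsIso (((DCoh.pullKh f).totalLeftDerivedCounit DerivedCategory.Qh
      (HomotopyCategory.quasiIso Y.Modules (ComplexShape.up ℤ))).app
        (((Scheme.Modules.pullback g).mapHomotopyCategory (ComplexShape.up ℤ)).obj
          ((HomotopyCategory.quotient _ _).obj P))) := h2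
  infer_instance

/-- `Lg^* ⋙ Lf^*` is a left derived functor of `(f ≫ g)^*`. -/
theorem isLeftDerivedFunctor_comp :
    (DCoh.Lpull g ⋙ DCoh.Lpull f).IsLeftDerivedFunctor (compCounit f g)
      (HomotopyCategory.quasiIso Z.Modules (ComplexShape.up ℤ)) := by
  have h1 : (DerivedCategory.Qh (C := Z.Modules)).IsLocalization
      (HomotopyCategory.quasiIso Z.Modules (ComplexShape.up ℤ)) := inferInstance
  exact isLeftDerivedFunctor_site (O := shX Z) (DCoh.pullKh (f ≫ g))
    (fun α hP hQ hα => isIso_pullKh_map (f ≫ g) α hP hQ hα) h1 (compCounit f g)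
    (fun P hP => isIso_compCounit_app f g P hP)

/-- `Lg^* ⋙ Lf^* ≅ L(f ≫ g)^*`. -/
noncomputable def LpullCompIso [DCoh.HasLpull (f ≫ g)] :
    DCoh.Lpull g ⋙ DCoh.Lpull f ≅ DCoh.Lpull (f ≫ g) :=
  haveI := isLeftDerivedFunctor_comp f g
  Functor.leftDerivedUnique (DCoh.Lpull (f ≫ g)) (DCoh.Lpull g ⋙ DCoh.Lpull f)
    (compCounit f g)
    ((DCoh.pullKh (f ≫ g)).totalLeftDerivedCounit DerivedCategory.Qh
      (HomotopyCategory.quasiIso Z.Modules (ComplexShape.up ℤ)))
    (HomotopyCategory.quasiIso Z.Modules (ComplexShape.up ℤ))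

end Scheme

end Groth.Agent.H31.Stalk
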