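import Groth.Agent.H31.StalkTilde
import Groth.Agent.H31.LpullComp

/-!
# Derived pullback and derived base change on affine schemes (helper31 library)

* `extTildeIso φ` : `(B ⊗_A M)~ ≅ f^* (M~)` for `f = Spec φ`, naturally in `M`;
* `LBaseChangeTildeIso φ` : `(- ⊗^L_A B) ⋙ ~ ≅ ~ ⋙ Lf^*`.
-/

set_option autoImplicit false
set_option backward.isDefEq.respectTransparency false
universe u
open CategoryTheory CategoryTheory.Limits Opposite TopologicalSpace MonoidalCategory
  HomologicalComplex AlgebraicGeometry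
attribute [local instance] HasDerivedCategory.standard

namespace Groth.Agent.H31.Stalk

open Groth.Agent.H31 Groth.Agent.H31.KFlat Groth.Agent.H40.LTensorComp

section Modules

variable {R S : CommRingCat.{u}} (φ : R ⟶ S)

/-- Global sections of a pushforward along `Spec φ`. -/
noncomputable def pushΓIso :
    Scheme.Modules.pushforward (Spec.map φ) ⋙ moduleSpecΓFunctor (R := R) ≅
      moduleSpecΓFunctor (R := S) ⋙ ModuleCat.restrictScalars φ.hom :=
  Functor.isoWhiskerRight (pushforwardCompModulesSpecToSheafIso φ)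
    (TopCat.Sheaf.forget _ _ ⋙ (evaluation _ _).obj (op ⊤))

/-- The adjunction `~ ⋙ f^* ⊣ f_* ⋙ Γ`. -/
noncomputable def adjTildePull :
    tilde.functor R ⋙ Scheme.Modules.pullback (Spec.map φ) ⊣
      Scheme.Modules.pushforward (Spec.map φ) ⋙ moduleSpecΓFunctor (R := R) :=
  (tilde.adjunction (R := R)).comp (Scheme.Modules.pullbackPushforwardAdjunction (Spec.map φ))

/-- The adjunction `(S ⊗_R -) ⋙ ~ ⊣ f_* ⋙ Γ`. -/
noncomputable def adjExtTilde :
    ModuleCat.extendScalars.{u, u, u} φ.hom ⋙ tilde.functor S ⊣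
      Scheme.Modules.pushforward (Spec.map φ) ⋙ moduleSpecΓFunctor (R := R) :=
  ((ModuleCat.extendRestrictScalarsAdj.{u, u, u} φ.hom).comp
    (tilde.adjunction (R := S))).ofNatIsoRight (pushΓIso φ).symm

/-- `(S ⊗_R M)~ ≅ f^* (M~)`. -/
noncomputable def extTildeIso :
    ModuleCat.extendScalars.{u, u, u} φ.hom ⋙ tilde.functor S ≅
      tilde.functor R ⋙ Scheme.Modules.pullback (Spec.map φ) :=
  (adjExtTilde φ).leftAdjointUniq (adjTildePull φ)

end Modules

section Derived

theorem additive_tilde (R : CommRingCat.{u}) : (tilde.functor R).Additive := inferInstance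

instance additive_tilde_of (A : Type u) [CommRing A] :
    Functor.Additive (C := ModuleCat.{u} A) (D := (Spec (CommRingCat.of A)).Modules)
      (tilde.functor (CommRingCat.of A)) :=
  additive_tilde (CommRingCat.of A)

instance preservesFiniteColimits_tilde_of (A : Type u) [CommRing A] :
    PreservesFiniteColimits (C := ModuleCat.{u} A) (D := (Spec (CommRingCat.of A)).Modules)
      (tilde.functor (CommRingCat.of A)) :=
  ⟨fun _ _ _ => (tilde.adjunction
    (R := CommRingCat.of A)).leftAdjoint_preservesColimits.preservesColimitsOfShape⟩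

variable {A B : Type u} [CommRing A] [CommRing B] (φ : A →+* B)
  [PreservesFiniteLimits (C := ModuleCat.{u} A) (D := (Spec (CommRingCat.of A)).Modules)
    (tilde.functor (CommRingCat.of A))]
  [PreservesFiniteLimits (C := ModuleCat.{u} B) (D := (Spec (CommRingCat.of B)).Modules)
    (tilde.functor (CommRingCat.of B))]

/-- The functor `K(A) ⥤ D(O_{Spec B})` of which `(- ⊗^L_A B) ⋙ ~` is the left derived functor. -/
noncomputable abbrev F₁ : HomotopyCategory (ModuleCat.{u} A) (ComplexShape.up ℤ) ⥤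
    DCoh.D (Spec (CommRingCat.of B)) :=
  DRing.baseChangeKh φ ⋙ DCoh.tildeD (CommRingCat.of B)

/-- The functor `K(A) ⥤ D(O_{Spec B})` of which `~ ⋙ Lf^*` is the left derived functor. -/
noncomputable abbrev F₂ : HomotopyCategory (ModuleCat.{u} A) (ComplexShape.up ℤ) ⥤
    DCoh.D (Spec (CommRingCat.of B)) :=
  (tilde.functor (CommRingCat.of A)).mapHomotopyCategory (ComplexShape.up ℤ) ⋙
    DCoh.pullKh (Spec.map (CommRingCat.ofHom φ))

/-- The two functors agree. -/
noncomputable def τ₁₂ : F₁ φ ≅ F₂ φ :=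
  Functor.associator _ _ _ ≪≫
    Functor.isoWhiskerLeft _ (tilde.functor (CommRingCat.of B)).mapDerivedCategoryFactorsh ≪≫
    (Functor.associator _ _ _).symm ≪≫
    Functor.isoWhiskerRight
      (Functor.mapHomotopyCategoryCompIso (extTildeIso (CommRingCat.ofHom φ)) (ComplexShape.up ℤ) ≪≫
        (Functor.mapHomotopyCategoryCompIso
          (Iso.refl (tilde.functor (CommRingCat.of A) ⋙
            Scheme.Modules.pullback (Spec.map (CommRingCat.ofHom φ)))) (ComplexShape.up ℤ)).symm)
      DerivedCategory.Qh ≪≫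
    Functor.associator _ _ _

theorem isIso_baseChangeKh_map {P Q : DRing.Cx A} (α : P ⟶ Q)
    (hP : KF (curriedTensor (ModuleCat.{u} A)) P) (hQ : KF (curriedTensor (ModuleCat.{u} A)) Q)
    (hα : QuasiIso α) :
    IsIso ((DRing.baseChangeKh φ).map ((HomotopyCategory.quotient _ _).map α)) := by
  show IsIso (DerivedCategory.Qh.map
    (((ModuleCat.extendScalars.{u, u, u} φ).mapHomotopyCategory (ComplexShape.up ℤ)).map
      ((HomotopyCategory.quotient _ _).map α)))
  rw [DerivedCategory.isIso_Qh_map_iff]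
  change HomotopyCategory.quasiIso _ _ ((HomotopyCategory.quotient _ _).map
    (((ModuleCat.extendScalars.{u, u, u} φ).mapHomologicalComplex _).map α))
  rw [HomotopyCategory.quotient_map_mem_quasiIso_iff, HomologicalComplex.mem_quasiIso_iff]
  exact Groth.Agent.H53.LBaseChange.quasiIso_extCx_map φ α hα
    ((KFlatRing.isKFlat_iff _).2 hP) ((KFlatRing.isKFlat_iff _).2 hQ)

variable [DRing.HasLBaseChange φ] [DCoh.HasLpull (Spec.map (CommRingCat.ofHom φ))]

/-- The counit of `(- ⊗^L_A B) ⋙ ~`. -/
noncomputable def α₁ : DerivedCategory.Qh ⋙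
    (DRing.LBaseChange φ ⋙ DCoh.tildeD (CommRingCat.of B)) ⟶ F₁ φ :=
  (Functor.associator _ _ _).inv ≫
    Functor.whiskerRight ((DRing.baseChangeKh φ).totalLeftDerivedCounit DerivedCategory.Qh
      (HomotopyCategory.quasiIso (ModuleCat.{u} A) (ComplexShape.up ℤ)))
      (DCoh.tildeD (CommRingCat.of B))

/-- The counit of `~ ⋙ Lf^*`. -/
noncomputable def α₂ : DerivedCategory.Qh ⋙
    (DCoh.tildeD (CommRingCat.of A) ⋙ DCoh.Lpull (Spec.map (CommRingCat.ofHom φ))) ⟶ F₂ φ :=
  (Functor.associator _ _ _).inv ≫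
    Functor.whiskerRight (tilde.functor (CommRingCat.of A)).mapDerivedCategoryFactorsh.hom
      (DCoh.Lpull (Spec.map (CommRingCat.ofHom φ))) ≫
    (Functor.associator _ _ _).hom ≫
    Functor.whiskerLeft
      ((tilde.functor (CommRingCat.of A)).mapHomotopyCategory (ComplexShape.up ℤ))
      ((DCoh.pullKh (Spec.map (CommRingCat.ofHom φ))).totalLeftDerivedCounit DerivedCategory.Qh
        (HomotopyCategory.quasiIso (Spec (CommRingCat.of A)).Modules (ComplexShape.up ℤ)))

theorem isLeftDerivedFunctor_α₁ :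
    (DRing.LBaseChange φ ⋙ DCoh.tildeD (CommRingCat.of B)).IsLeftDerivedFunctor (α₁ φ)
      (HomotopyCategory.quasiIso (ModuleCat.{u} A) (ComplexShape.up ℤ)) := by
  have := KFlatRing.hasExactColimitsOfShape_nat (R := A)
  refine isLeftDerivedFunctor_kflat (T := curriedTensor (ModuleCat.{u} A)) KFlatRing.tensorLike
    (F₁ φ) ?_ (α₁ φ) ?_
  · intro P Q α hP hQ hα
    have := isIso_baseChangeKh_map φ α hP hQ hα
    exact inferInstanceAs (IsIso ((DCoh.tildeD (CommRingCat.of B)).map
      ((DRing.baseChangeKh φ).map ((HomotopyCategory.quotient _ _).map α))))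
  · intro P hP
    have := Groth.Agent.H53.LBaseChange.isIso_counit φ P ((KFlatRing.isKFlat_iff _).2 hP)
    simp only [α₁, NatTrans.comp_app, Functor.associator_inv_app, Functor.whiskerRight_app,
      Category.id_comp]
    infer_instance

theorem isLeftDerivedFunctor_α₂ :
    (DCoh.tildeD (CommRingCat.of A) ⋙
      DCoh.Lpull (Spec.map (CommRingCat.ofHom φ))).IsLeftDerivedFunctor (α₂ φ)
      (HomotopyCategory.quasiIso (ModuleCat.{u} A) (ComplexShape.up ℤ)) := by
  have := KFlatRing.hasExactColimitsOfShape_nat (R := A)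
  refine isLeftDerivedFunctor_kflat (T := curriedTensor (ModuleCat.{u} A)) KFlatRing.tensorLike
    (F₂ φ) ?_ (α₂ φ) ?_
  · intro P Q α hP hQ hα
    have hP' := isKFlat_tilde (CommRingCat.of A) P ((KFlatRing.isKFlat_iff _).2 hP)
    have hQ' := isKFlat_tilde (CommRingCat.of A) Q ((KFlatRing.isKFlat_iff _).2 hQ)
    have i5 : Functor.PreservesHomology (C := ModuleCat.{u} A)
        (D := (Spec (CommRingCat.of A)).Modules) (tilde.functor (CommRingCat.of A)) :=
      inferInstance
    have hα' : QuasiIso (((tilde.functor (CommRingCat.of A)).mapHomologicalComplex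
        (ComplexShape.up ℤ)).map α) := inferInstance
    exact isIso_pullKh_map (Spec.map (CommRingCat.ofHom φ)) _ hP' hQ' hα'
  · intro P hP
    have hP' := isKFlat_tilde (CommRingCat.of A) P ((KFlatRing.isKFlat_iff _).2 hP)
    have h := isIso_Lpull_counit_app (Spec.map (CommRingCat.ofHom φ)) _ hP'
    simp only [α₂, NatTrans.comp_app, Functor.associator_inv_app, Functor.associator_hom_app,
      Functor.whiskerRight_app, Functor.whiskerLeft_app, Category.id_comp]
    have h' : IsIso (((DCoh.pullKh (Spec.map (CommRingCat.ofHom φ))).totalLeftDerivedCounit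
        DerivedCategory.Qh
        (HomotopyCategory.quasiIso (Spec (CommRingCat.of A)).Modules (ComplexShape.up ℤ))).app
        (((tilde.functor (CommRingCat.of A)).mapHomotopyCategory (ComplexShape.up ℤ)).obj
          ((HomotopyCategory.quotient _ _).obj P))) := h
    infer_instance

/-- `(- ⊗^L_A B) ⋙ ~ ≅ ~ ⋙ Lf^*`. -/
noncomputable def LBaseChangeTildeIso :
    DRing.LBaseChange φ ⋙ DCoh.tildeD (CommRingCat.of B) ≅
      DCoh.tildeD (CommRingCat.of A) ⋙ DCoh.Lpull (Spec.map (CommRingCat.ofHom φ)) :=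
  haveI := isLeftDerivedFunctor_α₁ φ
  haveI := isLeftDerivedFunctor_α₂ φ
  Functor.leftDerivedNatIso _ _ (α₁ φ) (α₂ φ)
    (HomotopyCategory.quasiIso (ModuleCat.{u} A) (ComplexShape.up ℤ)) (τ₁₂ φ)

end Derived

end Groth.Agent.H31.Stalk
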