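import Groth.Agent.H31.LpullComp
import Groth.Agent.H31.GrothAb
import Groth.Agent.H5.KInj.DerivedAdj
import Groth.Agent.H45.AdjComplexes
import Groth.Prelude.Def_DCoh2

/-!
# The derived adjunction `Lf^* ⊣ Rf_*` and composition of derived direct images (helper31 library)

* `adjMapHomotopyCategory` : an adjunction of additive functors induces an adjunction on the
  (unbounded) homotopy categories.
* `isRightDerivedFunctor_comp_K` : right derived functors on `K(A)`, `A` Grothendieck abelian, are
  absolute.
* `LpullRpushAdj f : Lf^* ⊣ Rf_*`.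
* `RpushCompIso f g : Rf_* ⋙ Rg_* ≅ R(f ≫ g)_*`.
-/

set_option autoImplicit false
set_option backward.isDefEq.respectTransparency false
universe w v u v' u'
open CategoryTheory CategoryTheory.Limits Opposite TopologicalSpace
  HomologicalComplex AlgebraicGeometry

namespace Groth.Agent.H31.Stalk

open Groth.Agent.H31 Groth.Agent.H5.KInjDer

section HomotopyAdj

variable {V W : Type*} [Category V] [Category W] [Preadditive V] [Preadditive W]
  [HasZeroObject V] [HasBinaryBiproducts V] [HasZeroObject W] [HasBinaryBiproducts W]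
  {L : V ⥤ W} {R : W ⥤ V} (adj : L ⊣ R) [L.Additive] [R.Additive]

/-- The adjunction induced on homotopy categories of cochain complexes. -/
noncomputable def adjMapHomotopyCategory :
    L.mapHomotopyCategory (ComplexShape.up ℤ) ⊣ R.mapHomotopyCategory (ComplexShape.up ℤ) :=
  letI : CatCommSq (L.mapHomologicalComplex (ComplexShape.up ℤ))
      (HomotopyCategory.quotient V (ComplexShape.up ℤ))
      (HomotopyCategory.quotient W (ComplexShape.up ℤ))
      (L.mapHomotopyCategory (ComplexShape.up ℤ)) := ⟨Iso.refl _⟩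
  letI : CatCommSq (R.mapHomologicalComplex (ComplexShape.up ℤ))
      (HomotopyCategory.quotient W (ComplexShape.up ℤ))
      (HomotopyCategory.quotient V (ComplexShape.up ℤ))
      (R.mapHomotopyCategory (ComplexShape.up ℤ)) := ⟨Iso.refl _⟩
  (Groth.Agent.H45.adjMapHomologicalComplex adj (ComplexShape.up ℤ)).localization
    (HomotopyCategory.quotient V (ComplexShape.up ℤ))
    (HomologicalComplex.homotopyEquivalences V (ComplexShape.up ℤ))
    (HomotopyCategory.quotient W (ComplexShape.up ℤ))
    (HomologicalComplex.homotopyEquivalences W (ComplexShape.up ℤ))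
    (L.mapHomotopyCategory (ComplexShape.up ℤ)) (R.mapHomotopyCategory (ComplexShape.up ℤ))

end HomotopyAdj

section AbsRight

variable {A : Type u} [Category.{v} A] [Abelian A] [HasDerivedCategory.{w} A]
  [IsGrothendieckAbelian.{v} A]
  {H : Type u'} [Category.{v'} H]
  (X : HomotopyCategory A (ComplexShape.up ℤ) ⥤ H) (RF : DerivedCategory A ⥤ H)
  (β : X ⟶ DerivedCategory.Qh ⋙ RF)
  [RF.IsRightDerivedFunctor β (HomotopyCategory.quasiIso A (ComplexShape.up ℤ))]
  {H' : Type*} [Category H'] (T : H ⥤ H')

/-- Right derived functors on the homotopy category of a Grothendieck abelian category are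
absolute. -/
theorem isRightDerivedFunctor_comp_K :
    (RF ⋙ T).IsRightDerivedFunctor
      (Functor.whiskerRight β T ≫ (Functor.associator DerivedCategory.Qh RF T).hom)
      (HomotopyCategory.quasiIso A (ComplexShape.up ℤ)) := by
  rw [isRightDerivedFunctor_iff_toC]
  have h : RF.IsRightDerivedFunctor (toC X RF β)
      (HomologicalComplex.quasiIso A (ComplexShape.up ℤ)) :=
    (isRightDerivedFunctor_iff_toC X RF β).1 inferInstance
  have h2 := isRightDerivedFunctor_comp (HomotopyCategory.quotient A (ComplexShape.up ℤ) ⋙ X)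
    (inverts_quotient_comp X) (toC X RF β) T
  have e : toC (X ⋙ T) (RF ⋙ T)
      (Functor.whiskerRight β T ≫ (Functor.associator DerivedCategory.Qh RF T).hom) =
      (Functor.whiskerRight (toC X RF β) T ≫
        (Functor.associator DerivedCategory.Q RF T).hom :
        HomotopyCategory.quotient A (ComplexShape.up ℤ) ⋙ (X ⋙ T) ⟶
          DerivedCategory.Q ⋙ (RF ⋙ T)) := by
    ext K
    simp [toC_app]
  rw [e]
  exact h2

end AbsRight

section Scheme

attribute [local instance] HasDerivedCategory.standard

variable {X Y : Scheme.{u}} (f : X ⟶ Y)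

instance isGrothendieckAbelian_modules (X : Scheme.{u}) : IsGrothendieckAbelian.{u} X.Modules :=
  GrothAb.isGrothendieckAbelian (Opens.grothendieckTopology X) X.ringCatSheaf

variable [DCoh.HasLpull f] [DCoh.HasRpush f]

/-- `Lf^* ⋙ Rf_*` is a left derived functor (absoluteness of `Lf^*`). -/
theorem isLeftDerivedFunctor_Lpull_comp_Rpush :
    (DCoh.Lpull f ⋙ DCoh.Rpush f).IsLeftDerivedFunctor
      ((Functor.associator _ _ _).inv ≫
        Functor.whiskerRight ((DCoh.pullKh f).totalLeftDerivedCounit DerivedCategory.Qh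
          (HomotopyCategory.quasiIso Y.Modules (ComplexShape.up ℤ))) (DCoh.Rpush f))
      (HomotopyCategory.quasiIso Y.Modules (ComplexShape.up ℤ)) := by
  have h1 : (DerivedCategory.Qh (C := Y.Modules)).IsLocalization
      (HomotopyCategory.quasiIso Y.Modules (ComplexShape.up ℤ)) := inferInstance
  refine isLeftDerivedFunctor_site (O := shX Y) (DCoh.pullKh f ⋙ DCoh.Rpush f) ?_ h1 _ ?_
  · intro P Q α hP hQ hα
    have := isIso_pullKh_map f α hP hQ hα
    exact inferInstanceAs (IsIso ((DCoh.Rpush f).map
      ((DCoh.pullKh f).map ((HomotopyCategory.quotient _ _).map α))))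
  · intro P hP
    have := isIso_Lpull_counit_app f P hP
    simp only [NatTrans.comp_app, Functor.associator_inv_app, Functor.whiskerRight_app,
      Category.id_comp]
    exact ((DCoh.Rpush f).mapIso (@asIso _ _ _ _ _ this)).isIso_hom

/-- The derived adjunction `Lf^* ⊣ Rf_*`. -/
noncomputable def LpullRpushAdj : DCoh.Lpull f ⊣ DCoh.Rpush f :=
  haveI := isLeftDerivedFunctor_Lpull_comp_Rpush f
  haveI : (DCoh.Rpush f ⋙ DCoh.Lpull f).IsRightDerivedFunctor
      (Functor.whiskerRight ((DCoh.pushKh f).totalRightDerivedUnit DerivedCategory.Qh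
        (HomotopyCategory.quasiIso X.Modules (ComplexShape.up ℤ))) (DCoh.Lpull f) ≫
        (Functor.associator _ _ _).hom)
      (HomotopyCategory.quasiIso X.Modules (ComplexShape.up ℤ)) :=
    isRightDerivedFunctor_comp_K (DCoh.pushKh f) (DCoh.Rpush f)
      ((DCoh.pushKh f).totalRightDerivedUnit DerivedCategory.Qh
        (HomotopyCategory.quasiIso X.Modules (ComplexShape.up ℤ))) (DCoh.Lpull f)
  (adjMapHomotopyCategory (Scheme.Modules.pullbackPushforwardAdjunction f)).derived
    (HomotopyCategory.quasiIso Y.Modules (ComplexShape.up ℤ))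
    (HomotopyCategory.quasiIso X.Modules (ComplexShape.up ℤ))
    ((DCoh.pullKh f).totalLeftDerivedCounit DerivedCategory.Qh
      (HomotopyCategory.quasiIso Y.Modules (ComplexShape.up ℤ)))
    ((DCoh.pushKh f).totalRightDerivedUnit DerivedCategory.Qh
      (HomotopyCategory.quasiIso X.Modules (ComplexShape.up ℤ)))

end Scheme

section Comp

attribute [local instance] HasDerivedCategory.standard

variable {X Y Z : Scheme.{u}} (f : X ⟶ Y) (g : Y ⟶ Z)
  [DCoh.HasRpush f] [DCoh.HasRpush g] [DCoh.HasRpush (f ≫ g)]

/-- `Rf_* ⋙ Rg_* ≅ R(f ≫ g)_*`. -/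
noncomputable def RpushCompIso : DCoh.Rpush f ⋙ DCoh.Rpush g ≅ DCoh.Rpush (f ≫ g) :=
  haveI := hasLpull f
  haveI := hasLpull g
  haveI := hasLpull (f ≫ g)
  (((LpullRpushAdj g).comp (LpullRpushAdj f)).ofNatIsoLeft (LpullCompIso f g)).rightAdjointUniq
    (LpullRpushAdj (f ≫ g))

end Comp

end Groth.Agent.H31.Stalk
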