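import Groth.Agent.H31.KFlatQuasiIso
import Groth.Agent.H31.KFlatBounded
import Groth.Agent.H31.KFlatSch

/-!
# Quasi-isomorphisms between K-flat complexes and tensor products: sites, rings, schemes
(helper31 library)
-/

set_option autoImplicit false
universe u
open CategoryTheory CategoryTheory.Limits HomologicalComplex MonoidalCategory

namespace Groth.Agent.H31.KFlat

variable {C : Type u} [SmallCategory C] {J : GrothendieckTopology C} {O : Sheaf J CommRingCat.{u}}

theorem quasiIso_tensor_right_of_isKFlat {P Q : CochainComplex (ModSite.Mod O) ℤ}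
    (hP : ModSite.IsKFlat P) (hQ : ModSite.IsKFlat Q) (α : P ⟶ Q) (hα : QuasiIso α)
    (F : CochainComplex (ModSite.Mod O) ℤ) :
    QuasiIso (mapBifunctorMap (𝟙 F) α (ModSite.tensorBi O) (ComplexShape.up ℤ)) := by
  have := hasExactColimitsOfShape_nat_Mod (O := O)
  exact quasiIso_mapBifunctorMap_of_kflat (ModSite.tensorBi O) tensorLike_tensorBi α
    ((isKFlat_iff P).1 hP) ((isKFlat_iff Q).1 hQ) F

end Groth.Agent.H31.KFlat

namespace Groth.Agent.H31.KFlatRing

open Groth.Agent.H31.KFlat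

variable {R : Type u} [CommRing R]

instance (X : ModuleCat.{u} R) :
    PreservesColimitsOfShape ℕ ((curriedTensor (ModuleCat.{u} R)).flip.obj X) := by
  have : PreservesColimitsOfShape ℕ (tensorLeft X) := inferInstance
  exact preservesColimitsOfShape_of_natIso (BraidedCategory.tensorLeftIsoTensorRight X)

theorem quasiIso_whiskerRight_of_isKFlat (K : DRing.Cx R) (hK : DRing.IsKFlat R K)
    {L₁ L₂ : DRing.Cx R} (f : L₁ ⟶ L₂) (hf : QuasiIso f) : QuasiIso (f ▷ K) :=
  quasiIso_mapBifunctorMap_left (curriedTensor (ModuleCat.{u} R)) f K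
    ((isKFlat_iff K).1 hK _ ((quasiIso_iff_acyclic_mappingCone f).1 hf))

theorem quasiIso_whiskerLeft_of_isKFlat {P Q : DRing.Cx R} (hP : DRing.IsKFlat R P)
    (hQ : DRing.IsKFlat R Q) (α : P ⟶ Q) (hα : QuasiIso α) (L : DRing.Cx R) :
    QuasiIso (L ◁ α) := by
  have := hasExactColimitsOfShape_nat (R := R)
  exact quasiIso_mapBifunctorMap_of_kflat (curriedTensor (ModuleCat.{u} R)) tensorLike α
    ((isKFlat_iff P).1 hP) ((isKFlat_iff Q).1 hQ) L

end Groth.Agent.H31.KFlatRing

namespace Groth.Agent.H31.KFlatSch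

open Groth.Agent.H31.KFlat AlgebraicGeometry

variable {X : Scheme.{u}}

theorem quasiIso_tensor_right_of_isKFlat {P Q : CochainComplex X.Modules ℤ}
    (hP : DCoh.IsKFlat P) (hQ : DCoh.IsKFlat Q) (α : P ⟶ Q) [QuasiIso α]
    (F : CochainComplex X.Modules ℤ) :
    QuasiIso ((DCoh.tensorCx.obj F).map α) :=
  KFlat.quasiIso_tensor_right_of_isKFlat (O := X.sheaf) hP hQ α ‹QuasiIso α› F

end Groth.Agent.H31.KFlatSch
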