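import Groth.Agent.H31.StalkPullback
import Groth.Agent.H53.LeftDerOp
import Groth.Agent.H53.LBaseChange
import Groth.Agent.H40.LTensorDCoh

/-!
# The derived pullback exists and is computed on K-flat complexes (helper31 library)

* `quasiIso_of_stk` : quasi-isomorphisms of complexes of modules on a ringed space are detected on
  stalks.
* `quasiIso_pullback_map` : `f^*` preserves quasi-isomorphisms between K-flat complexes.
* `hasLeftDerivedFunctor_site` : any functor on `K(Mod O)` inverting quasi-isomorphisms between
  K-flat complexes has a left derived functor.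
* `hasLpull` : `DCoh.HasLpull f`.
* `isIso_Lpull_counit_app`, `LpullObjIso` : `Lf^* (Q P) ≅ Q (f^* P)` for `P` K-flat.
-/

set_option autoImplicit false
set_option backward.isDefEq.respectTransparency false
universe u
open CategoryTheory CategoryTheory.Limits Opposite TopologicalSpace MonoidalCategory
  HomologicalComplex AlgebraicGeometry
attribute [local instance] HasDerivedCategory.standard

namespace Groth.Agent.H31.Stalk

open Groth.Agent.H31 Groth.Agent.H31.KFlat Groth.Agent.H40.StalkTensor
  Groth.Agent.H40.FlatBridge2 Groth.Agent.H40.LeftDer Groth.Agent.H40.LTensorComp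
  Groth.Agent.H40.LTensorDCoh

section Space

variable {X : TopCat.{u}} {O : Sheaf (Opens.grothendieckTopology X) CommRingCat.{u}}

/-- Quasi-isomorphisms are detected on stalks. -/
theorem quasiIso_of_stk {K L : CochainComplex (ModSite.Mod O) ℤ} (β : K ⟶ L)
    (h : ∀ x : X, QuasiIso (((stk O x).mapHomologicalComplex (ComplexShape.up ℤ)).map β)) :
    QuasiIso β := by
  rw [quasiIso_iff_acyclic_mappingCone]
  apply acyclic_of_stk
  intro x
  exact acyclic_of_iso (CochainComplex.mappingCone.mapHomologicalComplexIso β (stk O x)).symm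
    ((quasiIso_iff_acyclic_mappingCone _).1 (h x))

end Space

section Triangulated

open Pretriangulated ObjectProperty

variable {C : Type*} [Category C] [HasZeroObject C] [HasShift C ℤ] [Preadditive C]
  [∀ (n : ℤ), (shiftFunctor C n).Additive] [Pretriangulated C] [IsTriangulated C]
  {A B : ObjectProperty C} [A.IsTriangulated] [B.IsTriangulated]
  [A.IsClosedUnderIsomorphisms] [B.IsClosedUnderIsomorphisms]

/-- If every object has a left `A`-resolution and `F` inverts the `B.trW`-morphisms between objects
of `A`, then `F` has a left derived functor with respect to `B.trW`. -/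
theorem hasLeftDerivedFunctor_of_hasLeftRes (hres : HasLeftRes A B) {H : Type*} [Category H]
    (F : C ⥤ H)
    (hF : ∀ ⦃X Y : C⦄ (f : X ⟶ Y), A X → A Y → B.trW f → IsIso (F.map f)) :
    F.HasLeftDerivedFunctor B.trW := by
  have := isLeftDerivabilityStructure hres
  have h : (B.inverseImage A.ι).trW.IsInvertedBy
      ((A.triangulatedLocalizerMorphism B).functor ⋙ F) := by
    intro X Y f hf
    rw [trW_inverseImage_ι_iff] at hf
    obtain ⟨Z, g, k, hT, hZ⟩ := hf
    exact hF f.hom X.property Y.property ⟨Z, g, k, hT, hZ.2⟩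
  exact Groth.Agent.H53.LeftDerOp.hasLeftDerivedFunctor _ h

end Triangulated

section Gen

variable {A : Type*} [Category A] [Abelian A]
  {T : A ⥤ A ⥤ A} [T.Additive] [∀ X, (T.obj X).Additive]
  [∀ (K₁ : CochainComplex A ℤ) (K₂ : CochainComplex A ℤ),
    HasMapBifunctor K₁ K₂ T (ComplexShape.up ℤ)]
  [∀ ι : Type, HasColimitsOfShape (Discrete ι) A]
  [∀ ι : Type, HasExactColimitsOfShape (Discrete ι) A]
  [∀ X : A, PreservesColimitsOfShape ℕ (T.obj X)]
  [∀ X : A, PreservesColimitsOfShape ℕ (T.flip.obj X)] [HasColimitsOfShape ℕ A]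
  [HasExactColimitsOfShape ℕ A]

/-- Any functor on the homotopy category which inverts the quasi-isomorphisms between K-flat
complexes has a left derived functor. -/
theorem hasLeftDerivedFunctor_kflat (hT : TensorLike T) {H : Type*} [Category H]
    (F : HomotopyCategory A (ComplexShape.up ℤ) ⥤ H)
    (hF : ∀ {P Q : CochainComplex A ℤ} (α : P ⟶ Q), KF T P → KF T Q → QuasiIso α →
      IsIso (F.map ((HomotopyCategory.quotient _ _).map α))) :
    F.HasLeftDerivedFunctor (HomotopyCategory.quasiIso A (ComplexShape.up ℤ)) := by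
  rw [HomotopyCategory.quasiIso_eq_trW_subcategoryAcyclic]
  refine hasLeftDerivedFunctor_of_hasLeftRes (hasLeftRes hT) F ?_
  intro X Y f hX hY hf
  obtain ⟨f', rfl⟩ : ∃ f' : X.as ⟶ Y.as, (HomotopyCategory.quotient _ _).map f' = f :=
    (HomotopyCategory.quotient _ _).map_surjective f
  refine hF f' hX hY ?_
  rwa [← HomotopyCategory.quasiIso_eq_trW_subcategoryAcyclic,
    HomotopyCategory.quotient_map_mem_quasiIso_iff, HomologicalComplex.mem_quasiIso_iff] at hf

end Gen

section Site

variable {C : Type u} [SmallCategory C] {J : GrothendieckTopology C} {O : Sheaf J CommRingCat.{u}}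

/-- Any functor on the homotopy category of `O`-modules which inverts the quasi-isomorphisms between
K-flat complexes has a left derived functor. -/
theorem hasLeftDerivedFunctor_site {H : Type*} [Category H]
    (F : HomotopyCategory (ModSite.Mod O) (ComplexShape.up ℤ) ⥤ H)
    (hF : ∀ {P Q : CochainComplex (ModSite.Mod O) ℤ} (α : P ⟶ Q), ModSite.IsKFlat P →
      ModSite.IsKFlat Q → QuasiIso α → IsIso (F.map ((HomotopyCategory.quotient _ _).map α))) :
    F.HasLeftDerivedFunctor (HomotopyCategory.quasiIso (ModSite.Mod O) (ComplexShape.up ℤ)) := by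
  have := hasExactColimitsOfShape_nat_Mod (O := O)
  exact hasLeftDerivedFunctor_kflat (T := ModSite.tensorBi O) tensorLike_tensorBi F
    (fun α hP hQ hα => hF α ((isKFlat_iff _).2 hP) ((isKFlat_iff _).2 hQ) hα)

end Site

section Scheme

variable {X Y : Scheme.{u}} (f : X ⟶ Y)

/-- `f^*` preserves quasi-isomorphisms between K-flat complexes. -/
theorem quasiIso_pullback_map {P Q : CochainComplex Y.Modules ℤ} (α : P ⟶ Q) (hα : QuasiIso α)
    (hP : DCoh.IsKFlat P) (hQ : DCoh.IsKFlat Q) :
    QuasiIso (((Scheme.Modules.pullback f).mapHomologicalComplex (ComplexShape.up ℤ)).map α) := by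
  apply quasiIso_of_stk (O := shX X)
  intro x
  have i1 : Functor.Additive (C := X.Modules) (D := ModuleCat.{u} (Rx (shX X).obj x))
    (stk (shX X) x) := stk_additive (shX X) x
  have i2 : Functor.Additive (C := Y.Modules) (D := ModuleCat.{u} (Rx (shX Y).obj (f x)))
    (stk (shX Y) (f x)) := stk_additive (shX Y) (f x)
  have i3 : Functor.Additive (C := Y.Modules) (Scheme.Modules.pullback f ⋙ stk (shX X) x) :=
    inferInstance
  have i4 : Functor.Additive (C := Y.Modules)
      (stk (shX Y) (f x) ⋙ ModuleCat.extendScalars.{u, u, u} (φx f x)) := inferInstance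
  have hP' := (isKFlat_iff_stalk (O := shX Y) P).1 hP (f x)
  have hQ' := (isKFlat_iff_stalk (O := shX Y) Q).1 hQ (f x)
  have i5 : (stk (shX Y) (f x)).PreservesHomology := inferInstance
  have hα' : QuasiIso (((stk (shX Y) (f x)).mapHomologicalComplex (ComplexShape.up ℤ)).map α) :=
    inferInstance
  have h1 := Groth.Agent.H53.LBaseChange.quasiIso_extCx_map (φx f x) _ hα' hP' hQ'
  have h2 : QuasiIso (((stk (shX Y) (f x) ⋙
      ModuleCat.extendScalars.{u, u, u} (φx f x)).mapHomologicalComplex
        (ComplexShape.up ℤ)).map α) := h1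
  exact (Groth.Agent.H53.LBaseChange.quasiIso_iff_of_natIso (stkPullbackIso f x) α).2 h2

/-- `pullKh f` inverts the quasi-isomorphisms between K-flat complexes. -/
theorem isIso_pullKh_map {P Q : CochainComplex Y.Modules ℤ} (α : P ⟶ Q) (hP : DCoh.IsKFlat P)
    (hQ : DCoh.IsKFlat Q) (hα : QuasiIso α) :
    IsIso ((DCoh.pullKh f).map ((HomotopyCategory.quotient _ _).map α)) := by
  show IsIso (DerivedCategory.Qh.map
    (((Scheme.Modules.pullback f).mapHomotopyCategory (ComplexShape.up ℤ)).map
      ((HomotopyCategory.quotient _ _).map α)))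
  rw [DerivedCategory.isIso_Qh_map_iff]
  change HomotopyCategory.quasiIso _ _ ((HomotopyCategory.quotient _ _).map
    (((Scheme.Modules.pullback f).mapHomologicalComplex _).map α))
  rw [HomotopyCategory.quotient_map_mem_quasiIso_iff, HomologicalComplex.mem_quasiIso_iff]
  exact quasiIso_pullback_map f α hα hP hQ

/-- The derived pullback exists. -/
theorem hasLpull : DCoh.HasLpull f :=
  hasLeftDerivedFunctor_site (O := shX Y) (DCoh.pullKh f)
    (fun α hP hQ hα => isIso_pullKh_map f α hP hQ hα)

/-- The counit of the derived pullback is an isomorphism on K-flat complexes. -/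
theorem isIso_Lpull_counit_app [DCoh.HasLpull f] (P : CochainComplex Y.Modules ℤ)
    (hP : DCoh.IsKFlat P) :
    IsIso (((DCoh.pullKh f).totalLeftDerivedCounit DerivedCategory.Qh
      (HomotopyCategory.quasiIso Y.Modules (ComplexShape.up ℤ))).app
        ((HomotopyCategory.quotient _ _).obj P)) := by
  have h1 : (DerivedCategory.Qh (C := Y.Modules)).IsLocalization
      (HomotopyCategory.quasiIso Y.Modules (ComplexShape.up ℤ)) := inferInstance
  have h2 : (DCoh.Lpull f).IsLeftDerivedFunctor
      ((DCoh.pullKh f).totalLeftDerivedCounit DerivedCategory.Qh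
        (HomotopyCategory.quasiIso Y.Modules (ComplexShape.up ℤ)))
      (HomotopyCategory.quasiIso Y.Modules (ComplexShape.up ℤ)) := inferInstance
  exact isIso_counit_app_site (O := shX Y) (DCoh.pullKh f)
    (fun α hP hQ hα => isIso_pullKh_map f α hP hQ hα) h1 _ h2 P hP

/-- `Lf^* (Q P) ≅ Q (f^* P)` for a K-flat complex `P`. -/
noncomputable def LpullObjIso [DCoh.HasLpull f] (P : CochainComplex Y.Modules ℤ)
    (hP : DCoh.IsKFlat P) :
    (DCoh.Lpull f).obj (DerivedCategory.Q.obj P) ≅
      DerivedCategory.Q.obj
        (((Scheme.Modules.pullback f).mapHomologicalComplex (ComplexShape.up ℤ)).obj P) :=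
  @asIso _ _ _ _ (((DCoh.pullKh f).totalLeftDerivedCounit DerivedCategory.Qh
    (HomotopyCategory.quasiIso Y.Modules (ComplexShape.up ℤ))).app
      ((HomotopyCategory.quotient _ _).obj P)) (isIso_Lpull_counit_app f P hP)

end Scheme

end Groth.Agent.H31.Stalk
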