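import Groth.Agent.H31.StalkKFlat
import Groth.Agent.H35.KFlatBC

/-!
# Stalks of pullbacks of modules along a morphism of schemes (helper31 library)

* `pushSkyIso` : `f_* (sky_x P) ≅ sky_{f x} (P restricted to O_{Y, f x})`;
* `stkPullbackIso` : `(f^* M)_x ≅ O_{X,x} ⊗_{O_{Y, f x}} M_{f x}`, naturally in `M`;
* `isKFlat_pullback` : the termwise pullback of a K-flat complex is K-flat.
-/

set_option autoImplicit false
set_option backward.isDefEq.respectTransparency false
universe u
open CategoryTheory CategoryTheory.Limits Opposite TopologicalSpace MonoidalCategory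
  HomologicalComplex AlgebraicGeometry

namespace Groth.Agent.H31.Stalk

open Groth.Agent.H31 Groth.Agent.H40.StalkTensor Groth.Agent.H40.FlatBridge2

variable {X Y : Scheme.{u}} (f : X ⟶ Y) (x : X)

/-- The map induced by `f` on the stalks of the structure sheaves. -/
noncomputable abbrev φx : Rx (shX Y).obj (f x) →+* Rx (shX X).obj x := (f.stalkMap x).hom

/-- `f_* (sky_x P) ⟶ sky_{f x} P`. -/
noncomputable def pushSkyHom (P : ModuleCat.{u} (Rx (shX X).obj x)) :
    (Scheme.Modules.pushforward f).obj ((skyF (shX X) x).obj P) ⟶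
      (skyF (shX Y) (f x)).obj ((ModuleCat.restrictScalars (φx f x)).obj P) :=
  ⟨PresheafOfModules.homMk
    (M₁ := ((Scheme.Modules.pushforward f).obj ((skyF (shX X) x).obj P)).val)
    (M₂ := skPM (shX Y).obj (f x) ((ModuleCat.restrictScalars (φx f x)).obj P))
    { app := fun V => AddCommGrpCat.ofHom
        { toFun := fun s h => (s : SkSec x P (f ⁻¹ᵁ V.unop)) ⟨h.down⟩
          map_zero' := rfl
          map_add' := fun _ _ => rfl }
      naturality := fun V W i => rfl }
    (by
      intro V r s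
      refine funext (fun h => ?_)
      exact congrArg (fun t : Rx (shX X).obj x => t • ((s : SkSec x P (f ⁻¹ᵁ V.unop)) ⟨h.down⟩))
        (Scheme.Hom.germ_stalkMap_apply f V.unop x h.down r).symm)⟩

/-- `sky_{f x} P ⟶ f_* (sky_x P)`. -/
noncomputable def pushSkyInv (P : ModuleCat.{u} (Rx (shX X).obj x)) :
    (skyF (shX Y) (f x)).obj ((ModuleCat.restrictScalars (φx f x)).obj P) ⟶
      (Scheme.Modules.pushforward f).obj ((skyF (shX X) x).obj P) :=
  ⟨PresheafOfModules.homMk
    (M₁ := skPM (shX Y).obj (f x) ((ModuleCat.restrictScalars (φx f x)).obj P))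
    (M₂ := ((Scheme.Modules.pushforward f).obj ((skyF (shX X) x).obj P)).val)
    { app := fun V => AddCommGrpCat.ofHom
        { toFun := fun s h => (s : SkSec (f x) P V.unop) ⟨h.down⟩
          map_zero' := rfl
          map_add' := fun _ _ => rfl }
      naturality := fun V W i => rfl }
    (by
      intro V r s
      refine funext (fun h => ?_)
      exact congrArg (fun t : Rx (shX X).obj x => t • ((s : SkSec (f x) P V.unop) ⟨h.down⟩))
        (Scheme.Hom.germ_stalkMap_apply f V.unop x h.down r))⟩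

/-- `f_* (sky_x P) ≅ sky_{f x} P`, naturally in `P`. -/
noncomputable def pushSkyIso :
    skyF (shX X) x ⋙ Scheme.Modules.pushforward f ≅
      ModuleCat.restrictScalars (φx f x) ⋙ skyF (shX Y) (f x) :=
  NatIso.ofComponents
    (fun P => ⟨pushSkyHom f x P, pushSkyInv f x P, rfl, rfl⟩)
    (fun g => rfl)

/-- The adjunction `f^* ⋙ (-)_x ⊣ sky_x ⋙ f_*`. -/
noncomputable def adjPullStk :
    Scheme.Modules.pullback f ⋙ stk (shX X) x ⊣ skyF (shX X) x ⋙ Scheme.Modules.pushforward f :=
  (Scheme.Modules.pullbackPushforwardAdjunction f).comp (adj (shX X) x)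

/-- The adjunction `(-)_{f x} ⋙ extension of scalars ⊣ sky_x ⋙ f_*`. -/
noncomputable def adjStkExt :
    stk (shX Y) (f x) ⋙ ModuleCat.extendScalars.{u, u, u} (φx f x) ⊣
      skyF (shX X) x ⋙ Scheme.Modules.pushforward f :=
  ((adj (shX Y) (f x)).comp (ModuleCat.extendRestrictScalarsAdj.{u, u, u} (φx f x))).ofNatIsoRight
    (pushSkyIso f x).symm

/-- The stalk of a pullback: `(f^* M)_x ≅ O_{X,x} ⊗_{O_{Y, f x}} M_{f x}`. -/
noncomputable def stkPullbackIso :
    Scheme.Modules.pullback f ⋙ stk (shX X) x ≅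
      stk (shX Y) (f x) ⋙ ModuleCat.extendScalars.{u, u, u} (φx f x) :=
  (adjPullStk f x).leftAdjointUniq (adjStkExt f x)

/-- The termwise pullback of a K-flat complex is K-flat. -/
theorem isKFlat_pullback (K : CochainComplex Y.Modules ℤ) (hK : DCoh.IsKFlat K) :
    DCoh.IsKFlat (((Scheme.Modules.pullback f).mapHomologicalComplex (ComplexShape.up ℤ)).obj K) := by
  have h0 : DCoh.IsKFlat K ↔ ModSite.IsKFlat (O := shX Y) K := Iff.rfl
  have h1 := (isKFlat_iff_stalk (O := shX Y) K).1 (h0.1 hK)
  have h0' : DCoh.IsKFlat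
      (((Scheme.Modules.pullback f).mapHomologicalComplex (ComplexShape.up ℤ)).obj K) ↔
      ModSite.IsKFlat (O := shX X)
        (((Scheme.Modules.pullback f).mapHomologicalComplex (ComplexShape.up ℤ)).obj K) := Iff.rfl
  rw [h0', isKFlat_iff_stalk]
  intro x
  have h2 := Groth.Agent.H35.KFlatBC.isKFlat_extCx (φx f x) _ (h1 (f x))
  have i1 : Functor.Additive (C := X.Modules) (D := ModuleCat.{u} (Rx (shX X).obj x))
    (stk (shX X) x) := stk_additive (shX X) x
  have i2 : Functor.Additive (C := Y.Modules) (D := ModuleCat.{u} (Rx (shX Y).obj (f x)))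
    (stk (shX Y) (f x)) := stk_additive (shX Y) (f x)
  have i3 : Functor.Additive (C := Y.Modules) (Scheme.Modules.pullback f ⋙ stk (shX X) x) :=
    inferInstance
  have i4 : Functor.Additive (C := Y.Modules)
      (stk (shX Y) (f x) ⋙ ModuleCat.extendScalars.{u, u, u} (φx f x)) := inferInstance
  have e := (NatIso.mapHomologicalComplex (stkPullbackIso f x) (ComplexShape.up ℤ)).app K
  exact DRing_isKFlat_of_iso e.symm h2

end Groth.Agent.H31.Stalk
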