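import Groth.Agent.H31.TensorAssoc
import Groth.Agent.H31.KFlatSite
import Groth.Agent.H31.FlatSite
import Mathlib.Algebra.Homology.BifunctorAssociator

/-!
# The tensor product of two K-flat complexes is K-flat (helper31 library)
-/

set_option autoImplicit false
universe u
open CategoryTheory CategoryTheory.Limits HomologicalComplex

namespace Groth.Agent.H31.KFlat

variable {C : Type u} [SmallCategory C] {J : GrothendieckTopology C} {O : Sheaf J CommRingCat.{u}}

/-- Associativity of the total tensor product of complexes of `O`-modules. -/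
noncomputable def tensorCxAssocIso (M K L : CochainComplex (ModSite.Mod O) ℤ) :
    mapBifunctor (mapBifunctor M K (ModSite.tensorBi O) (ComplexShape.up ℤ)) L
        (ModSite.tensorBi O) (ComplexShape.up ℤ) ≅
      mapBifunctor M (mapBifunctor K L (ModSite.tensorBi O) (ComplexShape.up ℤ))
        (ModSite.tensorBi O) (ComplexShape.up ℤ) :=
  haveI : HasGoodTrifunctor₁₂Obj (ModSite.tensorBi O) (ModSite.tensorBi O) M K L
      (ComplexShape.up ℤ) (ComplexShape.up ℤ) := fun _ _ => inferInstance
  haveI : HasGoodTrifunctor₂₃Obj (ModSite.tensorBi O) (ModSite.tensorBi O) M K L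
      (ComplexShape.up ℤ) (ComplexShape.up ℤ) (ComplexShape.up ℤ) := fun _ _ => inferInstance
  mapBifunctorAssociator tensorBiAssociator M K L (ComplexShape.up ℤ) (ComplexShape.up ℤ)
    (ComplexShape.up ℤ)

/-- The total tensor product of two K-flat complexes is K-flat. -/
theorem isKFlat_tensorCx (K L : CochainComplex (ModSite.Mod O) ℤ) (hK : ModSite.IsKFlat K)
    (hL : ModSite.IsKFlat L) : ModSite.IsKFlat (((ModSite.tensorCx O).obj K).obj L) := by
  rw [isKFlat_iff] at hK hL ⊢
  intro M hM
  exact acyclic_of_iso (tensorCxAssocIso M K L) (hL _ (hK M hM))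

end Groth.Agent.H31.KFlat
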