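import Groth.Agent.H31.PullTensor
import Groth.Agent.H31.Lpull
import Groth.Agent.H31.KFlatTensor
import Groth.Agent.H31.KFlatResolutionSite
import Groth.Agent.H40.LTensorInv
import Groth.Prelude.Def_DCoh4

/-!
# Derived pullback commutes with the derived tensor product (helper31 library)

* `pullTotIso f K₁ K₂ : f^* Tot (K₁ ⊗ K₂) ≅ Tot (f^* K₁ ⊗ f^* K₂)`;
* `Lpull_LTensor f L hL K : Lf^* (K ⊗^L L) ≅ Lf^* K ⊗^L f^* L` for `L` K-flat.
-/

set_option autoImplicit false
set_option backward.isDefEq.respectTransparency false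
universe u
open CategoryTheory CategoryTheory.Limits Opposite TopologicalSpace MonoidalCategory
  HomologicalComplex AlgebraicGeometry
attribute [local instance] HasDerivedCategory.standard

namespace Groth.Agent.H31.PullTensor

open Groth.Agent.H31 Groth.Agent.H31.Stalk Groth.Agent.H31.Mate Groth.Agent.H31.KFlat

variable {X Y : Scheme.{u}} (f : X ⟶ Y)

/-- The pullback functor, typed on `ModSite.Mod`. -/
noncomputable abbrev pb : ModSite.Mod (shX Y) ⥤ ModSite.Mod (shX X) := Scheme.Modules.pullback f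

instance pb_additive : (pb f).Additive :=
  (inferInstance : (Scheme.Modules.pullback f).Additive)

instance pb_preservesCoproducts (J : Type) : PreservesColimitsOfShape (Discrete J) (pb f) :=
  (inferInstance : PreservesColimitsOfShape (Discrete J) (Scheme.Modules.pullback f))

/-- Termwise pullback of complexes. -/
noncomputable abbrev fC : CochainComplex (ModSite.Mod (shX Y)) ℤ ⥤
    CochainComplex (ModSite.Mod (shX X)) ℤ :=
  (pb f).mapHomologicalComplex (ComplexShape.up ℤ)

theorem pullμ_natural' {M M' N N' : ModSite.Mod (shX Y)} (a : M ⟶ M') (b : N ⟶ N') :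
    (pb f).map (Mate.bimap (ModSite.tensorBi (shX Y)) a b) ≫ pullμ f M' N' =
      pullμ f M N ≫ Mate.bimap (ModSite.tensorBi (shX X)) ((pb f).map a) ((pb f).map b) :=
  pullμ_natural f a b

theorem pullTensorIso_natural_left {M M' : ModSite.Mod (shX Y)} (a : M ⟶ M')
    (N : ModSite.Mod (shX Y)) :
    (pb f).map (((ModSite.tensorBi (shX Y)).map a).app N) ≫ (pullTensorIso f M' N).hom =
      (pullTensorIso f M N).hom ≫
        ((ModSite.tensorBi (shX X)).map ((pb f).map a)).app ((pb f).obj N) := by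
  have h := pullμ_natural' f a (𝟙 N)
  have e1 : Mate.bimap (ModSite.tensorBi (shX Y)) a (𝟙 N) =
      ((ModSite.tensorBi (shX Y)).map a).app N := by
    unfold Mate.bimap
    rw [CategoryTheory.Functor.map_id, Category.comp_id]
  have e2 : Mate.bimap (ModSite.tensorBi (shX X)) ((pb f).map a) ((pb f).map (𝟙 N)) =
      ((ModSite.tensorBi (shX X)).map ((pb f).map a)).app ((pb f).obj N) := by
    unfold Mate.bimap
    rw [CategoryTheory.Functor.map_id, CategoryTheory.Functor.map_id, Category.comp_id]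
  rw [e1, e2] at h
  exact h

theorem pullTensorIso_natural_right (M : ModSite.Mod (shX Y)) {N N' : ModSite.Mod (shX Y)}
    (b : N ⟶ N') :
    (pb f).map (((ModSite.tensorBi (shX Y)).obj M).map b) ≫ (pullTensorIso f M N').hom =
      (pullTensorIso f M N).hom ≫
        ((ModSite.tensorBi (shX X)).obj ((pb f).obj M)).map ((pb f).map b) := by
  have h := pullμ_natural' f (𝟙 M) b
  have e1 : Mate.bimap (ModSite.tensorBi (shX Y)) (𝟙 M) b =
      ((ModSite.tensorBi (shX Y)).obj M).map b := by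
    unfold Mate.bimap
    rw [CategoryTheory.Functor.map_id, NatTrans.id_app, Category.id_comp]
  have e2 : Mate.bimap (ModSite.tensorBi (shX X)) ((pb f).map (𝟙 M)) ((pb f).map b) =
      ((ModSite.tensorBi (shX X)).obj ((pb f).obj M)).map ((pb f).map b) := by
    unfold Mate.bimap
    rw [CategoryTheory.Functor.map_id, CategoryTheory.Functor.map_id, NatTrans.id_app, Category.id_comp]
  rw [e1, e2] at h
  exact h

/-- `f^* Tot (K₁ ⊗ K₂) ≅ Tot (f^* K₁ ⊗ f^* K₂)`. -/
noncomputable def pullTotIso (K₁ K₂ : CochainComplex (ModSite.Mod (shX Y)) ℤ) :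
    (fC f).obj (mapBifunctor K₁ K₂ (ModSite.tensorBi (shX Y)) (ComplexShape.up ℤ)) ≅
      mapBifunctor ((fC f).obj K₁) ((fC f).obj K₂) (ModSite.tensorBi (shX X))
        (ComplexShape.up ℤ) :=
  KFlat.totIso (ModSite.tensorBi (shX Y)) (ModSite.tensorBi (shX X)) (pb f)
    K₁ K₂ ((fC f).obj K₁) ((fC f).obj K₂)
    (fun p q => pullTensorIso f (K₁.X p) (K₂.X q))
    (fun p q => pullTensorIso_natural_left f (K₁.d p (p + 1)) (K₂.X q))
    (fun p q => pullTensorIso_natural_right f (K₁.X p) (K₂.d q (q + 1)))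

section Derived

/-- `(Q P) ⊗^L E ≅ Q (Tot (P ⊗ E))` for a K-flat complex `E`. -/
noncomputable def LTensorCxObjIso {Z : Scheme.{u}} (E : CochainComplex Z.Modules ℤ)
    [DCoh.HasLTensorCx E] (hE : DCoh.IsKFlat E) (P : CochainComplex Z.Modules ℤ) :
    (DCoh.LTensorCx E).obj (DerivedCategory.Q.obj P) ≅
      DerivedCategory.Q.obj ((DCoh.tensorCx.obj P).obj E) :=
  haveI : ModSite.HasLTensorCx (O := shX Z) E := ‹DCoh.HasLTensorCx E›
  haveI : IsIso (Groth.Agent.H40.LTensorInv.ε (O := shX Z) E) :=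
    Groth.Agent.H40.LTensorInv.isIso_ε_of_isKFlat (O := shX Z) E hE
  (asIso (Groth.Agent.H40.LTensorInv.ε (O := shX Z) E)).app P

variable [DCoh.HasLpull f] (L : CochainComplex Y.Modules ℤ) (hL : DCoh.IsKFlat L)
  [DCoh.HasLTensorCx L]
  [DCoh.HasLTensorCx (((Scheme.Modules.pullback f).mapHomologicalComplex
    (ComplexShape.up ℤ)).obj L)]

include hL in
/-- `Lf^* (K ⊗^L L) ≅ Lf^* K ⊗^L f^* L` for a K-flat complex `L`. -/
theorem Lpull_LTensor (K : DCoh.D Y) :
    Nonempty ((DCoh.Lpull f).obj ((DCoh.LTensorCx L).obj K) ≅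
      (DCoh.LTensorCx (((Scheme.Modules.pullback f).mapHomologicalComplex
        (ComplexShape.up ℤ)).obj L)).obj ((DCoh.Lpull f).obj K)) := by
  obtain ⟨P, q, hP, -, hq, -⟩ :=
    KFlat.exists_isKFlat_resolution (O := shX Y) (DerivedCategory.Q.objPreimage K)
  have hq' : IsIso (DerivedCategory.Q.map q) :=
    (DerivedCategory.isIso_Q_map_iff_quasiIso _ _).2 hq
  let e0 : DerivedCategory.Q.obj P ≅ K :=
    asIso (DerivedCategory.Q.map q) ≪≫ DerivedCategory.Q.objObjPreimageIso K
  have hP' : DCoh.IsKFlat P := hP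
  have hfL := isKFlat_pullback f L hL
  have hPL : DCoh.IsKFlat ((DCoh.tensorCx.obj P).obj L) :=
    KFlat.isKFlat_tensorCx (O := shX Y) P L hP hL
  let a1 := (DCoh.Lpull f).mapIso ((DCoh.LTensorCx L).mapIso e0.symm)
  let a2 := (DCoh.Lpull f).mapIso (LTensorCxObjIso L hL P)
  let a3 := LpullObjIso f _ hPL
  let a4 := (DerivedCategory.Q (C := X.Modules)).mapIso (pullTotIso f P L)
  let b1 := (DCoh.LTensorCx (((Scheme.Modules.pullback f).mapHomologicalComplex
    (ComplexShape.up ℤ)).obj L)).mapIso ((DCoh.Lpull f).mapIso e0.symm)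
  let b2 := (DCoh.LTensorCx (((Scheme.Modules.pullback f).mapHomologicalComplex
    (ComplexShape.up ℤ)).obj L)).mapIso (LpullObjIso f P hP')
  let b3 := LTensorCxObjIso (((Scheme.Modules.pullback f).mapHomologicalComplex
    (ComplexShape.up ℤ)).obj L) hfL
    (((Scheme.Modules.pullback f).mapHomologicalComplex (ComplexShape.up ℤ)).obj P)
  exact ⟨a1 ≪≫ a2 ≪≫ a3 ≪≫ a4 ≪≫ b3.symm ≪≫ b2.symm ≪≫ b1.symm⟩

end Derived

end Groth.Agent.H31.PullTensor
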