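import Groth.Agent.H31.GrothAb
import Mathlib.Algebra.Category.ModuleCat.Sheaf.Localization
import Mathlib.Algebra.Category.ModuleCat.Sheaf.PushforwardContinuous
import Mathlib.CategoryTheory.Sites.PreservesLocallyBijective
import Mathlib.CategoryTheory.Adjunction.AdjointFunctorTheorems
import Mathlib.CategoryTheory.Abelian.Subobject

/-!
# Pushforward of sheaves of modules along a cocontinuous functor preserves colimits
(helper31 library)
-/

set_option autoImplicit false
universe u v₁ v₂ v₃ u₁ u₂ u₃
open CategoryTheory CategoryTheory.Limits Opposite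

namespace Groth.Agent.H31.PushColim

section General

variable {A : Type u₁} [Category.{v₁} A] {B : Type u₂} [Category.{v₂} B]
  {D : Type u₃} [Category.{v₃} D]

/-- If `L ⊣ i` is a reflective adjunction and `L ⋙ Φ` preserves colimits of shape `K`, then so
does `Φ`. -/
theorem preservesColimitsOfShape_of_reflective {L : A ⥤ B} {i : B ⥤ A} (adj : L ⊣ i)
    [i.Full] [i.Faithful] (Φ : B ⥤ D) (K : Type*) [Category K] [HasColimitsOfShape K A]
    [PreservesColimitsOfShape K (L ⋙ Φ)] : PreservesColimitsOfShape K Φ := by
  have : PreservesColimitsOfSize.{_, _} L := adj.leftAdjoint_preservesColimits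
  constructor
  intro G
  let e : (G ⋙ i) ⋙ L ≅ G :=
    Functor.associator _ _ _ ≪≫ Functor.isoWhiskerLeft G (asIso adj.counit) ≪≫
      Functor.rightUnitor G
  let c' := colimit.cocone (G ⋙ i)
  let c : Cocone G := (Cocone.precompose e.inv).obj (L.mapCocone c')
  have hc : IsColimit c :=
    (IsColimit.precomposeInvEquiv e _).symm (isColimitOfPreserves L (colimit.isColimit _))
  refine preservesColimit_of_preserves_colimit_cocone hc ?_
  have h2 : IsColimit ((L ⋙ Φ).mapCocone c') :=
    isColimitOfPreserves (L ⋙ Φ) (colimit.isColimit _)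
  let e' : (G ⋙ i) ⋙ L ⋙ Φ ≅ G ⋙ Φ :=
    (Functor.associator _ _ _).symm ≪≫ Functor.isoWhiskerRight e Φ
  have h3 : IsColimit ((Cocone.precompose e'.inv).obj ((L ⋙ Φ).mapCocone c')) :=
    (IsColimit.precomposeInvEquiv e' _).symm h2
  refine IsColimit.ofIsoColimit h3 (Cocone.ext (Iso.refl _) ?_)
  intro j
  simp [c, e', e]

end General

section Push

variable {C D : Type u} [SmallCategory C] [SmallCategory D]
  (J : GrothendieckTopology C) (K : GrothendieckTopology D) (F : C ⥤ D)
  [F.IsContinuous J K] [F.IsCocontinuous J K]
  {S : Sheaf J RingCat.{u}} {R : Sheaf K RingCat.{u}}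
  (φ : S ⟶ (F.sheafPushforwardContinuous RingCat.{u} J K).obj R)

/-- A morphism of presheaves of modules becomes an isomorphism after sheafification iff
it is in `W`. -/
theorem isIso_sheafification_map_iff {J : GrothendieckTopology C} (S : Sheaf J RingCat.{u})
    {A B : PresheafOfModules.{u} S.obj} (ψ : A ⟶ B) :
    IsIso ((PresheafOfModules.sheafification.{u} (𝟙 S.obj)).map ψ) ↔
      J.W ((PresheafOfModules.toPresheaf S.obj).map ψ) := by
  have h := PresheafOfModules.inverseImage_W_toPresheaf_eq_inverseImage_isomorphisms.{u}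
    (J := J) (R₀ := S.obj) (R := S) (𝟙 S.obj)
  have h2 := congrFun (congrFun (congrFun h A) B) ψ
  exact (Iff.of_eq h2).symm

theorem W_unit (A : PresheafOfModules.{u} R.obj) :
    K.W ((PresheafOfModules.toPresheaf R.obj).map
      ((PresheafOfModules.sheafificationAdjunction.{u} (𝟙 R.obj)).unit.app A)) :=
  K.W_toSheafify A.presheaf

theorem isIso_map_pushforward_unit (A : PresheafOfModules.{u} R.obj) :
    IsIso ((PresheafOfModules.sheafification.{u} (𝟙 S.obj)).map
      ((PresheafOfModules.pushforward.{u} φ.hom).map
        ((PresheafOfModules.sheafificationAdjunction.{u} (𝟙 R.obj)).unit.app A))) := by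
  rw [isIso_sheafification_map_iff]
  have h := (GrothendieckTopology.W_iff_isLocallyBijective _ _).1 (W_unit K A)
  obtain ⟨h1, h2⟩ := h
  exact (GrothendieckTopology.W_iff_isLocallyBijective J
    (Functor.whiskerLeft F.op ((PresheafOfModules.toPresheaf R.obj).map
      ((PresheafOfModules.sheafificationAdjunction.{u} (𝟙 R.obj)).unit.app A)))).2
    ⟨Presheaf.isLocallyInjective_whisker J K F _,
    Presheaf.isLocallySurjective_whisker J K F _⟩

/-- Pushforward along a continuous and cocontinuous functor commutes with sheafification. -/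
noncomputable def pushShfIso :
    PresheafOfModules.pushforward.{u} φ.hom ⋙
      PresheafOfModules.sheafification.{u} (R₀ := S.obj) (R := S) (𝟙 S.obj) ≅
      PresheafOfModules.sheafification.{u} (R₀ := R.obj) (R := R) (𝟙 R.obj) ⋙
        SheafOfModules.pushforward.{u} φ :=
  NatIso.ofComponents (fun A => by
      have := isIso_map_pushforward_unit J K F φ A
      have hc : IsIso (PresheafOfModules.sheafificationAdjunction.{u} (R₀ := S.obj) (R := S)
        (𝟙 S.obj)).counit := inferInstance
      have hc2 := NatIso.isIso_app_of_isIso (PresheafOfModules.sheafificationAdjunction.{u}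
        (R₀ := S.obj) (R := S) (𝟙 S.obj)).counit ((SheafOfModules.pushforward.{u} φ).obj
            ((PresheafOfModules.sheafification.{u} (R₀ := R.obj) (R := R) (𝟙 R.obj)).obj A))
      exact asIso ((PresheafOfModules.sheafification.{u} (R₀ := S.obj) (R := S) (𝟙 S.obj)).map
        ((PresheafOfModules.pushforward.{u} φ.hom).map
          ((PresheafOfModules.sheafificationAdjunction.{u} (R₀ := R.obj) (R := R) (𝟙 R.obj)).unit.app A))) ≪≫
        @asIso _ _ _ _ ((PresheafOfModules.sheafificationAdjunction.{u} (R₀ := S.obj) (R := S)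
          (𝟙 S.obj)).counit.app
          ((SheafOfModules.pushforward.{u} φ).obj
            ((PresheafOfModules.sheafification.{u} (R₀ := R.obj) (R := R) (𝟙 R.obj)).obj A))) hc2)
    (by
      intro A B g
      have hη := (PresheafOfModules.sheafificationAdjunction.{u} (R := R)
        (𝟙 R.obj)).unit.naturality g
      have hε := (PresheafOfModules.sheafificationAdjunction.{u} (R := S)
        (𝟙 S.obj)).counit.naturality
        ((SheafOfModules.pushforward.{u} φ).map
          ((PresheafOfModules.sheafification.{u} (R₀ := R.obj) (R := R) (𝟙 R.obj)).map g))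
      dsimp at hη hε ⊢
      rw [← Category.assoc, ← Functor.map_comp, ← Functor.map_comp, hη, Functor.map_comp,
        Functor.map_comp, Category.assoc, Category.assoc]
      congr 1)

theorem preservesColimitsOfShape_pushforwardPre (K' : Type u) [SmallCategory K']
    {S : Cᵒᵖ ⥤ RingCat.{u}} {R : Dᵒᵖ ⥤ RingCat.{u}} (φ : S ⟶ F.op ⋙ R) :
    PreservesColimitsOfShape K' (PresheafOfModules.pushforward.{u} φ) := by
  have : ReflectsColimitsOfShape K' (PresheafOfModules.toPresheaf.{u} S) :=
    reflectsColimitsOfShape_of_reflectsIsomorphisms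
  have : PreservesColimitsOfShape K' (PresheafOfModules.pushforward.{u} φ ⋙
      PresheafOfModules.toPresheaf.{u} S) :=
    inferInstanceAs (PreservesColimitsOfShape K' (PresheafOfModules.toPresheaf.{u} R ⋙
      (Functor.whiskeringLeft _ _ _).obj F.op))
  exact preservesColimitsOfShape_of_reflects_of_preserves _ (PresheafOfModules.toPresheaf.{u} S)

theorem preservesColimitsOfShape_pushforward (K' : Type u) [SmallCategory K'] :
    PreservesColimitsOfShape K' (SheafOfModules.pushforward.{u} φ) := by
  have h1 := preservesColimitsOfShape_pushforwardPre F K' φ.hom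
  have h2 : PreservesColimitsOfShape K'
      (PresheafOfModules.sheafification.{u} (R₀ := R.obj) (R := R) (𝟙 R.obj) ⋙
        SheafOfModules.pushforward.{u} φ) :=
    preservesColimitsOfShape_of_natIso (pushShfIso J K F φ)
  exact preservesColimitsOfShape_of_reflective
    (PresheafOfModules.sheafificationAdjunction.{u} (R₀ := R.obj) (R := R) (𝟙 R.obj))
    (SheafOfModules.pushforward.{u} φ) K'

theorem isLeftAdjoint_pushforward : (SheafOfModules.pushforward.{u} φ).IsLeftAdjoint := by
  have : PreservesColimitsOfSize.{u, u} (SheafOfModules.pushforward.{u} φ) :=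
    ⟨fun {K'} _ => preservesColimitsOfShape_pushforward J K F φ K'⟩
  have := GrothAb.isGrothendieckAbelian K R
  have h1 : WellPowered.{u} (SheafOfModules.{u} R) := inferInstance
  have h2 : WellPowered.{u} (SheafOfModules.{u} R)ᵒᵖ := Abelian.wellPowered_opposite
  exact isLeftAdjoint_of_preservesColimits_of_isSeparating (GrothAb.isSeparating_gen K R)
    (SheafOfModules.pushforward.{u} φ)

end Push

end Groth.Agent.H31.PushColim
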