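import Groth.Agent.H31.ExtZeroProj
import Groth.Agent.H31.FlatSite
import Groth.Agent.H31.PushColim

/-!
# Extension by zero for sheaves of modules: explicit description, exactness, projection formula
(helper31 library)
-/

set_option autoImplicit false
universe u
open CategoryTheory CategoryTheory.Limits MonoidalCategory Opposite

namespace Groth.Agent.H31.ExtZero

open Groth.Agent.H31

variable {C : Type u} [SmallCategory C] {J : GrothendieckTopology C} (O : Sheaf J CommRingCat.{u})
  (U : C)

/-- The explicit extension by zero on sheaves of modules. -/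
noncomputable def jSh : ModSite.Mod (O.over U) ⥤ ModSite.Mod O :=
  toPM (O.over U) ⋙ jPre (O := O) (U := U) ⋙ shf O

/-- Auxiliary isomorphism for `jShAdj`. -/
noncomputable def comm1Iso :
    toPM (O.over U) ⋙ (jPre (O := O) (U := U) ⋙ shf O) ≅ jSh O U ⋙ 𝟭 (ModSite.Mod O) :=
  (Functor.rightUnitor (jSh O U)).symm

/-- Auxiliary isomorphism for `jShAdj`. -/
noncomputable def comm2Iso :
    𝟭 (ModSite.Mod O) ⋙ (incl O ⋙ res O U) ≅ ModSite.restr O U ⋙ toPM (O.over U) :=
  Functor.leftUnitor _ ≪≫ NatIso.ofComponents (fun P => Iso.refl _) (by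
    intro P Q f
    simp
    rfl)

/-- The adjunction between the explicit extension by zero and restriction. -/
noncomputable def jShAdj : jSh O U ⊣ ModSite.restr O U :=
  ((jPreAdj (O := O) (U := U)).comp (shfAdj O)).restrictFullyFaithful
    (iC := toPM (O.over U)) (iD := 𝟭 (ModSite.Mod O))
    (SheafOfModules.fullyFaithfulForget _) (Functor.FullyFaithful.id _)
    (comm1Iso O U) (comm2Iso O U)

/-- The prelude's extension by zero is the explicit one. -/
noncomputable def extZeroIso : ModSite.extZero O U ≅ jSh O U :=
  (ModSite.extZeroAdj O U).leftAdjointUniq (jShAdj O U)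

instance jSh_preservesFiniteLimits : PreservesFiniteLimits (jSh O U) := by
  unfold jSh
  infer_instance

theorem extZero_preservesFiniteLimits : PreservesFiniteLimits (ModSite.extZero O U) :=
  preservesFiniteLimits_of_natIso (extZeroIso O U).symm

/-- `shf_U ⋙ j_!` and `j_!^{pre} ⋙ shf` agree: both are left adjoint to `incl ⋙ res`. -/
noncomputable def kappa :
    jPre (O := O) (U := U) ⋙ shf O ≅ shf (O.over U) ⋙ jSh O U :=
  ((jPreAdj (O := O) (U := U)).comp (shfAdj O)).leftAdjointUniq
    (((shfAdj (O.over U)).comp (jShAdj O U)).ofNatIsoRight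
      (NatIso.ofComponents (fun P => Iso.refl _) (by
        intro P Q f
        simp
        rfl)))

variable {O U}

/-- Projection formula `j_!(P ⊗ N|_U) ≅ j_! P ⊗ N`, natural in `P`. -/
noncomputable def projIsoLeft (N₀ : PM O) :
    T (O := O.over U) ((res O U).obj N₀) ⋙ jSh O U ≅ jSh O U ⋙ T N₀ :=
  Functor.isoWhiskerLeft (toPM (O.over U) ⋙ tensorRight ((res O U).obj N₀)) (kappa O U).symm ≪≫
    Functor.isoWhiskerLeft (toPM (O.over U))
      (Functor.isoWhiskerRight (thetaIsoLeft N₀) (shf O)) ≪≫
    Functor.isoWhiskerLeft (toPM (O.over U) ⋙ jPre (O := O) (U := U)) (tensorShfIso N₀)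

/-- Tensoring on the left with the sheafification of `B` is tensoring with `B`, then
sheafifying. -/
noncomputable def tensorLeftShfIso (B : PM O) :
    toPM O ⋙ tensorLeft B ⋙ shf O ≅ toPM O ⋙ tensorLeft ((toPM O).obj ((shf O).obj B)) ⋙ shf O :=
  NatIso.ofComponents
    (fun M => by
      have := isIso_shf_map_whiskerRight (η B) ((toPM O).obj M)
      exact asIso ((shf O).map (η B ▷ (toPM O).obj M)))
    (by
      intro M M' f
      dsimp
      rw [← Functor.map_comp, ← Functor.map_comp, whisker_exchange])

/-- Projection formula `j_!(P ⊗ N|_U) ≅ j_! P ⊗ N`, natural in `N`. -/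
noncomputable def projIsoRight (P : ModSite.Mod (O.over U)) :
    ModSite.restr O U ⋙ (ModSite.tensorBi (O.over U)).obj P ⋙ jSh O U ≅
      (ModSite.tensorBi O).obj ((jSh O U).obj P) :=
  Functor.isoWhiskerLeft (ModSite.restr O U ⋙ toPM (O.over U) ⋙
      tensorLeft ((toPM (O.over U)).obj P)) (kappa O U).symm ≪≫
    Functor.isoWhiskerRight (show ModSite.restr O U ⋙ toPM (O.over U) ⋙
        tensorLeft ((toPM (O.over U)).obj P) ⋙ jPre (O := O) (U := U) ≅
        toPM O ⋙ tensorLeft (jObj ((toPM (O.over U)).obj P)) from
      NatIso.ofComponents (fun N => (thetaIsoRight ((toPM (O.over U)).obj P)).app ((toPM O).obj N))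
        (fun {N N'} f => (thetaIsoRight ((toPM (O.over U)).obj P)).hom.naturality
          ((toPM O).map f))) (shf O) ≪≫
    tensorLeftShfIso (jObj ((toPM (O.over U)).obj P))

/-! ### Faithfulness -/

variable (O U)

attribute [local instance] Classical.propDecidable in
theorem mono_jPreAdj_unit_app (A : PM (O.over U)) :
    Mono ((jPreAdj (O := O) (U := U)).unit.app A) := by
  refine PresheafOfModules.mono_of_injective (fun X => ?_)
  intro x y hxy
  have h := (unit_app_apply A X.unop x).symm.trans (hxy.trans (unit_app_apply A X.unop y))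
  exact DirectSum.of_injective (β := fun f' : X.unop.left ⟶ U => cmp A f') X.unop.hom h

theorem toPM_map_jShAdj_unit_app (G : ModSite.Mod (O.over U)) :
    (toPM (O.over U)).map ((jShAdj O U).unit.app G) =
      (jPreAdj (O := O) (U := U)).unit.app ((toPM (O.over U)).obj G) ≫
        (res O U).map (η ((jPre (O := O) (U := U)).obj ((toPM (O.over U)).obj G))) := by
  have h := Adjunction.map_restrictFullyFaithful_unit_app
    (adj := (jPreAdj (O := O) (U := U)).comp (shfAdj O))
    (iC := toPM (O.over U)) (iD := 𝟭 (ModSite.Mod O))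
    (hiC := SheafOfModules.fullyFaithfulForget _) (hiD := Functor.FullyFaithful.id _)
    (comm1 := comm1Iso O U) (comm2 := comm2Iso O U) G
  refine h.trans ?_
  simp [Adjunction.comp_unit_app, η, comm1Iso, comm2Iso]
  rfl

theorem mono_jShAdj_unit_app (G : ModSite.Mod (O.over U)) :
    Mono ((jShAdj O U).unit.app G) := by
  have ha := mono_jPreAdj_unit_app O U ((toPM (O.over U)).obj G)
  have hb : IsIso ((shf (O.over U)).map
      ((res O U).map (η ((jPre (O := O) (U := U)).obj ((toPM (O.over U)).obj G))))) :=
    isIso_shf_map_res U (η ((jPre (O := O) (U := U)).obj ((toPM (O.over U)).obj G)))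
  have e : (shf (O.over U)).map ((toPM (O.over U)).map ((jShAdj O U).unit.app G)) =
      (shf (O.over U)).map ((jPreAdj (O := O) (U := U)).unit.app ((toPM (O.over U)).obj G)) ≫
      (shf (O.over U)).map
        ((res O U).map (η ((jPre (O := O) (U := U)).obj ((toPM (O.over U)).obj G)))) :=
    (congrArg (shf (O.over U)).map (toPM_map_jShAdj_unit_app O U G)).trans
      ((shf (O.over U)).map_comp _ _)
  have h1 : Mono ((shf (O.over U)).map ((toPM (O.over U)).map ((jShAdj O U).unit.app G))) := by
    rw [e]
    have h0 : Mono ((shf (O.over U)).map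
        ((jPreAdj (O := O) (U := U)).unit.app ((toPM (O.over U)).obj G))) := inferInstance
    exact @mono_comp _ _ _ _ _ _ h0 _ (@IsIso.mono_of_iso _ _ _ _ _ hb)
  have nat := (shfAdj (O.over U)).counit.naturality ((jShAdj O U).unit.app G)
  have i1 : IsIso ((shfAdj (O.over U)).counit.app G) := isIso_counit (O := O.over U) G
  have i2 : IsIso ((shfAdj (O.over U)).counit.app
      ((ModSite.restr O U).obj ((jSh O U).obj G))) := isIso_counit (O := O.over U) _
  have h3 : Mono (((incl (O.over U)) ⋙ shf (O.over U)).map ((jShAdj O U).unit.app G) ≫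
      (shfAdj (O.over U)).counit.app ((ModSite.restr O U).obj ((jSh O U).obj G))) := by
    have : Mono (((incl (O.over U)) ⋙ shf (O.over U)).map ((jShAdj O U).unit.app G)) := h1
    exact mono_comp _ _
  have h2 : Mono ((shfAdj (O.over U)).counit.app G ≫ (jShAdj O U).unit.app G) := by
    have nat' : ((incl (O.over U)) ⋙ shf (O.over U)).map ((jShAdj O U).unit.app G) ≫
        (shfAdj (O.over U)).counit.app ((ModSite.restr O U).obj ((jSh O U).obj G)) =
        (shfAdj (O.over U)).counit.app G ≫ (jShAdj O U).unit.app G := nat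
    rw [← nat']
    exact h3
  exact (mono_comp_iff_of_isIso ((shfAdj (O.over U)).counit.app G)
    ((jShAdj O U).unit.app G)).1 h2

instance jSh_faithful : (jSh O U).Faithful := by
  have := mono_jShAdj_unit_app O U
  exact (jShAdj O U).faithful_L_of_mono_unit_app

instance extZero_preservesZeroMorphisms : (ModSite.extZero O U).PreservesZeroMorphisms :=
  @Functor.preservesZeroMorphisms_of_isLeftAdjoint _ _ _ _ _ _ _
    ((ModSite.extZeroAdj O U).isLeftAdjoint)

instance extZero_faithful : (ModSite.extZero O U).Faithful :=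
  Functor.Faithful.of_iso (extZeroIso O U).symm

/-- Extension by zero reflects exactness. -/
theorem exact_of_exact_map_extZero (S : ShortComplex (ModSite.Mod (O.over U)))
    (h : (S.map (ModSite.extZero O U)).Exact) : S.Exact := by
  have := extZero_preservesFiniteLimits O U
  have hl : (ModSite.extZero O U).IsLeftAdjoint := (ModSite.extZeroAdj O U).isLeftAdjoint
  have hc : PreservesFiniteColimits (ModSite.extZero O U) := inferInstance
  have h1 : (ModSite.extZero O U).PreservesLeftHomologyOf S := inferInstance
  have h2 : (ModSite.extZero O U).PreservesRightHomologyOf S := inferInstance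
  exact (ShortComplex.exact_map_iff_of_faithful S (ModSite.extZero O U)).1 h

end Groth.Agent.H31.ExtZero
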