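import Groth.Agent.H31.PushRestrict
import Groth.Agent.H31.LpullAdj
import Groth.Agent.H5.KInj.DerivedAdj
import Groth.Agent.H45.KInjAdj
import Groth.Agent.H30.ExtZeroSch
import Groth.Prelude.Def_DCoh3
import Groth.Prelude.Def_CxOX

/-!
# `Rf_*` commutes with restriction to opens (helper31)

* `uC f` : the unit of `Rf_*` on the level of complexes; `Rf_*` is the right derived functor of
  `f_* ⋙ Q` with respect to quasi-isomorphisms.
* `isKInjective_restrict` : restriction to an open subscheme preserves K-injective complexes.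
* `restrictRpushIso f V : Rf_* ⋙ (-)|_V ≅ (-)|_{f⁻¹V} ⋙ R(f|_V)_*`.
-/

set_option backward.isDefEq.respectTransparency false
set_option autoImplicit false
universe u
open CategoryTheory CategoryTheory.Limits AlgebraicGeometry
attribute [local instance] HasDerivedCategory.standard

namespace Groth.Agent.H31.RpushRestrict

open Groth.Agent.H5.KInjDer Groth.Agent.H31.Stalk Groth.Agent.H31.PushRestrict

section Unit

variable {X Y : Scheme.{u}} (f : X ⟶ Y) [DCoh.HasRpush f]

/-- The unit of `Rf_*` on the level of complexes. -/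
noncomputable abbrev uC :
    (Scheme.Modules.pushforward f).mapHomologicalComplex (ComplexShape.up ℤ) ⋙ DerivedCategory.Q ⟶
      DerivedCategory.Q ⋙ DCoh.Rpush f :=
  unitC (Scheme.Modules.pushforward f) (DCoh.Rpush f)
    ((DCoh.pushKh f).totalRightDerivedUnit DerivedCategory.Qh
      (HomotopyCategory.quasiIso X.Modules (ComplexShape.up ℤ)))

instance isRightDerivedFunctor_uC : (DCoh.Rpush f).IsRightDerivedFunctor (uC f)
    (HomologicalComplex.quasiIso X.Modules (ComplexShape.up ℤ)) :=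
  isRightDerivedFunctor_unitC _ _ _

/-- The unit of `Rf_*` is an isomorphism on K-injective complexes. -/
theorem isIso_uC_app (I : CochainComplex X.Modules ℤ) [I.IsKInjective] : IsIso ((uC f).app I) :=
  isIso_app_of_isKInjective _ (inverts_map_Q (Scheme.Modules.pushforward f)) (uC f) I

end Unit

section Restrict

variable {X : Scheme.{u}} (U : X.Opens)

/-- Restriction to an open subscheme preserves K-injective complexes. -/
theorem isKInjective_restrict (I : CochainComplex X.Modules ℤ) [I.IsKInjective] :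
    CochainComplex.IsKInjective (((Scheme.Modules.restrictFunctor U.ι).mapHomologicalComplex
      (ComplexShape.up ℤ)).obj I) :=
  Groth.Agent.H45.isKInjective_map_of_adj (CxOX.extZeroAdj U.ι) I

end Restrict

section Main

variable {X Y : Scheme.{u}} (f : X ⟶ Y) (V : Y.Opens)
  [DCoh.HasRpush f] [DCoh.HasRpush (f ∣_ V)]
  [PreservesFiniteLimits (Scheme.Modules.restrictFunctor V.ι)]
  [PreservesFiniteLimits (Scheme.Modules.restrictFunctor (f ⁻¹ᵁ V).ι)]

/-- `C(f_*) ⋙ C(res_V) ≅ C(res_U) ⋙ C(g_*)`. -/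
noncomputable def cxIso :
    (Scheme.Modules.pushforward f).mapHomologicalComplex (ComplexShape.up ℤ) ⋙
      (Scheme.Modules.restrictFunctor V.ι).mapHomologicalComplex (ComplexShape.up ℤ) ≅
    (Scheme.Modules.restrictFunctor (f ⁻¹ᵁ V).ι).mapHomologicalComplex (ComplexShape.up ℤ) ⋙
      (Scheme.Modules.pushforward (f ∣_ V)).mapHomologicalComplex (ComplexShape.up ℤ) :=
  NatIso.ofComponents
    (fun K => (NatIso.mapHomologicalComplex (pushRestrictIso f V) (ComplexShape.up ℤ)).app K)
    (fun φ => (NatIso.mapHomologicalComplex (pushRestrictIso f V)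
      (ComplexShape.up ℤ)).hom.naturality φ)

/-- The functor of which both sides are right derived functors. -/
noncomputable abbrev F₁ : CochainComplex X.Modules ℤ ⥤ DCoh.D (V : Scheme.{u}) :=
  ((Scheme.Modules.pushforward f).mapHomologicalComplex (ComplexShape.up ℤ) ⋙ DerivedCategory.Q) ⋙
    DCoh.restrictD V.ι

noncomputable abbrev F₂ : CochainComplex X.Modules ℤ ⥤ DCoh.D (V : Scheme.{u}) :=
  (Scheme.Modules.restrictFunctor (f ⁻¹ᵁ V).ι).mapHomologicalComplex (ComplexShape.up ℤ) ⋙
    ((Scheme.Modules.pushforward (f ∣_ V)).mapHomologicalComplex (ComplexShape.up ℤ) ⋙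
      DerivedCategory.Q)

noncomputable def τ : F₁ f V ≅ F₂ f V :=
  Functor.associator _ _ _ ≪≫
    Functor.isoWhiskerLeft _ (Scheme.Modules.restrictFunctor V.ι).mapDerivedCategoryFactors ≪≫
    (Functor.associator _ _ _).symm ≪≫
    Functor.isoWhiskerRight (cxIso f V) DerivedCategory.Q ≪≫ Functor.associator _ _ _

noncomputable def α₁ : F₁ f V ⟶ DerivedCategory.Q ⋙ (DCoh.Rpush f ⋙ DCoh.restrictD V.ι) :=
  Functor.whiskerRight (uC f) (DCoh.restrictD V.ι) ≫ (Functor.associator _ _ _).hom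

instance : (DCoh.Rpush f ⋙ DCoh.restrictD V.ι).IsRightDerivedFunctor (α₁ f V)
    (HomologicalComplex.quasiIso X.Modules (ComplexShape.up ℤ)) :=
  isRightDerivedFunctor_comp _ (inverts_map_Q (Scheme.Modules.pushforward f)) (uC f)
    (DCoh.restrictD V.ι)

noncomputable def α₂ :
    F₂ f V ⟶ DerivedCategory.Q ⋙ (DCoh.restrictD (f ⁻¹ᵁ V).ι ⋙ DCoh.Rpush (f ∣_ V)) :=
  Functor.whiskerLeft _ (uC (f ∣_ V)) ≫ (Functor.associator _ _ _).inv ≫
    Functor.whiskerRight
      (Scheme.Modules.restrictFunctor (f ⁻¹ᵁ V).ι).mapDerivedCategoryFactors.inv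
      (DCoh.Rpush (f ∣_ V)) ≫ (Functor.associator _ _ _).hom

theorem inverts_F₂ : (HomologicalComplex.homotopyEquivalences X.Modules
    (ComplexShape.up ℤ)).IsInvertedBy (F₂ f V) := by
  rintro K L _ ⟨e, rfl⟩
  exact inverts_map_Q (Scheme.Modules.pushforward (f ∣_ V)) _
    ⟨(Scheme.Modules.restrictFunctor (f ⁻¹ᵁ V).ι).mapHomotopyEquiv e, rfl⟩

instance : (DCoh.restrictD (f ⁻¹ᵁ V).ι ⋙ DCoh.Rpush (f ∣_ V)).IsRightDerivedFunctor (α₂ f V)
    (HomologicalComplex.quasiIso X.Modules (ComplexShape.up ℤ)) := by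
  refine isRightDerivedFunctor_of_isIso (F₂ f V) (inverts_F₂ f V) (α₂ f V) (fun I hI => ?_)
  haveI := hI
  haveI := isKInjective_restrict (f ⁻¹ᵁ V) I
  haveI := isIso_uC_app (f ∣_ V) (((Scheme.Modules.restrictFunctor (f ⁻¹ᵁ V).ι).mapHomologicalComplex
      (ComplexShape.up ℤ)).obj I)
  simp only [α₂, NatTrans.comp_app, Functor.whiskerLeft_app, Functor.associator_inv_app,
    Functor.whiskerRight_app, Functor.associator_hom_app, Category.id_comp, Category.comp_id]
  infer_instance

/-- `Rf_* ⋙ (-)|_V ≅ (-)|_{f⁻¹V} ⋙ R(f|_V)_*`. -/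
noncomputable def restrictRpushIso :
    DCoh.Rpush f ⋙ DCoh.restrictD V.ι ≅ DCoh.restrictD (f ⁻¹ᵁ V).ι ⋙ DCoh.Rpush (f ∣_ V) :=
  Functor.rightDerivedNatIso _ _ (α₁ f V) (α₂ f V)
    (HomologicalComplex.quasiIso X.Modules (ComplexShape.up ℤ)) (τ f V)

end Main

end Groth.Agent.H31.RpushRestrict
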