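import Groth.Agent.H31.GammaZCore
import Groth.Agent.S6593
import Groth.Agent.S1032
import Groth.Agent.S0476
import Groth.Agent.H6.DSum

/-!
# `RΓ_Z` and coproducts (helper31)

`RΓ_Z` commutes with coproducts of objects of `D_QCoh` as soon as `Rj_*` does.
-/

set_option backward.isDefEq.respectTransparency false
set_option autoImplicit false
set_option linter.style.haveILetI false
universe u
open CategoryTheory CategoryTheory.Limits AlgebraicGeometry TopologicalSpace Opposite Pretriangulated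
attribute [local instance] HasDerivedCategory.standard

namespace Groth.Agent.H31.GammaZCoprod

open Groth.Agent.H5.KInjDer Groth.Agent.H31.Stalk Groth.Agent.H31.RpushRestrict
  Groth.Agent.H31.LocalD Groth.Agent.H31.RpushSupport Groth.Agent.H31.OpenImmD
  Groth.Agent.H31.GammaZTri Groth.Agent.H31.SuppEquiv Groth.Agent.H31.MV Groth.Agent.H31.MVS
  Groth.Agent.H31.GammaZCore

/-- Small coproducts exist in `D(O_X)`. -/
theorem hasCoproduct_D {X : Scheme.{u}} {ι : Type u} (Y : ι → DCoh.D X) : HasCoproduct Y := by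
  haveI : IsGrothendieckAbelian.{u} X.Modules :=
    Groth.Agent.H31.GrothAb.isGrothendieckAbelian (Opens.grothendieckTopology X) X.ringCatSheaf
  let E : ι → CochainComplex X.Modules ℤ := fun i => DerivedCategory.Q.objPreimage (Y i)
  have hQ := Groth.Agent.H6.DSum.isColimitQ' E id Function.bijective_id
  haveI : HasColimit (Discrete.functor (fun i => DerivedCategory.Q.obj (E i))) := ⟨⟨⟨_, hQ⟩⟩⟩
  exact hasColimit_of_iso (F := Discrete.functor (fun i => DerivedCategory.Q.obj (E i)))
    (Discrete.natIso (fun i => (DerivedCategory.Q.objObjPreimageIso (Y i.as)).symm))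

theorem isQCohD_of_iso {X : Scheme.{u}} {K K' : DCoh.D X} (e : K ≅ K') (h : DCoh.IsQCohD K) :
    DCoh.IsQCohD K' := fun n =>
  (SheafOfModules.isQuasicoherent X.ringCatSheaf).prop_of_iso
    ((DerivedCategory.homologyFunctor X.Modules n).mapIso e) (h n)

/-- A family of isomorphisms induces an isomorphism of coproducts. -/
noncomputable def sigmaMapIso {C : Type*} [Category C] {ι : Type*} {f g : ι → C} [HasCoproduct f]
    [HasCoproduct g] (e : ∀ i, f i ≅ g i) : ∐ f ≅ ∐ g where
  hom := Limits.Sigma.map (fun i => (e i).hom)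
  inv := Limits.Sigma.map (fun i => (e i).inv)
  hom_inv_id := by
    apply Sigma.hom_ext
    intro i
    simp
  inv_hom_id := by
    apply Sigma.hom_ext
    intro i
    simp

/-- The total right derived functor of `Γ_Z` exists. -/
theorem hasRgammaZ {U X : Scheme.{u}} (j : U ⟶ X) [IsOpenImmersion j] : CxOX.HasRgammaZ j :=
  (Groth.Agent.S1032.result (A := X.Modules)
    (fun K => by
      obtain ⟨I, g, h1, h2, -, -⟩ := Groth.Agent.S0476.result K
      exact ⟨I, g, h1, h2⟩) (CxOX.gammaZKh j)).1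

section

variable {X : Scheme.{u}} (W : X.Opens) [CxOX.HasRgammaZ W.ι] [DCoh.HasRpush W.ι]

omit [CxOX.HasRgammaZ W.ι] in
theorem exists_lift_of_triangle (T : Triangle (DCoh.D X)) (hT : T ∈ distTriang (DCoh.D X))
    (hC : (DCoh.Rpush W.ι).essImage T.obj₃) (B : DCoh.D X)
    (hB : IsZero ((DCoh.restrictD W.ι).obj B)) (g : B ⟶ T.obj₂) :
    ∃ g' : B ⟶ T.obj₁, g' ≫ T.mor₁ = g := by
  obtain ⟨g', hg'⟩ := Triangle.coyoneda_exact₂ _ hT g (hom_eq_zero W B _ hB hC _)
  exact ⟨g', hg'.symm⟩

omit [CxOX.HasRgammaZ W.ι] in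
theorem lift_unique_of_triangle (T : Triangle (DCoh.D X)) (hT : T ∈ distTriang (DCoh.D X))
    (hC : (DCoh.Rpush W.ι).essImage T.obj₃) (B : DCoh.D X)
    (hB : IsZero ((DCoh.restrictD W.ι).obj B)) (g₁ g₂ : B ⟶ T.obj₁)
    (h : g₁ ≫ T.mor₁ = g₂ ≫ T.mor₁) : g₁ = g₂ := by
  have hd : (g₁ - g₂) ≫ T.mor₁ = 0 := by rw [Preadditive.sub_comp, h, sub_self]
  have hd' : (g₁ - g₂)⟦(1 : ℤ)⟧' ≫ T.mor₁⟦(1 : ℤ)⟧' = 0 := by
    rw [← Functor.map_comp, hd, Functor.map_zero]
  obtain ⟨k, hk⟩ := Triangle.coyoneda_exact₁ _ hT ((g₁ - g₂)⟦(1 : ℤ)⟧') hd'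
  have hk0 : k = 0 := hom_eq_zero W _ _ (isZero_restrictD_shift W B hB 1) hC k
  have h0 : (g₁ - g₂)⟦(1 : ℤ)⟧' = 0 := by rw [hk, hk0, zero_comp]
  have h1 : g₁ - g₂ = 0 :=
    (shiftFunctor (DCoh.D X) (1 : ℤ)).map_injective (by rw [h0, Functor.map_zero])
  exact sub_eq_zero.1 h1

/-- `RΓ_Z` commutes with coproducts of objects of `D_QCoh` if `Rj_*` does. -/
theorem main {ι : Type u} (E : ι → DCoh.D X) (hE : ∀ i, DCoh.IsQCohD (E i))
    [HasCoproduct E] [HasCoproduct (fun i => (CxOX.RgammaZ W.ι).obj (E i))]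
    (h1000 : ∀ (K : ι → DCoh.D (W : Scheme.{u})) (_ : ∀ i, DCoh.IsQCohD (K i)) [HasCoproduct K]
      [HasCoproduct (fun i => (DCoh.Rpush W.ι).obj (K i))],
      IsIso (Sigma.desc (fun i => (DCoh.Rpush W.ι).map (Sigma.ι K i)))) :
    IsIso (Sigma.desc (fun i => (CxOX.RgammaZ W.ι).map (Sigma.ι E i))) := by
  obtain ⟨adj, hcounit⟩ := exists_restrict_Rpush_adj W
  choose C u δ hC hT using fun i => exists_can_triangle W (E i)
  choose P hP using hC
  have eP : ∀ i, (DCoh.Rpush W.ι).obj (P i) ≅ C i := fun i => (hP i).some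
  have hPq : ∀ i, DCoh.IsQCohD (P i) := fun i => by
    have hz : IsZero ((DCoh.restrictD W.ι).obj ((CxOX.RgammaZ W.ι).obj (E i))) :=
      isZero_restrictD_RgammaZ W (E i)
    have hT' := (DCoh.restrictD W.ι).map_distinguished _ (hT i)
    haveI : IsIso ((DCoh.restrictD W.ι).map (u i)) := (Triangle.isZero₁_iff_isIso₂ _ hT').1 hz
    haveI : IsIso (adj.counit.app (P i)) := inferInstance
    let e : (DCoh.restrictD W.ι).obj (E i) ≅ P i :=
      asIso ((DCoh.restrictD W.ι).map (u i)) ≪≫ (DCoh.restrictD W.ι).mapIso (eP i).symm ≪≫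
        asIso (adj.counit.app (P i))
    exact isQCohD_of_iso e (isQCohD_restrictD W.ι (E i) (hE i))
  haveI : HasCoproduct C := hasCoproduct_D C
  haveI : HasCoproduct P := hasCoproduct_D P
  haveI : HasCoproduct (fun i => (DCoh.Rpush W.ι).obj (P i)) := hasCoproduct_D _
  haveI := h1000 P hPq
  have hCC : (DCoh.Rpush W.ι).essImage (∐ C) :=
    ⟨∐ P, ⟨(asIso (Sigma.desc (fun i => (DCoh.Rpush W.ι).map (Sigma.ι P i)))).symm ≪≫
      sigmaMapIso eP⟩⟩
  let Tf : ι → Triangle (DCoh.D X) := fun i =>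
    Triangle.mk ((CxOX.RgammaZToId W.ι).app (E i)) (u i) (δ i)
  haveI : HasCoproduct (fun j => (Tf j).obj₁) :=
    inferInstanceAs (HasCoproduct (fun i => (CxOX.RgammaZ W.ι).obj (E i)))
  haveI : HasCoproduct (fun j => (Tf j).obj₂) := inferInstanceAs (HasCoproduct E)
  haveI : HasCoproduct (fun j => (Tf j).obj₃) := inferInstanceAs (HasCoproduct C)
  have hTT := Groth.Agent.S6593.result Tf hT
  set TT := Triangle.mk (Limits.Sigma.map (fun j => (Tf j).mor₁))
    (Limits.Sigma.map (fun j => (Tf j).mor₂))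
    (Sigma.desc (fun j => (Tf j).mor₃ ≫
      (shiftFunctor (DCoh.D X) (1 : ℤ)).map (Sigma.ι (fun j => (Tf j).obj₁) j))) with hTTdef
  -- the coproduct of the `RΓ_Z(E i)` vanishes on `W`
  have hA : IsZero ((DCoh.restrictD W.ι).obj TT.obj₁) := by
    rw [IsZero.iff_id_eq_zero]
    apply (adj.homEquiv _ _).injective
    apply Sigma.hom_ext
    intro i
    exact (hom_eq_zero W _ _ (isZero_restrictD_RgammaZ W (E i)) ⟨_, ⟨Iso.refl _⟩⟩ _).trans
      (hom_eq_zero W _ _ (isZero_restrictD_RgammaZ W (E i)) ⟨_, ⟨Iso.refl _⟩⟩ _).symm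
  have hRc := isZero_restrictD_RgammaZ W (∐ E)
  obtain ⟨τ, hτ⟩ := exists_lift_of_triangle W TT hTT hCC _ hRc ((CxOX.RgammaZToId W.ι).app (∐ E))
  have hσ : Sigma.desc (fun i => (CxOX.RgammaZ W.ι).map (Sigma.ι E i)) ≫
      (CxOX.RgammaZToId W.ι).app (∐ E) = TT.mor₁ := by
    apply Sigma.hom_ext
    intro i
    rw [Sigma.ι_desc_assoc]
    refine ((CxOX.RgammaZToId W.ι).naturality (Sigma.ι E i)).trans ?_
    exact (Sigma.ι_map (fun j => (Tf j).mor₁) i).symm
  refine ⟨τ, ?_, ?_⟩
  · apply lift_unique_of_triangle W TT hTT hCC _ hA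
    rw [Category.assoc, hτ, hσ]
    exact (Category.id_comp _).symm
  · apply lift_unique W _ _ hRc
    rw [Category.assoc, hσ, hτ]
    exact (Category.id_comp _).symm

end

section Transfer

open Scheme.Modules in
/-- `g ≫ unit = 0` iff `k^* g = 0`. -/
theorem comp_unit_eq_zero_iff {V Y : Scheme.{u}} (k : V ⟶ Y) [IsOpenImmersion k] {T F : Y.Modules}
    (g : T ⟶ F) :
    g ≫ (restrictAdjunction k).unit.app F = 0 ↔ (restrictFunctor k).map g = 0 := by
  have h : (restrictAdjunction k).homEquiv T _ ((restrictFunctor k).map g) =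
      g ≫ (restrictAdjunction k).unit.app F := by
    rw [Adjunction.homEquiv_unit]
    exact ((restrictAdjunction k).unit.naturality g).symm
  constructor
  · intro h0
    apply ((restrictAdjunction k).homEquiv T _).injective
    rw [h, h0, Adjunction.homEquiv_unit, Functor.map_zero, comp_zero]
  · intro h0
    rw [← h, h0, Adjunction.homEquiv_unit, Functor.map_zero, comp_zero]

variable {U X : Scheme.{u}} (j : U ⟶ X) [IsOpenImmersion j]

open Scheme.Modules in
/-- Vanishing on `U` can be tested on the open subscheme `j(U)`. -/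
theorem restrict_map_eq_zero_iff {T F : X.Modules} (g : T ⟶ F) :
    (restrictFunctor j).map g = 0 ↔ (restrictFunctor j.opensRange.ι).map g = 0 := by
  let e := j.isoOpensRange
  let κ : restrictFunctor j ≅ restrictFunctor j.opensRange.ι ⋙ restrictFunctor e.hom :=
    restrictFunctorCongr (j.isoOpensRange_hom_ι).symm ≪≫ restrictFunctorComp e.hom j.opensRange.ι
  haveI : (restrictFunctor e.hom).Faithful := by
    let ρ : restrictFunctor e.hom ⋙ restrictFunctor e.inv ≅ 𝟭 _ :=
      (restrictFunctorComp e.inv e.hom).symm ≪≫ restrictFunctorCongr e.inv_hom_id ≪≫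
        restrictFunctorId
    haveI : (restrictFunctor e.hom ⋙ restrictFunctor e.inv).Faithful :=
      Functor.Faithful.of_iso ρ.symm
    exact Functor.Faithful.of_comp _ (restrictFunctor e.inv)
  have hκ : (restrictFunctor j).map g ≫ κ.hom.app F =
      κ.hom.app T ≫ (restrictFunctor e.hom).map ((restrictFunctor j.opensRange.ι).map g) :=
    κ.hom.naturality g
  constructor
  · intro h0
    apply (restrictFunctor e.hom).map_injective
    rw [Functor.map_zero, ← cancel_epi (κ.hom.app T), ← hκ, h0, zero_comp, comp_zero]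
  · intro h0
    rw [← cancel_mono (κ.hom.app F), hκ, h0, Functor.map_zero, comp_zero, zero_comp]

theorem kernelι_comp_unit (F : X.Modules) :
    kernel.ι ((Scheme.Modules.restrictAdjunction j).unit.app F) ≫
      (Scheme.Modules.restrictAdjunction j.opensRange.ι).unit.app F = 0 :=
  (comp_unit_eq_zero_iff j.opensRange.ι _).2 ((restrict_map_eq_zero_iff j _).1
    ((comp_unit_eq_zero_iff j _).1 (kernel.condition _)))

theorem kernelι_comp_unit' (F : X.Modules) :
    kernel.ι ((Scheme.Modules.restrictAdjunction j.opensRange.ι).unit.app F) ≫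
      (Scheme.Modules.restrictAdjunction j).unit.app F = 0 :=
  (comp_unit_eq_zero_iff j _).2 ((restrict_map_eq_zero_iff j _).2
    ((comp_unit_eq_zero_iff j.opensRange.ι _).1 (kernel.condition _)))

/-- `Γ_Z` only depends on the image of `j`. -/
noncomputable def gammaZIso : DCoh.gammaZ j ≅ DCoh.gammaZ j.opensRange.ι :=
  NatIso.ofComponents (fun F =>
    { hom := kernel.lift _ (kernel.ι _) (kernelι_comp_unit j F)
      inv := kernel.lift _ (kernel.ι _) (kernelι_comp_unit' j F)
      hom_inv_id := by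
        rw [← cancel_mono (kernel.ι ((Scheme.Modules.restrictAdjunction j).unit.app F))]
        simp
      inv_hom_id := by
        rw [← cancel_mono
          (kernel.ι ((Scheme.Modules.restrictAdjunction j.opensRange.ι).unit.app F))]
        simp })
    (by
      intro F G φ
      rw [← cancel_mono
        (kernel.ι ((Scheme.Modules.restrictAdjunction j.opensRange.ι).unit.app G))]
      simp [DCoh.gammaZ])

/-- The induced isomorphism on homotopy categories. -/
noncomputable def gammaZKhIso : CxOX.gammaZKh j ≅ CxOX.gammaZKh j.opensRange.ι :=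
  Functor.isoWhiskerRight
    { hom := NatTrans.mapHomotopyCategory (gammaZIso j).hom (ComplexShape.up ℤ)
      inv := NatTrans.mapHomotopyCategory (gammaZIso j).inv (ComplexShape.up ℤ)
      hom_inv_id := by
        rw [← NatTrans.mapHomotopyCategory_comp, Iso.hom_inv_id,
          NatTrans.mapHomotopyCategory_id]
      inv_hom_id := by
        rw [← NatTrans.mapHomotopyCategory_comp, Iso.inv_hom_id,
          NatTrans.mapHomotopyCategory_id] }
    DerivedCategory.Qh

/-- `RΓ_Z` only depends on the image of `j`. -/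
noncomputable def RgammaZIso [CxOX.HasRgammaZ j] [CxOX.HasRgammaZ j.opensRange.ι] :
    CxOX.RgammaZ j ≅ CxOX.RgammaZ j.opensRange.ι :=
  Functor.rightDerivedNatIso _ _
    ((CxOX.gammaZKh j).totalRightDerivedUnit DerivedCategory.Qh
      (HomotopyCategory.quasiIso X.Modules (ComplexShape.up ℤ)))
    ((CxOX.gammaZKh j.opensRange.ι).totalRightDerivedUnit DerivedCategory.Qh
      (HomotopyCategory.quasiIso X.Modules (ComplexShape.up ℤ)))
    (HomotopyCategory.quasiIso X.Modules (ComplexShape.up ℤ)) (gammaZKhIso j)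

theorem isIso_sigma_of_natIso {C D : Type*} [Category C] [Category D] {F G : C ⥤ D} (ψ : F ≅ G)
    {ι : Type*} (E : ι → C) [HasCoproduct E] [HasCoproduct (fun i => F.obj (E i))]
    [HasCoproduct (fun i => G.obj (E i))]
    (h : IsIso (Sigma.desc (fun i => G.map (Sigma.ι E i)))) :
    IsIso (Sigma.desc (fun i => F.map (Sigma.ι E i))) := by
  have : Sigma.desc (fun i => F.map (Sigma.ι E i)) =
      (sigmaMapIso (fun i => ψ.app (E i))).hom ≫ Sigma.desc (fun i => G.map (Sigma.ι E i)) ≫
        ψ.inv.app _ := by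
    apply Sigma.hom_ext
    intro i
    simp [sigmaMapIso]
  rw [this]
  infer_instance

/-- `RΓ_Z` commutes with coproducts of objects of `D_QCoh` if `Rj_*` does: arbitrary open
immersion. -/
theorem main_gen [CxOX.HasRgammaZ j] [DCoh.HasRpush j.opensRange.ι] {ι : Type u}
    (E : ι → DCoh.D X) (hE : ∀ i, DCoh.IsQCohD (E i))
    [HasCoproduct E] [HasCoproduct (fun i => (CxOX.RgammaZ j).obj (E i))]
    (h1000 : ∀ (K : ι → DCoh.D (j.opensRange : Scheme.{u})) (_ : ∀ i, DCoh.IsQCohD (K i))
      [HasCoproduct K] [HasCoproduct (fun i => (DCoh.Rpush j.opensRange.ι).obj (K i))],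
      IsIso (Sigma.desc (fun i => (DCoh.Rpush j.opensRange.ι).map (Sigma.ι K i)))) :
    IsIso (Sigma.desc (fun i => (CxOX.RgammaZ j).map (Sigma.ι E i))) := by
  haveI := hasRgammaZ j.opensRange.ι
  haveI : HasCoproduct (fun i => (CxOX.RgammaZ j.opensRange.ι).obj (E i)) := hasCoproduct_D _
  exact isIso_sigma_of_natIso (RgammaZIso j) E (main j.opensRange E hE (fun K hK => h1000 K hK))

end Transfer

end Groth.Agent.H31.GammaZCoprod
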