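import Groth.Agent.H31.GammaZTri

/-!
# `Rj_*` on objects with supports (helper31)
-/

set_option backward.isDefEq.respectTransparency false
set_option autoImplicit false
universe u
open CategoryTheory CategoryTheory.Limits AlgebraicGeometry TopologicalSpace Opposite
attribute [local instance] HasDerivedCategory.standard

namespace Groth.Agent.H31.SuppEquiv

open Groth.Agent.H5.KInjDer Groth.Agent.H31.Stalk Groth.Agent.H31.RpushRestrict
  Groth.Agent.H31.LocalD Groth.Agent.H31.RpushSupport Groth.Agent.H31.OpenImmD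
  Groth.Agent.H31.GammaZTri

variable {X Xbar : Scheme.{u}} (j : X ⟶ Xbar) [IsOpenImmersion j] (U : X.Opens)
  (U' T : Xbar.Opens)
  (hU' : (U' : Set Xbar) = (closure (j.base '' ((U : Set X)ᶜ)))ᶜ)
  (hT : (T : Set Xbar) = (U' : Set Xbar) ∪ Set.range j.base)

include hU' in
theorem mem_U_of_map_mem_U' (x : X) (hx : j x ∈ U') : x ∈ U := by
  by_contra hxU
  have h1 : j x ∈ (U' : Set Xbar) := hx
  rw [hU'] at h1
  exact h1 (subset_closure ⟨x, hxU, rfl⟩)

include hU' in
theorem map_mem_U'_of_mem_U (x : X) (hx : x ∈ U) : j x ∈ U' := by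
  show j x ∈ (U' : Set Xbar)
  rw [hU']
  intro h
  have h2 : closure ((U : Set X)ᶜ) = j.base ⁻¹' closure (j.base '' ((U : Set X)ᶜ)) :=
    j.isOpenEmbedding.isInducing.closure_eq_preimage_closure_image _
  have h3 : x ∈ closure ((U : Set X)ᶜ) := by rw [h2]; exact h
  rw [(U.isOpen.isClosed_compl).closure_eq] at h3
  exact h3 hx

/-- An object vanishing on `W` has its cohomology sheaves supported off `W`. -/
theorem isSuppD_of_isZero_restrictD (W : Xbar.Opens) (K : DCoh.D Xbar)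
    (hK : IsZero ((DCoh.restrictD W.ι).obj K)) : CxOX.IsSuppD W.ι K := by
  intro i y hy hyW
  rw [Scheme.Opens.range_ι] at hyW
  exact hy (subsingleton_stalk_HD_of_isZero_restrictD K W hK i y hyW)

theorem isZero_restrictD_of_isSuppD (W : Xbar.Opens) (K : DCoh.D Xbar)
    (hK : CxOX.IsSuppD W.ι K) : IsZero ((DCoh.restrictD W.ι).obj K) := by
  refine isZero_restrictD_of_support K _ hK W (fun x hx => hx ?_)
  rw [Scheme.Opens.range_ι]
  exact x.2

variable [DCoh.HasRpush j]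

include hU' in
theorem isSuppD_Rpush (F : DCoh.D X) (hF : CxOX.IsSuppD U.ι F) :
    CxOX.IsSuppD U'.ι ((DCoh.Rpush j).obj F) := by
  haveI : DCoh.HasRpush (j ∣_ U') := hasRpush _
  apply isSuppD_of_isZero_restrictD
  have h2 : IsZero ((DCoh.restrictD (j ⁻¹ᵁ U').ι).obj F) := by
    refine isZero_restrictD_of_support F _ hF (j ⁻¹ᵁ U') (fun x hx => hx ?_)
    rw [Scheme.Opens.range_ι]
    exact mem_U_of_map_mem_U' j U U' hU' _ x.2
  exact IsZero.of_iso (isZero_Rpush_obj (j ∣_ U') _ h2) ((restrictRpushIso j U').app F)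

include hU' in
theorem isSuppD_restrictD (G : DCoh.D Xbar) (hG : CxOX.IsSuppD U'.ι G) :
    CxOX.IsSuppD U.ι ((DCoh.restrictD j).obj G) := by
  intro i x hx hxU
  rw [Scheme.Opens.range_ι] at hxU
  apply hx
  have h1 : Subsingleton ((DCoh.HD G i).presheaf.stalk (j x)) := by
    by_contra h
    refine hG i h ?_
    rw [Scheme.Opens.range_ι]
    exact map_mem_U'_of_mem_U j U U' hU' x hxU
  have e := (forget Ab.{u}).mapIso ((Scheme.Modules.toPresheaf X ⋙
    TopCat.Presheaf.stalkFunctor Ab.{u} x).mapIso (HDRestrictIso_gen j G i))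
  exact e.toEquiv.subsingleton_congr.2 ((subsingleton_stalk_restrict_iff_gen j _ x).2 h1)

theorem isQCohD_restrictD (G : DCoh.D Xbar) (hG : DCoh.IsQCohD G) :
    DCoh.IsQCohD ((DCoh.restrictD j).obj G) := by
  intro i
  haveI h1 : (DCoh.HD G i).IsQuasicoherent := hG i
  have h2 : ((Scheme.Modules.restrictFunctor j).obj (DCoh.HD G i)).IsQuasicoherent :=
    Scheme.Modules.isQuasicoherent_restrictFunctor j (DCoh.HD G i)
  exact (SheafOfModules.isQuasicoherent X.ringCatSheaf).prop_of_iso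
    (HDRestrictIso_gen j G i).symm h2

omit [IsOpenImmersion j] [DCoh.HasRpush j] in
/-- `Rf_*` only depends on `f` up to equality. -/
noncomputable def RpushCongr {A B : Scheme.{u}} {f g : A ⟶ B} (h : f = g) [DCoh.HasRpush f]
    [DCoh.HasRpush g] : DCoh.Rpush f ≅ DCoh.Rpush g := by
  subst h
  exact Iso.refl _

include hT in
/-- An object supported on `Z̄` on which `RΓ_{Z̄ ∖ j(X)}` vanishes comes from `X`. -/
theorem mem_essImage_Rpush [CxOX.HasRgammaZ T.ι] (G : DCoh.D Xbar) (hG : CxOX.IsSuppD U'.ι G)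
    (hz : IsZero ((CxOX.RgammaZ T.ι).obj G)) : (DCoh.Rpush j).essImage G := by
  haveI : DCoh.HasRpush T.ι := hasRpush _
  obtain ⟨N, ⟨e1⟩⟩ := mem_essImage_Rpush_of_isZero_RgammaZ T G hz
  obtain ⟨adjT, hεT⟩ := exists_restrict_Rpush_adj_gen T.ι
  have eN : (DCoh.restrictD T.ι).obj G ≅ N :=
    (DCoh.restrictD T.ι).mapIso e1.symm ≪≫ asIso (adjT.counit.app N)
  have hjT : Set.range j.base ⊆ Set.range T.ι.base := by
    rw [Scheme.Opens.range_ι, hT]
    exact Set.subset_union_right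
  obtain ⟨j', hj'⟩ : ∃ j' : X ⟶ (T : Scheme.{u}), j' ≫ T.ι = j :=
    ⟨IsOpenImmersion.lift T.ι j hjT, IsOpenImmersion.lift_fac _ _ _⟩
  haveI : IsOpenImmersion (j' ≫ T.ι) := by rw [hj']; infer_instance
  haveI : IsOpenImmersion j' := IsOpenImmersion.of_comp j' T.ι
  haveI : DCoh.HasRpush j' := hasRpush _
  haveI : DCoh.HasRpush (j' ≫ T.ι) := hasRpush _
  have hNW' : IsZero ((DCoh.restrictD (T.ι ⁻¹ᵁ U').ι).obj N) :=
    IsZero.of_iso (isZero_restrictD_preimage T.ι G U' (isZero_restrictD_of_isSuppD U' G hG))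
      ((DCoh.restrictD (T.ι ⁻¹ᵁ U').ι).mapIso eN.symm)
  have hW' : ((T.ι ⁻¹ᵁ U' : (T : Scheme.{u}).Opens) : Set (T : Scheme.{u}))ᶜ ⊆
      Set.range j'.base := by
    intro y hy
    have hyT : T.ι y ∈ (T : Set Xbar) := y.2
    rw [hT] at hyT
    rcases hyT with h | ⟨x, hx⟩
    · exact absurd h hy
    · refine ⟨x, ?_⟩
      apply T.ι.isOpenEmbedding.injective
      rw [← hx, ← hj']
      rfl
  obtain ⟨N', ⟨e2⟩⟩ := mem_essImage_Rpush_of_isZero_restrictD j' (T.ι ⁻¹ᵁ U') hW' N hNW'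
  exact ⟨N', ⟨(RpushCongr hj').symm.app N' ≪≫ ((RpushCompIso j' T.ι).app N').symm ≪≫
    (DCoh.Rpush T.ι).mapIso e2 ≪≫ e1⟩⟩

end Groth.Agent.H31.SuppEquiv
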