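import Groth.Agent.H31.RpushSupport
import Groth.Agent.H28.PerfLocal

/-!
# Perfectness is local; `Rj_*` of a perfect object with proper support (helper31)

* `isFinLocFree_of_iso`, `isFinLocFree_restrict`, `isStrictlyPerfect_restrict`.
* `isPerfect_of_iso`.
* `exists_presentation_of_isPerfect_restrictD` : a presentation of `K|_U` near `x ∈ U` gives a
  presentation of `K` near `x`.
* `exists_presentation_of_isZero_restrictD`.
* `isPerfect_Rpush_openImmersion_of_support`.
-/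

set_option backward.isDefEq.respectTransparency false
set_option autoImplicit false
universe u
open CategoryTheory CategoryTheory.Limits AlgebraicGeometry TopologicalSpace Opposite ZeroObject
attribute [local instance] HasDerivedCategory.standard

namespace Groth.Agent.H31.PerfLocalD

open Groth.Agent.H31.Stalk Groth.Agent.H31.RpushRestrict Groth.Agent.H31.LocalD
  Groth.Agent.H31.RpushSupport Groth.Agent.H28.LpullLoc

theorem isFinLocFree_of_iso {X : Scheme.{u}} {M N : X.Modules} (e : M ≅ N)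
    (hM : FlatMod.IsFinLocFree M) : FlatMod.IsFinLocFree N := by
  intro x
  obtain ⟨V, n, hxV, ⟨i⟩⟩ := hM x
  exact ⟨V, n, hxV, ⟨(Scheme.Modules.restrictFunctor V.ι).mapIso e.symm ≪≫ i⟩⟩

theorem isFinLocFree_restrict {A B : Scheme.{u}} (j : A ⟶ B) [IsOpenImmersion j] {M : B.Modules}
    (hM : FlatMod.IsFinLocFree M) :
    FlatMod.IsFinLocFree ((Scheme.Modules.restrictFunctor j).obj M) :=
  isFinLocFree_of_iso ((Scheme.Modules.restrictFunctorIsoPullback j).app M).symm
    (isFinLocFree_pullback j hM)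

theorem isStrictlyPerfect_restrict {A B : Scheme.{u}} (j : A ⟶ B) [IsOpenImmersion j]
    {E : CochainComplex B.Modules ℤ} (hE : DCoh.IsStrictlyPerfect E) :
    DCoh.IsStrictlyPerfect (((Scheme.Modules.restrictFunctor j).mapHomologicalComplex
      (ComplexShape.up ℤ)).obj E) := by
  obtain ⟨⟨a, b, hab⟩, hfl⟩ := hE
  exact ⟨⟨a, b, fun i hi => Functor.map_isZero (Scheme.Modules.restrictFunctor j) (hab i hi)⟩,
    fun i => isFinLocFree_restrict j (hfl i)⟩

theorem isPerfect_of_iso {X : Scheme.{u}} {K K' : DCoh.D X} (e : K ≅ K')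
    (hK : DCoh.IsPerfect K) : DCoh.IsPerfect K' := by
  intro x
  obtain ⟨V, hxV, hV⟩ := hK x
  exact ⟨V, hxV, fun F ⟨eF⟩ => hV F ⟨eF ≪≫ e.symm⟩⟩

variable {X : Scheme.{u}}

/-- A local presentation of `K|_U` near `x ∈ U` gives a local presentation of `K` near `x`. -/
theorem exists_presentation_of_isPerfect_restrictD (K : DCoh.D X) (U : X.Opens)
    (hK : DCoh.IsPerfect ((DCoh.restrictD U.ι).obj K)) (x : X) (hx : x ∈ U) :
    ∃ (V : X.Opens), x ∈ V ∧ ∀ (F : CochainComplex X.Modules ℤ), Nonempty (DCoh.toD X F ≅ K) →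
      ∃ E : CochainComplex (V : Scheme.{u}).Modules ℤ, DCoh.IsStrictlyPerfect E ∧
        Nonempty (DerivedCategory.Q.obj ((DCoh.restrictCx V).obj F) ≅ DerivedCategory.Q.obj E) := by
  obtain ⟨V', hxV', hV'⟩ := hK ⟨x, hx⟩
  refine ⟨U.ι ''ᵁ V', ⟨⟨x, hx⟩, hxV', rfl⟩, ?_⟩
  rintro F ⟨eF⟩
  let G := (DCoh.restrictCx U).obj F
  have eG : DCoh.toD (U : Scheme.{u}) G ≅ (DCoh.restrictD U.ι).obj K :=
    ((Scheme.Modules.restrictFunctor U.ι).mapDerivedCategoryFactors.app F).symm ≪≫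
      (DCoh.restrictD U.ι).mapIso eF
  obtain ⟨P', hP', ⟨eP'⟩⟩ := hV' G ⟨eG⟩
  let ρ := Scheme.Modules.restrictFunctor (U.ι.isoImage V').inv
  refine ⟨(ρ.mapHomologicalComplex (ComplexShape.up ℤ)).obj P',
    isStrictlyPerfect_restrict _ hP', ⟨?_⟩⟩
  have hι : (U.ι ''ᵁ V').ι = (U.ι.isoImage V').inv ≫ V'.ι ≫ U.ι :=
    (Scheme.Hom.isoImage_inv_ι U.ι V').symm
  let φ : Scheme.Modules.restrictFunctor (U.ι ''ᵁ V').ι ≅
      (Scheme.Modules.restrictFunctor U.ι ⋙ Scheme.Modules.restrictFunctor V'.ι) ⋙ ρ :=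
    Scheme.Modules.restrictFunctorCongr hι ≪≫
      Scheme.Modules.restrictFunctorComp (U.ι.isoImage V').inv (V'.ι ≫ U.ι) ≪≫
      Functor.isoWhiskerRight (Scheme.Modules.restrictFunctorComp V'.ι U.ι) ρ
  let c : (DCoh.restrictCx (U.ι ''ᵁ V')).obj F ≅
      (ρ.mapHomologicalComplex (ComplexShape.up ℤ)).obj ((DCoh.restrictCx V').obj G) :=
    (NatIso.mapHomologicalComplex φ (ComplexShape.up ℤ)).app F
  exact DerivedCategory.Q.mapIso c ≪≫ (ρ.mapDerivedCategoryFactors.app _).symm ≪≫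
    ρ.mapDerivedCategory.mapIso eP' ≪≫ ρ.mapDerivedCategoryFactors.app P'

/-- If `K|_W` vanishes, `K` is trivially presented over `W`. -/
theorem exists_presentation_of_isZero_restrictD (K : DCoh.D X) (W : X.Opens)
    (hK : IsZero ((DCoh.restrictD W.ι).obj K)) (F : CochainComplex X.Modules ℤ)
    (eF : DCoh.toD X F ≅ K) :
    ∃ E : CochainComplex (W : Scheme.{u}).Modules ℤ, DCoh.IsStrictlyPerfect E ∧
      Nonempty (DerivedCategory.Q.obj ((DCoh.restrictCx W).obj F) ≅ DerivedCategory.Q.obj E) := by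
  refine ⟨0, ⟨⟨0, 0, fun i _ => ?_⟩, fun i => ?_⟩, ⟨?_⟩⟩
  · exact (HomologicalComplex.eval _ _ i).map_isZero (isZero_zero _)
  · exact isFinLocFree_of_iso (IsZero.iso isZero_freeMod_zero
      ((HomologicalComplex.eval _ _ i).map_isZero (isZero_zero _)))
      (isFinLocFree_of_iso_freeMod (Iso.refl _))
  · have h1 : IsZero (DerivedCategory.Q.obj ((DCoh.restrictCx W).obj F)) :=
      IsZero.of_iso hK (((Scheme.Modules.restrictFunctor W.ι).mapDerivedCategoryFactors.app
        F).symm ≪≫ (DCoh.restrictD W.ι).mapIso eF)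
    exact h1.iso (DerivedCategory.Q.map_isZero (isZero_zero _))

/-- `Rj_* E` is perfect if `E` is perfect with cohomology supported on a subset closed in `X`. -/
theorem isPerfect_Rpush_openImmersion_of_support (U : X.Opens) [DCoh.HasRpush U.ι]
    (E : DCoh.D (U : Scheme.{u})) (hE : DCoh.IsPerfect E) (T : Set (U : Scheme.{u}))
    (hjT : IsClosed ((fun x : (U : Scheme.{u}) => U.ι x) '' T))
    (hsupp : ∀ i : ℤ, CohB1.support (DCoh.HD E i) ⊆ T) :
    DCoh.IsPerfect ((DCoh.Rpush U.ι).obj E) := by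
  obtain ⟨adjD, hε⟩ := exists_restrict_Rpush_adj U
  intro x
  by_cases hx : x ∈ U
  · refine exists_presentation_of_isPerfect_restrictD _ U ?_ x hx
    exact isPerfect_of_iso (asIso (adjD.counit.app E)).symm hE
  · let W : X.Opens := ⟨((fun x : (U : Scheme.{u}) => U.ι x) '' T)ᶜ, hjT.isOpen_compl⟩
    have hxW : x ∈ W := by
      rintro ⟨y, -, rfl⟩
      exact hx y.2
    haveI : DCoh.HasRpush (U.ι ∣_ W) := hasRpush _
    have h2 : IsZero ((DCoh.restrictD (U.ι ⁻¹ᵁ W).ι).obj E) := by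
      refine isZero_restrictD_of_support E T hsupp _ (fun y hy => ?_)
      exact y.2 ⟨_, hy, rfl⟩
    have hz : IsZero ((DCoh.restrictD W.ι).obj ((DCoh.Rpush U.ι).obj E)) :=
      IsZero.of_iso (isZero_Rpush_obj (U.ι ∣_ W) _ h2) ((restrictRpushIso U.ι W).app E)
    exact ⟨W, hxW, fun F ⟨eF⟩ => exists_presentation_of_isZero_restrictD _ W hz F eF⟩

end Groth.Agent.H31.PerfLocalD
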