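import Mathlib
import Groth.Prelude.Def_Coh
import Groth.Prelude.Def_CohB1
import Groth.Prelude.Def_ClSub2
import Groth.Prelude.Def_FlatMod2
import Groth.Agent.H17.StalkSeq
import Groth.Agent.H8.CohKerCoker
import Groth.Agent.H8.Coh
import Groth.Agent.H36.IdealMulAffine
import Groth.Agent.H22.QCohH1

/-!
# Dévissage by the `J`-adic filtration (helper31, piece (B) for helper8's S2412/S4458)

For a coherent module `F` on a Noetherian scheme with support in a closed set `T`, the filtration
`F ⊇ J F ⊇ J² F ⊇ ...` by the powers of the reduced ideal `J` of `T` is finite, with successive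
quotients coherent, killed by `J` and supported in `T`.  Hence any property stable under
extensions that holds for coherent modules killed by `J` holds for `F`.
-/

set_option autoImplicit false
set_option linter.style.haveILetI false
universe u
open CategoryTheory CategoryTheory.Limits AlgebraicGeometry TopologicalSpace Opposite

namespace Groth.Agent.H31.Dev_B

variable {X : Scheme.{u}}

open Groth.Agent.H8 Groth.Agent.H36.IdealMul

/-- `J · M` is coherent for coherent `M` on a locally Noetherian scheme. -/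
theorem isCoh_idealMul [IsLocallyNoetherian X] (J : X.IdealSheafData) (M : X.Modules)
    (hM : Coh.IsCoh M) : Coh.IsCoh ((Dual3.idealMul J).obj M) := by
  haveI : M.IsQuasicoherent := hM.1
  haveI := isQuasicoherent_idealMul J M
  exact ⟨inferInstance, isFiniteType_of_forall_affine_finite _
    (fun U => finite_sections_idealMul J M hM U)⟩

theorem support_subset_of_mono {A B : X.Modules} (φ : A ⟶ B) [Mono φ] :
    CohB1.support A ⊆ CohB1.support B := by
  intro x hx hB
  haveI := hB
  exact hx (Groth.Agent.H17.StalkSeq.stalkMap_injective_of_mono φ x).subsingleton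

theorem support_subset_of_epi {A B : X.Modules} (φ : A ⟶ B) [Epi φ] :
    CohB1.support B ⊆ CohB1.support A := by
  intro x hx hA
  haveI := hA
  exact hx (Groth.Agent.H17.StalkSeq.stalkMap_surjective_of_epi φ x).subsingleton

/-- The short exact sequence `0 ⟶ J M ⟶ M ⟶ M / J M ⟶ 0`. -/
noncomputable def sc (J : X.IdealSheafData) (M : X.Modules) : ShortComplex X.Modules :=
  ShortComplex.mk (Dual3.idealMulι J M) (cokernel.π (Dual3.idealMulι J M))
    (cokernel.condition _)

theorem sc_shortExact (J : X.IdealSheafData) (M : X.Modules) : (sc J M).ShortExact :=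
  { exact := ShortComplex.exact_cokernel _
    mono_f := inferInstanceAs (Mono (Dual3.idealMulι J M))
    epi_g := inferInstanceAs (Epi (cokernel.π (Dual3.idealMulι J M))) }

/-- `M / J M` is killed by `J`. -/
theorem killed_cokernel (J : X.IdealSheafData) (M : X.Modules) [M.IsQuasicoherent] :
    ClSub.KilledByIdeal J (cokernel (Dual3.idealMulι J M)) := by
  intro U a ha m
  haveI : (sc J M).X₁.IsQuasicoherent := isQuasicoherent_idealMul J M
  have hsurj : Function.Surjective
      (Scheme.Modules.Hom.app (cokernel.π (Dual3.idealMulι J M)) U.1) :=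
    Groth.Agent.H22.QCohH1.app_surjective (sc J M) (sc_shortExact J M) U.2
  obtain ⟨s, rfl⟩ := hsurj m
  have hmem : a • s ∈ (J.ideal U) • (⊤ : Submodule Γ(X, U.1) Γ(M, U.1)) :=
    Submodule.smul_mem_smul ha trivial
  obtain ⟨t, ht⟩ := (exists_idealMulι_app_eq_iff J M U (a • s)).mpr hmem
  have h1 : a • Scheme.Modules.Hom.app (cokernel.π (Dual3.idealMulι J M)) U.1 s =
      Scheme.Modules.Hom.app (cokernel.π (Dual3.idealMulι J M)) U.1 (a • s) :=
    (Scheme.Modules.Hom.app_smul _ _ _).symm
  refine h1.trans ?_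
  rw [← ht]
  exact app_comp_eq_zero (sc J M) U.1 t

/-- The `J`-adic filtration. -/
noncomputable def fil (J : X.IdealSheafData) (F : X.Modules) : ℕ → X.Modules
  | 0 => F
  | k + 1 => (Dual3.idealMul J).obj (fil J F k)

/-- The inclusion `J^k F ⟶ F`. -/
noncomputable def filι (J : X.IdealSheafData) (F : X.Modules) : ∀ k, fil J F k ⟶ F
  | 0 => 𝟙 F
  | k + 1 => Dual3.idealMulι J (fil J F k) ≫ filι J F k

instance mono_filι (J : X.IdealSheafData) (F : X.Modules) : ∀ k, Mono (filι J F k)
  | 0 => inferInstanceAs (Mono (𝟙 F))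
  | k + 1 => by
    haveI := mono_filι J F k
    exact mono_comp (Dual3.idealMulι J (fil J F k)) (filι J F k)

theorem isCoh_fil [IsLocallyNoetherian X] (J : X.IdealSheafData) (F : X.Modules)
    (hF : Coh.IsCoh F) : ∀ k, Coh.IsCoh (fil J F k)
  | 0 => hF
  | k + 1 => isCoh_idealMul J _ (isCoh_fil J F hF k)

theorem filι_app_mem [IsLocallyNoetherian X] (J : X.IdealSheafData) (F : X.Modules)
    (hF : Coh.IsCoh F) (W : X.affineOpens) : ∀ (k : ℕ) (t : Γ(fil J F k, W.1)),
    Scheme.Modules.Hom.app (filι J F k) W.1 t ∈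
      (J.ideal W) ^ k • (⊤ : Submodule Γ(X, W.1) Γ(F, W.1))
  | 0, t => by
    rw [pow_zero, Ideal.one_eq_top, Submodule.top_smul]
    trivial
  | k + 1, t => by
    haveI : (fil J F k).IsQuasicoherent := (isCoh_fil J F hF k).1
    have hs := idealMulι_app_mem J (fil J F k) W t
    have hcomp : Scheme.Modules.Hom.app (filι J F (k + 1)) W.1 t =
        appₗ (filι J F k) W.1
          (Scheme.Modules.Hom.app (Dual3.idealMulι J (fil J F k)) W.1 t) := rfl
    rw [hcomp, pow_succ', Submodule.mul_smul]
    refine Submodule.smul_induction_on hs ?_ ?_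
    · intro a ha m _
      rw [map_smul]
      exact Submodule.smul_mem_smul ha (filι_app_mem J F hF W k m)
    · intro x y hx hy
      rw [map_add]
      exact Submodule.add_mem _ hx hy

/-- Over an affine open, a power of the reduced ideal of `T` kills the sections of a coherent
module supported in `T`. -/
theorem exists_pow_smul_eq_zero_of_support [IsLocallyNoetherian X] (T : Set X) (hT : IsClosed T)
    (F : X.Modules) (hF : Coh.IsCoh F) (hsupp : CohB1.support F ⊆ T) (W : X.affineOpens) :
    ∃ m : ℕ, ∀ a ∈ ((Scheme.IdealSheafData.vanishingIdeal ⟨T, hT⟩).ideal W) ^ m,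
      ∀ t : Γ(F, W.1), a • t = 0 := by
  haveI : F.IsQuasicoherent := hF.1
  haveI : IsNoetherianRing Γ(X, W.1) := IsLocallyNoetherian.component_noetherian W
  have hfin : Module.Finite Γ(X, W.1) Γ(F, W.1) := finite_sections_of_isCoh F hF W.2
  let I := Scheme.IdealSheafData.vanishingIdeal ⟨T, hT⟩
  let U : X.Opens := ⟨Tᶜ, hT.isOpen_compl⟩
  have hU : (U : Set X) = (I.support : Set X)ᶜ := by
    rw [Scheme.IdealSheafData.coe_support_vanishingIdeal]
    rfl
  let Ann : Ideal Γ(X, W.1) := Module.annihilator Γ(X, W.1) Γ(F, W.1)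
  have hrad : I.ideal W ≤ Ann.radical := by
    intro a ha
    have hle : X.basicOpen a ≤ U := basicOpen_le_of_mem_ideal I U hU W a ha
    have hres : ∀ t : Γ(F, W.1), F.presheaf.map (homOfLE (X.basicOpen_le a)).op t = 0 := by
      intro t
      refine TopCat.Presheaf.section_ext ⟨F.presheaf, F.isSheaf⟩ (X.basicOpen a) _ 0
        (fun y hy => ?_)
      have hyT : y ∉ T := hle hy
      haveI : Subsingleton (F.presheaf.stalk y) := by
        by_contra h
        exact hyT (hsupp h)
      exact Subsingleton.elim _ _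
    have hk : ∀ t : Γ(F, W.1), ∃ k : ℕ, a ^ k • t = 0 :=
      fun t => Groth.Agent.H8.exists_smul_eq_zero W.2 F a _ (hres t)
    choose k hk using hk
    obtain ⟨S, hS⟩ := hfin.fg_top
    refine ⟨S.sup k, ?_⟩
    rw [Module.mem_annihilator]
    intro t
    have ht : t ∈ Submodule.span Γ(X, W.1) (S : Set Γ(F, W.1)) := by rw [hS]; trivial
    induction ht using Submodule.span_induction with
    | mem t ht =>
      have hle : k t ≤ S.sup k := Finset.le_sup ht
      rw [← Nat.sub_add_cancel hle, pow_add, mul_smul, hk t, smul_zero]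
    | zero => rw [smul_zero]
    | add x y _ _ hx hy => rw [smul_add, hx, hy, add_zero]
    | smul c x _ hx => rw [smul_comm, hx, smul_zero]
  obtain ⟨m, hm⟩ := Ideal.exists_pow_le_of_le_radical_of_fg hrad
    (IsNoetherian.noetherian (I.ideal W))
  exact ⟨m, fun a ha t => Module.mem_annihilator.mp (hm ha) t⟩

/-- The `J`-adic filtration of a coherent module supported in `T` is eventually zero. -/
theorem exists_fil_id_eq_zero [IsNoetherian X] (T : Set X) (hT : IsClosed T)
    (F : X.Modules) (hF : Coh.IsCoh F) (hsupp : CohB1.support F ⊆ T) :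
    ∃ n : ℕ, 𝟙 (fil (Scheme.IdealSheafData.vanishingIdeal ⟨T, hT⟩) F n) = 0 := by
  set J := Scheme.IdealSheafData.vanishingIdeal ⟨T, hT⟩ with hJ
  obtain ⟨s, hs⟩ := exists_finite_affine_cover X
  have hm : ∀ W : X.affineOpens, ∃ m : ℕ, ∀ a ∈ (J.ideal W) ^ m,
      ∀ t : Γ(F, W.1), a • t = 0 :=
    fun W => exists_pow_smul_eq_zero_of_support T hT F hF hsupp W
  choose m hm using hm
  refine ⟨s.sup m, ?_⟩
  haveI : (fil J F (s.sup m)).IsQuasicoherent := (isCoh_fil J F hF _).1
  refine hom_eq_zero_of_affine_cover _ (s : Set X.affineOpens) (fun x => ?_) ?_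
  · obtain ⟨W, hW, hxW⟩ := hs x
    exact ⟨W, hW, hxW⟩
  · intro W hW t
    have hWs : W ∈ s := hW
    show t = 0
    apply app_injective_of_mono (filι J F (s.sup m)) W.1
    rw [map_zero]
    have h1 := filι_app_mem J F hF W (s.sup m) t
    have hle : (J.ideal W) ^ (s.sup m) ≤ (J.ideal W) ^ (m W) :=
      Ideal.pow_le_pow_right (Finset.le_sup hWs)
    have h2 : (J.ideal W) ^ (s.sup m) • (⊤ : Submodule Γ(X, W.1) Γ(F, W.1)) ≤ ⊥ := by
      rw [Submodule.smul_le]
      intro a ha x _
      rw [Submodule.mem_bot]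
      exact hm W a (hle ha) x
    exact (Submodule.mem_bot _).mp (h2 h1)

theorem B [IsNoetherian X] (T : Set X) (hT : IsClosed T) (Pr : X.Modules → Prop)
    (hext : ∀ S : ShortComplex X.Modules, S.ShortExact → Coh.IsCoh S.X₁ → Coh.IsCoh S.X₂ →
      Coh.IsCoh S.X₃ → Pr S.X₁ → Pr S.X₃ → Pr S.X₂)
    (hkill : ∀ M : X.Modules, Coh.IsCoh M →
      ClSub.KilledByIdeal (Scheme.IdealSheafData.vanishingIdeal ⟨T, hT⟩) M →
      CohB1.support M ⊆ T → Pr M)
    (F : X.Modules) (hF : Coh.IsCoh F) (hsupp : CohB1.support F ⊆ T) : Pr F := by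
  set J := Scheme.IdealSheafData.vanishingIdeal ⟨T, hT⟩ with hJ
  have hcoh : ∀ k, Coh.IsCoh (fil J F k) := isCoh_fil J F hF
  have hsuppk : ∀ k, CohB1.support (fil J F k) ⊆ T :=
    fun k => (support_subset_of_mono (filι J F k)).trans hsupp
  -- descent step
  have hstep : ∀ k, Pr (fil J F (k + 1)) → Pr (fil J F k) := by
    intro k hk
    haveI : (fil J F k).IsQuasicoherent := (hcoh k).1
    have hcohQ : Coh.IsCoh (cokernel (Dual3.idealMulι J (fil J F k))) :=
      isCoh_cokernel (hcoh (k + 1)) (hcoh k) _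
    refine hext (sc J (fil J F k)) (sc_shortExact J _) (hcoh (k + 1)) (hcoh k) hcohQ hk ?_
    refine hkill _ hcohQ (killed_cokernel J _) ?_
    exact (support_subset_of_epi (cokernel.π (Dual3.idealMulι J (fil J F k)))).trans (hsuppk k)
  have hdesc : ∀ n, Pr (fil J F n) → Pr F := by
    intro n
    induction n with
    | zero => exact id
    | succ n ih => exact fun h => ih (hstep n h)
  obtain ⟨n, hn⟩ := exists_fil_id_eq_zero T hT F hF hsupp
  refine hdesc n (hkill _ (hcoh n) ?_ (hsuppk n))
  intro U a _ m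
  have hm : m = 0 := by
    have := congrArg (fun φ : fil J F n ⟶ fil J F n => Scheme.Modules.Hom.app φ U.1 m) hn
    exact this
  rw [hm, smul_zero]

end Groth.Agent.H31.Dev_B
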