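import Mathlib.Algebra.Homology.HomologicalComplexAbelian
import Mathlib.Algebra.Homology.HomologicalComplexLimits
import Mathlib.Algebra.Homology.ShortComplex.ShortExact

/-!
# The tower of stupid truncations of a bounded above cochain complex (helper31 library)

For a cochain complex `K` in an abelian category and an upward closed predicate `P` on `ℤ`, `σ K P`
is the subcomplex with `K^q` in degrees satisfying `P` and `0` elsewhere (realised as
`kernel (0 or 𝟙)` to avoid dependent case distinctions on objects).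
-/

set_option autoImplicit false

namespace Groth.Agent.H31.Tower

open CategoryTheory Limits HomologicalComplex

variable {A : Type*} [Category A] [Abelian A]

open scoped Classical in
/-- The endomorphism of `K^q` which is `0` if `P q` and the identity otherwise. -/
noncomputable def e (K : CochainComplex A ℤ) (P : ℤ → Prop) (q : ℤ) : K.X q ⟶ K.X q :=
  if P q then 0 else 𝟙 _

variable (K : CochainComplex A ℤ) {P P' : ℤ → Prop}

theorem e_pos {q : ℤ} (h : P q) : e K P q = 0 := if_pos h

theorem e_neg {q : ℤ} (h : ¬P q) : e K P q = 𝟙 _ := if_neg h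

theorem ι_eq_zero {q : ℤ} (h : ¬P q) : kernel.ι (e K P q) = 0 :=
  (Category.comp_id _).symm.trans
    ((congrArg (fun x => kernel.ι (e K P q) ≫ x) (e_neg K h).symm).trans (kernel.condition _))

theorem isZero_kernel {q : ℤ} (h : ¬P q) : IsZero (kernel (e K P q)) :=
  IsZero.of_mono_eq_zero _ (ι_eq_zero K h)

theorem isIso_ι {q : ℤ} (h : P q) : IsIso (kernel.ι (e K P q)) := by
  refine ⟨kernel.lift (e K P q) (𝟙 _) (by rw [e_pos K h, comp_zero]), ?_, kernel.lift_ι _ _ _⟩
  rw [← cancel_mono (kernel.ι (e K P q)), Category.assoc, kernel.lift_ι, Category.comp_id,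
    Category.id_comp]

theorem ι_d_e (hP : ∀ q, P q → P (q + 1)) (q q' : ℤ) :
    (kernel.ι (e K P q) ≫ K.d q q') ≫ e K P q' = 0 := by
  by_cases hr : q + 1 = q'
  · subst hr
    by_cases h : P (q + 1)
    · rw [e_pos K h, comp_zero]
    · have hq : ¬P q := fun hq => h (hP q hq)
      rw [ι_eq_zero K hq, zero_comp, zero_comp]
  · rw [K.shape q q' hr, comp_zero, zero_comp]

/-- The subcomplex of `K` consisting of the terms in degrees satisfying `P`. -/
noncomputable def σ (hP : ∀ q, P q → P (q + 1)) : CochainComplex A ℤ where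
  X q := kernel (e K P q)
  d q q' := kernel.lift (e K P q') (kernel.ι (e K P q) ≫ K.d q q') (ι_d_e K hP q q')
  shape q q' h := by
    rw [← cancel_mono (kernel.ι (e K P q')), kernel.lift_ι, K.shape q q' h, comp_zero, zero_comp]
  d_comp_d' q q' q'' _ _ := by
    rw [← cancel_mono (kernel.ι (e K P q'')), Category.assoc, kernel.lift_ι,
      kernel.lift_ι_assoc, Category.assoc, K.d_comp_d, comp_zero, zero_comp]

/-- The inclusion `σ K P ⟶ K`. -/
noncomputable def σι (hP : ∀ q, P q → P (q + 1)) : σ K hP ⟶ K where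
  f q := kernel.ι (e K P q)
  comm' q q' _ := (kernel.lift_ι _ _ _).symm

theorem lift_cond (hPP' : ∀ q, P q → P' q) (q : ℤ) :
    kernel.ι (e K P q) ≫ e K P' q = 0 := by
  by_cases h : P' q
  · rw [e_pos K h, comp_zero]
  · rw [ι_eq_zero K (fun hq => h (hPP' q hq)), zero_comp]

/-- The inclusion `σ K P ⟶ σ K P'` for `P ⊆ P'`. -/
noncomputable def σmap (hP : ∀ q, P q → P (q + 1)) (hP' : ∀ q, P' q → P' (q + 1))
    (hPP' : ∀ q, P q → P' q) : σ K hP ⟶ σ K hP' where
  f q := kernel.lift (e K P' q) (kernel.ι (e K P q)) (lift_cond K hPP' q)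
  comm' q q' _ := by
    refine (cancel_mono (kernel.ι (e K P' q'))).1 ?_
    show (kernel.lift (e K P' q) (kernel.ι (e K P q)) _ ≫
        kernel.lift (e K P' q') (kernel.ι (e K P' q) ≫ K.d q q') _) ≫ kernel.ι (e K P' q') =
      (kernel.lift (e K P q') (kernel.ι (e K P q) ≫ K.d q q') _ ≫
        kernel.lift (e K P' q') (kernel.ι (e K P q')) _) ≫ kernel.ι (e K P' q')
    rw [Category.assoc, kernel.lift_ι, kernel.lift_ι_assoc, Category.assoc, kernel.lift_ι,
      kernel.lift_ι]

@[reassoc]
theorem σmap_f_ι (hP : ∀ q, P q → P (q + 1)) (hP' : ∀ q, P' q → P' (q + 1))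
    (hPP' : ∀ q, P q → P' q) (q : ℤ) :
    (σmap K hP hP' hPP').f q ≫ kernel.ι (e K P' q) = kernel.ι (e K P q) :=
  kernel.lift_ι _ _ _

@[reassoc]
theorem σmap_σι (hP : ∀ q, P q → P (q + 1)) (hP' : ∀ q, P' q → P' (q + 1))
    (hPP' : ∀ q, P q → P' q) : σmap K hP hP' hPP' ≫ σι K hP' = σι K hP := by
  ext q
  exact kernel.lift_ι _ _ _

theorem hom_ext_σ (hP' : ∀ q, P' q → P' (q + 1)) {M : CochainComplex A ℤ}
    (f g : M ⟶ σ K hP') (h : f ≫ σι K hP' = g ≫ σι K hP') : f = g := by
  ext q
  refine (cancel_mono (kernel.ι (e K P' q))).1 ?_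
  exact congrArg (fun φ => φ.f q) h

/-! ### The tower -/

variable (b : ℤ)

/-- The predicate `b - m ≤ q`. -/
def Pm (m : ℕ) (q : ℤ) : Prop := b - m ≤ q

theorem Pm_up (m : ℕ) : ∀ q, Pm b m q → Pm b m (q + 1) := fun q h => by
  unfold Pm at h ⊢
  omega

theorem Pm_mono {m m' : ℕ} (h : m ≤ m') : ∀ q, Pm b m q → Pm b m' q := fun q hq => by
  unfold Pm at hq ⊢
  omega

/-- The tower `σ_{≥ b} K ⊆ σ_{≥ b-1} K ⊆ ...` of stupid truncations. -/
noncomputable def tower : ℕ ⥤ CochainComplex A ℤ where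
  obj m := σ K (Pm_up b m)
  map {m m'} f := σmap K (Pm_up b m) (Pm_up b m') (Pm_mono b (leOfHom f))
  map_id m := by
    apply hom_ext_σ
    rw [σmap_σι, Category.id_comp]
  map_comp f g := by
    apply hom_ext_σ
    rw [σmap_σι, Category.assoc, σmap_σι, σmap_σι]

/-- The cocone of the tower with point `K`. -/
noncomputable def towerCocone : Cocone (tower K b) where
  pt := K
  ι :=
    { app := fun m => σι K (Pm_up b m)
      naturality := fun m m' f =>
        (σmap_σι K (Pm_up b m) (Pm_up b m') (Pm_mono b (leOfHom f))).trans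
          (Category.comp_id _).symm }

/-! ### The tower is a colimit -/

/-- A cocone over `ℕ` whose legs are eventually isomorphisms is a colimit cocone. -/
theorem isColimit_of_eventually_isIso {B : Type*} [Category B] (Φ : ℕ ⥤ B) (s : Cocone Φ)
    (m₀ : ℕ) (h : ∀ m, m₀ ≤ m → IsIso (s.ι.app m)) : Nonempty (IsColimit s) := by
  have h0 := h m₀ le_rfl
  refine ⟨IsColimit.ofExistsUnique (fun t => ?_)⟩
  refine ⟨inv (s.ι.app m₀) ≫ t.ι.app m₀, fun j => ?_, fun m' hm' => ?_⟩
  · have hm := h (max j m₀) (le_max_right j m₀)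
    have e1 : Φ.map (homOfLE (le_max_left j m₀)) ≫ s.ι.app (max j m₀) = s.ι.app j := s.w _
    have e2 : Φ.map (homOfLE (le_max_right j m₀)) ≫ s.ι.app (max j m₀) = s.ι.app m₀ := s.w _
    have e3 : Φ.map (homOfLE (le_max_left j m₀)) ≫ t.ι.app (max j m₀) = t.ι.app j := t.w _
    have e4 : Φ.map (homOfLE (le_max_right j m₀)) ≫ t.ι.app (max j m₀) = t.ι.app m₀ := t.w _
    have e5 : inv (s.ι.app m₀) ≫ Φ.map (homOfLE (le_max_right j m₀)) =
        inv (s.ι.app (max j m₀)) :=
      (IsIso.inv_comp_eq _).2 ((IsIso.eq_comp_inv _).2 e2)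
    calc s.ι.app j ≫ inv (s.ι.app m₀) ≫ t.ι.app m₀
        = (Φ.map (homOfLE (le_max_left j m₀)) ≫ s.ι.app (max j m₀)) ≫ inv (s.ι.app m₀) ≫
            Φ.map (homOfLE (le_max_right j m₀)) ≫ t.ι.app (max j m₀) := by rw [e1, e4]
      _ = Φ.map (homOfLE (le_max_left j m₀)) ≫ s.ι.app (max j m₀) ≫
            (inv (s.ι.app m₀) ≫ Φ.map (homOfLE (le_max_right j m₀))) ≫
              t.ι.app (max j m₀) := by simp only [Category.assoc]
      _ = t.ι.app j := by rw [e5, IsIso.hom_inv_id_assoc, e3]
  · exact (IsIso.eq_inv_comp _).2 (hm' m₀)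

theorem isColimit_towerCocone : Nonempty (IsColimit (towerCocone K b)) := by
  have h : ∀ q : ℤ, Nonempty (IsColimit
      ((eval A (ComplexShape.up ℤ) q).mapCocone (towerCocone K b))) := fun q =>
    isColimit_of_eventually_isIso _ _ (b - q).toNat (fun m hm => by
      show IsIso (kernel.ι (e K (Pm b m) q))
      apply isIso_ι
      unfold Pm
      omega)
  exact ⟨isColimitOfEval _ _ (fun q => (h q).some)⟩

/-! ### Terms of the tower -/

/-- The terms of the tower in the degrees which are kept. -/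
noncomputable def towerXIso (m : ℕ) (q : ℤ) (h : Pm b m q) :
    ((tower K b).obj m).X q ≅ K.X q :=
  @asIso _ _ _ _ (kernel.ι (e K (Pm b m) q)) (isIso_ι K h)

theorem isZero_tower_X (m : ℕ) (q : ℤ) (h : ¬Pm b m q) : IsZero (((tower K b).obj m).X q) :=
  isZero_kernel K h

/-! ### The successive quotients -/

theorem mono_σmap_f (hP : ∀ q, P q → P (q + 1)) (hP' : ∀ q, P' q → P' (q + 1))
    (hPP' : ∀ q, P q → P' q) (q : ℤ) : Mono ((σmap K hP hP' hPP').f q) := by
  have h : Mono (kernel.ι (e K P q)) := inferInstance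
  exact @mono_of_mono_fac _ _ _ _ _ _ _ _ h (σmap_f_ι K hP hP' hPP' q)

/-- The short complex `0 → K_m → K_{m+1} → Q_m → 0`. -/
noncomputable def towerSC (m : ℕ) : ShortComplex (CochainComplex A ℤ) :=
  ShortComplex.mk ((tower K b).map (homOfLE (Nat.le_succ m))) (cokernel.π _)
    (cokernel.condition _)

theorem towerSC_shortExact (m : ℕ) : (towerSC K b m).ShortExact := by
  have h1 : Mono (towerSC K b m).f :=
    HomologicalComplex.mono_of_mono_f _ (fun q =>
      mono_σmap_f K (Pm_up b m) (Pm_up b (m + 1)) (Pm_mono b (Nat.le_succ m)) q)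
  have h2 : Epi (towerSC K b m).g :=
    show Epi (cokernel.π ((tower K b).map (homOfLE (Nat.le_succ m)))) from inferInstance
  exact ShortComplex.ShortExact.mk' (ShortComplex.exact_of_g_is_cokernel _ (cokernelIsCokernel _))
    h1 h2

theorem isIso_σmap_f (hP : ∀ q, P q → P (q + 1)) (hP' : ∀ q, P' q → P' (q + 1))
    (hPP' : ∀ q, P q → P' q) (q : ℤ) (h : P q) : IsIso ((σmap K hP hP' hPP').f q) := by
  have i1 := isIso_ι K h
  have i2 := isIso_ι K (hPP' q h)
  have i3 : IsIso ((σmap K hP hP' hPP').f q ≫ kernel.ι (e K P' q)) := by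
    rw [σmap_f_ι]
    exact i1
  exact @IsIso.of_isIso_comp_right _ _ _ _ _ ((σmap K hP hP' hPP').f q)
    (kernel.ι (e K P' q)) i2 i3

theorem isZero_towerSC_X₃_X (m : ℕ) (q : ℤ) (hq : q ≠ b - m - 1) :
    IsZero ((towerSC K b m).X₃.X q) := by
  have hS := (towerSC_shortExact K b m).map_of_exact (eval A (ComplexShape.up ℤ) q)
  by_cases h : Pm b m q
  · have : IsIso ((towerSC K b m).map (eval A (ComplexShape.up ℤ) q)).f :=
      isIso_σmap_f K (Pm_up b m) (Pm_up b (m + 1)) (Pm_mono b (Nat.le_succ m)) q h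
    exact hS.isIso_f_iff.1 this
  · have h' : ¬Pm b (m + 1) q := by
      unfold Pm at h ⊢
      push_cast
      omega
    have hepi : Epi ((towerSC K b m).map (eval A (ComplexShape.up ℤ) q)).g := hS.epi_g
    exact @IsZero.of_epi _ _ _ _ _ ((towerSC K b m).map (eval A (ComplexShape.up ℤ) q)).g hepi
      (isZero_tower_X K b (m + 1) q h')

/-- The only nonzero term of the quotient `Q_m`. -/
noncomputable def towerSCX₃Iso (m : ℕ) :
    (towerSC K b m).X₃.X (b - m - 1) ≅ K.X (b - m - 1) := by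
  have hS := (towerSC_shortExact K b m).map_of_exact (eval A (ComplexShape.up ℤ) (b - m - 1))
  have h0 : IsZero ((towerSC K b m).map (eval A (ComplexShape.up ℤ) (b - m - 1))).X₁ :=
    isZero_tower_X K b m (b - m - 1) (by unfold Pm; omega)
  have hg : IsIso ((towerSC K b m).map (eval A (ComplexShape.up ℤ) (b - m - 1))).g :=
    hS.isIso_g_iff.2 h0
  exact (@asIso _ _ _ _ _ hg).symm ≪≫ towerXIso K b (m + 1) (b - m - 1) (by
    unfold Pm
    push_cast
    omega)

theorem isZero_tower_zero_X (hb : ∀ q, b < q → IsZero (K.X q)) (q : ℤ) (hq : q ≠ b) :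
    IsZero (((tower K b).obj 0).X q) := by
  by_cases h : Pm b 0 q
  · refine IsZero.of_iso (hb q ?_) (towerXIso K b 0 q h)
    unfold Pm at h
    push_cast at h
    omega
  · exact isZero_tower_X K b 0 q h

/-! ### Dévissage of bounded above complexes -/

/-- Abstract dévissage: a property `KF` of complexes which holds for complexes concentrated in one
degree with an `Fl` term, is stable under extensions with termwise `Fl` cokernel and under
sequential colimits, holds for all bounded above complexes with `Fl` terms. -/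
theorem bounded_above_induction (KF : CochainComplex A ℤ → Prop) (Fl : A → Prop)
    (h_iso : ∀ {X Y : A}, (X ≅ Y) → Fl X → Fl Y)
    (h_zero : ∀ X : A, IsZero X → Fl X)
    (h_conc : ∀ (S : CochainComplex A ℤ) (j : ℤ), (∀ q, q ≠ j → IsZero (S.X q)) →
      Fl (S.X j) → KF S)
    (h_ses : ∀ S : ShortComplex (CochainComplex A ℤ), S.ShortExact → (∀ q, Fl (S.X₃.X q)) →
      KF S.X₁ → KF S.X₃ → KF S.X₂)
    (h_colim : ∀ (Φ : ℕ ⥤ CochainComplex A ℤ) (s : Cocone Φ), IsColimit s →
      (∀ m, KF (Φ.obj m)) → KF s.pt)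
    (K : CochainComplex A ℤ) (b : ℤ) (hb : ∀ q, b < q → IsZero (K.X q))
    (hK : ∀ q, Fl (K.X q)) : KF K := by
  have h0 : KF ((tower K b).obj 0) := by
    refine h_conc _ b (isZero_tower_zero_X K b hb) ?_
    exact h_iso (towerXIso K b 0 b (by unfold Pm; simp)).symm (hK b)
  have hstep : ∀ m, KF ((tower K b).obj m) → KF ((tower K b).obj (m + 1)) := by
    intro m hm
    have hQ : ∀ q, Fl ((towerSC K b m).X₃.X q) := by
      intro q
      by_cases hq : q = b - m - 1
      · subst hq
        exact h_iso (towerSCX₃Iso K b m).symm (hK _)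
      · exact h_zero _ (isZero_towerSC_X₃_X K b m q hq)
    have hQ' : KF (towerSC K b m).X₃ :=
      h_conc _ (b - m - 1) (isZero_towerSC_X₃_X K b m) (hQ _)
    exact h_ses (towerSC K b m) (towerSC_shortExact K b m) hQ hm hQ'
  have hall : ∀ m, KF ((tower K b).obj m) := fun m => Nat.rec h0 (fun m ih => hstep m ih) m
  obtain ⟨hc⟩ := isColimit_towerCocone K b
  exact h_colim (tower K b) (towerCocone K b) hc hall

end Groth.Agent.H31.Tower
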