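import Groth.Agent.H31.LpullTensor
import Groth.Agent.H31.MVShriek
import Groth.Agent.H30.ExtZeroSch
import Groth.Agent.H45.AdjDerived
import Groth.Agent.H40.LTensorInv
import Groth.Prelude.Def_CxOX
import Groth.Prelude.Def_DCoh4

/-!
# The projection formula for extension by zero, and restriction of the internal hom (helper31)

* `π U A B : j_!(A ⊗ B|_U) ⟶ j_! A ⊗ B`, natural in both variables, an isomorphism;
* `shriekTotIso U N K : j_! Tot (N ⊗ K|_U) ≅ Tot (j_! N ⊗ K)`, natural in `N`;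
* `extZeroD ⋙ (- ⊗^L K) ≅ (- ⊗^L K|_U) ⋙ extZeroD`;
* `RSheafHom K ⋙ restrictD ≅ restrictD ⋙ RSheafHom (K|_U)`.
-/

set_option autoImplicit false
set_option backward.isDefEq.respectTransparency false
set_option linter.style.haveILetI false
set_option linter.unusedVariables false
universe u
open CategoryTheory CategoryTheory.Limits Opposite TopologicalSpace MonoidalCategory
  HomologicalComplex AlgebraicGeometry
attribute [local instance] HasDerivedCategory.standard

namespace Groth.Agent.H31.ShriekProj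

open Groth.Agent.H31 Groth.Agent.H31.Stalk Groth.Agent.H31.Mate Groth.Agent.H31.KFlat
  Groth.Agent.H31.PullTensor Groth.Agent.H31.MVS Groth.Agent.H31.RpushSupport

variable {X : Scheme.{u}} (U : X.Opens)

/-- Restriction to `U`, typed on `ModSite.Mod`. -/
noncomputable abbrev rs : ModSite.Mod (shX X) ⥤ ModSite.Mod (shX (U : Scheme.{u})) :=
  Scheme.Modules.restrictFunctor U.ι

/-- Extension by zero from `U`, typed on `ModSite.Mod`. -/
noncomputable abbrev ez : ModSite.Mod (shX (U : Scheme.{u})) ⥤ ModSite.Mod (shX X) :=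
  CxOX.extZero U.ι

/-- The adjunction `j_! ⊣ j^*`. -/
noncomputable abbrev ad : ez U ⊣ rs U := CxOX.extZeroAdj U.ι

/-- The tensor product on `U`. -/
noncomputable abbrev TU := ModSite.tensorBi (shX (U : Scheme.{u}))

/-- The tensor product on `X`. -/
noncomputable abbrev TX (X : Scheme.{u}) := ModSite.tensorBi (shX X)

/-- Restriction is the pullback. -/
noncomputable abbrev eRP : rs U ≅ pb U.ι := Scheme.Modules.restrictFunctorIsoPullback U.ι

/-- Restriction commutes with tensor products. -/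
noncomputable def rt (M N : ModSite.Mod (shX X)) :
    (rs U).obj (((TX X).obj M).obj N) ⟶ ((TU U).obj ((rs U).obj M)).obj ((rs U).obj N) :=
  (eRP U).hom.app _ ≫ pullμ U.ι M N ≫ Mate.bimap (TU U) ((eRP U).inv.app M) ((eRP U).inv.app N)

instance isIso_rt (M N : ModSite.Mod (shX X)) : IsIso (rt U M N) := by
  unfold rt
  haveI : IsIso (pullμ U.ι M N) := isIso_pullμ U.ι M N
  haveI : IsIso ((eRP U).hom.app (((TX X).obj M).obj N)) := inferInstance
  haveI : IsIso ((eRP U).inv.app M) := inferInstance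
  haveI : IsIso ((eRP U).inv.app N) := inferInstance
  haveI : IsIso (Mate.bimap (TU U) ((eRP U).inv.app M) ((eRP U).inv.app N)) := inferInstance
  infer_instance

theorem rt_natural {M M' N N' : ModSite.Mod (shX X)} (a : M ⟶ M') (b : N ⟶ N') :
    (rs U).map (Mate.bimap (TX X) a b) ≫ rt U M' N' =
      rt U M N ≫ Mate.bimap (TU U) ((rs U).map a) ((rs U).map b) := by
  unfold rt
  have h1 := (eRP U).hom.naturality (Mate.bimap (TX X) a b)
  have h2 := pullμ_natural' U.ι a b
  have h3 := (eRP U).inv.naturality a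
  have h4 := (eRP U).inv.naturality b
  rw [← Category.assoc, h1, Category.assoc, ← Category.assoc (pb U.ι |>.map _), h2,
    Category.assoc, Category.assoc, Category.assoc, ← Mate.bimap_comp, ← Mate.bimap_comp, h3, h4]

/-- The lax structure on restriction. -/
noncomputable def laxRs : Mate.Lax (TX X) (TU U) (rs U) where
  lam A B := inv (rt U A B)
  nat f g := by
    rw [IsIso.comp_inv_eq, Category.assoc, IsIso.eq_inv_comp]
    exact (rt_natural U f g).symm

/-- The projection formula morphism `j_!(A ⊗ B|_U) ⟶ j_! A ⊗ B`. -/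
noncomputable def π (A : ModSite.Mod (shX (U : Scheme.{u}))) (B : ModSite.Mod (shX X)) :
    (ez U).obj (((TU U).obj A).obj ((rs U).obj B)) ⟶ ((TX X).obj ((ez U).obj A)).obj B :=
  ((ad U).homEquiv _ _).symm
    (Mate.bimap (TU U) ((ad U).unit.app A) (𝟙 ((rs U).obj B)) ≫ inv (rt U ((ez U).obj A) B))

theorem homEquiv_π (A : ModSite.Mod (shX (U : Scheme.{u}))) (B : ModSite.Mod (shX X)) :
    (ad U).homEquiv _ _ (π U A B) =
      Mate.bimap (TU U) ((ad U).unit.app A) (𝟙 ((rs U).obj B)) ≫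
        inv (rt U ((ez U).obj A) B) := by
  simp [π]

theorem π_natural {A A' : ModSite.Mod (shX (U : Scheme.{u}))} {B B' : ModSite.Mod (shX X)}
    (f : A ⟶ A') (g : B ⟶ B') :
    (ez U).map (Mate.bimap (TU U) f ((rs U).map g)) ≫ π U A' B' =
      π U A B ≫ Mate.bimap (TX X) ((ez U).map f) g := by
  apply ((ad U).homEquiv _ _).injective
  rw [(ad U).homEquiv_naturality_left, (ad U).homEquiv_naturality_right, homEquiv_π, homEquiv_π,
    Category.assoc]
  have h1 := (laxRs U).nat ((ez U).map f) g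
  have h1' : Mate.bimap (TU U) ((rs U).map ((ez U).map f)) ((rs U).map g) ≫
      inv (rt U ((ez U).obj A') B') =
      inv (rt U ((ez U).obj A) B) ≫ (rs U).map (Mate.bimap (TX X) ((ez U).map f) g) := h1
  rw [← h1', ← Category.assoc, ← Category.assoc, ← Mate.bimap_comp, ← Mate.bimap_comp]
  congr 2
  exact (ad U).unit.naturality f

theorem isIso_rs_π (A : ModSite.Mod (shX (U : Scheme.{u}))) (B : ModSite.Mod (shX X)) :
    IsIso ((rs U).map (π U A B)) := by
  have h : (ad U).unit.app _ ≫ (rs U).map (π U A B) =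
      Mate.bimap (TU U) ((ad U).unit.app A) (𝟙 ((rs U).obj B)) ≫
        inv (rt U ((ez U).obj A) B) := by
    have h0 := (ad U).homEquiv_unit (f := π U A B)
    exact h0.symm.trans (homEquiv_π U A B)
  haveI : IsIso (CxOX.extZeroAdj U.ι).unit := isIso_extZeroAdj_unit U
  haveI : IsIso ((ad U).unit.app A) :=
    (inferInstance : IsIso ((CxOX.extZeroAdj U.ι).unit.app A))
  haveI : IsIso ((ad U).unit.app (((TU U).obj A).obj ((rs U).obj B))) :=
    (inferInstance : IsIso ((CxOX.extZeroAdj U.ι).unit.app _))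
  haveI : IsIso (Mate.bimap (TU U) ((ad U).unit.app A) (𝟙 ((rs U).obj B)) ≫
      inv (rt U ((ez U).obj A) B)) := inferInstance
  exact IsIso.of_isIso_fac_left h

instance isIso_π (A : ModSite.Mod (shX (U : Scheme.{u}))) (B : ModSite.Mod (shX X)) :
    IsIso (π U A B) := by
  refine isIso_of_stalks (X := X) (π U A B) (fun x => ?_)
  by_cases hx : x ∈ U
  · exact isIso_stalk_of_isIso_restrict U _ (isIso_rs_π U A B) x hx
  · refine isIso_of_subsingleton _ (subsingleton_sk_extZero U _ x hx) ?_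
    have hz : IsZero ((stk (shX X) x).obj ((ez U).obj A)) := by
      haveI : Subsingleton ↑((stk (shX X) x).obj ((ez U).obj A)) :=
        subsingleton_stalk_extZero U A x hx
      exact ModuleCat.isZero_of_subsingleton _
    have h1 : IsZero ((stk (shX X) x).obj ((ez U).obj A) ⊗ (stk (shX X) x).obj B) :=
      (tensorRight ((stk (shX X) x).obj B)).map_isZero hz
    have h2 : IsZero ((stk (shX X) x).obj (((TX X).obj ((ez U).obj A)).obj B)) :=
      h1.of_iso (τ (shX X) x ((ez U).obj A) B)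
    have h3 : Subsingleton ↑((stk (shX X) x).obj (((TX X).obj ((ez U).obj A)).obj B)) :=
      ModuleCat.subsingleton_of_isZero h2
    exact h3

section General

variable {C₁ C₂ D C₁' C₂' D' : Type*} [Category C₁] [Category C₂] [Category D]
  [Category C₁'] [Category C₂'] [Category D']
  [Abelian C₁] [Abelian C₂] [Abelian D] [Abelian C₁'] [Abelian C₂'] [Abelian D']
  (F : C₁ ⥤ C₂ ⥤ D) [F.Additive] [∀ X, (F.obj X).Additive]
  (F' : C₁' ⥤ C₂' ⥤ D') [F'.Additive] [∀ X, (F'.obj X).Additive]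
  [∀ (K₁ : CochainComplex C₁ ℤ) (K₂ : CochainComplex C₂ ℤ),
    HasMapBifunctor K₁ K₂ F (ComplexShape.up ℤ)]
  [∀ (K₁ : CochainComplex C₁' ℤ) (K₂ : CochainComplex C₂' ℤ),
    HasMapBifunctor K₁ K₂ F' (ComplexShape.up ℤ)]
  (H : D ⥤ D') [H.Additive] [∀ J : Type, PreservesColimitsOfShape (Discrete J) H]
  (K₁ L₁ : CochainComplex C₁ ℤ) (K₂ : CochainComplex C₂ ℤ)
  (K₁' L₁' : CochainComplex C₁' ℤ) (K₂' : CochainComplex C₂' ℤ)
  (e : ∀ p q : ℤ, H.obj ((F.obj (K₁.X p)).obj (K₂.X q)) ≅ (F'.obj (K₁'.X p)).obj (K₂'.X q))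
  (eL : ∀ p q : ℤ, H.obj ((F.obj (L₁.X p)).obj (K₂.X q)) ≅ (F'.obj (L₁'.X p)).obj (K₂'.X q))
  (h₁ : ∀ p q : ℤ, H.map ((F.map (K₁.d p (p + 1))).app (K₂.X q)) ≫ (e (p + 1) q).hom =
      (e p q).hom ≫ (F'.map (K₁'.d p (p + 1))).app (K₂'.X q))
  (h₂ : ∀ p q : ℤ, H.map ((F.obj (K₁.X p)).map (K₂.d q (q + 1))) ≫ (e p (q + 1)).hom =
      (e p q).hom ≫ (F'.obj (K₁'.X p)).map (K₂'.d q (q + 1)))
  (hL₁ : ∀ p q : ℤ, H.map ((F.map (L₁.d p (p + 1))).app (K₂.X q)) ≫ (eL (p + 1) q).hom =
      (eL p q).hom ≫ (F'.map (L₁'.d p (p + 1))).app (K₂'.X q))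
  (hL₂ : ∀ p q : ℤ, H.map ((F.obj (L₁.X p)).map (K₂.d q (q + 1))) ≫ (eL p (q + 1)).hom =
      (eL p q).hom ≫ (F'.obj (L₁'.X p)).map (K₂'.d q (q + 1)))

/-- Naturality of `totIso` in the first complex. -/
theorem totIso_natural_left (g : K₁ ⟶ L₁) (g' : K₁' ⟶ L₁')
    (hg : ∀ p q : ℤ, H.map ((F.map (g.f p)).app (K₂.X q)) ≫ (eL p q).hom =
      (e p q).hom ≫ (F'.map (g'.f p)).app (K₂'.X q)) :
    (H.mapHomologicalComplex (ComplexShape.up ℤ)).map
        (mapBifunctorMap g (𝟙 K₂) F (ComplexShape.up ℤ)) ≫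
        (KFlat.totIso F F' H L₁ K₂ L₁' K₂' eL hL₁ hL₂).hom =
      (KFlat.totIso F F' H K₁ K₂ K₁' K₂' e h₁ h₂).hom ≫
        mapBifunctorMap g' (𝟙 K₂') F' (ComplexShape.up ℤ) := by
  ext n
  refine (isColimitOfPreserves H ((gr F K₁ K₂).isColimitCofanMapObj pp n)).hom_ext ?_
  rintro ⟨⟨⟨p, q⟩, h0⟩⟩
  have h : ComplexShape.π (ComplexShape.up ℤ) (ComplexShape.up ℤ) (ComplexShape.up ℤ)
      (p, q) = n := h0
  show H.map (ιMapBifunctor K₁ K₂ F (ComplexShape.up ℤ) p q n h) ≫
      (H.map ((mapBifunctorMap g (𝟙 K₂) F (ComplexShape.up ℤ)).f n) ≫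
        (KFlat.totIsoX F F' H L₁ K₂ L₁' K₂' eL n).hom) =
    H.map (ιMapBifunctor K₁ K₂ F (ComplexShape.up ℤ) p q n h) ≫
      ((KFlat.totIsoX F F' H K₁ K₂ K₁' K₂' e n).hom ≫
        (mapBifunctorMap g' (𝟙 K₂') F' (ComplexShape.up ℤ)).f n)
  rw [← Category.assoc, ← H.map_comp, ι_mapBifunctorMap, ← Category.assoc
    (H.map (ιMapBifunctor K₁ K₂ F (ComplexShape.up ℤ) p q n h)), KFlat.ι_totIsoX_hom,
    Category.assoc, ι_mapBifunctorMap]
  simp only [HomologicalComplex.id_f, CategoryTheory.Functor.map_id, Category.id_comp,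
    H.map_comp, Category.assoc]
  rw [KFlat.ι_totIsoX_hom, ← Category.assoc, hg, Category.assoc]

end General

section Chain

instance rs_additive : (rs U).Additive :=
  (inferInstance : (Scheme.Modules.restrictFunctor U.ι).Additive)

instance ez_additive : (ez U).Additive := (inferInstance : (CxOX.extZero U.ι).Additive)

instance ez_preservesCoproducts (J : Type) : PreservesColimitsOfShape (Discrete J) (ez U) :=
  (ad U).leftAdjoint_preservesColimits.preservesColimitsOfShape

/-- Termwise restriction of complexes. -/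
noncomputable abbrev rsC : CochainComplex (ModSite.Mod (shX X)) ℤ ⥤
    CochainComplex (ModSite.Mod (shX (U : Scheme.{u}))) ℤ :=
  (rs U).mapHomologicalComplex (ComplexShape.up ℤ)

/-- Termwise extension by zero of complexes. -/
noncomputable abbrev ezC : CochainComplex (ModSite.Mod (shX (U : Scheme.{u}))) ℤ ⥤
    CochainComplex (ModSite.Mod (shX X)) ℤ :=
  (ez U).mapHomologicalComplex (ComplexShape.up ℤ)

theorem π_natural_left {A A' : ModSite.Mod (shX (U : Scheme.{u}))} (f : A ⟶ A')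
    (B : ModSite.Mod (shX X)) :
    (ez U).map (((TU U).map f).app ((rs U).obj B)) ≫ π U A' B =
      π U A B ≫ ((TX X).map ((ez U).map f)).app B := by
  have h := π_natural U f (𝟙 B)
  have e1 : Mate.bimap (TU U) f ((rs U).map (𝟙 B)) = ((TU U).map f).app ((rs U).obj B) := by
    unfold Mate.bimap
    rw [CategoryTheory.Functor.map_id, CategoryTheory.Functor.map_id, Category.comp_id]
  have e2 : Mate.bimap (TX X) ((ez U).map f) (𝟙 B) = ((TX X).map ((ez U).map f)).app B := by
    unfold Mate.bimap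
    rw [CategoryTheory.Functor.map_id, Category.comp_id]
  rw [e1, e2] at h
  exact h

theorem π_natural_right (A : ModSite.Mod (shX (U : Scheme.{u}))) {B B' : ModSite.Mod (shX X)}
    (g : B ⟶ B') :
    (ez U).map (((TU U).obj A).map ((rs U).map g)) ≫ π U A B' =
      π U A B ≫ ((TX X).obj ((ez U).obj A)).map g := by
  have h := π_natural U (𝟙 A) g
  have e1 : Mate.bimap (TU U) (𝟙 A) ((rs U).map g) = ((TU U).obj A).map ((rs U).map g) := by
    unfold Mate.bimap
    rw [CategoryTheory.Functor.map_id, NatTrans.id_app, Category.id_comp]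
  have e2 : Mate.bimap (TX X) ((ez U).map (𝟙 A)) g = ((TX X).obj ((ez U).obj A)).map g := by
    unfold Mate.bimap
    rw [CategoryTheory.Functor.map_id, CategoryTheory.Functor.map_id, NatTrans.id_app,
      Category.id_comp]
  rw [e1, e2] at h
  exact h

/-- `j_! Tot (N ⊗ K|_U) ≅ Tot (j_! N ⊗ K)`. -/
noncomputable def shriekTotIso (N : CochainComplex (ModSite.Mod (shX (U : Scheme.{u}))) ℤ)
    (K : CochainComplex (ModSite.Mod (shX X)) ℤ) :
    (ezC U).obj (mapBifunctor N ((rsC U).obj K) (TU U) (ComplexShape.up ℤ)) ≅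
      mapBifunctor ((ezC U).obj N) K (TX X) (ComplexShape.up ℤ) :=
  KFlat.totIso (TU U) (TX X) (ez U) N ((rsC U).obj K) ((ezC U).obj N) K
    (fun p q => asIso (π U (N.X p) (K.X q)))
    (fun p q => π_natural_left U (N.d p (p + 1)) (K.X q))
    (fun p q => π_natural_right U (N.X p) (K.d q (q + 1)))

theorem shriekTotIso_natural {N N' : CochainComplex (ModSite.Mod (shX (U : Scheme.{u}))) ℤ}
    (g : N ⟶ N') (K : CochainComplex (ModSite.Mod (shX X)) ℤ) :
    (ezC U).map (mapBifunctorMap g (𝟙 ((rsC U).obj K)) (TU U) (ComplexShape.up ℤ)) ≫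
        (shriekTotIso U N' K).hom =
      (shriekTotIso U N K).hom ≫
        mapBifunctorMap ((ezC U).map g) (𝟙 K) (TX X) (ComplexShape.up ℤ) :=
  totIso_natural_left (TU U) (TX X) (ez U) N N' ((rsC U).obj K) ((ezC U).obj N)
    ((ezC U).obj N') K _ _ _ _ _ _ g ((ezC U).map g)
    (fun p q => π_natural_left U (g.f p) (K.X q))

end Chain

section Derived

open Groth.Agent.H40.LTensorComp Groth.Agent.H53.SiteTensor Groth.Agent.H53.CxDerive
  Groth.Agent.H40.LTensorInv

instance ez_preservesFiniteLimits : PreservesFiniteLimits (ez U) :=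
  (inferInstance : PreservesFiniteLimits (CxOX.extZero U.ι))

instance ez_preservesFiniteColimits : PreservesFiniteColimits (ez U) :=
  (inferInstance : PreservesFiniteColimits (CxOX.extZero U.ι))

instance rs_preservesFiniteLimits : PreservesFiniteLimits (rs U) :=
  (inferInstance : PreservesFiniteLimits (Scheme.Modules.restrictFunctor U.ι))

instance rs_preservesFiniteColimits : PreservesFiniteColimits (rs U) :=
  (inferInstance : PreservesFiniteColimits (Scheme.Modules.restrictFunctor U.ι))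

/-- Extension by zero preserves left K-flat complexes. -/
theorem kf_ezC (N : CochainComplex (ModSite.Mod (shX (U : Scheme.{u}))) ℤ)
    (hN : KF (Tf (shX (U : Scheme.{u}))) N) : KF (Tf (shX X)) ((ezC U).obj N) := by
  intro L hL
  have h1 : ((rsC U).obj L).Acyclic := KFlat.acyclic_map_of_exact (rs U) L hL
  have h2 : (mapBifunctor N ((rsC U).obj L) (TU U) (ComplexShape.up ℤ)).Acyclic :=
    acyclic_tensor_of_lkf hN h1
  have h3 := KFlat.acyclic_map_of_exact (ez U) _ h2
  have h4 := KFlat.acyclic_of_iso (shriekTotIso U N L) h3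
  exact KFlat.acyclic_of_iso
    (mapBifunctorFlipIso ((ezC U).obj N) L (TX X) (ComplexShape.up ℤ)).symm h4

variable (K : CochainComplex (ModSite.Mod (shX X)) ℤ)

/-- `N ↦ Q (Tot (j_! N ⊗ K))`. -/
noncomputable abbrev G₁ : CochainComplex (ModSite.Mod (shX (U : Scheme.{u}))) ℤ ⥤
    DerivedCategory (ModSite.Mod (shX X)) :=
  ezC U ⋙ ModSite.tensorCxQ (O := shX X) K

/-- `N ↦ j_! (Q (Tot (N ⊗ K|_U)))`. -/
noncomputable abbrev G₂ : CochainComplex (ModSite.Mod (shX (U : Scheme.{u}))) ℤ ⥤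
    DerivedCategory (ModSite.Mod (shX X)) :=
  ModSite.tensorCxQ (O := shX (U : Scheme.{u})) ((rsC U).obj K) ⋙ (ez U).mapDerivedCategory

/-- The projection formula on complexes, as a natural isomorphism. -/
noncomputable def Θ :
    (ModSite.tensorCx (shX (U : Scheme.{u}))).flip.obj ((rsC U).obj K) ⋙ ezC U ≅
      ezC U ⋙ (ModSite.tensorCx (shX X)).flip.obj K :=
  NatIso.ofComponents (fun N => shriekTotIso U N K)
    (fun {N N'} g => shriekTotIso_natural U g K)

/-- `G₂ ≅ G₁`. -/
noncomputable def isoG : G₂ U K ≅ G₁ U K :=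
  Functor.associator _ _ _ ≪≫
    Functor.isoWhiskerLeft _ (ez U).mapDerivedCategoryFactors ≪≫
    (Functor.associator _ _ _).symm ≪≫
    Functor.isoWhiskerRight (Θ U K) DerivedCategory.Q ≪≫ Functor.associator _ _ _

theorem adapted₁ : Adapted (lkfl (shX (U : Scheme.{u}))) (G₁ U K) where
  res := (adapted (O := shX (U : Scheme.{u})) ((rsC U).obj K)).res
  inv₁ := by
    rintro N N' f ⟨e, rfl⟩
    exact (adapted (O := shX X) K).inv₁ _ ⟨(ez U).mapHomotopyEquiv e, rfl⟩
  inv₂ := by
    intro P P' f hP hP' hf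
    have hP1 : KF (Tf (shX (U : Scheme.{u}))) P := hP
    have hP2 : KF (Tf (shX (U : Scheme.{u}))) P' := hP'
    have hq : QuasiIso ((ezC U).map f) := inferInstance
    exact (adapted (O := shX X) K).inv₂ ((ezC U).map f) (kf_ezC U P hP1) (kf_ezC U P' hP2) hq

variable [ModSite.HasLTensorCx (O := shX X) K]
  [ModSite.HasLTensorCx (O := shX (U : Scheme.{u})) ((rsC U).obj K)]

/-- `j_! ⋙ (- ⊗^L K)`. -/
noncomputable abbrev LF₁ : DerivedCategory (ModSite.Mod (shX (U : Scheme.{u}))) ⥤
    DerivedCategory (ModSite.Mod (shX X)) :=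
  (ez U).mapDerivedCategory ⋙ ModSite.LTensorCx (O := shX X) K

/-- `(- ⊗^L K|_U) ⋙ j_!`. -/
noncomputable abbrev LF₂ : DerivedCategory (ModSite.Mod (shX (U : Scheme.{u}))) ⥤
    DerivedCategory (ModSite.Mod (shX X)) :=
  ModSite.LTensorCx (O := shX (U : Scheme.{u})) ((rsC U).obj K) ⋙ (ez U).mapDerivedCategory

/-- The counit of `LF₁`. -/
noncomputable def α₁ : DerivedCategory.Q ⋙ LF₁ U K ⟶ G₁ U K :=
  (Functor.associator _ _ _).inv ≫
    Functor.whiskerRight (ez U).mapDerivedCategoryFactors.hom (ModSite.LTensorCx (O := shX X) K) ≫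
    (Functor.associator _ _ _).hom ≫ Functor.whiskerLeft (ezC U) (ε (O := shX X) K)

/-- The counit of `LF₂`. -/
noncomputable def α₂ : DerivedCategory.Q ⋙ LF₂ U K ⟶ G₂ U K :=
  (Functor.associator _ _ _).inv ≫
    Functor.whiskerRight (ε (O := shX (U : Scheme.{u})) ((rsC U).obj K)) (ez U).mapDerivedCategory

instance isLeftDerivedFunctor_α₁ : (LF₁ U K).IsLeftDerivedFunctor (α₁ U K)
    (HomologicalComplex.quasiIso (ModSite.Mod (shX (U : Scheme.{u}))) (ComplexShape.up ℤ)) := by
  refine (adapted₁ U K).isLeftDerivedFunctor_of_isIso (LF₁ U K) (α₁ U K) ?_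
  intro P hP
  have hP1 : KF (Tf (shX (U : Scheme.{u}))) P := hP
  have h1 : IsIso ((ε (O := shX X) K).app ((ezC U).obj P)) :=
    isIso_ε_app (O := shX X) K ((ezC U).obj P) (kf_ezC U P hP1)
  simp only [α₁, NatTrans.comp_app, Functor.associator_inv_app, Functor.associator_hom_app,
    Functor.whiskerRight_app, Functor.whiskerLeft_app, Category.id_comp]
  infer_instance

instance isLeftDerivedFunctor_α₂ : (LF₂ U K).IsLeftDerivedFunctor (α₂ U K)
    (HomologicalComplex.quasiIso (ModSite.Mod (shX (U : Scheme.{u}))) (ComplexShape.up ℤ)) :=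
  (adapted (O := shX (U : Scheme.{u})) ((rsC U).obj K)).isLeftDerivedFunctor_comp
    (ModSite.LTensorCx (O := shX (U : Scheme.{u})) ((rsC U).obj K))
    (ε (O := shX (U : Scheme.{u})) ((rsC U).obj K)) (ez U).mapDerivedCategory

/-- The derived projection formula for extension by zero. -/
noncomputable def derivedProjIso : LF₂ U K ≅ LF₁ U K :=
  Functor.leftDerivedNatIso (LF₂ U K) (LF₁ U K) (α₂ U K) (α₁ U K)
    (HomologicalComplex.quasiIso (ModSite.Mod (shX (U : Scheme.{u}))) (ComplexShape.up ℤ))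
    (isoG U K)

end Derived

end Groth.Agent.H31.ShriekProj
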