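import Groth.Agent.H31.FinFree
import Groth.Agent.S0949
import Groth.Agent.S0950
import Groth.Agent.S0955

/-!
# The derived tensor product of perfect objects is perfect (helper31)

* `qIsoOfInverts` : a functor on complexes preserving quasi-isomorphisms maps objects isomorphic in `D`
  to objects isomorphic in `D`.
* `nonempty_iso_tensor_right` : `F ⊗ P₁ ≅ F ⊗ P₂` in `D` for K-flat `P₁ ≅ P₂` in `D`.
* `isPerfect_LTensor`.
-/

set_option backward.isDefEq.respectTransparency false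
set_option autoImplicit false
universe u
open CategoryTheory CategoryTheory.Limits AlgebraicGeometry
attribute [local instance] HasDerivedCategory.standard

namespace Groth.Agent.H31.PerfTensor

open Groth.Agent.H31 Groth.Agent.H31.Stalk Groth.Agent.H31.FinFree Groth.Agent.H28.LpullLoc
  Groth.Agent.H31.PullTensor

/-- A functor on cochain complexes preserving quasi-isomorphisms maps complexes isomorphic in the derived
category to complexes isomorphic in the derived category. -/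
noncomputable def qIsoOfInverts {Z Z' : Scheme.{u}}
    (G : CochainComplex Z.Modules ℤ ⥤ CochainComplex Z'.Modules ℤ)
    (hG : ∀ {K₁ K₂ : CochainComplex Z.Modules ℤ} (f : K₁ ⟶ K₂), QuasiIso f → QuasiIso (G.map f))
    {K₁ K₂ : CochainComplex Z.Modules ℤ}
    (e : DerivedCategory.Q.obj K₁ ≅ DerivedCategory.Q.obj K₂) :
    DerivedCategory.Q.obj (G.obj K₁) ≅ DerivedCategory.Q.obj (G.obj K₂) :=
  have h : (HomologicalComplex.quasiIso Z.Modules (ComplexShape.up ℤ)).IsInvertedBy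
      (G ⋙ DerivedCategory.Q) := fun _ _ f hf =>
    (DerivedCategory.isIso_Q_map_iff_quasiIso _ (G.map f)).2
      (hG f ((HomologicalComplex.mem_quasiIso_iff f).1 hf))
  let G' : DerivedCategory Z.Modules ⥤ DerivedCategory Z'.Modules :=
    Localization.lift (G ⋙ DerivedCategory.Q) h DerivedCategory.Q
  let fac : DerivedCategory.Q ⋙ G' ≅ G ⋙ DerivedCategory.Q := Localization.fac _ h _
  (fac.app K₁).symm ≪≫ G'.mapIso e ≪≫ fac.app K₂

theorem nonempty_iso_tensor_right {Z : Scheme.{u}} (F P₁ P₂ : CochainComplex Z.Modules ℤ)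
    (h₁ : DCoh.IsKFlat P₁) (h₂ : DCoh.IsKFlat P₂)
    (e : DerivedCategory.Q.obj P₁ ≅ DerivedCategory.Q.obj P₂) :
    Nonempty (DerivedCategory.Q.obj ((DCoh.tensorCx.obj F).obj P₁) ≅
      DerivedCategory.Q.obj ((DCoh.tensorCx.obj F).obj P₂)) := by
  obtain ⟨T, s, hs, g, hg⟩ := DerivedCategory.right_fac e.hom
  have hg' : IsIso (DerivedCategory.Q.map g) := by
    have : DerivedCategory.Q.map g = DerivedCategory.Q.map s ≫ e.hom := by
      rw [hg, IsIso.hom_inv_id_assoc]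
    rw [this]
    infer_instance
  obtain ⟨T', r, hT', -, hr, -⟩ := Groth.Agent.S0955.result T
  have hs' : QuasiIso s := (DerivedCategory.isIso_Q_map_iff_quasiIso _ s).1 hs
  have hg'' : QuasiIso g := (DerivedCategory.isIso_Q_map_iff_quasiIso _ g).1 hg'
  have hrs : QuasiIso (r ≫ s) := inferInstance
  have hrg : QuasiIso (r ≫ g) := inferInstance
  have q1 := Groth.Agent.S0950.result (r ≫ s) hT' h₁ F
  have q2 := Groth.Agent.S0950.result (r ≫ g) hT' h₂ F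
  have i1 : IsIso (DerivedCategory.Q.map ((DCoh.tensorCx.obj F).map (r ≫ s))) :=
    (DerivedCategory.isIso_Q_map_iff_quasiIso _ _).2 q1
  have i2 : IsIso (DerivedCategory.Q.map ((DCoh.tensorCx.obj F).map (r ≫ g))) :=
    (DerivedCategory.isIso_Q_map_iff_quasiIso _ _).2 q2
  exact ⟨(asIso (DerivedCategory.Q.map ((DCoh.tensorCx.obj F).map (r ≫ s)))).symm ≪≫
    asIso (DerivedCategory.Q.map ((DCoh.tensorCx.obj F).map (r ≫ g)))⟩

theorem isPerfect_LTensor {X : Scheme.{u}} (L : CochainComplex X.Modules ℤ) (hL : DCoh.IsKFlat L)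
    (hLp : DCoh.IsPerfect (DerivedCategory.Q.obj L)) [DCoh.HasLTensorCx L] (K : DCoh.D X)
    (hK : DCoh.IsPerfect K) : DCoh.IsPerfect ((DCoh.LTensorCx L).obj K) := by
  intro x
  obtain ⟨W₁, hx₁, h₁⟩ := exists_free_presentation K hK x
  obtain ⟨W₂, hx₂, h₂⟩ := exists_free_presentation _ hLp x
  obtain ⟨FK, -, ⟨eK⟩⟩ := exists_kflat_rep K
  obtain ⟨P₁, a, b, hab, hfree₁, ⟨e₁⟩⟩ := h₁ FK ⟨eK⟩
  obtain ⟨P₂, c, d, hcd, hfree₂, ⟨e₂⟩⟩ := h₂ L ⟨Iso.refl _⟩
  refine ⟨W₁ ⊓ W₂, ⟨hx₁, hx₂⟩, ?_⟩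
  rintro F ⟨eF⟩
  have hle₁ : W₁ ⊓ W₂ ≤ W₁ := inf_le_left
  have hle₂ : W₁ ⊓ W₂ ≤ W₂ := inf_le_right
  let R₁ := Scheme.Modules.restrictFunctor (X.homOfLE hle₁)
  let R₂ := Scheme.Modules.restrictFunctor (X.homOfLE hle₂)
  let A := (R₁.mapHomologicalComplex (ComplexShape.up ℤ)).obj P₁
  let B := (R₂.mapHomologicalComplex (ComplexShape.up ℤ)).obj P₂
  let LW := (DCoh.restrictCx (W₁ ⊓ W₂)).obj L
  let FW := (DCoh.restrictCx (W₁ ⊓ W₂)).obj FK
  have eA : DerivedCategory.Q.obj FW ≅ DerivedCategory.Q.obj A :=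
    shrinkIso hle₁ FK FK (Iso.refl _) P₁ e₁
  have eB : DerivedCategory.Q.obj LW ≅ DerivedCategory.Q.obj B :=
    shrinkIso hle₂ L L (Iso.refl _) P₂ e₂
  have hAv : DCoh.VanishesOutside A a b := fun i hi => Functor.map_isZero R₁ (hab i hi)
  have hBv : DCoh.VanishesOutside B c d := fun i hi => Functor.map_isZero R₂ (hcd i hi)
  have hAf : ∀ i, FF (A.X i) := fun i => by
    obtain ⟨n, ⟨e⟩⟩ := hfree₁ i
    exact FF.of_freeMod (R₁.mapIso e ≪≫ restrictFreeModIso _ n)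
  have hBf : ∀ i, FF (B.X i) := fun i => by
    obtain ⟨n, ⟨e⟩⟩ := hfree₂ i
    exact FF.of_freeMod (R₂.mapIso e ≪≫ restrictFreeModIso _ n)
  have hAB := isStrictlyPerfect_tensorCx A B a b c d hAv hBv hAf hBf
  have hBsp : DCoh.IsStrictlyPerfect B := ⟨⟨c, d, hBv⟩, fun i => (hBf i).isFinLocFree⟩
  have hBk := isKFlat_of_isStrictlyPerfect hBsp
  have hLW : DCoh.IsKFlat LW := isKFlat_restrictCx (W₁ ⊓ W₂) L hL
  refine ⟨(DCoh.tensorCx.obj A).obj B, hAB, ?_⟩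
  let e0 : DerivedCategory.Q.obj F ≅ DerivedCategory.Q.obj ((DCoh.tensorCx.obj FK).obj L) :=
    eF ≪≫ (DCoh.LTensorCx L).mapIso eK.symm ≪≫ LTensorCxObjIso L hL FK
  let RW := Scheme.Modules.restrictFunctor (W₁ ⊓ W₂).ι
  let e1 : DerivedCategory.Q.obj ((DCoh.restrictCx (W₁ ⊓ W₂)).obj F) ≅
      DerivedCategory.Q.obj ((DCoh.restrictCx (W₁ ⊓ W₂)).obj ((DCoh.tensorCx.obj FK).obj L)) :=
    (RW.mapDerivedCategoryFactors.app F).symm ≪≫ RW.mapDerivedCategory.mapIso e0 ≪≫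
      RW.mapDerivedCategoryFactors.app _
  let e2a : (DCoh.restrictCx (W₁ ⊓ W₂)).obj ((DCoh.tensorCx.obj FK).obj L) ≅
      (DCoh.tensorCx.obj (((Scheme.Modules.pullback (W₁ ⊓ W₂).ι).mapHomologicalComplex
        (ComplexShape.up ℤ)).obj FK)).obj (((Scheme.Modules.pullback (W₁ ⊓ W₂).ι).mapHomologicalComplex
        (ComplexShape.up ℤ)).obj L) :=
    restrictCxIso (W₁ ⊓ W₂) _ ≪≫ pullTotIso (W₁ ⊓ W₂).ι FK L
  let e2 : (DCoh.restrictCx (W₁ ⊓ W₂)).obj ((DCoh.tensorCx.obj FK).obj L) ≅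
      (DCoh.tensorCx.obj FW).obj LW :=
    e2a ≪≫ (DCoh.tensorCx.mapIso (restrictCxIso (W₁ ⊓ W₂) FK).symm).app _ ≪≫
      (DCoh.tensorCx.obj _).mapIso (restrictCxIso (W₁ ⊓ W₂) L).symm
  let e3 : DerivedCategory.Q.obj ((DCoh.tensorCx.obj FW).obj LW) ≅
      DerivedCategory.Q.obj ((DCoh.tensorCx.obj A).obj LW) :=
    qIsoOfInverts (DCoh.tensorCx.flip.obj LW)
      (fun f hf => by
        haveI := hf
        exact Groth.Agent.S0949.result LW hLW f) eA
  obtain ⟨e4⟩ := nonempty_iso_tensor_right A LW B hLW hBk eB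
  exact ⟨e1 ≪≫ DerivedCategory.Q.mapIso e2 ≪≫ e3 ≪≫ e4⟩

end Groth.Agent.H31.PerfTensor
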