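import Groth.Agent.H31.ExtZeroSh

/-!
# The projection formula `j_!(P ⊗ M|_U) ≅ j_! P ⊗ M` is natural in both variables
(helper31 library)
-/

set_option autoImplicit false
universe u
open CategoryTheory CategoryTheory.Limits MonoidalCategory Opposite

namespace Groth.Agent.H31.ExtZero

open Groth.Agent.H31

variable {C : Type u} [SmallCategory C] {J : GrothendieckTopology C} {O : Sheaf J CommRingCat.{u}}
  {U : C}

/-- The projection formula isomorphism `j_!(P ⊗ M|_U) ≅ j_! P ⊗ M`. -/
noncomputable def projIso (P : ModSite.Mod (O.over U)) (M : ModSite.Mod O) :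
    (jSh O U).obj (((ModSite.tensorBi (O.over U)).obj P).obj ((ModSite.restr O U).obj M)) ≅
      ((ModSite.tensorBi O).obj ((jSh O U).obj P)).obj M :=
  (projIsoRight P).app M

theorem projIso_hom (P : ModSite.Mod (O.over U)) (M : ModSite.Mod O) :
    (projIso P M).hom =
      (kappa O U).inv.app ((toPM (O.over U)).obj P ⊗ (res O U).obj ((toPM O).obj M)) ≫
        (shf O).map (theta ((toPM (O.over U)).obj P) ((toPM O).obj M)) ≫
        (shf O).map (η (jObj ((toPM (O.over U)).obj P)) ▷ (toPM O).obj M) := by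
  rfl

theorem projIso_natural_right (P : ModSite.Mod (O.over U)) {M M' : ModSite.Mod O} (ψ : M ⟶ M') :
    (jSh O U).map (((ModSite.tensorBi (O.over U)).obj P).map ((ModSite.restr O U).map ψ)) ≫
        (projIso P M').hom =
      (projIso P M).hom ≫ ((ModSite.tensorBi O).obj ((jSh O U).obj P)).map ψ :=
  (projIsoRight P).hom.naturality ψ

theorem comp_aux {A : Type*} [Category A] {X₁ X₂ Y₁ Y₂ Z₁ Z₂ W₁ W₂ : A}
    {a₁ : X₁ ⟶ X₂} {k' : X₂ ⟶ Y₂} {k : X₁ ⟶ Y₁} {a₂ : Y₁ ⟶ Y₂} {x' : Y₂ ⟶ Z₂} {x : Y₁ ⟶ Z₁}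
    {b : Z₁ ⟶ Z₂} {y' : Z₂ ⟶ W₂} {y : Z₁ ⟶ W₁} {z : W₁ ⟶ W₂}
    (hk : a₁ ≫ k' = k ≫ a₂) (hx : a₂ ≫ x' = x ≫ b) (hy : b ≫ y' = y ≫ z) :
    a₁ ≫ k' ≫ x' ≫ y' = (k ≫ x ≫ y) ≫ z := by
  simp only [Category.assoc]
  rw [reassoc_of% hk, reassoc_of% hx, hy]

theorem projIso_natural_left {P P' : ModSite.Mod (O.over U)} (φ : P ⟶ P') (M : ModSite.Mod O) :
    (jSh O U).map (((ModSite.tensorBi (O.over U)).map φ).app ((ModSite.restr O U).obj M)) ≫
        (projIso P' M).hom =
      (projIso P M).hom ≫ ((ModSite.tensorBi O).map ((jSh O U).map φ)).app M := by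
  rw [projIso_hom, projIso_hom]
  have k := (kappa O U).inv.naturality
    ((toPM (O.over U)).map φ ▷ (res O U).obj ((toPM O).obj M))
  have t := theta_natural_left ((toPM (O.over U)).map φ) ((toPM O).obj M)
  have n : (jPre (O := O) (U := U)).map ((toPM (O.over U)).map φ) ≫
        η (jObj ((toPM (O.over U)).obj P')) =
      η (jObj ((toPM (O.over U)).obj P)) ≫ (toPM O).map ((shf O).map
        ((jPre (O := O) (U := U)).map ((toPM (O.over U)).map φ))) :=
    (shfAdj O).unit.naturality ((jPre (O := O) (U := U)).map ((toPM (O.over U)).map φ))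
  have hx : (jPre (O := O) (U := U) ⋙ shf O).map
        ((toPM (O.over U)).map φ ▷ (res O U).obj ((toPM O).obj M)) ≫
        (shf O).map (theta ((toPM (O.over U)).obj P') ((toPM O).obj M)) =
      (shf O).map (theta ((toPM (O.over U)).obj P) ((toPM O).obj M)) ≫
        (shf O).map ((jPre (O := O) (U := U)).map ((toPM (O.over U)).map φ) ▷ (toPM O).obj M) := by
    exact ((shf O).map_comp _ _).symm.trans ((congrArg (shf O).map t).trans
      ((shf O).map_comp _ _))
  have hy : (shf O).map ((jPre (O := O) (U := U)).map ((toPM (O.over U)).map φ) ▷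
          (toPM O).obj M) ≫
        (shf O).map (η (jObj ((toPM (O.over U)).obj P')) ▷ (toPM O).obj M) =
      (shf O).map (η (jObj ((toPM (O.over U)).obj P)) ▷ (toPM O).obj M) ≫
        (shf O).map ((toPM O).map ((shf O).map
          ((jPre (O := O) (U := U)).map ((toPM (O.over U)).map φ))) ▷ (toPM O).obj M) := by
    have n' := congrArg (fun z => z ▷ (toPM O).obj M) n
    exact ((shf O).map_comp _ _).symm.trans ((congrArg (shf O).map
      ((comp_whiskerRight _ _ _).symm.trans (n'.trans (comp_whiskerRight _ _ _)))).trans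
      ((shf O).map_comp _ _))
  exact comp_aux k hx hy

end Groth.Agent.H31.ExtZero
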