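import Groth.Agent.H31.TotFunctor
import Groth.Agent.H31.ExtZeroBinat
import Groth.Agent.H31.KFlatSite

/-!
# Restriction to `C/U` preserves K-flat complexes (helper31 library)
-/

set_option autoImplicit false
universe u
open CategoryTheory CategoryTheory.Limits HomologicalComplex

namespace Groth.Agent.H31.KFlat

section Generic

variable {A B : Type*} [Category A] [Category B] [Abelian A] [Abelian B]

/-- An exact functor preserves acyclic complexes. -/
theorem acyclic_map_of_exact (H : A ⥤ B) [H.Additive] [PreservesFiniteLimits H]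
    [PreservesFiniteColimits H] (L : CochainComplex A ℤ) (hL : L.Acyclic) :
    ((H.mapHomologicalComplex (ComplexShape.up ℤ)).obj L).Acyclic := by
  intro n
  rw [exactAt_iff' _ (n - 1) n (n + 1) (by simp) (by simp)]
  have hex : (L.sc' (n - 1) n (n + 1)).Exact :=
    (L.exactAt_iff' _ _ _ (by simp) (by simp)).1 (hL n)
  exact hex.map H

/-- A faithful exact functor reflects acyclic complexes. -/
theorem acyclic_of_acyclic_map (H : A ⥤ B) [H.Additive] [PreservesFiniteLimits H]
    [PreservesFiniteColimits H] [H.Faithful] (L : CochainComplex A ℤ)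
    (hL : ((H.mapHomologicalComplex (ComplexShape.up ℤ)).obj L).Acyclic) : L.Acyclic := by
  intro n
  rw [exactAt_iff' _ (n - 1) n (n + 1) (by simp) (by simp)]
  have hex : (((H.mapHomologicalComplex (ComplexShape.up ℤ)).obj L).sc' (n - 1) n (n + 1)).Exact :=
    (exactAt_iff' _ _ _ _ (by simp) (by simp)).1 (hL n)
  exact (ShortComplex.exact_map_iff_of_faithful (L.sc' (n - 1) n (n + 1)) H).1 hex

end Generic

open Groth.Agent.H31.ExtZero

variable {C : Type u} [SmallCategory C] {J : GrothendieckTopology C} {O : Sheaf J CommRingCat.{u}}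

instance jSh_isLeftAdjoint (U : C) : (jSh O U).IsLeftAdjoint := (jShAdj O U).isLeftAdjoint

instance jSh_additive (U : C) : (jSh O U).Additive :=
  Functor.additive_of_preserves_binary_products _

/-- Restriction to the localised site `C/U` preserves K-flat complexes. -/
theorem isKFlat_restr (U : C) (K : CochainComplex (ModSite.Mod O) ℤ) (hK : ModSite.IsKFlat K) :
    ModSite.IsKFlat (((ModSite.restr O U).mapHomologicalComplex (ComplexShape.up ℤ)).obj K) := by
  rw [isKFlat_iff] at hK ⊢
  intro L hL
  have hjL : (((jSh O U).mapHomologicalComplex (ComplexShape.up ℤ)).obj L).Acyclic :=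
    acyclic_map_of_exact (jSh O U) L hL
  have h1 := hK _ hjL
  have e := totIso (ModSite.tensorBi (O.over U)) (ModSite.tensorBi O) (jSh O U) L
    (((ModSite.restr O U).mapHomologicalComplex (ComplexShape.up ℤ)).obj K)
    (((jSh O U).mapHomologicalComplex (ComplexShape.up ℤ)).obj L) K
    (fun p q => projIso (L.X p) (K.X q))
    (fun p q => projIso_natural_left (L.d p (p + 1)) (K.X q))
    (fun p q => projIso_natural_right (L.X p) (K.d q (q + 1)))
  exact acyclic_of_acyclic_map (jSh O U) _ (acyclic_of_iso e.symm h1)

end Groth.Agent.H31.KFlat
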