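import Groth.Agent.H31.StalkAdj
import Groth.Agent.H31.KFlatRestr
import Mathlib.Topology.Sheaves.Abelian
import Mathlib.Topology.Sheaves.LocallySurjective

/-!
# Exactness of the stalk and skyscraper functors on modules over a ringed space (helper31 library)

* `stk O x` is additive and exact; the family `stk O x` jointly reflects zero objects, exactness and
  acyclicity of complexes (`isZero_of_stk`, `exact_of_stk`, `acyclic_of_stk`).
* `skyF O x` is additive and exact (`acyclic_skyF`).
-/

set_option autoImplicit false
set_option backward.isDefEq.respectTransparency false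
universe u
open CategoryTheory CategoryTheory.Limits Opposite TopologicalSpace

namespace Groth.Agent.H31.Stalk

open Groth.Agent.H31 Groth.Agent.H40.StalkTensor Groth.Agent.H40.FlatBridge2

variable {X : TopCat.{u}} (O : Sheaf (Opens.grothendieckTopology X) CommRingCat.{u}) (x : X)

instance stk_additive : (stk O x).Additive where
  map_add {M N f g} := by
    ext a
    obtain ⟨U, hU, s, rfl⟩ := exists_gm_eq ((toPM O).obj M) x a
    show ((stkP x).map ((toPM O).map (f + g))).hom (gm ((toPM O).obj M) x U hU s) =
      ((stkP x).map ((toPM O).map f)).hom (gm ((toPM O).obj M) x U hU s) +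
        ((stkP x).map ((toPM O).map g)).hom (gm ((toPM O).obj M) x U hU s)
    rw [stkP_map_gm, stkP_map_gm, stkP_map_gm]
    exact (congrArg (gm ((toPM O).obj N) x U hU)
      (show (((toPM O).map (f + g)).app (op U)) s =
        ((toPM O).map f).app (op U) s + ((toPM O).map g).app (op U) s from rfl)).trans
      (map_add _ _ _)

instance skyF_additive : (skyF O x).Additive where
  map_add := rfl

instance stk_preservesColimits : PreservesColimitsOfSize.{u, u} (stk O x) :=
  (adj O x).leftAdjoint_preservesColimits

instance stk_preservesFiniteColimits : PreservesFiniteColimits (stk O x) :=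
  ⟨fun _ _ _ => (adj O x).leftAdjoint_preservesColimits.preservesColimitsOfShape⟩

instance stk_preservesCoproducts (J : Type) : PreservesColimitsOfShape (Discrete J) (stk O x) :=
  (adj O x).leftAdjoint_preservesColimits.preservesColimitsOfShape

instance skyF_preservesFiniteLimits : PreservesFiniteLimits (skyF O x) :=
  ⟨fun _ _ _ => (adj O x).rightAdjoint_preservesLimits.preservesLimitsOfShape⟩

theorem stk_map_mono {M N : ModSite.Mod O} (f : M ⟶ N) [Mono f] : Mono ((stk O x).map f) := by
  rw [ModuleCat.mono_iff_injective]
  have : Mono ((toPM O).map f) := inferInstance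
  have h1 : ∀ U, Function.Injective (((toPM O).map f).app U) :=
    PresheafOfModules.injective_of_mono _
  exact TopCat.Presheaf.stalkFunctor_map_injective_of_app_injective
    (f := (PresheafOfModules.toPresheaf _).map ((toPM O).map f)) (fun U => h1 (op U)) x

instance stk_preservesFiniteLimits : PreservesFiniteLimits (stk O x) :=
  have : (stk O x).PreservesHomology := by
    simp only [(stk O x).exact_tfae.out 2 0]
    intro S h
    have := ((stk O x).preservesFiniteColimits_tfae.out 3 0).mp
      (inferInstance : (PreservesFiniteColimits _))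
    refine ShortComplex.ShortExact.mk' (this S h).left ?_ (this S h).right
    have := h.2
    exact stk_map_mono O x _
  (stk O x).preservesFiniteLimits_of_preservesHomology

theorem skyMap_epi {P' P : Type u} [AddCommGroup P'] [Module (Rx O.obj x) P'] [AddCommGroup P]
    [Module (Rx O.obj x) P] (f : P' →ₗ[Rx O.obj x] P) (hf : Function.Surjective f) :
    Epi (skyMap O x f) := by
  have : (SheafOfModules.toSheaf (ModSite.ringSh O)).Faithful :=
    inferInstanceAs (SheafOfModules.toSheaf.{u} (ModSite.ringSh O)).Faithful
  have := CategoryTheory.Functor.reflectsEpimorphisms_of_faithful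
    (SheafOfModules.toSheaf (ModSite.ringSh O))
  apply (SheafOfModules.toSheaf (ModSite.ringSh O)).epi_of_epi_map
  have : Sheaf.IsLocallySurjective
      ((SheafOfModules.toSheaf (ModSite.ringSh O)).map (skyMap O x f)) := by
    apply Presheaf.isLocallySurjective_of_surjective
    intro V s
    exact ⟨(fun h => (hf ((s : SkSec x P V.unop) h)).choose : SkSec x P' V.unop),
      funext fun h => (hf ((s : SkSec x P V.unop) h)).choose_spec⟩
  infer_instance

theorem skyF_map_epi {P Q : ModuleCat.{u} (Rx O.obj x)} (f : P ⟶ Q) [Epi f] :
    Epi ((skyF O x).map f) :=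
  skyMap_epi O x f.hom ((ModuleCat.epi_iff_surjective f).1 inferInstance)

instance skyF_preservesFiniteColimits : PreservesFiniteColimits (skyF O x) := by
  have h : ∀ (S : ShortComplex (ModuleCat.{u} (Rx O.obj x))), S.ShortExact →
      (S.map (skyF O x)).ShortExact := by
    intro S hS
    have := ((skyF O x).preservesFiniteLimits_tfae.out 3 0).mp
      (inferInstance : (PreservesFiniteLimits _))
    refine ShortComplex.ShortExact.mk' (this S hS).left (this S hS).right ?_
    have := hS.3
    exact skyF_map_epi O x _
  have h2 : PreservesFiniteLimits (skyF O x) ∧ PreservesFiniteColimits (skyF O x) :=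
    ((skyF O x).exact_tfae.out 0 3).mp h
  exact h2.2

/-- The skyscraper functor preserves acyclic complexes. -/
theorem acyclic_skyF (P : CochainComplex (ModuleCat.{u} (Rx O.obj x)) ℤ) (hP : P.Acyclic) :
    (((skyF O x).mapHomologicalComplex (ComplexShape.up ℤ)).obj P).Acyclic :=
  KFlat.acyclic_map_of_exact (skyF O x) P hP

/-- The stalk functor preserves acyclic complexes. -/
theorem acyclic_stk (K : CochainComplex (ModSite.Mod O) ℤ) (hK : K.Acyclic) :
    (((stk O x).mapHomologicalComplex (ComplexShape.up ℤ)).obj K).Acyclic :=
  KFlat.acyclic_map_of_exact (stk O x) K hK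

variable {O}

/-- A module all of whose stalks vanish is zero. -/
theorem isZero_of_stk (M : ModSite.Mod O) (h : ∀ x : X, IsZero ((stk O x).obj M)) : IsZero M := by
  rw [IsZero.iff_id_eq_zero]
  apply SheafOfModules.hom_ext
  apply PresheafOfModules.hom_ext
  intro U
  ext s
  show s = 0
  let F : TopCat.Sheaf AddCommGrpCat.{u} X := ⟨M.val.presheaf, M.isSheaf⟩
  refine TopCat.Presheaf.section_ext F U.unop s 0 (fun y hy => ?_)
  have : Subsingleton (St ((toPM O).obj M) y) := ModuleCat.subsingleton_of_isZero (h y)
  exact Subsingleton.elim (α := St ((toPM O).obj M) y) _ _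

/-- Exactness of a short complex can be checked on stalks. -/
theorem exact_of_stk (S : ShortComplex (ModSite.Mod O))
    (h : ∀ x : X, (S.map (stk O x)).Exact) : S.Exact := by
  rw [ShortComplex.exact_iff_isZero_homology]
  apply isZero_of_stk
  intro x
  have hx := h x
  rw [ShortComplex.exact_iff_isZero_homology] at hx
  exact hx.of_iso (ShortComplex.mapHomologyIso S (stk O x)).symm

/-- Acyclicity of a complex can be checked on stalks. -/
theorem acyclic_of_stk (K : CochainComplex (ModSite.Mod O) ℤ)
    (h : ∀ x : X, (((stk O x).mapHomologicalComplex (ComplexShape.up ℤ)).obj K).Acyclic) :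
    K.Acyclic := by
  intro n
  rw [HomologicalComplex.exactAt_iff' _ (n - 1) n (n + 1) (by simp) (by simp)]
  apply exact_of_stk
  intro x
  exact (HomologicalComplex.exactAt_iff' _ _ _ _ (by simp) (by simp)).1 (h x n)

end Groth.Agent.H31.Stalk
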