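import Groth.Agent.H31.StalkPullback
import Mathlib.AlgebraicGeometry.Modules.Tilde

/-!
# Stalks of `M~` on an affine scheme (helper31 library)

* `stkTildeIso` : `(M~)_x ≅ O_{Spec R, x} ⊗_R M`, naturally in `M`;
* `isKFlat_tilde` : `K~` is K-flat when `K` is a K-flat complex of `R`-modules.
-/

set_option autoImplicit false
set_option backward.isDefEq.respectTransparency false
universe u
open CategoryTheory CategoryTheory.Limits Opposite TopologicalSpace MonoidalCategory
  HomologicalComplex AlgebraicGeometry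

namespace Groth.Agent.H31.Stalk

open Groth.Agent.H31 Groth.Agent.H40.StalkTensor Groth.Agent.H40.FlatBridge2

variable (R : CommRingCat.{u}) (x : Spec R)

/-- The canonical map from `R` to the stalk of the structure sheaf of `Spec R` at `x`. -/
noncomputable abbrev ψx : R →+* Rx (shX (Spec R)).obj x :=
  ((Scheme.ΓSpecIso R).inv ≫ (Spec R).presheaf.germ ⊤ x trivial).hom

/-- `Γ(Spec R, sky_x P) ⟶ P`. -/
noncomputable def gammaSkyHom (P : ModuleCat.{u} (Rx (shX (Spec R)).obj x)) :
    moduleSpecΓFunctor.obj ((skyF (shX (Spec R)) x).obj P) ⟶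
      (ModuleCat.restrictScalars (ψx R x)).obj P :=
  ConcreteCategory.ofHom (C := ModuleCat.{u} R)
    (X := moduleSpecΓFunctor.obj ((skyF (shX (Spec R)) x).obj P))
    (Y := (ModuleCat.restrictScalars (ψx R x)).obj P)
    { toFun := fun s => (s : SkSec x P ⊤) ⟨trivial⟩
      map_add' := fun _ _ => rfl
      map_smul' := fun r s => by
        exact congrArg (fun t : Rx (shX (Spec R)).obj x => t • (s : SkSec x P ⊤) ⟨trivial⟩)
          (TopCat.Presheaf.germ_res_apply (Spec R).presheaf
            (homOfLE (le_refl (⊤ : (Spec R).Opens))) x trivial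
            ((Scheme.ΓSpecIso R).inv.hom r)) }

/-- `P ⟶ Γ(Spec R, sky_x P)`. -/
noncomputable def gammaSkyInv (P : ModuleCat.{u} (Rx (shX (Spec R)).obj x)) :
    (ModuleCat.restrictScalars (ψx R x)).obj P ⟶
      moduleSpecΓFunctor.obj ((skyF (shX (Spec R)) x).obj P) :=
  ConcreteCategory.ofHom (C := ModuleCat.{u} R)
    (X := (ModuleCat.restrictScalars (ψx R x)).obj P)
    (Y := moduleSpecΓFunctor.obj ((skyF (shX (Spec R)) x).obj P))
    { toFun := fun p => (fun _ => p : SkSec x P ⊤)
      map_add' := fun _ _ => rfl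
      map_smul' := fun r p => by
        refine funext (fun h => ?_)
        exact (congrArg (fun t : Rx (shX (Spec R)).obj x => t • (p : P))
          (TopCat.Presheaf.germ_res_apply (Spec R).presheaf
            (homOfLE (le_refl (⊤ : (Spec R).Opens))) x trivial
            ((Scheme.ΓSpecIso R).inv.hom r))).symm }

/-- `Γ(Spec R, sky_x P) ≅ P`, naturally in `P`. -/
noncomputable def gammaSkyIso :
    skyF (shX (Spec R)) x ⋙ moduleSpecΓFunctor ≅ ModuleCat.restrictScalars (ψx R x) :=
  NatIso.ofComponents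
    (fun P => ⟨gammaSkyHom R x P, gammaSkyInv R x P, rfl, rfl⟩)
    (fun g => rfl)

/-- The adjunction `~ ⋙ (-)_x ⊣ sky_x ⋙ Γ`. -/
noncomputable def adjTildeStk :
    tilde.functor R ⋙ stk (shX (Spec R)) x ⊣ skyF (shX (Spec R)) x ⋙ moduleSpecΓFunctor :=
  (tilde.adjunction (R := R)).comp (adj (shX (Spec R)) x)

/-- The adjunction `extension of scalars ⊣ sky_x ⋙ Γ`. -/
noncomputable def adjExtΓ :
    ModuleCat.extendScalars.{u, u, u} (ψx R x) ⊣
      skyF (shX (Spec R)) x ⋙ moduleSpecΓFunctor :=
  (ModuleCat.extendRestrictScalarsAdj.{u, u, u} (ψx R x)).ofNatIsoRight (gammaSkyIso R x).symm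

/-- The stalk of `M~`: `(M~)_x ≅ O_{Spec R, x} ⊗_R M`. -/
noncomputable def stkTildeIso :
    tilde.functor R ⋙ stk (shX (Spec R)) x ≅ ModuleCat.extendScalars.{u, u, u} (ψx R x) :=
  (adjTildeStk R x).leftAdjointUniq (adjExtΓ R x)

/-- `K~` is K-flat when `K` is a K-flat complex of `R`-modules. -/
theorem isKFlat_tilde (K : DRing.Cx R) (hK : DRing.IsKFlat R K) :
    DCoh.IsKFlat (((tilde.functor R).mapHomologicalComplex (ComplexShape.up ℤ)).obj K) := by
  have h0' : DCoh.IsKFlat
      (((tilde.functor R).mapHomologicalComplex (ComplexShape.up ℤ)).obj K) ↔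
      ModSite.IsKFlat (O := shX (Spec R))
        (((tilde.functor R).mapHomologicalComplex (ComplexShape.up ℤ)).obj K) := Iff.rfl
  rw [h0', isKFlat_iff_stalk]
  intro x
  have h2 := Groth.Agent.H35.KFlatBC.isKFlat_extCx (ψx R x) K hK
  have i1 : Functor.Additive (C := (Spec R).Modules)
    (D := ModuleCat.{u} (Rx (shX (Spec R)).obj x)) (stk (shX (Spec R)) x) :=
    stk_additive (shX (Spec R)) x
  have i3 : Functor.Additive (tilde.functor R ⋙ stk (shX (Spec R)) x) := inferInstance
  have e := (NatIso.mapHomologicalComplex (stkTildeIso R x) (ComplexShape.up ℤ)).app K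
  exact DRing_isKFlat_of_iso e.symm h2

end Groth.Agent.H31.Stalk
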