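import Groth.Agent.H17.FTGen
import Groth.Agent.H8.CohAffine
import Groth.Agent.H36.FreeEpiRestrict
import Groth.Agent.H18.Serre.Generation

/-!
# (GG) for S10943 (helper53): coherent modules on affine schemes are globally finitely generated
-/

set_option autoImplicit false
set_option linter.style.haveILetI false
universe u
open CategoryTheory CategoryTheory.Limits AlgebraicGeometry TopologicalSpace Opposite

namespace Groth.Agent.H31.AffineGG

open Groth.Agent.H18

set_option backward.isDefEq.respectTransparency false in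
theorem exists_epi_freeMod_of_isAffine (X : Scheme.{u}) [IsAffine X] (F : X.Modules)
    (hF : Coh.IsCoh F) : ∃ (n : ℕ) (π : FlatMod.freeMod X n ⟶ F), Epi π := by
  classical
  haveI : F.IsQuasicoherent := hF.1
  haveI : SheafOfModules.IsFiniteType (R := X.ringCatSheaf) F := hF.2
  have hfin : Module.Finite Γ(X, (⊤ : X.Opens)) Γ(F, (⊤ : X.Opens)) :=
    Groth.Agent.H8.finite_sections_of_isAffineOpen F (isAffineOpen_top X)
  obtain ⟨S, hS⟩ := hfin.fg_top
  let e : Fin S.card ≃ S := S.equivFin.symm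
  let σ : Fin S.card → Γ(F, (⊤ : X.Opens)) := fun i => ((e i : S) : Γ(F, (⊤ : X.Opens)))
  let φ : ∀ _ : Fin S.card, (SheafOfModules.unit X.ringCatSheaf : X.Modules) ⟶ F := fun i =>
    (SheafOfModules.unitHomEquiv (R := X.ringCatSheaf) F).symm
      (RestrictUnit.globalSections F (σ i))
  have hφ : ∀ (i : Fin S.card) (r : Γ(X, (⊤ : X.Opens))),
      Scheme.Modules.Hom.app (φ i) ⊤ r =
        r • F.presheaf.map (homOfLE (le_top : (⊤ : X.Opens) ≤ ⊤)).op (σ i) := fun i r =>
    FreeEpi.unitHomEquiv_symm_app_apply F (RestrictUnit.globalSections F (σ i)) ⊤ r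
  have hid : ∀ t : Γ(F, (⊤ : X.Opens)),
      F.presheaf.map (homOfLE (le_top : (⊤ : X.Opens) ≤ ⊤)).op t = t := by
    intro t
    have : (homOfLE (le_top : (⊤ : X.Opens) ≤ ⊤)).op = 𝟙 (op (⊤ : X.Opens)) := rfl
    rw [this, F.presheaf.map_id]
    rfl
  refine ⟨S.card, Sigma.desc φ, ?_⟩
  refine Serre.epi_desc_of_span
    (fun _ : Fin S.card => (SheafOfModules.unit X.ringCatSheaf : X.Modules)) F φ
    (fun _ : Unit => (⊤ : X.Opens)) (IsOpenCover.mk (by simp)) (fun _ => isAffineOpen_top X)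
    (fun _ t => ?_)
  have ht : t ∈ Submodule.span Γ(X, (⊤ : X.Opens)) (S : Set Γ(F, (⊤ : X.Opens))) := by
    rw [hS]; trivial
  refine Submodule.span_mono ?_ ht
  intro s hs
  refine Set.mem_iUnion.2 ⟨e.symm ⟨s, hs⟩, (1 : Γ(X, (⊤ : X.Opens))), ?_⟩
  change Scheme.Modules.Hom.app (φ (e.symm ⟨s, hs⟩)) ⊤ (1 : Γ(X, (⊤ : X.Opens))) = s
  rw [hφ, hid, one_smul]
  change ((e (e.symm ⟨s, hs⟩) : S) : Γ(F, (⊤ : X.Opens))) = s
  rw [Equiv.apply_symm_apply]

end Groth.Agent.H31.AffineGG
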