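import Groth.Agent.H31.GammaZCore
import Groth.Agent.H31.PerfLocalD

/-!
# Extending approximations by perfect complexes from an open containing the support (helper31)
-/

set_option backward.isDefEq.respectTransparency false
set_option autoImplicit false
universe u
open CategoryTheory CategoryTheory.Limits AlgebraicGeometry TopologicalSpace Opposite Pretriangulated
attribute [local instance] HasDerivedCategory.standard

namespace Groth.Agent.H31.ApproxExt

open Groth.Agent.H5.KInjDer Groth.Agent.H31.Stalk Groth.Agent.H31.RpushRestrict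
  Groth.Agent.H31.LocalD Groth.Agent.H31.RpushSupport Groth.Agent.H31.OpenImmD
  Groth.Agent.H31.GammaZCore Groth.Agent.H31.PerfLocalD Groth.Agent.H31.MVS

variable {X : Scheme.{u}}

/-- Maps from an object vanishing on `V` to an object vanishing on `U` vanish if `U ∪ V = X`. -/
theorem hom_eq_zero_of_cover (U V : X.Opens) (hUV : ∀ x : X, x ∈ U ∨ x ∈ V) (A N : DCoh.D X)
    (hA : IsZero ((DCoh.restrictD V.ι).obj A)) (hN : IsZero ((DCoh.restrictD U.ι).obj N))
    (g : A ⟶ N) : g = 0 := by
  haveI : DCoh.HasRpush V.ι := hasRpush _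
  refine hom_eq_zero V A N hA ?_ g
  refine mem_essImage_Rpush_of_isZero_restrictD V.ι U ?_ N hN
  intro x hx
  rw [Scheme.Opens.range_ι]
  rcases hUV x with h | h
  · exact absurd h hx
  · exact h

/-- Extension by `Rj_*` of a morphism `P ⟶ E|_U` with `P` supported on a closed `T ⊆ U`. -/
theorem exists_extension (U V : X.Opens) (T : Set X) (hV : (V : Set X) = Tᶜ)
    (hTU : T ⊆ (U : Set X)) [DCoh.HasRpush U.ι]
    (E : DCoh.D X) (P : DCoh.D (U : Scheme.{u})) (α : P ⟶ (DCoh.restrictD U.ι).obj E)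
    (hsupp : ∀ i : ℤ, CohB1.support (DCoh.HD P i) ⊆ {v : ↥(U : Scheme.{u}) | U.ι.base v ∈ T}) :
    ∃ (α' : (DCoh.Rpush U.ι).obj P ⟶ E)
      (ε : (DCoh.restrictD U.ι).obj ((DCoh.Rpush U.ι).obj P) ≅ P),
      (DCoh.restrictD U.ι).map α' = ε.hom ≫ α ∧
      IsZero ((DCoh.restrictD V.ι).obj ((DCoh.Rpush U.ι).obj P)) := by
  obtain ⟨adj, hε⟩ := exists_restrict_Rpush_adj_gen U.ι
  have hmemV : ∀ x : X, x ∈ V ↔ x ∉ T := fun x => by
    show x ∈ (V : Set X) ↔ _
    rw [hV]
    rfl
  haveI : DCoh.HasRpush (U.ι ∣_ V) := hasRpush _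
  have h2 : IsZero ((DCoh.restrictD (U.ι ⁻¹ᵁ V).ι).obj P) := by
    refine isZero_restrictD_of_support P _ hsupp _ (fun y hy => ?_)
    exact (hmemV _).1 y.2 hy
  have hz : IsZero ((DCoh.restrictD V.ι).obj ((DCoh.Rpush U.ι).obj P)) :=
    IsZero.of_iso (isZero_Rpush_obj (U.ι ∣_ V) _ h2) ((restrictRpushIso U.ι V).app P)
  obtain ⟨N, g, k, hTri⟩ := Pretriangulated.distinguished_cocone_triangle (adj.unit.app E)
  haveI : ∀ Q, IsIso (adj.counit.app Q) := fun Q => inferInstance
  have hN : IsZero ((DCoh.restrictD U.ι).obj N) := by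
    have hT' := (DCoh.restrictD U.ι).map_distinguished _ hTri
    refine (Pretriangulated.Triangle.isZero₃_iff_isIso₁ _ hT').2 ?_
    have h3 := adj.left_triangle_components E
    have h4 : (DCoh.restrictD U.ι).map (adj.unit.app E) =
        inv (adj.counit.app ((DCoh.restrictD U.ι).obj E)) := by
      rw [← cancel_mono (adj.counit.app ((DCoh.restrictD U.ι).obj E)), IsIso.inv_hom_id]
      exact h3
    show IsIso ((DCoh.restrictD U.ι).map (adj.unit.app E))
    rw [h4]
    infer_instance
  have hUV : ∀ x : X, x ∈ U ∨ x ∈ V := fun x => by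
    by_cases hx : x ∈ T
    · exact Or.inl (hTU hx)
    · exact Or.inr ((hmemV x).2 hx)
  have h0 : (DCoh.Rpush U.ι).map α ≫ g = 0 := hom_eq_zero_of_cover U V hUV _ N hz hN _
  obtain ⟨α'', hα''⟩ := Pretriangulated.Triangle.coyoneda_exact₂ _ hTri
    ((DCoh.Rpush U.ι).map α) h0
  let α' : (DCoh.Rpush U.ι).obj P ⟶ E := α''
  have hα' : (DCoh.Rpush U.ι).map α = α' ≫ adj.unit.app E := hα''
  refine ⟨α', asIso (adj.counit.app P), ?_, hz⟩
  have h3 : (DCoh.restrictD U.ι).map α' ≫ (DCoh.restrictD U.ι).map (adj.unit.app E) =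
      (DCoh.restrictD U.ι).map ((DCoh.Rpush U.ι).map α) := by
    rw [← Functor.map_comp]
    exact congrArg _ hα'.symm
  have h4 := adj.counit.naturality α
  have h5 := adj.left_triangle_components E
  have h6 : (DCoh.restrictD U.ι).map α' = (DCoh.restrictD U.ι).map α' ≫
      ((DCoh.restrictD U.ι).map (adj.unit.app E) ≫
        adj.counit.app ((DCoh.restrictD U.ι).obj E)) := by
    rw [h5]
    exact (Category.comp_id _).symm
  rw [h6, ← Category.assoc, h3]
  exact h4

/-- Approximation by perfect complexes extends from an open neighbourhood of the support. -/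
theorem approx_extends (U : X.Opens) (T : Set ↥X) (hT : IsClosed T)
    (hTU : T ⊆ (U : Set ↥X)) (E : DCoh.D X) (m : ℤ)
    (happ : ∃ (P : DCoh.D (U : Scheme.{u})) (α : P ⟶ (DCoh.restrictD U.ι).obj E), DCoh.IsPerfect P ∧
      (∀ i : ℤ, CohB1.support (DCoh.HD P i) ⊆ {v : ↥(U : Scheme.{u}) | U.ι.base v ∈ T}) ∧
      (∀ i : ℤ, m < i → IsIso ((DerivedCategory.homologyFunctor _ i).map α)) ∧
      Epi ((DerivedCategory.homologyFunctor _ m).map α))
    (hsupp : ∀ i : ℤ, m ≤ i → CohB1.support (DCoh.HD E i) ⊆ T) :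
    ∃ (P : DCoh.D X) (α : P ⟶ E), DCoh.IsPerfect P ∧ (∀ i : ℤ, CohB1.support (DCoh.HD P i) ⊆ T) ∧
      (∀ i : ℤ, m < i → IsIso ((DerivedCategory.homologyFunctor X.Modules i).map α)) ∧
      Epi ((DerivedCategory.homologyFunctor X.Modules m).map α) := by
  obtain ⟨P, α, hP, hPs, hiso, hepi⟩ := happ
  haveI : DCoh.HasRpush U.ι := hasRpush _
  let V : X.Opens := ⟨Tᶜ, hT.isOpen_compl⟩
  have hmemV : ∀ x : X, x ∈ V ↔ x ∉ T := fun x => Iff.rfl
  obtain ⟨α', ε, hα', hz⟩ := exists_extension U V T rfl hTU E P α hPs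
  have hjT : IsClosed ((fun x : (U : Scheme.{u}) => U.ι x) ''
      {v : ↥(U : Scheme.{u}) | U.ι.base v ∈ T}) := by
    have : ((fun x : (U : Scheme.{u}) => U.ι x) ''
      {v : ↥(U : Scheme.{u}) | U.ι.base v ∈ T}) = T := by
      ext y
      constructor
      · rintro ⟨v, hv, rfl⟩
        exact hv
      · intro hy
        exact ⟨⟨y, hTU hy⟩, hy, rfl⟩
    rw [this]
    exact hT
  have hE0 : ∀ i : ℤ, m ≤ i → ∀ x : X, x ∉ T →
      Subsingleton ((DCoh.HD E i).presheaf.stalk x) := fun i hi x hx => by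
    by_contra h
    exact hx (hsupp i hi h)
  have hP0 : ∀ i : ℤ, ∀ x : X, x ∉ T →
      Subsingleton ((DCoh.HD ((DCoh.Rpush U.ι).obj P) i).presheaf.stalk x) := fun i x hx =>
    subsingleton_stalk_HD_of_isZero_restrictD _ V hz i x ((hmemV x).2 hx)
  -- restriction to `U` of the map on cohomology
  have hU : ∀ i : ℤ, (Scheme.Modules.restrictFunctor U.ι).map
      ((DerivedCategory.homologyFunctor X.Modules i).map α') =
      (mapDerivedCategoryHomologyIso (Scheme.Modules.restrictFunctor U.ι) i).inv.app _ ≫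
        ((DerivedCategory.homologyFunctor _ i).map ε.hom ≫
          (DerivedCategory.homologyFunctor _ i).map α) ≫
        (mapDerivedCategoryHomologyIso (Scheme.Modules.restrictFunctor U.ι) i).hom.app _ := by
    intro i
    have h1 := (mapDerivedCategoryHomologyIso (Scheme.Modules.restrictFunctor U.ι) i).hom.naturality α'
    rw [← Functor.map_comp, ← hα', ← cancel_epi
      ((mapDerivedCategoryHomologyIso (Scheme.Modules.restrictFunctor U.ι) i).hom.app _),
      Iso.hom_inv_id_app_assoc]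
    exact h1.symm
  refine ⟨(DCoh.Rpush U.ι).obj P, α',
    isPerfect_Rpush_openImmersion_of_support U P hP _ hjT hPs, ?_, ?_, ?_⟩
  · intro i x hx
    by_contra hxT
    exact hx (hP0 i x hxT)
  · intro i hi
    refine isIso_of_stalks _ (fun x => ?_)
    by_cases hx : x ∈ U
    · refine isIso_stalk_of_isIso_restrict U _ ?_ x hx
      rw [hU i]
      haveI := hiso i hi
      infer_instance
    · have hxT : x ∉ T := fun h => hx (hTU h)
      exact isIso_of_subsingleton _ (hP0 i x hxT) (hE0 i hi.le x hxT)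
  · let φ := (DerivedCategory.homologyFunctor X.Modules m).map α'
    let S : ShortComplex X.Modules := ShortComplex.mk φ (0 : DCoh.HD E m ⟶ DCoh.HD E m) comp_zero
    have hUV : U ⊔ V = ⊤ := by
      apply le_antisymm le_top
      intro x _
      by_cases hx : x ∈ T
      · exact Or.inl (hTU hx)
      · exact Or.inr ((hmemV x).2 hx)
    have hS : S.Exact := by
      refine Groth.Agent.H31.MV.exact_of_cover S U V hUV ?_ ?_
      · refine ((S.map (Scheme.Modules.restrictFunctor U.ι)).exact_iff_epi ?_).2 ?_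
        · exact (Scheme.Modules.restrictFunctor U.ι).map_zero _ _
        · show Epi ((Scheme.Modules.restrictFunctor U.ι).map φ)
          rw [hU m]
          haveI := hepi
          infer_instance
      · refine ShortComplex.exact_of_isZero_X₂ _ ?_
        refine isZero_of_subsingleton_stalks _ (fun x => ?_)
        exact (subsingleton_stalk_restrict_iff V _ x).2
          (hE0 m le_rfl _ ((hmemV _).1 x.2))
    exact (S.exact_iff_epi rfl).1 hS

end Groth.Agent.H31.ApproxExt
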