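import Mathlib.CategoryTheory.Preadditive.Biproducts
import Mathlib.CategoryTheory.Limits.Shapes.Products
import Mathlib.CategoryTheory.Functor.OfSequence

/-!
# Sequential colimits of split inclusions (helper31 library)

If `X : ℕ ⥤ A` is a sequence in a preadditive category whose transition maps are, up to given
isomorphisms `X (n+1) ≅ F n ⊞ X n`, the inclusions of the second summand, then any colimit of `X`
is `(∐ F) ⊞ X 0`, the leg from `X 0` being the inclusion of the second summand.
-/

set_option autoImplicit false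
set_option backward.isDefEq.respectTransparency false

namespace Groth.Agent.H31.SeqSplit

open CategoryTheory Limits

variable {A : Type*} [Category A] [Preadditive A] [HasBinaryBiproducts A]
  (X : ℕ ⥤ A) (F : ℕ → A) [HasCoproduct F]
  (e : ∀ n, X.obj (n + 1) ≅ F n ⊞ X.obj n)
  (he : ∀ n, X.map (homOfLE (Nat.le_succ n)) ≫ (e n).hom = biprod.inr)

/-- The legs of the cocone with point `(∐ F) ⊞ X 0`. -/
noncomputable def leg : ∀ n, X.obj n ⟶ (∐ F) ⊞ X.obj 0
  | 0 => biprod.inr
  | n + 1 => (e n).hom ≫ biprod.desc (Sigma.ι F n ≫ biprod.inl) (leg n)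

include he in
theorem map_leg (n : ℕ) :
    X.map (homOfLE (Nat.le_succ n)) ≫ leg X F e (n + 1) = leg X F e n := by
  rw [leg, reassoc_of% (he n), biprod.inr_desc]

/-- The cocone with point `(∐ F) ⊞ X 0`. -/
noncomputable def cocone : Cocone X where
  pt := (∐ F) ⊞ X.obj 0
  ι := NatTrans.ofSequence (fun n => leg X F e n) (fun n => by
    dsimp
    rw [Category.comp_id]
    exact map_leg X F e he n)

theorem cocone_ι_app (n : ℕ) : (cocone X F e he).ι.app n = leg X F e n := rfl

include he in
theorem inr_inv (n : ℕ) : biprod.inr ≫ (e n).inv = X.map (homOfLE (Nat.le_succ n)) := by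
  rw [← he n, Category.assoc, Iso.hom_inv_id, Category.comp_id]

/-- The cocone is a colimit. -/
noncomputable def isColimit : IsColimit (cocone X F e he) where
  desc t := biprod.desc (Sigma.desc fun n => biprod.inl ≫ (e n).inv ≫ t.ι.app (n + 1))
    (t.ι.app 0)
  fac t n := by
    rw [cocone_ι_app]
    induction n with
    | zero => rw [leg, biprod.inr_desc]
    | succ n ih =>
      rw [leg, Category.assoc]
      have h : biprod.desc (Sigma.ι F n ≫ biprod.inl) (leg X F e n) ≫
          biprod.desc (Sigma.desc fun n => biprod.inl ≫ (e n).inv ≫ t.ι.app (n + 1))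
            (t.ι.app 0) = (e n).inv ≫ t.ι.app (n + 1) := by
        apply biprod.hom_ext'
        · rw [biprod.inl_desc_assoc, Category.assoc, biprod.inl_desc, Sigma.ι_desc]
        · rw [biprod.inr_desc_assoc, ih, ← Category.assoc, inr_inv X F e he n]
          exact (t.w _).symm
      rw [h, Iso.hom_inv_id_assoc]
  uniq t m hm := by
    apply biprod.hom_ext'
    · rw [biprod.inl_desc]
      apply Sigma.hom_ext
      intro n
      rw [Sigma.ι_desc]
      have h := hm (n + 1)
      rw [cocone_ι_app, leg, Category.assoc] at h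
      rw [← h, Iso.inv_hom_id_assoc, biprod.inl_desc_assoc, Category.assoc]
    · rw [biprod.inr_desc]
      have h := hm 0
      rw [cocone_ι_app, leg] at h
      exact h

include he in
/-- Any colimit of `X` is `(∐ F) ⊞ X 0`. -/
theorem exists_iso (s : Cocone X) (hs : IsColimit s) :
    ∃ ε : s.pt ≅ (∐ F) ⊞ X.obj 0, s.ι.app 0 ≫ ε.hom = biprod.inr :=
  ⟨hs.coconePointUniqueUpToIso (isColimit X F e he), by
    rw [IsColimit.comp_coconePointUniqueUpToIso_hom, cocone_ι_app, leg]⟩

end Groth.Agent.H31.SeqSplit
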