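import Groth.Agent.H31.KFlatResolution
import Groth.Agent.H31.SeqSplit

/-!
# Boundedness and term structure of the cell tower (helper31 library)

Complements `KFlatResolution`: if the chosen covers of zero objects are zero, the cell tower over a
bounded above complex stays bounded above; and each term of the colimit of the tower is the term of
the first stage plus a countable coproduct of cells.
-/

set_option autoImplicit false
set_option backward.isDefEq.respectTransparency false

namespace Groth.Agent.H31.Resolution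

open CategoryTheory Limits HomologicalComplex CochainComplex HomComplex

variable {D : Type*} [Category D] [Abelian D] {K : CochainComplex D ℤ}
  (Fc : D → D) (πc : ∀ X, Fc X ⟶ X) [∀ X, Epi (πc X)] (st₀ : Stage K)

omit [Abelian D] in
theorem isZero_biprod' [HasZeroMorphisms D] [HasBinaryBiproducts D] {X Y : D} (hX : IsZero X)
    (hY : IsZero Y) : IsZero (X ⊞ Y) := by
  rw [IsZero.iff_id_eq_zero]
  apply biprod.hom_ext
  · exact hX.eq_of_tgt _ _
  · exact hY.eq_of_tgt _ _

theorem isZero_mappingCone_X {S P : CochainComplex D ℤ} (f : S ⟶ P) (q : ℤ)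
    (hS : IsZero (S.X (q + 1))) (hP : IsZero (P.X q)) : IsZero ((mappingCone f).X q) :=
  IsZero.of_iso (isZero_biprod' hS hP) (homotopyCofiber.XIsoBiprod f q (q + 1) rfl)

omit [Abelian D] in
theorem isZero_of_isColimit_of_isZero {J : Type*} [Category J] [HasZeroMorphisms D] (G : J ⥤ D)
    (c : Cocone G) (hc : IsColimit c) (h : ∀ j, IsZero (G.obj j)) : IsZero c.pt := by
  rw [IsZero.iff_id_eq_zero]
  apply hc.hom_ext
  intro j
  exact (h j).eq_of_src _ _

section Bounded

variable (hFc0 : ∀ X, IsZero X → IsZero (Fc X)) (b : ℤ) (hK : ∀ q, b < q → IsZero (K.X q))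

include hFc0 hK in
theorem isZero_next_X (st : Stage K) (hst : ∀ q, b < q → IsZero (st.P.X q)) (i q : ℤ)
    (hq : b < q) : IsZero ((st.next Fc πc i).P.X q) := by
  refine isZero_mappingCone_X _ q ?_ (hst q hq)
  by_cases h : q + 1 = i + 1
  · have hi : q = i := by omega
    subst hi
    have h1 : IsZero ((mappingCone st.φ).X q) :=
      isZero_mappingCone_X st.φ q (hst (q + 1) (by omega)) (hK q hq)
    have h2 : IsZero ((mappingCone st.φ).cycles q) :=
      IsZero.of_mono ((mappingCone st.φ).iCycles q) h1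
    exact IsZero.of_iso (hFc0 _ h2) (singleObjXSelf (ComplexShape.up ℤ) (q + 1) _)
  · exact isZero_single_obj_X (ComplexShape.up ℤ) (i + 1) _ (q + 1) h

include hFc0 hK in
theorem isZero_stage_X (h0 : ∀ q, b < q → IsZero (st₀.P.X q)) :
    ∀ (n : ℕ) (q : ℤ), b < q → IsZero ((stage Fc πc st₀ n).P.X q)
  | 0 => h0
  | n + 1 => fun q hq =>
    isZero_next_X Fc πc hFc0 b hK _ (isZero_stage_X h0 n) _ q hq

include hFc0 hK in
theorem isZero_colimit_X [HasColimitsOfShape ℕ D] (h0 : ∀ q, b < q → IsZero (st₀.P.X q))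
    (q : ℤ) (hq : b < q) : IsZero ((colimit (seq Fc πc st₀)).X q) :=
  isZero_of_isColimit_of_isZero (seq Fc πc st₀ ⋙ eval D (ComplexShape.up ℤ) q)
    ((eval D (ComplexShape.up ℤ) q).mapCocone (colimit.cocone _))
    (isColimitOfPreserves _ (colimit.isColimit _))
    (fun m => isZero_stage_X Fc πc st₀ hFc0 b hK h0 m q hq)

end Bounded

/-- Each term of the colimit of the tower is the term of the first stage plus a countable
coproduct of cells, each of which is zero or one of the chosen covers. -/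
theorem exists_termIso [HasColimitsOfShape ℕ D] [∀ F : ℕ → D, HasCoproduct F] (q : ℤ) :
    ∃ (F : ℕ → D) (ε : (colimit (seq Fc πc st₀)).X q ≅ (∐ F) ⊞ st₀.P.X q),
      (∀ m, IsZero (F m) ∨ ∃ X, Nonempty (F m ≅ Fc X)) ∧
      (colimit.ι (seq Fc πc st₀) 0).f q ≫ ε.hom = biprod.inr := by
  let F : ℕ → D := fun m => ((singleFunctor D (deg m + 1)).obj
    (Fc ((mappingCone (stage Fc πc st₀ m).φ).cycles (deg m)))).X (q + 1)
  let X : ℕ ⥤ D := seq Fc πc st₀ ⋙ eval D (ComplexShape.up ℤ) q
  let e : ∀ m, X.obj (m + 1) ≅ F m ⊞ X.obj m := fun m =>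
    homotopyCofiber.XIsoBiprod (Cell.cellMap (stage Fc πc st₀ m).φ (deg m)
      ((stage Fc πc st₀ m).z Fc πc (deg m)) ((stage Fc πc st₀ m).hz Fc πc (deg m))) q (q + 1) rfl
  have he : ∀ m, X.map (homOfLE (Nat.le_succ m)) ≫ (e m).hom = biprod.inr := by
    intro m
    have h1 : X.map (homOfLE (Nat.le_succ m)) = (stageMap Fc πc st₀ m).f q := by
      show ((seq Fc πc st₀).map (homOfLE (Nat.le_succ m))).f q = _
      rw [seq_map_succ]
    rw [h1]
    exact homotopyCofiber.inrX_XIsoBiprod_hom _ (q + 1) q rfl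
  obtain ⟨ε, hε⟩ := SeqSplit.exists_iso X F e he
    ((eval D (ComplexShape.up ℤ) q).mapCocone (colimit.cocone _))
    (isColimitOfPreserves _ (colimit.isColimit _))
  refine ⟨F, ε, fun m => ?_, hε⟩
  by_cases h : q + 1 = deg m + 1
  · exact Or.inr ⟨_, ⟨HomologicalComplex.XIsoOfEq _ h ≪≫
      singleObjXSelf (ComplexShape.up ℤ) (deg m + 1) _⟩⟩
  · exact Or.inl (isZero_single_obj_X (ComplexShape.up ℤ) (deg m + 1) _ (q + 1) h)

end Groth.Agent.H31.Resolution
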