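import Mathlib.Algebra.Homology.HomotopyCategory.Pretriangulated
import Mathlib.Algebra.Homology.HomotopyCategory.HomComplexSingle
import Mathlib.Algebra.Homology.HomologicalComplexAbelian
import Mathlib.Algebra.Homology.ShortComplex.HomologicalComplex

/-!
# Attaching a cell to kill cycles of a mapping cone (helper31 library)

Given `φ : P ⟶ K` and a cycle `z : F ⟶ (mappingCone φ).X i`, we attach the cell `F[-(i+1)]` to `P`
along the `P`-component of `z`, obtaining `P' = mappingCone (cellMap)` with `inr : P ⟶ P'` and an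
extension `cellDesc : P' ⟶ K` of `φ`, such that `z` becomes a boundary in `mappingCone cellDesc`.
-/

set_option autoImplicit false
set_option backward.isDefEq.respectTransparency false

namespace Groth.Agent.H31.Cell

open CategoryTheory Limits HomologicalComplex CochainComplex HomComplex

variable {D : Type*} [Category D] [Abelian D] {P K : CochainComplex D ℤ} (φ : P ⟶ K) (i : ℤ)
  {F : D} (z : F ⟶ (mappingCone φ).X i) (hz : z ≫ (mappingCone φ).d i (i + 1) = 0)

/-- The `P`-component of `z`. -/
noncomputable def za : F ⟶ P.X (i + 1) := z ≫ (mappingCone.fst φ).1.v i (i + 1) rfl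

/-- The `K`-component of `z`. -/
noncomputable def zb : F ⟶ K.X i := z ≫ (mappingCone.snd φ).v i i (add_zero i)

include hz in
theorem za_d : za φ i z ≫ P.d (i + 1) (i + 1 + 1) = 0 := by
  have h := congrArg (fun x => x ≫ (mappingCone.fst φ).1.v (i + 1) (i + 1 + 1) rfl) hz
  simp only [Category.assoc, zero_comp] at h
  rw [mappingCone.d_fst_v φ i (i + 1) (i + 1 + 1) rfl rfl] at h
  simpa [za] using h

include hz in
theorem za_φ_add : za φ i z ≫ φ.f (i + 1) + zb φ i z ≫ K.d i (i + 1) = 0 := by
  have h := congrArg (fun x => x ≫ (mappingCone.snd φ).v (i + 1) (i + 1) (add_zero _)) hz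
  simp only [Category.assoc, zero_comp] at h
  rw [mappingCone.d_snd_v φ i (i + 1) rfl] at h
  simpa [za, zb] using h

/-- The attaching map of the cell. -/
noncomputable def cellMap : (singleFunctor D (i + 1)).obj F ⟶ P :=
  Cocycle.homOf (Cocycle.fromSingleMk (za φ i z) (add_zero (i + 1)) (i + 1 + 1) rfl
    (za_d φ i z hz))

theorem ofHom_cellMap :
    Cochain.ofHom (cellMap φ i z hz) = Cochain.fromSingleMk (za φ i z) (add_zero (i + 1)) := by
  simp [cellMap]

/-- The nullhomotopy of `cellMap ≫ φ`. -/
noncomputable def cellCochain : Cochain ((singleFunctor D (i + 1)).obj F) K (-1) :=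
  Cochain.fromSingleMk (-zb φ i z) (by omega : i + 1 + -1 = i)

theorem δ_cellCochain :
    δ (-1) 0 (cellCochain φ i z) = Cochain.ofHom (cellMap φ i z hz ≫ φ) := by
  rw [cellCochain, Cochain.δ_fromSingleMk _ _ 0 (i + 1) (add_zero _)]
  rw [Cochain.ofHom_comp, ofHom_cellMap, ← Cochain.fromSingleMk_postcomp]
  congr 1
  rw [Preadditive.neg_comp]
  exact neg_eq_of_add_eq_zero_left (za_φ_add φ i z hz)

/-- The extension of `φ` to the complex with the cell attached. -/
noncomputable def cellDesc : mappingCone (cellMap φ i z hz) ⟶ K :=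
  mappingCone.desc (cellMap φ i z hz) (cellCochain φ i z) φ (δ_cellCochain φ i z hz)

theorem inr_cellDesc : mappingCone.inr (cellMap φ i z hz) ≫ cellDesc φ i z hz = φ :=
  mappingCone.inr_desc _ _ _ _

/-- The induced map on mapping cones. -/
noncomputable def cellConeMap : mappingCone φ ⟶ mappingCone (cellDesc φ i z hz) :=
  mappingCone.map φ (cellDesc φ i z hz) (mappingCone.inr (cellMap φ i z hz)) (𝟙 K)
    (by rw [inr_cellDesc, Category.comp_id])

theorem z_cellConeMap : z ≫ (cellConeMap φ i z hz).f i =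
    za φ i z ≫ (mappingCone.inr (cellMap φ i z hz)).f (i + 1) ≫
      (mappingCone.inl (cellDesc φ i z hz)).v (i + 1) i (by omega) +
    zb φ i z ≫ (mappingCone.inr (cellDesc φ i z hz)).f i := by
  rw [cellConeMap, mappingCone.map, mappingCone.desc_f _ _ _ _ i (i + 1) rfl]
  simp [za, zb]

theorem cellMap_f : (cellMap φ i z hz).f (i + 1) =
    (singleObjXSelf (ComplexShape.up ℤ) (i + 1) F).hom ≫ za φ i z := by
  have h := Cochain.congr_v (ofHom_cellMap φ i z hz) (i + 1) (i + 1) (add_zero _)
  rw [Cochain.ofHom_v, Cochain.fromSingleMk_v] at h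
  exact h

theorem cellCochain_v : (cellCochain φ i z).v (i + 1) i (by omega) =
    (singleObjXSelf (ComplexShape.up ℤ) (i + 1) F).hom ≫ (-zb φ i z) :=
  Cochain.fromSingleMk_v _ _

/-- The element whose boundary is the image of `z`. -/
noncomputable def cellW : F ⟶ (mappingCone (cellDesc φ i z hz)).X (i - 1) :=
  -((singleObjXSelf (ComplexShape.up ℤ) (i + 1) F).inv ≫
    (mappingCone.inl (cellMap φ i z hz)).v (i + 1) i (by omega) ≫
      (mappingCone.inl (cellDesc φ i z hz)).v i (i - 1) (by omega))

theorem cellW_fst : cellW φ i z hz ≫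
    (mappingCone.fst (cellDesc φ i z hz)).1.v (i - 1) i (by omega) =
    -((singleObjXSelf (ComplexShape.up ℤ) (i + 1) F).inv ≫
      (mappingCone.inl (cellMap φ i z hz)).v (i + 1) i (by omega)) := by
  simp [cellW]

theorem cellW_snd : cellW φ i z hz ≫
    (mappingCone.snd (cellDesc φ i z hz)).v (i - 1) (i - 1) (add_zero _) = 0 := by
  simp [cellW]

theorem inl_cellMap_d : (mappingCone.inl (cellMap φ i z hz)).v (i + 1) i (by omega) ≫
      (mappingCone (cellMap φ i z hz)).d i (i + 1) =
    (singleObjXSelf (ComplexShape.up ℤ) (i + 1) F).hom ≫ za φ i z ≫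
      (mappingCone.inr (cellMap φ i z hz)).f (i + 1) := by
  rw [mappingCone.inl_v_d (cellMap φ i z hz) (i + 1) i (i + 1 + 1) (by omega) (by omega),
    cellMap_f]
  simp

theorem cellW_d_fst : (cellW φ i z hz ≫ (mappingCone (cellDesc φ i z hz)).d (i - 1) i) ≫
      (mappingCone.fst (cellDesc φ i z hz)).1.v i (i + 1) rfl =
    za φ i z ≫ (mappingCone.inr (cellMap φ i z hz)).f (i + 1) := by
  have e1 : cellW φ i z hz ≫ (mappingCone (cellDesc φ i z hz)).d (i - 1) i ≫
      (mappingCone.fst (cellDesc φ i z hz)).1.v i (i + 1) rfl =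
      -(cellW φ i z hz ≫ (mappingCone.fst (cellDesc φ i z hz)).1.v (i - 1) i (by omega) ≫
        (mappingCone (cellMap φ i z hz)).d i (i + 1)) := by
    rw [mappingCone.d_fst_v (cellDesc φ i z hz) (i - 1) i (i + 1) (by omega) rfl,
      Preadditive.comp_neg]
  have e2 : cellW φ i z hz ≫ (mappingCone.fst (cellDesc φ i z hz)).1.v (i - 1) i (by omega) ≫
        (mappingCone (cellMap φ i z hz)).d i (i + 1) =
      -((singleObjXSelf (ComplexShape.up ℤ) (i + 1) F).inv ≫
        (mappingCone.inl (cellMap φ i z hz)).v (i + 1) i (by omega) ≫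
          (mappingCone (cellMap φ i z hz)).d i (i + 1)) := by
    rw [← Category.assoc, cellW_fst, Preadditive.neg_comp, Category.assoc]
  rw [Category.assoc, e1, e2, neg_neg, inl_cellMap_d, Iso.inv_hom_id_assoc]

theorem cellW_d_snd : (cellW φ i z hz ≫ (mappingCone (cellDesc φ i z hz)).d (i - 1) i) ≫
      (mappingCone.snd (cellDesc φ i z hz)).v i i (add_zero i) = zb φ i z := by
  have e1 : cellW φ i z hz ≫ (mappingCone (cellDesc φ i z hz)).d (i - 1) i ≫
      (mappingCone.snd (cellDesc φ i z hz)).v i i (add_zero i) =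
      cellW φ i z hz ≫ (mappingCone.fst (cellDesc φ i z hz)).1.v (i - 1) i (by omega) ≫
        (cellDesc φ i z hz).f i +
      cellW φ i z hz ≫ (mappingCone.snd (cellDesc φ i z hz)).v (i - 1) (i - 1) (add_zero _) ≫
        K.d (i - 1) i := by
    rw [mappingCone.d_snd_v (cellDesc φ i z hz) (i - 1) i (by omega), Preadditive.comp_add]
  have e2 : cellW φ i z hz ≫ (mappingCone.snd (cellDesc φ i z hz)).v (i - 1) (i - 1)
      (add_zero _) ≫ K.d (i - 1) i = 0 := by
    rw [← Category.assoc, cellW_snd, zero_comp]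
  have e3 : cellW φ i z hz ≫ (mappingCone.fst (cellDesc φ i z hz)).1.v (i - 1) i (by omega) ≫
        (cellDesc φ i z hz).f i = zb φ i z := by
    rw [← Category.assoc, cellW_fst, Preadditive.neg_comp, Category.assoc, cellDesc,
      mappingCone.inl_v_desc_f, cellCochain_v]
    simp
  rw [Category.assoc, e1, e2, e3, add_zero]

theorem z_cellConeMap_eq : z ≫ (cellConeMap φ i z hz).f i =
    cellW φ i z hz ≫ (mappingCone (cellDesc φ i z hz)).d (i - 1) i := by
  apply mappingCone.ext_to _ i (i + 1) rfl
  · rw [cellW_d_fst, z_cellConeMap]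
    simp
  · rw [cellW_d_snd, z_cellConeMap]
    simp

/-- If the cycle `z` comes from an epimorphism onto the cycles of `mappingCone φ` in degree `i`,
then the map on mapping cones kills the homology in degree `i`. -/
theorem homologyMap_cellConeMap_eq_zero (π : F ⟶ (mappingCone φ).cycles i) [Epi π]
    (hz' : (π ≫ (mappingCone φ).iCycles i) ≫ (mappingCone φ).d i (i + 1) = 0) :
    homologyMap (cellConeMap φ i (π ≫ (mappingCone φ).iCycles i) hz') i = 0 := by
  rw [← cancel_epi ((mappingCone φ).homologyπ i), ← cancel_epi π, comp_zero, comp_zero,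
    homologyπ_naturality]
  have e : π ≫ cyclesMap (cellConeMap φ i (π ≫ (mappingCone φ).iCycles i) hz') i =
      cellW φ i (π ≫ (mappingCone φ).iCycles i) hz' ≫
        (mappingCone (cellDesc φ i (π ≫ (mappingCone φ).iCycles i) hz')).toCycles (i - 1) i := by
    rw [← cancel_mono ((mappingCone (cellDesc φ i (π ≫ (mappingCone φ).iCycles i) hz')).iCycles i),
      Category.assoc, cyclesMap_i, Category.assoc, toCycles_i, ← Category.assoc]
    exact z_cellConeMap_eq φ i (π ≫ (mappingCone φ).iCycles i) hz'
  rw [← Category.assoc, e, Category.assoc, toCycles_comp_homologyπ, comp_zero]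

end Groth.Agent.H31.Cell
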