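import Groth.Agent.H17.FTSubQCoh
import Groth.Agent.H90.LocFP

/-!
# (L) for S10943 (helper53): coherence can be checked on affine opens
-/

set_option autoImplicit false
universe u
open CategoryTheory AlgebraicGeometry TopologicalSpace

namespace Groth.Agent.H31.CohLocal

theorem isCoh_of_forall_affine_restrict {X : Scheme.{u}} (M : X.Modules)
    (h : ∀ U : X.Opens, IsAffineOpen U → Coh.IsCoh (M.restrict U.ι)) : Coh.IsCoh M := by
  refine ⟨?_, ?_⟩
  · exact Groth.Agent.H17.FTSubQCoh.isQuasicoherent_of_affine_cover M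
      (fun U : X.affineOpens => (U : X.Opens))
      (IsOpenCover.mk (iSup_affineOpens_eq_top X)) (fun U => U.2) (fun U => (h U U.2).1)
  · refine Groth.Agent.H90.LR.isFT_of_locFG M (fun x => ?_)
    obtain ⟨U, hxU⟩ : ∃ U : X.affineOpens, x ∈ (U : X.Opens) := by
      have : x ∈ (⨆ U : X.affineOpens, (U : X.Opens)) := by
        rw [iSup_affineOpens_eq_top X]; trivial
      exact Opens.mem_iSup.1 this
    exact Groth.Agent.H90.LR.LocFG.of_restrict (U : X.Opens).ι
      (Groth.Agent.H90.LR.locFG_of_isFT _ (h U U.2).2 ⟨x, hxU⟩)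

end Groth.Agent.H31.CohLocal
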