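import Groth.Agent.H8.CohKerCoker
import Groth.Agent.S2384
import Groth.Agent.H64.ModSiteFT
import Groth.Agent.H90.QCohHom
import Groth.Agent.S6515

/-!
# Two-out-of-three for `IsCohD` in distinguished triangles (helper31)
-/

set_option autoImplicit false
set_option linter.style.haveILetI false
universe u
open CategoryTheory CategoryTheory.Limits AlgebraicGeometry CategoryTheory.Pretriangulated
attribute [local instance] HasDerivedCategory.standard

namespace Groth.Agent.H31.CohTri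

variable {X : Scheme.{u}}

/-- Extensions of coherent modules are coherent. -/
theorem isCoh_of_shortExact (S : ShortComplex X.Modules) (hS : S.ShortExact)
    (h1 : Coh.IsCoh S.X₁) (h3 : Coh.IsCoh S.X₃) : Coh.IsCoh S.X₂ := by
  refine ⟨Groth.Agent.S2384.result S hS h1.1 h3.1, ?_⟩
  haveI : SheafOfModules.IsFiniteType (R := ModSite.ringSh (X.sheaf)) S.X₁ := h1.2
  haveI : SheafOfModules.IsFiniteType (R := ModSite.ringSh (X.sheaf)) S.X₃ := h3.2
  exact Groth.Agent.H64.ModSiteFT.isFiniteType_of_shortExact (O := X.sheaf) S hS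

section Abelian

variable {𝒜 : Type*} [Category 𝒜] [Abelian 𝒜]

/-- Five-term devissage: if `A' ⟶ A ⟶ B ⟶ C ⟶ C'` is exact at `A`, `B`, `C`, and `P` is closed
under cokernels (of maps between `P`-objects), kernels and extensions, then `P B`. -/
theorem prop_of_five_exact (P : 𝒜 → Prop)
    (hcoker : ∀ {M N : 𝒜} (φ : M ⟶ N), P M → P N → P (cokernel φ))
    (hker : ∀ {M N : 𝒜} (φ : M ⟶ N), P M → P N → P (kernel φ))
    (hext : ∀ S : ShortComplex 𝒜, S.ShortExact → P S.X₁ → P S.X₃ → P S.X₂)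
    {A' A B C C' : 𝒜} (a : A' ⟶ A) (f : A ⟶ B) (g : B ⟶ C) (c : C ⟶ C')
    (w₁ : a ≫ f = 0) (w₂ : f ≫ g = 0) (w₃ : g ≫ c = 0)
    (h₁ : (ShortComplex.mk a f w₁).Exact) (h₂ : (ShortComplex.mk f g w₂).Exact)
    (h₃ : (ShortComplex.mk g c w₃).Exact)
    (hA' : P A') (hA : P A) (hC : P C) (hC' : P C') : P B := by
  let f' : cokernel a ⟶ B := cokernel.desc a f w₁
  let g' : B ⟶ kernel c := kernel.lift c g w₃
  haveI : Mono f' := h₁.mono_cokernelDesc
  haveI : Epi g' := h₃.epi_kernelLift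
  have hf' : cokernel.π a ≫ f' = f := cokernel.π_desc _ _ _
  have hg' : g' ≫ kernel.ι c = g := kernel.lift_ι _ _ _
  have w' : f' ≫ g = 0 := by
    rw [← cancel_epi (cokernel.π a), ← Category.assoc, hf', w₂, comp_zero]
  have w'' : f' ≫ g' = 0 := by
    rw [← cancel_mono (kernel.ι c), Category.assoc, hg', w', zero_comp]
  let S₁ : ShortComplex 𝒜 := ShortComplex.mk f g w₂
  let Sa : ShortComplex 𝒜 := ShortComplex.mk f' g w'
  let Sb : ShortComplex 𝒜 := ShortComplex.mk f' g' w''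
  let φ₁ : S₁ ⟶ Sa :=
    { τ₁ := cokernel.π a
      τ₂ := 𝟙 _
      τ₃ := 𝟙 _
      comm₁₂ := by simp [S₁, Sa, hf']
      comm₂₃ := by simp [S₁, Sa] }
  let φ₂ : Sb ⟶ Sa :=
    { τ₁ := 𝟙 _
      τ₂ := 𝟙 _
      τ₃ := kernel.ι c
      comm₁₂ := by simp [Sb, Sa]
      comm₂₃ := by simp [Sb, Sa, hg'] }
  haveI : Epi φ₁.τ₁ := by dsimp [φ₁]; infer_instance
  haveI : IsIso φ₁.τ₂ := by dsimp [φ₁]; infer_instance
  haveI : Mono φ₁.τ₃ := by dsimp [φ₁]; infer_instance
  haveI : Epi φ₂.τ₁ := by dsimp [φ₂]; infer_instance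
  haveI : IsIso φ₂.τ₂ := by dsimp [φ₂]; infer_instance
  haveI : Mono φ₂.τ₃ := by dsimp [φ₂]; infer_instance
  have hSa : Sa.Exact := (ShortComplex.exact_iff_of_epi_of_isIso_of_mono φ₁).1 h₂
  have hSb : Sb.Exact := (ShortComplex.exact_iff_of_epi_of_isIso_of_mono φ₂).2 hSa
  have hSb' : Sb.ShortExact := ShortComplex.ShortExact.mk' hSb ‹Mono f'› ‹Epi g'›
  exact hext Sb hSb' (hcoker a hA' hA) (hker c hC hC')

end Abelian

/-- Two-out-of-three for coherent cohomology: in a distinguished triangle of `D(O_X)` on a locally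
Noetherian scheme, if the outer vertices have coherent cohomology then so does the middle one. -/
theorem isCohD_obj₂ [IsLocallyNoetherian X] (T : Triangle (DCoh.D X))
    (hT : T ∈ distTriang (DCoh.D X)) (h1 : DCoh.IsCohD T.obj₁) (h3 : DCoh.IsCohD T.obj₃) :
    DCoh.IsCohD T.obj₂ := by
  intro i
  exact prop_of_five_exact (fun M : X.Modules => Coh.IsCoh M)
    (fun φ hM hN => Groth.Agent.H8.isCoh_cokernel hM hN φ)
    (fun φ hM hN => Groth.Agent.H8.isCoh_kernel hM hN φ)
    (fun S hS h1 h3 => isCoh_of_shortExact S hS h1 h3)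
    (DerivedCategory.HomologySequence.δ T (i - 1) i (by omega))
    ((DerivedCategory.homologyFunctor _ i).map T.mor₁)
    ((DerivedCategory.homologyFunctor _ i).map T.mor₂)
    (DerivedCategory.HomologySequence.δ T i (i + 1) rfl)
    _ _ _
    (DerivedCategory.HomologySequence.exact₁ T hT (i - 1) i (by omega))
    (DerivedCategory.HomologySequence.exact₂ T hT i)
    (DerivedCategory.HomologySequence.exact₃ T hT i (i + 1) rfl)
    (h3 (i - 1)) (h1 i) (h3 i) (h1 (i + 1))

/-- Rotated variants. -/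
theorem isCohD_obj₃ [IsLocallyNoetherian X] (T : Triangle (DCoh.D X))
    (hT : T ∈ distTriang (DCoh.D X)) (h1 : DCoh.IsCohD T.obj₁) (h2 : DCoh.IsCohD T.obj₂) :
    DCoh.IsCohD T.obj₃ := by
  have hs : DCoh.IsCohD (T.obj₁⟦(1 : ℤ)⟧) := fun i =>
    Groth.Agent.H90.QH.isCoh_of_iso
      (((DerivedCategory.homologyFunctor X.Modules 0).shiftIso 1 i (i + 1) (by omega)).app
        T.obj₁).symm (h1 (i + 1))
  exact isCohD_obj₂ T.rotate (rot_of_distTriang _ hT) h2 hs

end Groth.Agent.H31.CohTri
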