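import Mathlib.Algebra.Homology.HomotopyCategory.Pretriangulated
import Mathlib.Algebra.Homology.HomologicalComplexLimits
import Mathlib.Algebra.Homology.HomologicalComplexAbelian

/-!
# Mapping cones and sequential colimits (helper31 library)

For a sequence `Φ : ℕ ⥤ CochainComplex D ℤ` with compatible maps `φ n : Φ.obj n ⟶ K`, the mapping
cones `mappingCone (φ n)` form a sequence whose colimit is the mapping cone of the induced map
from the colimit of `Φ`.
-/

set_option autoImplicit false
set_option backward.isDefEq.respectTransparency false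

namespace Groth.Agent.H31.ConeColim

open CategoryTheory Limits HomologicalComplex CochainComplex HomComplex

variable {D : Type*} [Category D] [Abelian D]

section

variable {K₁ L₁ K₂ L₂ : CochainComplex D ℤ} (φ₁ : K₁ ⟶ L₁) (φ₂ : K₂ ⟶ L₂)

theorem map_congr {a a' : K₁ ⟶ K₂} {b b' : L₁ ⟶ L₂}
    (ha : a = a') (hb : b = b') (comm : φ₁ ≫ b = a ≫ φ₂) (comm' : φ₁ ≫ b' = a' ≫ φ₂) :
    mappingCone.map φ₁ φ₂ a b comm = mappingCone.map φ₁ φ₂ a' b' comm' := by
  subst ha hb
  rfl

variable (a : K₁ ⟶ K₂) (b : L₁ ⟶ L₂) (comm : φ₁ ≫ b = a ≫ φ₂)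

@[reassoc]
theorem inl_v_map_f (p q : ℤ) (hpq : p + (-1) = q) :
    (mappingCone.inl φ₁).v p q hpq ≫ (mappingCone.map φ₁ φ₂ a b comm).f q =
      a.f p ≫ (mappingCone.inl φ₂).v p q hpq := by
  simp [mappingCone.map]

@[reassoc]
theorem inr_f_map_f (p : ℤ) :
    (mappingCone.inr φ₁).f p ≫ (mappingCone.map φ₁ φ₂ a b comm).f p =
      b.f p ≫ (mappingCone.inr φ₂).f p := by
  simp [mappingCone.map]

end

variable (Φ : ℕ ⥤ CochainComplex D ℤ) {K : CochainComplex D ℤ} (φ : ∀ n, Φ.obj n ⟶ K)
  (hφ : ∀ {n n' : ℕ} (f : n ⟶ n'), Φ.map f ≫ φ n' = φ n)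

/-- The sequence of mapping cones. -/
noncomputable def coneFunctor : ℕ ⥤ CochainComplex D ℤ where
  obj n := mappingCone (φ n)
  map {n n'} f := mappingCone.map (φ n) (φ n') (Φ.map f) (𝟙 K) (by rw [Category.comp_id, hφ])
  map_id n := by
    rw [map_congr _ _ (Φ.map_id n) rfl _ (by rw [Category.comp_id, Category.id_comp])]
    exact mappingCone.map_id _
  map_comp {n n' n''} f g := by
    rw [map_congr _ _ (Φ.map_comp f g) (Category.comp_id (𝟙 K)).symm _
      (by rw [Category.comp_id, Category.comp_id, Category.assoc, hφ, hφ])]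
    exact mappingCone.map_comp (φ n) (φ n') (φ n'') (Φ.map f) (𝟙 K)
      (by rw [Category.comp_id, hφ]) (Φ.map g) (𝟙 K) (by rw [Category.comp_id, hφ])

theorem coneFunctor_map {n n' : ℕ} (f : n ⟶ n') :
    (coneFunctor Φ φ hφ).map f =
      mappingCone.map (φ n) (φ n') (Φ.map f) (𝟙 K) (by rw [Category.comp_id, hφ]) := rfl

variable (s : Cocone Φ) (φ' : s.pt ⟶ K) (hφ' : ∀ n, s.ι.app n ≫ φ' = φ n)

/-- The leg of the cocone of mapping cones. -/
noncomputable def coneLeg (n : ℕ) : mappingCone (φ n) ⟶ mappingCone φ' :=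
  mappingCone.map (φ n) φ' (s.ι.app n) (𝟙 K) (by rw [Category.comp_id, hφ'])

/-- The cocone of mapping cones. -/
noncomputable def coneCocone : Cocone (coneFunctor Φ φ hφ) where
  pt := mappingCone φ'
  ι :=
    { app := fun n => coneLeg Φ φ s φ' hφ' n
      naturality := fun n n' f => by
        dsimp
        rw [Category.comp_id, coneFunctor_map, coneLeg, coneLeg, ← mappingCone.map_comp]
        exact map_congr _ _ (s.w f) (Category.comp_id _) _ _ }

variable [HasColimitsOfShape ℕ D]

include hφ in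
theorem existsUnique_desc (hs : IsColimit s) (i : ℤ) {T : D}
    (τ : ∀ n, (mappingCone (φ n)).X i ⟶ T)
    (hτ : ∀ {n n' : ℕ} (f : n ⟶ n'), ((coneFunctor Φ φ hφ).map f).f i ≫ τ n' = τ n) :
    ∃! m : (mappingCone φ').X i ⟶ T, ∀ n, (coneLeg Φ φ s φ' hφ' n).f i ≫ m = τ n := by
  have hP := isColimitOfPreserves (eval D (ComplexShape.up ℤ) (i + 1)) hs
  let σ : Cocone (Φ ⋙ eval D (ComplexShape.up ℤ) (i + 1)) :=
    { pt := T
      ι :=
        { app := fun n => (mappingCone.inl (φ n)).v (i + 1) i (by omega) ≫ τ n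
          naturality := fun n n' f => by
            dsimp
            rw [Category.comp_id, ← hτ f, coneFunctor_map, inl_v_map_f_assoc]
            rfl } }
  let mP : s.pt.X (i + 1) ⟶ T := hP.desc σ
  have hmP : ∀ n, (s.ι.app n).f (i + 1) ≫ mP =
      (mappingCone.inl (φ n)).v (i + 1) i (by omega) ≫ τ n := fun n => hP.fac σ n
  let mK : K.X i ⟶ T := (mappingCone.inr (φ 0)).f i ≫ τ 0
  have hK : ∀ n, (mappingCone.inr (φ n)).f i ≫ τ n = mK := fun n => by
    dsimp only [mK]
    rw [← hτ (homOfLE (Nat.zero_le n)), coneFunctor_map, inr_f_map_f_assoc]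
    simp
  refine ⟨(mappingCone.fst φ').1.v i (i + 1) rfl ≫ mP +
    (mappingCone.snd φ').v i i (add_zero i) ≫ mK, fun n => ?_, fun m' hm' => ?_⟩
  · apply mappingCone.ext_from (φ n) (i + 1) i rfl
    · rw [coneLeg, inl_v_map_f_assoc, Preadditive.comp_add, Preadditive.comp_add,
        mappingCone.inl_v_fst_v_assoc, mappingCone.inl_v_snd_v_assoc, zero_comp, comp_zero,
        add_zero, hmP]
    · rw [coneLeg, inr_f_map_f_assoc, Preadditive.comp_add, Preadditive.comp_add,
        mappingCone.inr_f_fst_v_assoc, mappingCone.inr_f_snd_v_assoc, zero_comp, comp_zero,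
        zero_add, hK]
      simp
  · apply mappingCone.ext_from φ' (i + 1) i rfl
    · rw [Preadditive.comp_add, mappingCone.inl_v_fst_v_assoc, mappingCone.inl_v_snd_v_assoc,
        zero_comp, add_zero]
      refine hP.hom_ext (fun n => ?_)
      refine Eq.trans ?_ (hmP n).symm
      show (s.ι.app n).f (i + 1) ≫ (mappingCone.inl φ').v (i + 1) i (by omega) ≫ m' = _
      rw [← hm' n, coneLeg, inl_v_map_f_assoc]
    · rw [Preadditive.comp_add, mappingCone.inr_f_fst_v_assoc, mappingCone.inr_f_snd_v_assoc,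
        zero_comp, zero_add]
      have h0 := hm' 0
      have e : (mappingCone.inr (φ 0)).f i ≫ (coneLeg Φ φ s φ' hφ' 0).f i =
          (mappingCone.inr φ').f i := by
        rw [coneLeg, inr_f_map_f]
        simp
      rw [← e, Category.assoc, h0]

/-- The mapping cone of the map from the colimit is the colimit of the mapping cones. -/
noncomputable def isColimitConeCocone (hs : IsColimit s) :
    IsColimit (coneCocone Φ φ hφ s φ' hφ') := by
  refine isColimitOfEval _ _ (fun i => ?_)
  refine IsColimit.ofExistsUnique (fun τ => ?_)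
  exact existsUnique_desc Φ φ hφ s φ' hφ' hs i (fun n => τ.ι.app n) (fun f => τ.w f)

end Groth.Agent.H31.ConeColim
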