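import Mathlib
import Groth.Prelude.Def_PBC
import Groth.Prelude.Def_EtCore
import Groth.Agent.S6642
import Groth.Agent.H24.EtCons.Defs

set_option autoImplicit false
universe u
open CategoryTheory CategoryTheory.Limits AlgebraicGeometry Topology
open Groth.Agent.H24.EtCons

namespace Groth.Agent.H31.EtCons_P1

/-- (P1) -/
theorem adaptedIn_iUnion {X : Scheme.{u}} (F : EtCoh.Ab X) (S : Set X) (n : ℕ) (P : Fin n → Set X)
    (hP : Pairwise (fun k l => Disjoint (P k) (P l))) (h : ∀ k, AdaptedIn F S (P k)) :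
    AdaptedIn F S (⋃ k, P k) := by
  choose m T g himm hcons hdisj hunion hflc using h
  let e : (Σ k : Fin n, Fin (m k)) ≃ Fin (∑ k, m k) := finSigmaFinEquiv
  have hsub : ∀ a : (Σ k : Fin n, Fin (m k)), Set.range (g a.1 a.2) ⊆ P a.1 := fun a => by
    rw [← hunion a.1]
    exact Set.subset_iUnion (fun i => Set.range (g a.1 i)) a.2
  have hd : ∀ a b : (Σ k : Fin n, Fin (m k)), a ≠ b →
      Disjoint (Set.range (g a.1 a.2)) (Set.range (g b.1 b.2)) := by
    rintro ⟨k, i⟩ ⟨k', i'⟩ hab
    by_cases hk : k = k'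
    · subst hk
      have hi : i ≠ i' := fun hi => hab (by rw [hi])
      exact hdisj k hi
    · exact (hP hk).mono (hsub ⟨k, i⟩) (hsub ⟨k', i'⟩)
  refine ⟨∑ k, m k, fun j => T (e.symm j).1 (e.symm j).2, fun j => g (e.symm j).1 (e.symm j).2,
    fun j => himm _ _, fun j => hcons _ _, ?_, ?_, fun j => hflc _ _⟩
  · intro j j' hjj'
    exact hd (e.symm j) (e.symm j') (fun h => hjj' (e.symm.injective h))
  · rw [e.symm.surjective.iUnion_comp (fun a : (Σ k : Fin n, Fin (m k)) => Set.range (g a.1 a.2)),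
      Set.iUnion_sigma]
    exact Set.iUnion_congr hunion

end Groth.Agent.H31.EtCons_P1
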