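import Mathlib
import Groth.Prelude.Def_PBC
import Groth.Prelude.Def_EtCore
import Groth.Agent.S6642
import Groth.Agent.H24.EtCons.Defs

set_option autoImplicit false
universe u
open CategoryTheory CategoryTheory.Limits AlgebraicGeometry Topology
open Groth.Agent.H24.EtCons

namespace Groth.Agent.H31.EtCons_P3

/-- (P3), with the (necessary) extra hypothesis `P ⊆ V`. -/
theorem adaptedIn_of_le' {X : Scheme.{u}} (F : EtCoh.Ab X) (U V : X.Opens) (hVU : V ≤ U)
    (hret : IsRetrocompact ((Subtype.val : ↥(U : Set X) → X) ⁻¹' (V : Set X))) (P : Set X)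
    (hPV : P ⊆ (V : Set X))
    (h : AdaptedIn F (V : Set X) P) : AdaptedIn F (U : Set X) P := by
  obtain ⟨n, T, g, himm, hcons, hdisj, hunion, hflc⟩ := h
  refine ⟨n, T, g, himm, fun i => ?_, hdisj, hunion, hflc⟩
  have hgV : Set.range (g i) ⊆ (V : Set X) := fun x hx =>
    hPV (hunion ▸ Set.mem_iUnion.2 ⟨i, hx⟩)
  -- the inclusion `V → U`
  let ι : ↥(V : Set X) → ↥(U : Set X) := Set.inclusion hVU
  have hrange : Set.range ι = (Subtype.val : ↥(U : Set X) → X) ⁻¹' (V : Set X) := by
    ext ⟨x, hx⟩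
    simp [ι]
  have hι : IsOpenEmbedding ι :=
    ⟨IsEmbedding.inclusion hVU, by
      rw [hrange]
      exact V.2.preimage continuous_subtype_val⟩
  have himg : (Subtype.val : ↥(U : Set X) → X) ⁻¹' Set.range (g i) =
      ι '' ((Subtype.val : ↥(V : Set X) → X) ⁻¹' Set.range (g i)) := by
    ext ⟨x, hx⟩
    constructor
    · intro hxg
      exact ⟨⟨x, hgV hxg⟩, hxg, rfl⟩
    · rintro ⟨⟨y, hy⟩, hyg, hxy⟩
      have : y = x := congrArg Subtype.val hxy
      subst this
      exact hyg
  rw [himg]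
  exact (hcons i).image_of_isOpenEmbedding hι (hrange ▸ hret)

end Groth.Agent.H31.EtCons_P3
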