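import Groth.Agent.H31.ExtZeroPre

/-!
# Projection formula for the explicit extension by zero (presheaf level) (helper31 library)
-/

set_option autoImplicit false
universe u
open CategoryTheory CategoryTheory.Limits MonoidalCategory Opposite TensorProduct

namespace Groth.Agent.H31.ExtZero

open Groth.Agent.H31

variable {C : Type u} [SmallCategory C] {J : GrothendieckTopology C} {O : Sheaf J CommRingCat.{u}}
  {U : C}

attribute [local instance] Classical.propDecidable

theorem unit_app_apply (G : PM (O.over U)) (a : Over U) (x : G.obj (op a)) :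
    (((jPreAdj (O := O) (U := U)).unit.app G).app (op a)).hom x =
      DirectSum.of (fun f' : a.left ⟶ U => cmp G f') a.hom x := by
  rfl

/-- The map `G ⊗ F|_U ⟶ (j_! G ⊗ F)|_U`. -/
noncomputable def projBeta (G : PM (O.over U)) (F : PM O) :
    G ⊗ (res O U).obj F ⟶ (res O U).obj (jObj G ⊗ F) :=
  ((jPreAdj (O := O) (U := U)).unit.app G ▷ (res O U).obj F) ≫ (resTensorIso U (jObj G) F).inv

/-- The projection formula map `j_!(G ⊗ F|_U) ⟶ j_! G ⊗ F`. -/
noncomputable def theta (G : PM (O.over U)) (F : PM O) :
    jObj (G ⊗ (res O U).obj F) ⟶ jObj G ⊗ F :=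
  bwd _ _ (projBeta G F)

/-- The pure tensor `of f x ⊗ y` in `(j_! G ⊗ F)(V)`. -/
noncomputable def tm (G : PM (O.over U)) (F : PM O) {V : C} (f : V ⟶ U)
    (x : G.obj (op (Over.mk f))) (y : ((res O U).obj F).obj (op (Over.mk f))) :
    (jObj G ⊗ F).obj (op V) :=
  (show (jObj G).obj (op V) from DirectSum.of (fun f' : V ⟶ U => cmp G f') f x)
    ⊗ₜ[(R₀ O).obj (op V)] (show F.obj (op V) from y)

theorem projBeta_app_tmul (G : PM (O.over U)) (F : PM O) {V : C} (f : V ⟶ U)
    (x : G.obj (op (Over.mk f))) (y : ((res O U).obj F).obj (op (Over.mk f))) :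
    ((projBeta G F).app (op (Over.mk f))).hom
      (x ⊗ₜ[(R₀ (O.over U)).obj (op (Over.mk f))] y) = tm G F f x y := by
  rfl

theorem theta_app_of_tmul (G : PM (O.over U)) (F : PM O) {V : C} (f : V ⟶ U)
    (x : G.obj (op (Over.mk f))) (y : ((res O U).obj F).obj (op (Over.mk f))) :
    ((theta G F).app (op V)).hom
      (DirectSum.of (fun f' : V ⟶ U => cmp (G ⊗ (res O U).obj F) f') f
        (x ⊗ₜ[(R₀ (O.over U)).obj (op (Over.mk f))] y)) = tm G F f x y :=
  (bwd_app_of _ _ (projBeta G F) V f _).trans (projBeta_app_tmul G F f x y)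

/-- The composite of `theta` with the distributivity isomorphism, as an endomorphism of the
sections of `j_!(G ⊗ F|_U)`. -/
noncomputable def thetaD (G : PM (O.over U)) (F : PM O) (V : C) :
    Sec (G ⊗ (res O U).obj F) V →+ Sec (G ⊗ (res O U).obj F) V :=
  AddMonoidHom.comp
    (show ((jObj G ⊗ F).obj (op V)) →+ Sec (G ⊗ (res O U).obj F) V from
      (TensorProduct.directSumLeft ((R₀ O).obj (op V)) ((R₀ O).obj (op V))
        (fun f : V ⟶ U => cmp G f) (F.obj (op V))).toLinearMap.toAddMonoidHom)
    ((theta G F).app (op V)).hom.toAddMonoidHom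

theorem thetaD_of_tmul (G : PM (O.over U)) (F : PM O) {V : C} (f : V ⟶ U)
    (x : G.obj (op (Over.mk f))) (y : ((res O U).obj F).obj (op (Over.mk f))) :
    thetaD G F V (DirectSum.of (fun f' : V ⟶ U => cmp (G ⊗ (res O U).obj F) f') f
        (x ⊗ₜ[(R₀ (O.over U)).obj (op (Over.mk f))] y)) =
      DirectSum.of (fun f' : V ⟶ U => cmp (G ⊗ (res O U).obj F) f') f
        (x ⊗ₜ[(R₀ (O.over U)).obj (op (Over.mk f))] y) :=
  (congrArg (TensorProduct.directSumLeft ((R₀ O).obj (op V)) ((R₀ O).obj (op V))
      (fun f : V ⟶ U => cmp G f) (F.obj (op V))) (theta_app_of_tmul G F f x y)).trans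
    (TensorProduct.directSumLeft_tmul_lof (R := (R₀ O).obj (op V)) (S := (R₀ O).obj (op V))
      (M₁ := fun f : V ⟶ U => (cmp G f : Type u)) (M₂' := (F.obj (op V) : Type u)) f x y)

theorem thetaD_eq_id (G : PM (O.over U)) (F : PM O) (V : C) :
    thetaD G F V = AddMonoidHom.id _ := by
  refine DirectSum.addHom_ext (fun f t => ?_)
  induction t using TensorProduct.induction_on with
  | zero =>
    exact (congrArg (thetaD G F V)
      (map_zero (DirectSum.of (fun f' : V ⟶ U => cmp (G ⊗ (res O U).obj F) f') f))).trans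
      ((map_zero _).trans
        (map_zero (DirectSum.of (fun f' : V ⟶ U => cmp (G ⊗ (res O U).obj F) f') f)).symm)
  | tmul x y => exact thetaD_of_tmul G F f x y
  | add a b ha hb =>
    exact (congrArg (thetaD G F V)
      (map_add (DirectSum.of (fun f' : V ⟶ U => cmp (G ⊗ (res O U).obj F) f') f) a b)).trans
      ((map_add (thetaD G F V) _ _).trans ((congrArg₂ (· + ·) ha hb).trans
        (map_add (DirectSum.of (fun f' : V ⟶ U => cmp (G ⊗ (res O U).obj F) f') f) a b).symm))

theorem theta_app_injective (G : PM (O.over U)) (F : PM O) (V : C) :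
    Function.Injective ((theta G F).app (op V)).hom := by
  intro m m' h
  have h2 : thetaD G F V m = thetaD G F V m' :=
    congrArg (TensorProduct.directSumLeft ((R₀ O).obj (op V)) ((R₀ O).obj (op V))
      (fun f : V ⟶ U => cmp G f) (F.obj (op V))) h
  rw [thetaD_eq_id] at h2
  exact h2

theorem theta_app_surjective (G : PM (O.over U)) (F : PM O) (V : C) :
    Function.Surjective ((theta G F).app (op V)).hom := by
  intro (z : TensorProduct ((R₀ O).obj (op V)) (Sec G V) (F.obj (op V)))
  induction z using TensorProduct.induction_on with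
  | zero => exact ⟨0, map_zero _⟩
  | tmul m y =>
    induction m using DirectSum.induction_on with
    | zero => exact ⟨0, (map_zero _).trans (TensorProduct.zero_tmul _ _).symm⟩
    | of f x =>
      exact ⟨DirectSum.of (fun f' : V ⟶ U => cmp (G ⊗ (res O U).obj F) f') f
        (x ⊗ₜ[(R₀ (O.over U)).obj (op (Over.mk f))] y), theta_app_of_tmul G F f x y⟩
    | add a b ha hb =>
      obtain ⟨a', ha'⟩ := ha
      obtain ⟨b', hb'⟩ := hb
      exact ⟨a' + b', (map_add _ _ _).trans
        ((congrArg₂ (· + ·) ha' hb').trans (TensorProduct.add_tmul a b y).symm)⟩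
  | add a b ha hb =>
    obtain ⟨a', ha'⟩ := ha
    obtain ⟨b', hb'⟩ := hb
    exact ⟨a' + b', (map_add _ _ _).trans (congrArg₂ (· + ·) ha' hb')⟩

instance theta_isIso (G : PM (O.over U)) (F : PM O) : IsIso (theta G F) := by
  have h1 : Mono (theta G F) :=
    PresheafOfModules.mono_of_injective (fun X => theta_app_injective G F X.unop)
  have h2 : Epi (theta G F) :=
    PresheafOfModules.epi_of_surjective (fun X => theta_app_surjective G F X.unop)
  exact isIso_of_mono_of_epi _

theorem jPre_map_app_of {G G' : PM (O.over U)} (φ : G ⟶ G') {V : C} (f : V ⟶ U)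
    (x : cmp G f) :
    (((jPre (O := O) (U := U)).map φ).app (op V)).hom
        (DirectSum.of (fun f' : V ⟶ U => cmp G f') f x) =
      DirectSum.of (fun f' : V ⟶ U => cmp G' f') f ((φ.app (op (Over.mk f))).hom x) := by
  have h : (jPre (O := O) (U := U)).map φ = bwd _ _ (φ ≫ fwd _ _ (𝟙 (jObj G'))) := rfl
  rw [h]
  exact (bwd_app_of _ _ _ V f x).trans rfl

theorem hom_ext_sec_tmul {G : PM (O.over U)} {F N : PM O}
    {α α' : jObj (G ⊗ (res O U).obj F) ⟶ N}
    (h : ∀ (V : C) (f : V ⟶ U) (x : G.obj (op (Over.mk f)))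
      (y : ((res O U).obj F).obj (op (Over.mk f))),
      (α.app (op V)).hom (DirectSum.of (fun f' : V ⟶ U => cmp (G ⊗ (res O U).obj F) f') f
        (x ⊗ₜ[(R₀ (O.over U)).obj (op (Over.mk f))] y)) =
      (α'.app (op V)).hom (DirectSum.of (fun f' : V ⟶ U => cmp (G ⊗ (res O U).obj F) f') f
        (x ⊗ₜ[(R₀ (O.over U)).obj (op (Over.mk f))] y))) : α = α' := by
  refine hom_ext_sec (fun V f t => ?_)
  induction t using TensorProduct.induction_on with
  | zero =>
    exact (congrArg (α.app (op V)).hom
      (map_zero (DirectSum.of (fun f' : V ⟶ U => cmp (G ⊗ (res O U).obj F) f') f))).trans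
      (((α.app (op V)).hom.map_zero).trans (((α'.app (op V)).hom.map_zero).symm.trans
        (congrArg (α'.app (op V)).hom
          (map_zero (DirectSum.of (fun f' : V ⟶ U => cmp (G ⊗ (res O U).obj F) f') f))).symm))
  | tmul x y => exact h V f x y
  | add a b ha hb =>
    have e := map_add (DirectSum.of (fun f' : V ⟶ U => cmp (G ⊗ (res O U).obj F) f') f) a b
    exact (congrArg (α.app (op V)).hom e).trans
      (((α.app (op V)).hom.map_add _ _).trans ((congrArg₂ (· + ·) ha hb).trans
        (((α'.app (op V)).hom.map_add _ _).symm.trans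
          (congrArg (α'.app (op V)).hom e).symm)))

theorem theta_natural_left {G G' : PM (O.over U)} (φ : G ⟶ G') (F : PM O) :
    (jPre (O := O) (U := U)).map (φ ▷ (res O U).obj F) ≫ theta G' F =
      theta G F ≫ ((jPre (O := O) (U := U)).map φ ▷ F) := by
  refine hom_ext_sec_tmul (fun V f x y => ?_)
  have h1 := theta_app_of_tmul G F f x y
  have h2 : ((theta G' F).app (op V)).hom
      (DirectSum.of (fun f' : V ⟶ U => cmp (G' ⊗ (res O U).obj F) f') f
        (((φ ▷ (res O U).obj F).app (op (Over.mk f))).hom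
          (x ⊗ₜ[(R₀ (O.over U)).obj (op (Over.mk f))] y))) =
      tm G' F f ((φ.app (op (Over.mk f))).hom x) y :=
    theta_app_of_tmul G' F f ((φ.app (op (Over.mk f))).hom x) y
  have h3 := jPre_map_app_of (φ ▷ (res O U).obj F) f
    (x ⊗ₜ[(R₀ (O.over U)).obj (op (Over.mk f))] y)
  have h5 := jPre_map_app_of φ f x
  have h6 : (((jPre (O := O) (U := U)).map φ ▷ F).app (op V)).hom (tm G F f x y) =
      tm G' F f ((φ.app (op (Over.mk f))).hom x) y :=
    congrArg (fun z => z ⊗ₜ[(R₀ O).obj (op V)] (show F.obj (op V) from y)) h5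
  exact ((congrArg ((theta G' F).app (op V)).hom h3).trans h2).trans
    ((congrArg (((jPre (O := O) (U := U)).map φ ▷ F).app (op V)).hom h1).trans h6).symm

theorem theta_natural_right (G : PM (O.over U)) {F F' : PM O} (ψ : F ⟶ F') :
    (jPre (O := O) (U := U)).map (G ◁ (res O U).map ψ) ≫ theta G F' =
      theta G F ≫ (jObj G ◁ ψ) := by
  refine hom_ext_sec_tmul (fun V f x y => ?_)
  have h1 := theta_app_of_tmul G F f x y
  have h2 : ((theta G F').app (op V)).hom
      (DirectSum.of (fun f' : V ⟶ U => cmp (G ⊗ (res O U).obj F') f') f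
        (((G ◁ (res O U).map ψ).app (op (Over.mk f))).hom
          (x ⊗ₜ[(R₀ (O.over U)).obj (op (Over.mk f))] y))) =
      tm G F' f x ((((res O U).map ψ).app (op (Over.mk f))).hom y) :=
    theta_app_of_tmul G F' f x ((((res O U).map ψ).app (op (Over.mk f))).hom y)
  have h3 := jPre_map_app_of (G ◁ (res O U).map ψ) f
    (x ⊗ₜ[(R₀ (O.over U)).obj (op (Over.mk f))] y)
  have h6 : ((jObj G ◁ ψ).app (op V)).hom (tm G F f x y) =
      tm G F' f x ((((res O U).map ψ).app (op (Over.mk f))).hom y) := rfl
  exact ((congrArg ((theta G F').app (op V)).hom h3).trans h2).trans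
    ((congrArg ((jObj G ◁ ψ).app (op V)).hom h1).trans h6).symm

/-! ### Exactness of the explicit extension by zero -/

theorem jPre_map_app_eq_map {G G' : PM (O.over U)} (φ : G ⟶ G') (V : C) :
    (show Sec G V →+ Sec G' V from
      (((jPre (O := O) (U := U)).map φ).app (op V)).hom.toAddMonoidHom) =
      DirectSum.map (fun f : V ⟶ U => (φ.app (op (Over.mk f))).hom.toAddMonoidHom) := by
  refine DirectSum.addHom_ext (fun f x => ?_)
  exact (jPre_map_app_of φ f x).trans
    (DirectSum.map_of (fun f : V ⟶ U => (φ.app (op (Over.mk f))).hom.toAddMonoidHom) f x).symm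

instance jPre_preservesMonomorphisms :
    (jPre (O := O) (U := U)).PreservesMonomorphisms where
  preserves {G G'} φ hφ := by
    refine PresheafOfModules.mono_of_injective (fun X => ?_)
    have h := jPre_map_app_eq_map φ X.unop
    have h2 : Function.Injective
        (DirectSum.map (fun f : X.unop ⟶ U => (φ.app (op (Over.mk f))).hom.toAddMonoidHom)) :=
      (DirectSum.map_injective _).2 (fun f => PresheafOfModules.injective_of_mono φ _)
    intro a b hab
    have hab' : (show Sec G X.unop →+ Sec G' X.unop from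
      (((jPre (O := O) (U := U)).map φ).app (op X.unop)).hom.toAddMonoidHom) a =
      (show Sec G X.unop →+ Sec G' X.unop from
      (((jPre (O := O) (U := U)).map φ).app (op X.unop)).hom.toAddMonoidHom) b := hab
    rw [h] at hab'
    exact h2 hab'

instance jPre_isLeftAdjoint : (jPre (O := O) (U := U)).IsLeftAdjoint :=
  (jPreAdj (O := O) (U := U)).isLeftAdjoint

/-- A left adjoint between abelian categories which preserves monomorphisms is exact. -/
theorem preservesFiniteLimits_of_isLeftAdjoint {A B : Type*} [Category A] [Category B]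
    [Abelian A] [Abelian B] (L : A ⥤ B) [L.IsLeftAdjoint] [L.PreservesMonomorphisms] :
    PreservesFiniteLimits L := by
  have := preservesBinaryBiproducts_of_preservesBinaryCoproducts L
  have : L.Additive := Functor.additive_of_preservesBinaryBiproducts L
  rw [Functor.preservesFiniteLimits_iff_forall_exact_map_and_mono]
  intro S hS
  have := hS.epi_g
  have := hS.mono_f
  exact ⟨hS.exact.map_of_epi_of_preservesCokernel _ inferInstance inferInstance, inferInstance⟩

instance jPre_preservesFiniteLimits : PreservesFiniteLimits (jPre (O := O) (U := U)) :=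
  preservesFiniteLimits_of_isLeftAdjoint _

/-! ### The projection formula as natural isomorphisms -/

/-- Projection formula, natural in the module on `C/U`. -/
noncomputable def thetaIsoLeft (F : PM O) :
    tensorRight ((res O U).obj F) ⋙ jPre (O := O) (U := U) ≅ jPre ⋙ tensorRight F :=
  NatIso.ofComponents (fun G => @asIso _ _ _ _ (theta G F) (theta_isIso G F))
    (fun φ => theta_natural_left φ F)

/-- Projection formula, natural in the module on `C`. -/
noncomputable def thetaIsoRight (G : PM (O.over U)) :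
    res O U ⋙ tensorLeft G ⋙ jPre (O := O) (U := U) ≅ tensorLeft (jObj G) :=
  NatIso.ofComponents (fun F => @asIso _ _ _ _ (theta G F) (theta_isIso G F))
    (fun ψ => theta_natural_right G ψ)

end Groth.Agent.H31.ExtZero
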