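import Groth.Agent.H31.ExtZeroSh
import Groth.Agent.H4.StalkShriek
import Groth.Prelude.Def_ModSite2

/-!
# Stalks of the extension by zero on a ringed site (helper31)

`(j_{U!} G)_p ≅ ∐_{x ∈ p(U)} G_{p/x}` on underlying abelian groups.
-/

set_option backward.isDefEq.respectTransparency false
set_option autoImplicit false
universe u
open CategoryTheory CategoryTheory.Limits Opposite GrothendieckTopology

namespace Groth.Agent.H31.ExtZeroStalk

open Groth.Agent.H31 Groth.Agent.H31.ExtZero Groth.Agent.H4

variable {C : Type u} [SmallCategory C] {J : GrothendieckTopology C} {O : Sheaf J CommRingCat.{u}}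
  {U : C}

attribute [local instance] Classical.propDecidable

section AbAdj

variable (G : PM (O.over U)) (N : Cᵒᵖ ⥤ Ab.{u})

/-- Forward direction: the component at `a : Over U`. -/
noncomputable def fApp (α : jAb G ⟶ N) (a : Over U) : G.obj (op a) →+ N.obj (op a.left) :=
  ((α.app (op a.left)).hom : Sec G a.left →+ N.obj (op a.left)).comp
    (DirectSum.of (fun f' : a.left ⟶ U => cmp G f') a.hom)

theorem fApp_natural (α : jAb G ⟶ N) {a b : Over U} (h : b ⟶ a) (x : G.obj (op a)) :
    fApp G N α b ((G.map h.op).hom x) = (N.map h.left.op).hom (fApp G N α a x) := by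
  have h1 : ∀ z : Sec G a.left, (α.app (op b.left)).hom (secMap G h.left z) =
      (N.map h.left.op).hom ((α.app (op a.left)).hom z) := fun z =>
    ConcreteCategory.congr_hom (α.naturality h.left.op) z
  have h2 : DirectSum.of (fun f' : b.left ⟶ U => cmp G f') b.hom ((G.map h.op).hom x) =
      secMap G h.left (DirectSum.of (fun f' : a.left ⟶ U => cmp G f') a.hom x) :=
    ((of_map_congr G (Over.w h) (Over.homMk h.left rfl : Over.mk (h.left ≫ a.hom) ⟶ a)
      h rfl x).symm).trans (secMap_of G h.left a.hom x).symm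
  exact (congrArg (fun z => (α.app (op b.left)).hom z) h2).trans (h1 _)

/-- Forward direction of the adjunction on presheaves of abelian groups. -/
noncomputable def abFwd (α : jAb G ⟶ N) : G.presheaf ⟶ (Over.forget U).op ⋙ N where
  app X := AddCommGrpCat.ofHom (fApp G N α X.unop)
  naturality X Y h := by
    apply AddCommGrpCat.hom_ext
    apply AddMonoidHom.ext
    intro x
    exact fApp_natural G N α h.unop x

/-- Backward direction, on sections. -/
noncomputable def bApp (β : G.presheaf ⟶ (Over.forget U).op ⋙ N) (V : C) :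
    Sec G V →+ N.obj (op V) :=
  DirectSum.toAddMonoid (fun f : V ⟶ U =>
    ((β.app (op (Over.mk f))).hom : cmp G f →+ N.obj (op V)))

theorem bApp_of (β : G.presheaf ⟶ (Over.forget U).op ⋙ N) (V : C) (f : V ⟶ U) (x : cmp G f) :
    bApp G N β V (DirectSum.of (fun f' : V ⟶ U => cmp G f') f x) =
      (β.app (op (Over.mk f))).hom x :=
  DirectSum.toAddMonoid_of _ _ _

theorem bApp_natural (β : G.presheaf ⟶ (Over.forget U).op ⋙ N) {V W : C} (g : W ⟶ V)
    (m : Sec G V) :
    bApp G N β W (secMap G g m) = (N.map g.op).hom (bApp G N β V m) := by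
  induction m using DirectSum.induction_on with
  | zero => simp
  | of f x =>
    rw [secMap_of, bApp_of, bApp_of]
    exact ConcreteCategory.congr_hom
      (β.naturality (Over.homMk g rfl : Over.mk (g ≫ f) ⟶ Over.mk f).op) x
  | add a b ha hb => rw [map_add, map_add, map_add, map_add, ha, hb]

/-- Backward direction of the adjunction on presheaves of abelian groups. -/
noncomputable def abBwd (β : G.presheaf ⟶ (Over.forget U).op ⋙ N) : jAb G ⟶ N where
  app X := AddCommGrpCat.ofHom (bApp G N β X.unop)
  naturality X Y g := by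
    apply AddCommGrpCat.hom_ext
    apply AddMonoidHom.ext
    intro m
    exact bApp_natural G N β g.unop m

/-- Morphisms out of the presheaf extension by zero. -/
noncomputable def abHomEquiv : (jAb G ⟶ N) ≃ (G.presheaf ⟶ (Over.forget U).op ⋙ N) where
  toFun := abFwd G N
  invFun := abBwd G N
  left_inv α := by
    ext X : 2
    apply AddCommGrpCat.hom_ext
    refine DirectSum.addHom_ext (fun f x => ?_)
    exact bApp_of G N (abFwd G N α) X.unop f x
  right_inv β := by
    ext X : 2
    apply AddCommGrpCat.hom_ext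
    apply AddMonoidHom.ext
    intro x
    exact bApp_of G N β X.unop.left X.unop.hom x

theorem abHomEquiv_naturality {N N' : Cᵒᵖ ⥤ Ab.{u}} (α : jAb G ⟶ N) (γ : N ⟶ N') :
    abHomEquiv G N' (α ≫ γ) = abHomEquiv G N α ≫ Functor.whiskerLeft (Over.forget U).op γ := by
  ext X : 2
  apply AddCommGrpCat.hom_ext
  apply AddMonoidHom.ext
  intro x
  rfl

end AbAdj

section Stalk

variable (p : GrothendieckTopology.Point.{u} J)

/-- The fibre of `p` at the source of `V ⟶ U` is the disjoint union of the fibres of the points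
`p/x`. -/
def eFib (V : Over U) :
    (Σ x : p.fiber.obj U, (p.over x).fiber.obj V) ≃ p.fiber.obj ((Over.forget U).obj V) where
  toFun s := s.2.1
  invFun y := ⟨p.fiber.map V.hom y, ⟨y, rfl⟩⟩
  left_inv := by
    rintro ⟨x, ⟨y, hy⟩⟩
    have hy' : p.fiber.map V.hom y = x := hy
    subst hy'
    rfl
  right_inv y := rfl

theorem he ⦃V' V : Over U⦄ (g : V' ⟶ V) (s : p.fiber.obj U) (x' : (p.over s).fiber.obj V') :
    p.fiber.map ((Over.forget U).map g) (eFib p V' ⟨s, x'⟩) =
      eFib p V ⟨s, (p.over s).fiber.map g x'⟩ := rfl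

variable (G : PM (O.over U))

/-- The natural bijection computing maps out of the stalk of the presheaf extension by zero. -/
noncomputable def homE (M : Ab.{u}) :
    (p.presheafFiber.obj (jAb G) ⟶ M) ≃
      ((∐ fun x : p.fiber.obj U => (p.over x).presheafFiber.obj G.presheaf) ⟶ M) :=
  (p.skyscraperPresheafAdjunction.homEquiv (jAb G) M).trans <|
  (abHomEquiv G (p.skyscraperPresheaf M)).trans <|
  (StalkShriek.famEquiv p (Over.forget U) (fun x => p.over x) (eFib p) (he p) G.presheaf M).trans <|
  StalkShriek.sigmaHomEquiv (fun x : p.fiber.obj U => (p.over x).presheafFiber.obj G.presheaf) M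

theorem homE_nat {M M' : Ab.{u}} (f : p.presheafFiber.obj (jAb G) ⟶ M) (φ : M ⟶ M') :
    homE p G M' (f ≫ φ) = homE p G M f ≫ φ := by
  have h1 : p.skyscraperPresheafAdjunction.homEquiv (jAb G) M' (f ≫ φ) =
      p.skyscraperPresheafAdjunction.homEquiv (jAb G) M f ≫ p.skyscraperPresheafFunctor.map φ :=
    Adjunction.homEquiv_naturality_right _ _ _
  show StalkShriek.sigmaHomEquiv _ M' (StalkShriek.famEquiv p (Over.forget U) (fun x => p.over x)
      (eFib p) (he p) G.presheaf M' (abHomEquiv G (p.skyscraperPresheaf M')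
        (p.skyscraperPresheafAdjunction.homEquiv (jAb G) M' (f ≫ φ)))) =
    StalkShriek.sigmaHomEquiv _ M (StalkShriek.famEquiv p (Over.forget U) (fun x => p.over x)
      (eFib p) (he p) G.presheaf M (abHomEquiv G (p.skyscraperPresheaf M)
        (p.skyscraperPresheafAdjunction.homEquiv (jAb G) M f))) ≫ φ
  rw [h1, abHomEquiv_naturality]
  exact (congrArg (StalkShriek.sigmaHomEquiv _ M')
    (StalkShriek.famEquiv_nat p (Over.forget U) (fun x => p.over x) (eFib p) (he p) G.presheaf _ φ)).trans
    (StalkShriek.sigmaHomEquiv_nat _ _ φ)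

/-- The stalk of the presheaf extension by zero. -/
noncomputable def preIso :
    p.presheafFiber.obj (jAb G) ≅
      ∐ fun x : p.fiber.obj U => (p.over x).presheafFiber.obj G.presheaf :=
  StalkShriek.isoOfHomEquiv (fun M => homE p G M) (fun _ _ f φ => homE_nat p G f φ)

end Stalk

/-- The stalk of `j_{U!} G` at a point `p` is the direct sum of the stalks of `G` at the points of
`C/U` over `p`. -/
theorem main (O : Sheaf J CommRingCat.{u}) (U : C) (G : ModSite.Mod (O.over U))
    (p : GrothendieckTopology.Point.{u} J) :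
    Nonempty (ModSite.stalkAb p ((ModSite.extZero O U).obj G) ≅
      ∐ fun x : p.fiber.obj U => ModSite.stalkAb (p.over x) G) := by
  have e1 : ModSite.stalkAb p ((ModSite.extZero O U).obj G) ≅
      ModSite.stalkAb p ((jSh O U).obj G) :=
    (p.sheafFiber (A := AddCommGrpCat.{u})).mapIso
      ((SheafOfModules.toSheaf _).mapIso ((extZeroIso O U).app G))
  have e2 : ModSite.stalkAb p ((jSh O U).obj G) ≅
      p.presheafFiber.obj (jAb ((toPM (O.over U)).obj G)) :=
    (p.presheafToSheafCompSheafFiberIso AddCommGrpCat.{u}).app (jAb ((toPM (O.over U)).obj G))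
  exact ⟨e1 ≪≫ e2 ≪≫ preIso p ((toPM (O.over U)).obj G)⟩

end Groth.Agent.H31.ExtZeroStalk
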