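import Mathlib
import Groth.Prelude.Def_FEt
import Groth.Prelude.Def_RelSpec

/-!
# The relative spectrum of a locally finite étale quasi-coherent algebra is finite étale
(helper31, piece (QFET) for helper69's S0284)
-/

set_option autoImplicit false
set_option backward.isDefEq.respectTransparency false
set_option linter.style.haveILetI false
universe u
open CategoryTheory CategoryTheory.Limits AlgebraicGeometry TopologicalSpace Opposite

namespace Groth.Agent.H31.FEtColim_QFET

variable {S : Scheme.{u}}

/-- The chart square of `π`. -/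
theorem isPullback_ι_π (E : RelSpec.QCAlg S) (U : S.Opens) (hU : IsAffineOpen U) :
    IsPullback (Spec.map (E.str.app (op U)) ≫ hU.isoSpec.inv) (E.ι U hU) U.ι E.π := by
  refine IsOpenImmersion.isPullback _ _ _ _ ?_ ?_
  · rw [E.ι_π U hU, Category.assoc, hU.isoSpec_inv_ι]
  · rw [Scheme.Opens.opensRange_ι, E.π_preimage U hU]

/-- A property of morphisms, local at the target and invariant under isomorphisms, holds for `π`
as soon as it holds for all the `Spec.map (E.str.app (op U))`, `U` affine open. -/
theorem π_of_forall_affine (P : MorphismProperty Scheme.{u}) [IsZariskiLocalAtTarget P]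
    (E : RelSpec.QCAlg S)
    (h : ∀ (U : S.Opens) (_ : IsAffineOpen U), P (Spec.map (E.str.app (op U)))) : P E.π := by
  apply IsZariskiLocalAtTarget.of_openCover (P := P)
    (S.openCoverOfIsOpenCover (fun U : S.affineOpens => U.1) (iSup_affineOpens_eq_top S))
  intro U
  change P (pullback.snd E.π U.1.ι)
  have hpb := isPullback_ι_π E U.1 U.2
  have h1 : hpb.flip.isoPullback.hom ≫ pullback.snd E.π U.1.ι =
      Spec.map (E.str.app (op U.1)) ≫ U.2.isoSpec.inv := hpb.flip.isoPullback_hom_snd
  have h2 : pullback.snd E.π U.1.ι =
      hpb.flip.isoPullback.inv ≫ Spec.map (E.str.app (op U.1)) ≫ U.2.isoSpec.inv :=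
    (Iso.eq_inv_comp _).mpr h1
  rw [h2, MorphismProperty.cancel_left_of_respectsIso P, MorphismProperty.cancel_right_of_respectsIso P]
  exact h U.1 U.2

theorem isFinite_etale_π {S : Scheme.{u}} (E : RelSpec.QCAlg S)
    (h : ∀ U : S.Opens, IsAffineOpen U →
      (E.str.app (op U)).hom.Finite ∧ (E.str.app (op U)).hom.Etale) :
    IsFinite E.π ∧ Etale E.π := by
  constructor
  · apply π_of_forall_affine @IsFinite E
    intro U hU
    exact (IsFinite.SpecMap_iff _).mpr (h U hU).1
  · apply π_of_forall_affine @Etale E
    intro U hU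
    exact (HasRingHomProperty.Spec_iff (P := @Etale)).mpr (h U hU).2

end Groth.Agent.H31.FEtColim_QFET
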