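import Groth.Agent.H31.ExtZeroFlat

/-!
# Invertible modules on a ringed site (helper31 library)

* `tensorObjAssocIso L N : (L ⊗ N) ⊗ - ≅ N ⊗ (L ⊗ -)`;
* `tensorUnitNatIso : O ⊗ - ≅ 𝟭`;
* `isEquivalence_tensor`, `invertible_dual`.
-/

set_option autoImplicit false
universe u
open CategoryTheory CategoryTheory.Limits MonoidalCategory Opposite

namespace Groth.Agent.H31

variable {C : Type u} [SmallCategory C] {J : GrothendieckTopology C} {O : Sheaf J CommRingCat.{u}}

/-- `(L ⊗ N) ⊗ P ≅ N ⊗ (L ⊗ P)`, naturally in `P`. -/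
noncomputable def tensorObjAssocIso (L N : ModSite.Mod O) :
    (ModSite.tensorBi O).obj (((ModSite.tensorBi O).obj L).obj N) ≅
      (ModSite.tensorBi O).obj L ⋙ (ModSite.tensorBi O).obj N :=
  braidIso _ ≪≫ tensorAssocIso ((toPM O).obj L) ((toPM O).obj N) ≪≫
    (Functor.isoWhiskerRight (braidIso L).symm (T ((toPM O).obj N)) ≪≫
      Functor.isoWhiskerLeft ((ModSite.tensorBi O).obj L) (braidIso N).symm)

variable (O) in
theorem isIso_shfAdj_counit : IsIso (shfAdj O).counit :=
  inferInstanceAs (IsIso (PresheafOfModules.sheafificationAdjunction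
    (𝟙 (ModSite.ringSh O).obj)).counit)

variable (O) in
/-- `O ⊗ P ≅ P`, naturally in `P`. -/
noncomputable def tensorUnitNatIso :
    (ModSite.tensorBi O).obj (ModSite.unit O) ≅ 𝟭 (ModSite.Mod O) :=
  (show (ModSite.tensorBi O).obj (ModSite.unit O) ≅
      toPM O ⋙ tensorLeft (𝟙_ (PM O)) ⋙ shf O from Iso.refl _) ≪≫
    Functor.isoWhiskerLeft (toPM O)
      (Functor.isoWhiskerRight (leftUnitorNatIso (PM O)) (shf O)) ≪≫
    (show toPM O ⋙ 𝟭 (PM O) ⋙ shf O ≅ incl O ⋙ shf O from Iso.refl _) ≪≫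
    @asIso _ _ _ _ (shfAdj O).counit (isIso_shfAdj_counit O)

theorem isEquivalence_tensor (L N : ModSite.Mod O)
    (hL : ((ModSite.tensorBi O).obj L).IsEquivalence)
    (hN : ((ModSite.tensorBi O).obj N).IsEquivalence) :
    ((ModSite.tensorBi O).obj (((ModSite.tensorBi O).obj L).obj N)).IsEquivalence := by
  have : ((ModSite.tensorBi O).obj L ⋙ (ModSite.tensorBi O).obj N).IsEquivalence :=
    inferInstance
  exact Functor.isEquivalence_of_iso (tensorObjAssocIso L N).symm

theorem invertible_dual (L : ModSite.Mod O) (hL : ((ModSite.tensorBi O).obj L).IsEquivalence)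
    [ModSite.HasSheafHom L] :
    ((ModSite.tensorBi O).obj ((ModSite.sheafHom L).obj (ModSite.unit O))).IsEquivalence ∧
      IsIso ((ModSite.sheafHomAdj L).counit.app (ModSite.unit O)) := by
  have hF : ((ModSite.tensorBi O).flip.obj L).IsEquivalence :=
    Functor.isEquivalence_of_iso (braidIso L)
  have hG : (ModSite.sheafHom L).IsEquivalence :=
    (ModSite.sheafHomAdj L).isEquivalence_right_of_isEquivalence_left
  have hc : IsIso (ModSite.sheafHomAdj L).counit := inferInstance
  have hc' : IsIso ((ModSite.sheafHomAdj L).counit.app (ModSite.unit O)) := inferInstance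
  refine ⟨?_, hc'⟩
  let D := (ModSite.sheafHom L).obj (ModSite.unit O)
  let e : ((ModSite.tensorBi O).obj D).obj L ≅ ModSite.unit O :=
    @asIso _ _ _ _ ((ModSite.sheafHomAdj L).counit.app (ModSite.unit O)) hc'
  have i1 : (ModSite.tensorBi O).obj D ⋙ (ModSite.tensorBi O).obj L ≅ 𝟭 _ :=
    (tensorObjAssocIso D L).symm ≪≫ (ModSite.tensorBi O).mapIso e ≪≫ tensorUnitNatIso O
  have h1 : ((ModSite.tensorBi O).obj D ⋙ (ModSite.tensorBi O).obj L).IsEquivalence :=
    Functor.isEquivalence_of_iso i1.symm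
  exact Functor.isEquivalence_of_comp_right _ ((ModSite.tensorBi O).obj L)

end Groth.Agent.H31
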