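import Groth.Agent.H28.PerfLocal
import Groth.Agent.H31.Invertible
import Groth.Agent.H31.LpullTensor

/-!
# Finite free modules: closure under finite-support coproducts and tensor products (helper31)

* `FF M` : `M` is isomorphic to a finite coproduct of copies of the structure sheaf.
* `FF.sigma`, `FF.sigma_of_finite_support`, `FF.tensor`, `FF.isFinLocFree`.
* `isStrictlyPerfect_tensorCx` : the total tensor complex of two bounded complexes of finite free modules
  is strictly perfect.
-/

set_option backward.isDefEq.respectTransparency false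
set_option autoImplicit false
universe u
open CategoryTheory CategoryTheory.Limits AlgebraicGeometry

namespace Groth.Agent.H31.FinFree

open Groth.Agent.H31 Groth.Agent.H31.Stalk

variable {Z : Scheme.{u}}

/-- `M` is finite free. -/
def FF (M : Z.Modules) : Prop :=
  ∃ (ι : Type) (_ : Finite ι), Nonempty (M ≅ ∐ fun _ : ι => Coh.structureModule Z)

theorem FF.of_iso {M N : Z.Modules} (e : M ≅ N) (h : FF M) : FF N := by
  obtain ⟨ι, hι, ⟨i⟩⟩ := h
  exact ⟨ι, hι, ⟨e.symm ≪≫ i⟩⟩

theorem FF.of_freeMod {M : Z.Modules} {n : ℕ} (e : M ≅ FlatMod.freeMod Z n) : FF M :=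
  ⟨Fin n, inferInstance, ⟨e⟩⟩

theorem FF.isFinLocFree {M : Z.Modules} (h : FF M) : FlatMod.IsFinLocFree M := by
  obtain ⟨ι, hι, ⟨i⟩⟩ := h
  obtain ⟨n, ⟨ε⟩⟩ := Finite.exists_equiv_fin ι
  exact Groth.Agent.H28.LpullLoc.isFinLocFree_of_iso_freeMod (n := n)
    (i ≪≫ Sigma.reindex ε (fun _ : Fin n => Coh.structureModule Z))

theorem FF.sigma {J : Type} [Finite J] (M : J → Z.Modules) (h : ∀ j, FF (M j)) : FF (∐ M) := by
  choose ι hι e using h
  haveI := hι
  exact ⟨Σ j, ι j, inferInstance, ⟨Sigma.mapIso (fun j => (e j).some) ≪≫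
    sigmaSigmaIso (fun j => ι j) (fun _ _ => Coh.structureModule Z)⟩⟩

theorem FF.sigma_of_finite_support {J : Type} (M : J → Z.Modules) (s : Set J) (hs : s.Finite)
    (hz : ∀ j, j ∉ s → IsZero (M j)) (h : ∀ j, FF (M j)) : FF (∐ M) := by
  classical
  haveI : Finite s := hs
  refine (FF.sigma (fun j : s => M j.1) (fun j => h j.1)).of_iso ?_
  exact
  { hom := Sigma.desc (fun j => Sigma.ι M j.1)
    inv := Sigma.desc (fun j => if hj : j ∈ s then Sigma.ι (fun j : s => M j.1) ⟨j, hj⟩ else 0)
    hom_inv_id := by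
      apply Sigma.hom_ext
      intro j
      simp [dif_pos j.2]
    inv_hom_id := by
      apply Sigma.hom_ext
      intro j
      by_cases hj : j ∈ s
      · simp [dif_pos hj]
      · exact (hz j hj).eq_of_src _ _ }

theorem isZero_sigma {J : Type} (M : J → Z.Modules) (hz : ∀ j, IsZero (M j)) : IsZero (∐ M) := by
  rw [IsZero.iff_id_eq_zero]
  apply Sigma.hom_ext
  intro j
  exact (hz j).eq_of_src _ _

theorem FF.tensor {M N : Z.Modules} (hM : FF M) (hN : FF N) :
    FF ((DCoh.tensorBi.obj M).obj N) := by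
  obtain ⟨ι, hι, ⟨i⟩⟩ := hM
  haveI := hι
  let G : Z.Modules ⥤ Z.Modules := (DCoh.tensorBi (X := Z)).flip.obj N
  haveI : G.IsLeftAdjoint :=
    inferInstanceAs ((ModSite.tensorBi (shX Z)).flip.obj N).IsLeftAdjoint
  have e1 : G.obj M ≅ G.obj (∐ fun _ : ι => Coh.structureModule Z) := G.mapIso i
  have e2 : G.obj (∐ fun _ : ι => Coh.structureModule Z) ≅
      ∐ fun _ : ι => G.obj (Coh.structureModule Z) := PreservesCoproduct.iso G _
  have e3 : (∐ fun _ : ι => G.obj (Coh.structureModule Z)) ≅ ∐ fun _ : ι => N :=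
    Sigma.mapIso (fun _ => (tensorUnitNatIso (shX Z)).app N)
  exact (FF.sigma (fun _ : ι => N) (fun _ => hN)).of_iso (e1 ≪≫ e2 ≪≫ e3).symm


/-- The terms of the total tensor complex. -/
noncomputable def tensorCxXIso (A B : CochainComplex Z.Modules ℤ) (n : ℤ) :
    ((DCoh.tensorCx.obj A).obj B).X n ≅
      ∐ fun (j : ↥((ComplexShape.π (ComplexShape.up ℤ) (ComplexShape.up ℤ) (ComplexShape.up ℤ)) ⁻¹'
          {n})) => (DCoh.tensorBi.obj (A.X j.1.1)).obj (B.X j.1.2) := Iso.refl _

theorem isStrictlyPerfect_tensorCx (A B : CochainComplex Z.Modules ℤ) (a b c d : ℤ)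
    (hA : DCoh.VanishesOutside A a b) (hB : DCoh.VanishesOutside B c d)
    (hAf : ∀ i, FF (A.X i)) (hBf : ∀ i, FF (B.X i)) :
    DCoh.IsStrictlyPerfect ((DCoh.tensorCx.obj A).obj B) := by
  have hzero : ∀ p q : ℤ, (p < a ∨ b < p) ∨ (q < c ∨ d < q) →
      IsZero ((DCoh.tensorBi.obj (A.X p)).obj (B.X q)) := by
    intro p q h
    rcases h with h | h
    · have : IsZero (DCoh.tensorBi.obj (A.X p)) :=
        Functor.map_isZero (DCoh.tensorBi (X := Z)) (hA p h)
      exact (Functor.isZero_iff _).1 this _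
    · exact Functor.map_isZero ((DCoh.tensorBi (X := Z)).obj (A.X p)) (hB q h)
  refine ⟨⟨a + c, b + d, fun n hn => ?_⟩, fun n => ?_⟩
  · refine IsZero.of_iso (isZero_sigma _ (fun j => ?_)) (tensorCxXIso A B n)
    have hj : j.1.1 + j.1.2 = n := j.2
    apply hzero
    omega
  · refine FF.isFinLocFree (FF.of_iso (tensorCxXIso A B n).symm ?_)
    refine FF.sigma_of_finite_support _ {j | a ≤ j.1.1 ∧ j.1.1 ≤ b} ?_ ?_ ?_
    · refine Set.Finite.of_injOn (f := fun j => j.1.1) (t := Set.Icc a b) ?_ ?_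
        (Set.finite_Icc a b)
      · intro j hj
        exact hj
      · intro j _ j' _ h
        have hj : j.1.1 + j.1.2 = n := j.2
        have hj' : j'.1.1 + j'.1.2 = n := j'.2
        have h' : j.1.1 = j'.1.1 := h
        apply Subtype.ext
        apply Prod.ext
        · exact h'
        · omega
    · intro j hj
      apply hzero
      left
      simp only [Set.mem_setOf_eq, not_and_or, not_le] at hj
      exact hj
    · intro j
      exact FF.tensor (hAf _) (hBf _)

end Groth.Agent.H31.FinFree
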