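import Groth.Agent.H31.FlatGrid
import Mathlib.RingTheory.Flat.Basic
import Mathlib.Algebra.Category.ModuleCat.Presheaf.EpiMono
import Mathlib.Algebra.Category.ModuleCat.Presheaf.Monoidal
import Mathlib.Algebra.Category.ModuleCat.Presheaf.Free
import Mathlib.Algebra.Category.ModuleCat.Presheaf.Abelian
import Mathlib.CategoryTheory.Monoidal.Braided.Basic

/-!
# Flat presheaves of modules (helper31 library)
-/

set_option autoImplicit false
universe u
open CategoryTheory CategoryTheory.Limits MonoidalCategory Opposite

namespace Groth.Agent.H31.Pre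

variable {C : Type u} [SmallCategory C] (R : Cᵒᵖ ⥤ CommRingCat.{u})

/-- Presheaves of modules over a presheaf of commutative rings. -/
abbrev PMod : Type (u + 1) := PresheafOfModules.{u} (R ⋙ forget₂ CommRingCat.{u} RingCat.{u})

variable {R}

/-- A presheaf of modules all of whose modules of sections are flat. -/
def PointwiseFlat (N₀ : PMod R) : Prop := ∀ V : Cᵒᵖ, Module.Flat (R.obj V) (N₀.obj V)

theorem tensorRight_preservesMono_of_pointwiseFlat (N₀ : PMod R) (h : PointwiseFlat N₀) :
    (tensorRight N₀).PreservesMonomorphisms := by
  constructor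
  intro A B f hf
  apply PresheafOfModules.mono_of_injective
  intro V
  have h1 : Function.Injective (f.app V) := PresheafOfModules.injective_of_mono f V
  have := h V
  exact Module.Flat.rTensor_preserves_injective_linearMap (R := R.obj V) (M := N₀.obj V)
    (f.app V).hom h1

/-- The free presheaf of modules on the underlying presheaf of sets of a presheaf of modules. -/
noncomputable def freeOnSelf (G₀ : PMod R) : PMod R :=
  PresheafOfModules.freeObj (R := R ⋙ forget₂ CommRingCat.{u} RingCat.{u})
    (G₀.presheaf ⋙ forget AddCommGrpCat.{u})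

/-- The canonical epimorphism from the free presheaf of modules. -/
noncomputable def freeOnSelfπ (G₀ : PMod R) : freeOnSelf G₀ ⟶ G₀ :=
  PresheafOfModules.freeObjDesc (𝟙 _)

instance (G₀ : PMod R) : Epi (freeOnSelfπ G₀) := by
  apply PresheafOfModules.epi_of_surjective
  intro V m
  exact ⟨ModuleCat.freeMk m, ModuleCat.freeDesc_apply _ _⟩

theorem pointwiseFlat_freeObj (F : Cᵒᵖ ⥤ Type u) :
    PointwiseFlat (R := R)
      (PresheafOfModules.freeObj (R := R ⋙ forget₂ CommRingCat.{u} RingCat.{u}) F) := by
  intro V
  exact inferInstanceAs (Module.Flat (R.obj V) (F.obj V →₀ R.obj V))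

instance (N₀ : PMod R) : (tensorRight N₀).PreservesZeroMorphisms where
  map_zero A B := by
    ext1 V
    exact MonoidalPreadditive.zero_whiskerRight (C := ModuleCat (R.obj V))

instance (N₀ : PMod R) : (tensorLeft N₀).PreservesZeroMorphisms where
  map_zero A B := by
    ext1 V
    exact MonoidalPreadditive.whiskerLeft_zero (C := ModuleCat (R.obj V))

theorem tensorLike : TensorLike (curriedTensor (PMod R)) where
  left_colim M := inferInstanceAs (PreservesFiniteColimits (tensorLeft M))
  right_colim N := inferInstanceAs (PreservesFiniteColimits (tensorRight N))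
  left_zero M := inferInstanceAs (tensorLeft M).PreservesZeroMorphisms
  right_zero N := inferInstanceAs (tensorRight N).PreservesZeroMorphisms
  symm M := ⟨BraidedCategory.tensorLeftIsoTensorRight M⟩
  enough G := ⟨freeOnSelf G, freeOnSelfπ G,
    tensorRight_preservesMono_of_pointwiseFlat _ (pointwiseFlat_freeObj _), inferInstance⟩

theorem shortExact_map_tensorRight (S : ShortComplex (PMod R)) (hS : S.ShortExact)
    (hF : (tensorRight S.X₃).PreservesMonomorphisms) (G : PMod R)
    [(tensorRight G).PreservesZeroMorphisms] :
    (S.map (tensorRight G)).ShortExact :=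
  tensorLike.shortExact_map_of_flat S hS hF G

end Groth.Agent.H31.Pre
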