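import Mathlib
import Groth.Prelude.Def_FlatMod2
import Groth.Agent.H8.FlatBC
import Groth.Agent.H8.FlatAffine
import Groth.Agent.H8.SectionsExact
import Groth.Agent.H8.QCohPush
import Groth.Agent.H39.PullTrack5
import Groth.Agent.H39.ConormalMono
import Groth.Agent.H64.FlatQuot_FR

/-!
# Pull-back of sections of a flat quasi-coherent module to the generic fibre is injective
(helper31, piece (PI) for helper7's S4684)
-/

set_option autoImplicit false
set_option linter.style.haveILetI false
universe u
open CategoryTheory CategoryTheory.Limits AlgebraicGeometry TopologicalSpace Opposite TensorProduct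
open Groth.Agent.H39.PullTrack

namespace Groth.Agent.H31.FlatQuot_PI

/-- Ring level: for a flat module `M` over `A` and an injective algebra map `A → K`, the map
`m ↦ 1 ⊗ m : M → K ⊗[A] M` is injective. -/
theorem one_tmul_injective {A K : Type*} [CommRing A] [CommRing K] [Algebra A K]
    (hinj : Function.Injective (algebraMap A K))
    (M : Type*) [AddCommGroup M] [Module A M] [Module.Flat A M] :
    Function.Injective (fun m : M => (1 : K) ⊗ₜ[A] m) := by
  have h1 : Function.Injective ((Algebra.linearMap A K).rTensor M) :=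
    Module.Flat.rTensor_preserves_injective_linearMap _ hinj
  have h2 : (fun m : M => (1 : K) ⊗ₜ[A] m) =
      ((Algebra.linearMap A K).rTensor M) ∘ (TensorProduct.lid A M).symm := by
    funext m
    simp
  rw [h2]
  exact h1.comp (TensorProduct.lid A M).symm.injective

theorem pullSectLE_injective_of_flat {X Y : Scheme.{u}} [IsIntegral Y] (f : X ⟶ Y)
    (G : X.Modules) [G.IsQuasicoherent] (hfl : FlatMod.IsFlatOver f G)
    {V : Y.Opens} (hV : IsAffineOpen V) (hη : genericPoint Y ∈ V)
    {U : X.Opens} (hU : IsAffineOpen U) (hUV : U ≤ f ⁻¹ᵁ V) :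
    Function.Injective (pullSectLE (f.fiberι (genericPoint Y)) G U
      ((f.fiberι (genericPoint Y)) ⁻¹ᵁ U) le_rfl) := by
  have hpb : IsPullback (f.fiberι (genericPoint Y)) (f.fiberToSpecResidueField (genericPoint Y)) f
      (Y.fromSpecResidueField (genericPoint Y)) :=
    IsPullback.of_hasPullback f (Y.fromSpecResidueField (genericPoint Y))
  have hle : (⊤ : (Spec (Y.residueField (genericPoint Y))).Opens) ≤
      (Y.fromSpecResidueField (genericPoint Y)) ⁻¹ᵁ V := by
    intro z _
    show (Y.fromSpecResidueField (genericPoint Y)) z ∈ V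
    have hz : (Y.fromSpecResidueField (genericPoint Y)) z = genericPoint Y := by
      have := Scheme.range_fromSpecResidueField (X := Y) (genericPoint Y)
      have hmem : (Y.fromSpecResidueField (genericPoint Y)) z ∈
          Set.range (Y.fromSpecResidueField (genericPoint Y)) := ⟨z, rfl⟩
      rw [this] at hmem
      exact hmem
    rw [hz]
    exact hη
  have hV' : IsAffineOpen (⊤ : (Spec (Y.residueField (genericPoint Y))).Opens) :=
    isAffineOpen_top _
  letI algAK : Algebra Γ(Y, V) Γ(Spec (Y.residueField (genericPoint Y)), ⊤) :=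
    ((Y.fromSpecResidueField (genericPoint Y)).appLE V ⊤ hle).hom.toAlgebra
  letI modAM : Module Γ(Y, V) Γ(G, U) := Groth.Agent.H8.FlatBC.modOver G hUV
  haveI hflat : Module.Flat Γ(Y, V) Γ(G, U) :=
    Groth.Agent.H8.flat_sections_of_isFlatOverAt f G hU hV hUV (fun x _ => hfl x)
  haveI hfr : IsFractionRing Γ(Y, V) Γ(Spec (Y.residueField (genericPoint Y)), ⊤) :=
    Groth.Agent.H64.FlatQuot_FR.isFractionRing_appLE hV hle
  obtain ⟨Θ, hΘ⟩ := Groth.Agent.H8.FlatBC.exists_tensorEquiv hpb G hV hV' hle hU hUV
  have hinj := one_tmul_injective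
    (IsFractionRing.injective Γ(Y, V) Γ(Spec (Y.residueField (genericPoint Y)), ⊤)) Γ(G, U)
  intro m₁ m₂ h12
  apply hinj
  apply Θ.injective
  show Θ ((1 : Γ(Spec (Y.residueField (genericPoint Y)), ⊤)) ⊗ₜ m₁) = Θ (1 ⊗ₜ m₂)
  rw [hΘ, hΘ, map_one, one_smul, one_smul,
    ← pullSectLE_res_target (f.fiberι (genericPoint Y)) G U le_rfl inf_le_left m₁,
    ← pullSectLE_res_target (f.fiberι (genericPoint Y)) G U le_rfl inf_le_left m₂, h12]

end Groth.Agent.H31.FlatQuot_PI
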