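import Mathlib
import Groth.Prelude.Def_FlatMod2
import Groth.Agent.H8.FlatBC
import Groth.Agent.H8.FlatAffine
import Groth.Agent.H8.SectionsExact
import Groth.Agent.H8.QCohPush
import Groth.Agent.H8.HomBasis
import Groth.Agent.H39.PullTrack5
import Groth.Agent.H39.ConormalMono
import Groth.Agent.H31.FlatQuot_PI

/-!
# Zero test on the generic fibre for maps into a flat quasi-coherent module
(helper31, piece (ZT) for helper7's S4684)
-/

set_option autoImplicit false
set_option linter.style.haveILetI false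
universe u
open CategoryTheory CategoryTheory.Limits AlgebraicGeometry TopologicalSpace Opposite TensorProduct
open Groth.Agent.H39.PullTrack

namespace Groth.Agent.H31.FlatQuot_ZT

theorem eq_zero_of_pullback_map_eq_zero {X Y : Scheme.{u}} [IsIntegral Y] (f : X ⟶ Y)
    {P G : X.Modules} [G.IsQuasicoherent] (hfl : FlatMod.IsFlatOver f G) (t : P ⟶ G)
    (ht : (Scheme.Modules.pullback (f.fiberι (genericPoint Y))).map t = 0) : t = 0 := by
  let ι := {p : X.Opens × Y.Opens // IsAffineOpen p.1 ∧ IsAffineOpen p.2 ∧ p.1 ≤ f ⁻¹ᵁ p.2}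
  let Bs : ι → X.Opens := fun p => p.1.1
  have hB : Opens.IsBasis (Set.range Bs) := by
    rw [Opens.isBasis_iff_nbhd]
    intro O x hxO
    obtain ⟨_, ⟨V, hV, rfl⟩, hfxV, -⟩ := Y.isBasis_affineOpens.exists_subset_of_mem_open
      (Set.mem_univ (f x)) isOpen_univ
    have hx : x ∈ ((f ⁻¹ᵁ V ⊓ O : X.Opens) : Set X) := ⟨hfxV, hxO⟩
    obtain ⟨_, ⟨U, hU, rfl⟩, hxU, hUle⟩ := X.isBasis_affineOpens.exists_subset_of_mem_open
      hx (f ⁻¹ᵁ V ⊓ O).2
    have hUV : U ≤ f ⁻¹ᵁ V := fun y hy => (hUle hy).1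
    have hUO : U ≤ O := fun y hy => (hUle hy).2
    exact ⟨U, ⟨⟨(U, V), hU, hV, hUV⟩, rfl⟩, hxU, hUO⟩
  refine Groth.Agent.H8.HomBasis.hom_ext_of_basis P G hB t 0 ?_
  rintro ⟨⟨U, V⟩, hU, hV, hUV⟩ m
  show Scheme.Modules.Hom.app t U m = 0
  by_cases hne : (U : Set X).Nonempty
  · obtain ⟨x, hxU⟩ := hne
    have hη : genericPoint Y ∈ V :=
      ((genericPoint_spec Y).mem_open_set_iff V.2).mpr ⟨f x, trivial, hUV hxU⟩
    apply Groth.Agent.H31.FlatQuot_PI.pullSectLE_injective_of_flat f G hfl hV hη hU hUV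
    rw [map_zero, ← map_pullSectLE, ht]
    rfl
  · -- `U` empty: sections over the empty open vanish
    rw [Set.not_nonempty_iff_eq_empty] at hne
    have hbot : U = ⊥ := by
      ext y
      simp [hne]
    subst hbot
    refine TopCat.Presheaf.section_ext ⟨G.presheaf, G.isSheaf⟩ ⊥ _ 0 (fun y hy => ?_)
    exact absurd hy (by simp)

end Groth.Agent.H31.FlatQuot_ZT
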