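import Groth.Agent.H53.FreeOn
import Mathlib.CategoryTheory.Preadditive.Biproducts
import Mathlib.CategoryTheory.Limits.Shapes.Products

/-!
# Coproducts of the modules `j_! O_U` on a ringed site (helper31 library)

`IsFS X`: the `O`-module `X` is isomorphic to a coproduct of modules `freeOn O U`.
`SplitFS f`: the morphism `f : X ⟶ Y` is, up to an isomorphism `Y ≅ F ⊞ X` with `IsFS F`, the
inclusion of the second summand.  Every module is a quotient of an `IsFS` module (`Fc`, `πc`), the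
chosen cover of a zero module being zero.
-/

set_option autoImplicit false
set_option backward.isDefEq.respectTransparency false
universe u
open CategoryTheory CategoryTheory.Limits Opposite ZeroObject

namespace Groth.Agent.H31.FreeSum

open ModSite

variable {C : Type u} [SmallCategory C] {J : GrothendieckTopology C} (O : Sheaf J CommRingCat.{u})

/-- A module isomorphic to a coproduct of modules `freeOn O U`. -/
def IsFS (X : Mod O) : Prop :=
  ∃ (ι : Type u) (U : ι → C), Nonempty (X ≅ ∐ fun j => freeOn O (U j))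

variable {O}

theorem IsFS.of_iso {X Y : Mod O} (e : X ≅ Y) (h : IsFS O X) : IsFS O Y := by
  obtain ⟨ι, U, ⟨a⟩⟩ := h
  exact ⟨ι, U, ⟨e.symm ≪≫ a⟩⟩

theorem IsFS.of_isZero {X : Mod O} (h : IsZero X) : IsFS O X := by
  refine ⟨PEmpty.{u + 1}, PEmpty.elim, ⟨h.iso ?_⟩⟩
  rw [IsZero.iff_id_eq_zero]
  apply Sigma.hom_ext
  intro j
  exact j.elim

theorem IsFS.biprod {X Y : Mod O} (hX : IsFS O X) (hY : IsFS O Y) : IsFS O (X ⊞ Y) := by
  obtain ⟨ι₁, U₁, ⟨a⟩⟩ := hX
  obtain ⟨ι₂, U₂, ⟨b⟩⟩ := hY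
  refine ⟨ι₁ ⊕ ι₂, Sum.elim U₁ U₂, ⟨?_⟩⟩
  let inc : ∀ j : ι₁ ⊕ ι₂, freeOn O (Sum.elim U₁ U₂ j) ⟶ X ⊞ Y := fun j =>
    match j with
    | Sum.inl i => Sigma.ι (fun j => freeOn O (U₁ j)) i ≫ a.inv ≫ biprod.inl
    | Sum.inr i => Sigma.ι (fun j => freeOn O (U₂ j)) i ≫ b.inv ≫ biprod.inr
  have hc : IsColimit (Cofan.mk (X ⊞ Y) inc) := by
    refine Cofan.IsColimit.mk _ (fun s => biprod.desc
      (a.hom ≫ Sigma.desc fun i => s.inj (Sum.inl i))
      (b.hom ≫ Sigma.desc fun i => s.inj (Sum.inr i))) ?_ ?_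
    · intro s j
      cases j with
      | inl i =>
        show (Sigma.ι (fun j => freeOn O (U₁ j)) i ≫ a.inv ≫ biprod.inl) ≫ _ = _
        simp
      | inr i =>
        show (Sigma.ι (fun j => freeOn O (U₂ j)) i ≫ b.inv ≫ biprod.inr) ≫ _ = _
        simp
    · intro s m hm
      apply biprod.hom_ext'
      · rw [biprod.inl_desc, ← cancel_epi a.inv, Iso.inv_hom_id_assoc]
        apply Sigma.hom_ext
        intro i
        rw [Sigma.ι_desc, ← hm (Sum.inl i)]
        show _ = (Sigma.ι (fun j => freeOn O (U₁ j)) i ≫ a.inv ≫ biprod.inl) ≫ m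
        simp
      · rw [biprod.inr_desc, ← cancel_epi b.inv, Iso.inv_hom_id_assoc]
        apply Sigma.hom_ext
        intro i
        rw [Sigma.ι_desc, ← hm (Sum.inr i)]
        show _ = (Sigma.ι (fun j => freeOn O (U₂ j)) i ≫ b.inv ≫ biprod.inr) ≫ m
        simp
  exact hc.coconePointUniqueUpToIso (coproductIsCoproduct _)

theorem IsFS.sigma {ι : Type} (F : ι → Mod O) (h : ∀ i, IsFS O (F i)) : IsFS O (∐ F) := by
  choose κ U e using h
  refine ⟨Σ i, κ i, fun p => U p.1 p.2, ⟨?_⟩⟩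
  exact Sigma.mapIso (fun i => (e i).some) ≪≫
    sigmaSigmaIso κ (fun i j => freeOn O (U i j))

/-! ### Covers -/

/-- The coproduct of all `freeOn O U` mapping to `M`. -/
noncomputable def cov (M : Mod O) : Mod O :=
  ∐ fun p : (Σ U : C, (freeOn O U ⟶ M)) => freeOn O p.1

/-- The canonical map from `cov M`. -/
noncomputable def covπ (M : Mod O) : cov M ⟶ M := Sigma.desc fun p => p.2

instance (M : Mod O) : Epi (covπ M) := by
  constructor
  intro T f g hfg
  have h1 : ∀ (X : C) (m : M.val.obj (op X)), f.val.app (op X) m = g.val.app (op X) m := by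
    intro X m
    have h2 := congrArg (fun x => Sigma.ι (fun p : (Σ U : C, (freeOn O U ⟶ M)) => freeOn O p.1)
      ⟨X, (Groth.Agent.H53.freeOnHomEquiv O X M).symm m⟩ ≫ x) hfg
    simp only [covπ, Sigma.ι_desc_assoc] at h2
    rw [Groth.Agent.H53.freeOnHomEquiv_symm_comp, Groth.Agent.H53.freeOnHomEquiv_symm_comp] at h2
    exact (Groth.Agent.H53.freeOnHomEquiv O X T).symm.injective h2
  apply SheafOfModules.hom_ext
  apply PresheafOfModules.hom_ext
  intro X
  ext m
  exact h1 X.unop m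

theorem isFS_cov (M : Mod O) : IsFS O (cov M) := ⟨_, _, ⟨Iso.refl _⟩⟩

open Classical in
/-- The chosen cover of a module: zero for a zero module, `cov` otherwise. -/
noncomputable def cover (M : Mod O) : Σ F : Mod O, (F ⟶ M) :=
  if IsZero M then ⟨0, 0⟩ else ⟨cov M, covπ M⟩

/-- The chosen cover (object). -/
noncomputable def Fc (M : Mod O) : Mod O := (cover M).1

/-- The chosen cover (map). -/
noncomputable def πc (M : Mod O) : Fc M ⟶ M := (cover M).2

theorem cover_spec (M : Mod O) :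
    IsFS O (cover M).1 ∧ Epi (cover M).2 ∧ (IsZero M → IsZero (cover M).1) := by
  unfold cover
  by_cases h : IsZero M
  · rw [if_pos h]
    exact ⟨IsFS.of_isZero (isZero_zero _), h.epi _, fun _ => isZero_zero _⟩
  · rw [if_neg h]
    exact ⟨isFS_cov M, inferInstanceAs (Epi (covπ M)), fun h' => absurd h' h⟩

theorem isZero_Fc {M : Mod O} (h : IsZero M) : IsZero (Fc M) := (cover_spec M).2.2 h

theorem isFS_Fc (M : Mod O) : IsFS O (Fc M) := (cover_spec M).1

instance epi_πc (M : Mod O) : Epi (πc M) := (cover_spec M).2.1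

/-! ### Split inclusions with free-sum complement -/

variable (O) in
/-- `f` is the inclusion of the second summand of `Y ≅ F ⊞ X` with `F` a coproduct of `freeOn`s. -/
def SplitFS {X Y : Mod O} (f : X ⟶ Y) : Prop :=
  ∃ (F : Mod O) (e : Y ≅ F ⊞ X), IsFS O F ∧ f ≫ e.hom = biprod.inr

theorem SplitFS.mk' {X Y F : Mod O} (f : X ⟶ Y) (e : Y ≅ F ⊞ X) (hF : IsFS O F)
    (h : f ≫ e.hom = biprod.inr) : SplitFS O f := ⟨F, e, hF, h⟩

theorem SplitFS.of_isIso {X Y : Mod O} (f : X ⟶ Y) [IsIso f] : SplitFS O f := by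
  refine ⟨0, ⟨inv f ≫ biprod.inr, biprod.snd ≫ f, ?_, ?_⟩, IsFS.of_isZero (isZero_zero _), ?_⟩
  · simp
  · apply biprod.hom_ext
    · exact (isZero_zero _).eq_of_tgt _ _
    · simp
  · simp

theorem SplitFS.comp {X Y Z : Mod O} {f : X ⟶ Y} {g : Y ⟶ Z} (hf : SplitFS O f)
    (hg : SplitFS O g) : SplitFS O (f ≫ g) := by
  obtain ⟨F, e, hF, he⟩ := hf
  obtain ⟨G, e', hG, he'⟩ := hg
  refine ⟨G ⊞ F, e' ≪≫ biprod.mapIso (Iso.refl G) e ≪≫ (biprod.associator G F X).symm,
    hG.biprod hF, ?_⟩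
  simp only [Iso.trans_hom, Iso.symm_hom, biprod.mapIso_hom, Iso.refl_hom, Category.assoc]
  rw [reassoc_of% he', biprod.inr_map_assoc, reassoc_of% he]
  apply biprod.hom_ext
  · apply biprod.hom_ext <;> simp
  · simp

theorem SplitFS.isFS {X Y : Mod O} {f : X ⟶ Y} (hf : SplitFS O f) (hX : IsFS O X) :
    IsFS O Y := by
  obtain ⟨F, e, hF, -⟩ := hf
  exact (hF.biprod hX).of_iso e.symm

theorem SplitFS.exists_retraction {X Y : Mod O} {f : X ⟶ Y} (hf : SplitFS O f) :
    ∃ r : Y ⟶ X, f ≫ r = 𝟙 X := by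
  obtain ⟨F, e, -, he⟩ := hf
  exact ⟨e.hom ≫ biprod.snd, by rw [reassoc_of% he, biprod.inr_snd]⟩

theorem SplitFS.isFS_cokernel {X Y : Mod O} {f : X ⟶ Y} (hf : SplitFS O f) :
    IsFS O (cokernel f) := by
  obtain ⟨F, e, hF, he⟩ := hf
  refine hF.of_iso ?_
  exact (IsColimit.coconePointUniqueUpToIso (cokernelIsCokernel _)
    (biprod.isCokernelInrCokernelFork F X)).symm ≪≫ cokernelIsoOfEq he.symm ≪≫
    cokernelCompIsIso f e.hom

end Groth.Agent.H31.FreeSum
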