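import Groth.Agent.H31.SuppEquiv
import Groth.Agent.H31.LpullAdj

/-!
# `RΓ_Z` as a coreflection; `Rf_* RΓ_{Z′} ≅ RΓ_Z Rf_*` (helper31)
-/

set_option backward.isDefEq.respectTransparency false
set_option autoImplicit false
universe u
open CategoryTheory CategoryTheory.Limits AlgebraicGeometry TopologicalSpace Opposite Pretriangulated
attribute [local instance] HasDerivedCategory.standard

namespace Groth.Agent.H31.GammaZCore

open Groth.Agent.H5.KInjDer Groth.Agent.H31.Stalk Groth.Agent.H31.RpushRestrict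
  Groth.Agent.H31.LocalD Groth.Agent.H31.RpushSupport Groth.Agent.H31.OpenImmD
  Groth.Agent.H31.GammaZTri Groth.Agent.H31.SuppEquiv Groth.Agent.H31.MV Groth.Agent.H31.MVS

variable {Y : Scheme.{u}} (W : Y.Opens) [CxOX.HasRgammaZ W.ι]

theorem fac_app (K : HomotopyCategory Y.Modules (ComplexShape.up ℤ)) :
    ((CxOX.gammaZKh W.ι).totalRightDerivedUnit DerivedCategory.Qh
      (HomotopyCategory.quasiIso Y.Modules (ComplexShape.up ℤ))).app K ≫
      (CxOX.RgammaZToId W.ι).app (DerivedCategory.Qh.obj K) = (CxOX.gammaZKhι W.ι).app K := by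
  have h := Functor.rightDerived_fac_app (CxOX.RgammaZ W.ι)
    ((CxOX.gammaZKh W.ι).totalRightDerivedUnit DerivedCategory.Qh
      (HomotopyCategory.quasiIso Y.Modules (ComplexShape.up ℤ)))
    (HomotopyCategory.quasiIso Y.Modules (ComplexShape.up ℤ)) (𝟭 (DCoh.D Y))
    (CxOX.gammaZKhι W.ι ≫ (Functor.rightUnitor _).inv) K
  simp [CxOX.RgammaZToId] at h ⊢

theorem uZ_comp_can (I : CochainComplex Y.Modules ℤ) :
    (uZ W).app I ≫ (CxOX.RgammaZToId W.ι).app (DerivedCategory.Q.obj I) =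
      DerivedCategory.Q.map
        ((NatTrans.mapHomologicalComplex (CxOX.gammaZι W.ι) (ComplexShape.up ℤ)).app I ≫
          (Functor.mapHomologicalComplexIdIso Y.Modules (ComplexShape.up ℤ)).hom.app I) := by
  have h1 := fac_app W ((HomotopyCategory.quotient _ _).obj I)
  have h2 := (CxOX.RgammaZToId W.ι).naturality ((DerivedCategory.quotientCompQhIso Y.Modules).hom.app I)
  have h3 : (uZ W).app I = (isoC (DCoh.gammaZ W.ι)).hom.app I ≫
      ((CxOX.gammaZKh W.ι).totalRightDerivedUnit DerivedCategory.Qh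
      (HomotopyCategory.quasiIso Y.Modules (ComplexShape.up ℤ))).app ((HomotopyCategory.quotient _ _).obj I) ≫
      (CxOX.RgammaZ W.ι).map ((DerivedCategory.quotientCompQhIso Y.Modules).hom.app I) := by
    show ((isoC _).hom ≫ toC _ _ _).app I = _
    rw [NatTrans.comp_app, toC_app]
  have h4 : (CxOX.gammaZKhι W.ι).app ((HomotopyCategory.quotient _ _).obj I) =
      DerivedCategory.Qh.map (((DCoh.gammaZ W.ι).mapHomotopyCategoryFactors (ComplexShape.up ℤ)).hom.app I) ≫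
      DerivedCategory.Qh.map ((HomotopyCategory.quotient _ _).map ((NatTrans.mapHomologicalComplex (CxOX.gammaZι W.ι) (ComplexShape.up ℤ)).app I)) ≫
      DerivedCategory.Qh.map ((HomotopyCategory.quotient _ _).map ((Functor.mapHomologicalComplexIdIso Y.Modules (ComplexShape.up ℤ)).hom.app I)) := by
    refine (Quotient.natTransLift_app _ _ _ _ I).trans ?_
    simp
  rw [h3, Category.assoc, Category.assoc, h2]
  dsimp only [Functor.id_map, Functor.comp_obj]
  rw [reassoc_of% h1, h4]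
  have hgen : ∀ {K L : CochainComplex Y.Modules ℤ} (f : K ⟶ L),
      (DerivedCategory.quotientCompQhIso Y.Modules).inv.app K ≫
        DerivedCategory.Qh.map ((HomotopyCategory.quotient _ _).map f) ≫
        (DerivedCategory.quotientCompQhIso Y.Modules).hom.app L = DerivedCategory.Q.map f := by
    intro K L f
    rw [← cancel_epi ((DerivedCategory.quotientCompQhIso Y.Modules).hom.app K),
      Iso.hom_inv_id_app_assoc]
    exact (DerivedCategory.quotientCompQhIso Y.Modules).hom.naturality f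
  have h6 : DerivedCategory.Qh.map
      (((DCoh.gammaZ W.ι).mapHomotopyCategoryFactors (ComplexShape.up ℤ)).inv.app I) ≫
      DerivedCategory.Qh.map
        (((DCoh.gammaZ W.ι).mapHomotopyCategoryFactors (ComplexShape.up ℤ)).hom.app I) = 𝟙 _ := by
    rw [← Functor.map_comp, Iso.inv_hom_id_app]
    exact (DerivedCategory.Qh).map_id _
  simp only [isoC, Iso.trans_hom, NatTrans.comp_app, Functor.isoWhiskerLeft_hom, Functor.whiskerLeft_app,
    Iso.symm_hom, Functor.associator_inv_app, Functor.associator_hom_app, Functor.isoWhiskerRight_hom,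
    Functor.whiskerRight_app, Category.id_comp, Category.assoc, Category.comp_id]
  rw [reassoc_of% h6, ← hgen, Functor.map_comp, Functor.map_comp, Category.assoc]
  rfl

/-- The distinguished triangle `RΓ_Z M ⟶ M ⟶ C ⟶` with `C` in the essential image of `Rj_*`. -/
theorem exists_can_triangle [DCoh.HasRpush W.ι] (M : DCoh.D Y) :
    ∃ (C : DCoh.D Y) (u : M ⟶ C) (δ : C ⟶ ((CxOX.RgammaZ W.ι).obj M)⟦(1 : ℤ)⟧),
      (DCoh.Rpush W.ι).essImage C ∧
      Triangle.mk ((CxOX.RgammaZToId W.ι).app M) u δ ∈ distTriang (DCoh.D Y) := by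
  obtain ⟨I, hK, hinj, ⟨eM⟩⟩ := Groth.Agent.H31.MV.exists_kinj_rep M
  haveI := hK
  let a : ((DCoh.gammaZ W.ι).mapHomologicalComplex (ComplexShape.up ℤ)).obj I ⟶ Idc.obj I :=
    (NatTrans.mapHomologicalComplex (CxOX.gammaZι W.ι) (ComplexShape.up ℤ)).app I
  let b : Idc.obj I ⟶ (Tc W).obj I :=
    (NatTrans.mapHomologicalComplex (MV.η W) (ComplexShape.up ℤ)).app I
  have hab : a ≫ b = 0 := by
    apply HomologicalComplex.hom_ext
    intro n
    exact kernel.condition _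
  have hS : (ShortComplex.mk a b hab).ShortExact := by
    refine HomologicalComplex.shortExact_of_degreewise_shortExact _ (fun n => ?_)
    haveI := hinj n
    exact gammaZ_shortExact W (I.X n)
  have hT := DerivedCategory.triangleOfSES_distinguished hS
  haveI := isIso_uZ_app W I
  let e1 : (CxOX.RgammaZ W.ι).obj M ≅ DerivedCategory.Q.obj
      (((DCoh.gammaZ W.ι).mapHomologicalComplex (ComplexShape.up ℤ)).obj I) :=
    (CxOX.RgammaZ W.ι).mapIso eM ≪≫ (asIso ((uZ W).app I)).symm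
  let e2 : M ≅ DerivedCategory.Q.obj (Idc.obj I) :=
    eM ≪≫ DerivedCategory.Q.mapIso
      ((Functor.mapHomologicalComplexIdIso Y.Modules (ComplexShape.up ℤ)).app I).symm
  refine ⟨DerivedCategory.Q.obj ((Tc W).obj I), e2.hom ≫ DerivedCategory.Q.map b,
    (DerivedCategory.triangleOfSES hS).mor₃ ≫ e1.inv⟦(1 : ℤ)⟧', ?_, ?_⟩
  · haveI := isKInjective_restrict W I
    haveI := isIso_uC_app W.ι (((Scheme.Modules.restrictFunctor W.ι).mapHomologicalComplex
      (ComplexShape.up ℤ)).obj I)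
    exact ⟨DerivedCategory.Q.obj (((Scheme.Modules.restrictFunctor W.ι).mapHomologicalComplex
      (ComplexShape.up ℤ)).obj I), ⟨(asIso ((uC W.ι).app
        (((Scheme.Modules.restrictFunctor W.ι).mapHomologicalComplex
          (ComplexShape.up ℤ)).obj I))).symm⟩⟩
  · refine isomorphic_distinguished _ hT _ (Triangle.isoMk _ _ e1 e2 (Iso.refl _) ?_ ?_ ?_)
    · have h1 := uZ_comp_can W I
      have h2 := (CxOX.RgammaZToId W.ι).naturality eM.hom
      have h3 : (CxOX.RgammaZToId W.ι).app (DerivedCategory.Q.obj I) =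
          inv ((uZ W).app I) ≫ DerivedCategory.Q.map a ≫ DerivedCategory.Q.map
            ((Functor.mapHomologicalComplexIdIso Y.Modules (ComplexShape.up ℤ)).hom.app I) := by
        rw [IsIso.eq_inv_comp, h1, Functor.map_comp]
      dsimp only [Triangle.mk_mor₁, Triangle.mk_obj₁, Triangle.mk_obj₂, Functor.id_map,
        Functor.id_obj] at h2 ⊢
      show (CxOX.RgammaZToId W.ι).app M ≫ eM.hom ≫ DerivedCategory.Q.map
          ((Functor.mapHomologicalComplexIdIso Y.Modules (ComplexShape.up ℤ)).inv.app I) =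
        ((CxOX.RgammaZ W.ι).map eM.hom ≫ inv ((uZ W).app I)) ≫ DerivedCategory.Q.map a
      rw [← reassoc_of% h2, h3]
      simp only [Category.assoc]
      rw [← Functor.map_comp, Iso.hom_inv_id_app]
      erw [(DerivedCategory.Q).map_id, Category.comp_id]
    · simp
    · simp [← Functor.map_comp]

section Coreflection

variable [DCoh.HasRpush W.ι]

omit [CxOX.HasRgammaZ W.ι] in
/-- Any morphism from an object vanishing on `W` to an object in the essential image of `Rj_*`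
vanishes. -/
theorem hom_eq_zero (A C : DCoh.D Y) (hA : IsZero ((DCoh.restrictD W.ι).obj A))
    (hC : (DCoh.Rpush W.ι).essImage C) (g : A ⟶ C) : g = 0 := by
  obtain ⟨adj, -⟩ := exists_restrict_Rpush_adj_gen W.ι
  obtain ⟨P, ⟨e⟩⟩ := hC
  have h1 : g ≫ e.inv = 0 := (adj.homEquiv A P).symm.injective (hA.eq_of_src _ _)
  rw [← cancel_mono e.inv, h1, zero_comp]

omit [CxOX.HasRgammaZ W.ι] [DCoh.HasRpush W.ι] in
theorem isZero_restrictD_shift (A : DCoh.D Y) (hA : IsZero ((DCoh.restrictD W.ι).obj A)) (n : ℤ) :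
    IsZero ((DCoh.restrictD W.ι).obj (A⟦n⟧)) :=
  IsZero.of_iso ((shiftFunctor _ n).map_isZero hA) (((DCoh.restrictD W.ι).commShiftIso n).app A)

/-- `RΓ_Z M ⟶ M` is the coreflection of `M` into the objects vanishing on `W`: existence. -/
theorem exists_lift (A M : DCoh.D Y) (hA : IsZero ((DCoh.restrictD W.ι).obj A)) (g : A ⟶ M) :
    ∃ g' : A ⟶ (CxOX.RgammaZ W.ι).obj M, g' ≫ (CxOX.RgammaZToId W.ι).app M = g := by
  obtain ⟨C, u, δ, hC, hT⟩ := exists_can_triangle W M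
  obtain ⟨g', hg'⟩ := Triangle.coyoneda_exact₂ _ hT g (hom_eq_zero W A C hA hC _)
  exact ⟨g', hg'.symm⟩

/-- `RΓ_Z M ⟶ M` is the coreflection of `M` into the objects vanishing on `W`: uniqueness. -/
theorem lift_unique (A M : DCoh.D Y) (hA : IsZero ((DCoh.restrictD W.ι).obj A))
    (g₁ g₂ : A ⟶ (CxOX.RgammaZ W.ι).obj M)
    (h : g₁ ≫ (CxOX.RgammaZToId W.ι).app M = g₂ ≫ (CxOX.RgammaZToId W.ι).app M) : g₁ = g₂ := by
  obtain ⟨C, u, δ, hC, hT⟩ := exists_can_triangle W M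
  have hd : (g₁ - g₂) ≫ (CxOX.RgammaZToId W.ι).app M = 0 := by
    rw [Preadditive.sub_comp, h, sub_self]
  have hd' : (g₁ - g₂)⟦(1 : ℤ)⟧' ≫ ((CxOX.RgammaZToId W.ι).app M)⟦(1 : ℤ)⟧' = 0 := by
    rw [← Functor.map_comp, hd, Functor.map_zero]
  obtain ⟨k, hk⟩ := Triangle.coyoneda_exact₁ _ hT ((g₁ - g₂)⟦(1 : ℤ)⟧') hd'
  have hk0 : k = 0 := hom_eq_zero W _ C (isZero_restrictD_shift W A hA 1) hC k
  have h0 : (g₁ - g₂)⟦(1 : ℤ)⟧' = 0 := by rw [hk, hk0, zero_comp]
  have h1 : g₁ - g₂ = 0 := (shiftFunctor (DCoh.D Y) (1 : ℤ)).map_injective (by rw [h0, Functor.map_zero])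
  exact sub_eq_zero.1 h1

end Coreflection

section Push

variable {X : Scheme.{u}} (f : X ⟶ Y) [DCoh.HasRpush f]

omit [CxOX.HasRgammaZ W.ι] in
/-- `Lf^*` preserves vanishing on an open (and its preimage). -/
theorem isZero_restrictD_Lpull [DCoh.HasLpull f] (B : DCoh.D Y)
    (hB : IsZero ((DCoh.restrictD W.ι).obj B)) :
    IsZero ((DCoh.restrictD (f ⁻¹ᵁ W).ι).obj ((DCoh.Lpull f).obj B)) := by
  haveI : DCoh.HasRpush (f ⁻¹ᵁ W).ι := hasRpush _
  haveI : DCoh.HasRpush W.ι := hasRpush _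
  haveI : DCoh.HasRpush (f ∣_ W) := hasRpush _
  haveI : DCoh.HasRpush ((f ⁻¹ᵁ W).ι ≫ f) := hasRpush _
  haveI : DCoh.HasRpush ((f ∣_ W) ≫ W.ι) := hasRpush _
  obtain ⟨adj', -⟩ := exists_restrict_Rpush_adj_gen (f ⁻¹ᵁ W).ι
  let adj := LpullRpushAdj f
  have hess : ∀ P : DCoh.D ((f ⁻¹ᵁ W : X.Opens) : Scheme.{u}),
      (DCoh.Rpush W.ι).essImage ((DCoh.Rpush f).obj ((DCoh.Rpush (f ⁻¹ᵁ W).ι).obj P)) := fun P =>
    ⟨(DCoh.Rpush (f ∣_ W)).obj P, ⟨((RpushCompIso (f ∣_ W) W.ι).app P) ≪≫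
      (RpushCongr (morphismRestrict_ι f W)).app P ≪≫
      ((RpushCompIso (f ⁻¹ᵁ W).ι f).app P).symm⟩⟩
  rw [IsZero.iff_id_eq_zero]
  apply (adj'.homEquiv _ _).injective
  apply (adj.homEquiv _ _).injective
  rw [hom_eq_zero W B _ hB (hess _) (adj.homEquiv _ _ (adj'.homEquiv _ _ (𝟙 _)))]
  exact (hom_eq_zero W B _ hB (hess _) _).symm

variable [CxOX.HasRgammaZ (f ⁻¹ᵁ W).ι]

omit [CxOX.HasRgammaZ W.ι] in
theorem isZero_restrictD_Rpush_RgammaZ (K : DCoh.D X) :
    IsZero ((DCoh.restrictD W.ι).obj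
      ((DCoh.Rpush f).obj ((CxOX.RgammaZ (f ⁻¹ᵁ W).ι).obj K))) := by
  haveI : DCoh.HasRpush (f ∣_ W) := hasRpush _
  exact IsZero.of_iso (isZero_Rpush_obj (f ∣_ W) _ (isZero_restrictD_RgammaZ (f ⁻¹ᵁ W) K))
    ((restrictRpushIso f W).app _)

omit [CxOX.HasRgammaZ W.ι] in
/-- `Rf_*(RΓ_{Z'} K ⟶ K)` is a coreflection of `Rf_* K`: existence. -/
theorem exists_lift_push (B : DCoh.D Y) (hB : IsZero ((DCoh.restrictD W.ι).obj B))
    (K : DCoh.D X) (h : B ⟶ (DCoh.Rpush f).obj K) :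
    ∃ h' : B ⟶ (DCoh.Rpush f).obj ((CxOX.RgammaZ (f ⁻¹ᵁ W).ι).obj K),
      h' ≫ (DCoh.Rpush f).map ((CxOX.RgammaZToId (f ⁻¹ᵁ W).ι).app K) = h := by
  haveI := hasLpull f
  haveI : DCoh.HasRpush (f ⁻¹ᵁ W).ι := hasRpush _
  let adj := LpullRpushAdj f
  obtain ⟨φ', hφ'⟩ := exists_lift (f ⁻¹ᵁ W) _ K (isZero_restrictD_Lpull W f B hB)
    ((adj.homEquiv B K).symm h)
  refine ⟨adj.homEquiv B _ φ', ?_⟩
  rw [← Adjunction.homEquiv_naturality_right, hφ']
  exact (adj.homEquiv B K).apply_symm_apply h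

omit [CxOX.HasRgammaZ W.ι] in
/-- `Rf_*(RΓ_{Z'} K ⟶ K)` is a coreflection of `Rf_* K`: uniqueness. -/
theorem lift_push_unique (B : DCoh.D Y) (hB : IsZero ((DCoh.restrictD W.ι).obj B))
    (K : DCoh.D X) (h₁ h₂ : B ⟶ (DCoh.Rpush f).obj ((CxOX.RgammaZ (f ⁻¹ᵁ W).ι).obj K))
    (h : h₁ ≫ (DCoh.Rpush f).map ((CxOX.RgammaZToId (f ⁻¹ᵁ W).ι).app K) =
      h₂ ≫ (DCoh.Rpush f).map ((CxOX.RgammaZToId (f ⁻¹ᵁ W).ι).app K)) : h₁ = h₂ := by
  haveI := hasLpull f
  haveI : DCoh.HasRpush (f ⁻¹ᵁ W).ι := hasRpush _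
  let adj := LpullRpushAdj f
  apply (adj.homEquiv B _).symm.injective
  apply lift_unique (f ⁻¹ᵁ W) _ K (isZero_restrictD_Lpull W f B hB)
  rw [← Adjunction.homEquiv_naturality_right_symm, ← Adjunction.homEquiv_naturality_right_symm, h]

/-- The factorisation `Rf_* RΓ_{Z'} K ⟶ RΓ_Z Rf_* K` exists and is an isomorphism. -/
theorem Rpush_RgammaZ_factors_isIso (K : DCoh.D X) :
    (∃ α : (DCoh.Rpush f).obj ((CxOX.RgammaZ (f ⁻¹ᵁ W).ι).obj K) ⟶
        (CxOX.RgammaZ W.ι).obj ((DCoh.Rpush f).obj K),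
        α ≫ (CxOX.RgammaZToId W.ι).app ((DCoh.Rpush f).obj K) =
          (DCoh.Rpush f).map ((CxOX.RgammaZToId (f ⁻¹ᵁ W).ι).app K)) ∧
    ∀ α : (DCoh.Rpush f).obj ((CxOX.RgammaZ (f ⁻¹ᵁ W).ι).obj K) ⟶
        (CxOX.RgammaZ W.ι).obj ((DCoh.Rpush f).obj K),
        α ≫ (CxOX.RgammaZToId W.ι).app ((DCoh.Rpush f).obj K) =
          (DCoh.Rpush f).map ((CxOX.RgammaZToId (f ⁻¹ᵁ W).ι).app K) → IsIso α := by
  haveI : DCoh.HasRpush W.ι := hasRpush _
  have hA := isZero_restrictD_Rpush_RgammaZ W f K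
  have hB := isZero_restrictD_RgammaZ W ((DCoh.Rpush f).obj K)
  refine ⟨exists_lift W _ _ hA _, fun α hα => ?_⟩
  obtain ⟨β, hβ⟩ := exists_lift_push W f _ hB K ((CxOX.RgammaZToId W.ι).app ((DCoh.Rpush f).obj K))
  refine ⟨β, ?_, ?_⟩
  · apply lift_push_unique W f _ hA K
    rw [Category.assoc, hβ, hα, Category.id_comp]
  · apply lift_unique W _ _ hB
    rw [Category.assoc, hα, hβ, Category.id_comp]

end Push

end Groth.Agent.H31.GammaZCore
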