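import Groth.Agent.H31.OpenImmD
import Groth.Agent.H31.MVShriek

/-!
# The sequence `0 → Γ_Z I → I → j_* j^* I → 0` for injective `I` (helper31)
-/

set_option backward.isDefEq.respectTransparency false
set_option autoImplicit false
universe u
open CategoryTheory CategoryTheory.Limits AlgebraicGeometry TopologicalSpace Opposite
attribute [local instance] HasDerivedCategory.standard

namespace Groth.Agent.H31.GammaZTri

open Groth.Agent.H5.KInjDer Groth.Agent.H31.Stalk Groth.Agent.H31.RpushRestrict
  Groth.Agent.H31.LocalD Groth.Agent.H31.RpushSupport Groth.Agent.H31.OpenImmD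
  Groth.Agent.H31.MV Groth.Agent.H31.MVS

variable {Y : Scheme.{u}} (W : Y.Opens)

/-- The counit `j_! j^* F ⟶ F` is a monomorphism. -/
theorem mono_ε (F : Y.Modules) : Mono ((ε W).app F) := by
  have hz : IsZero (kernel ((ε W).app F)) := by
    refine isZero_of_subsingleton_stalks _ (fun x => ?_)
    by_cases hx : x ∈ W
    · haveI := isIso_restrict_ε W F
      have h1 : IsZero ((kernel ((ε W).app F)).restrict W.ι) :=
        IsZero.of_iso (isZero_kernel_of_mono ((Scheme.Modules.restrictFunctor W.ι).map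
          ((ε W).app F)))
          (PreservesKernel.iso (Scheme.Modules.restrictFunctor W.ι) ((ε W).app F))
      exact (subsingleton_stalk_restrict_iff W _ ⟨x, hx⟩).1 (subsingleton_stalk_of_isZero _ h1 _)
    · haveI := stk_map_mono (shX Y) x (kernel.ι ((ε W).app F))
      have hinj : Function.Injective ((stk (shX Y) x).map (kernel.ι ((ε W).app F))).hom :=
        (ModuleCat.mono_iff_injective _).1 inferInstance
      haveI : Subsingleton ↑((stk (shX Y) x).obj ((S W).obj F)) :=
        subsingleton_stalk_extZero W _ x hx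
      exact hinj.subsingleton
  exact Preadditive.mono_of_kernel_zero (hz.eq_of_src _ _)

/-- For an injective module `I`, the unit `I ⟶ j_* j^* I` has a section. -/
theorem exists_section_η (I : Y.Modules) [Injective I] :
    ∃ φ : (MV.T W).obj I ⟶ I, φ ≫ (MV.η W).app I = 𝟙 _ := by
  let adj₁ := Scheme.Modules.restrictAdjunction W.ι
  let adj₂ := CxOX.extZeroAdj W.ι
  let F := (MV.T W).obj I
  let χs : (Scheme.Modules.restrictFunctor W.ι).obj F ⟶ (Scheme.Modules.restrictFunctor W.ι).obj I :=
    (adj₁.homEquiv F ((Scheme.Modules.restrictFunctor W.ι).obj I)).symm (𝟙 F)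
  let ψ : (S W).obj F ⟶ I := (adj₂.homEquiv _ I).symm χs
  haveI := mono_ε W F
  let φ : F ⟶ I := Injective.factorThru ψ ((ε W).app F)
  have hφ : (ε W).app F ≫ φ = ψ := Injective.comp_factorThru ψ ((ε W).app F)
  refine ⟨φ, ?_⟩
  have h1 : (Scheme.Modules.restrictFunctor W.ι).map φ = χs := by
    have h2 : χs = adj₂.homEquiv _ I ψ := ((adj₂.homEquiv _ I).apply_symm_apply χs).symm
    rw [h2, Adjunction.homEquiv_unit, ← hφ, Functor.map_comp, ← Category.assoc]
    have h3 := adj₂.right_triangle_components F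
    erw [h3]
    rw [Category.id_comp]
  have h4 : (𝟙 F : F ⟶ F) = adj₁.homEquiv F _ χs :=
    ((adj₁.homEquiv F _).apply_symm_apply (𝟙 F)).symm
  have h5 : φ ≫ (MV.η W).app I = (MV.η W).app F ≫ (MV.T W).map φ := (MV.η W).naturality φ
  rw [h5, h4, Adjunction.homEquiv_unit, ← h1]
  rfl

theorem epi_η (I : Y.Modules) [Injective I] : Epi ((MV.η W).app I) := by
  obtain ⟨φ, hφ⟩ := exists_section_η W I
  exact (SplitEpi.mk φ hφ).epi

/-- The short exact sequence `0 → Γ_Z I → I → j_* j^* I → 0` for an injective module `I`. -/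
theorem gammaZ_shortExact (I : Y.Modules) [Injective I] :
    (ShortComplex.mk ((CxOX.gammaZι W.ι).app I) ((MV.η W).app I)
      (kernel.condition _)).ShortExact := by
  haveI := epi_η W I
  haveI : Mono ((CxOX.gammaZι W.ι).app I) :=
    inferInstanceAs (Mono (kernel.ι ((Scheme.Modules.restrictAdjunction W.ι).unit.app I)))
  exact ShortComplex.ShortExact.mk' (ShortComplex.exact_of_f_is_kernel _ (kernelIsKernel _))
    inferInstance inferInstance

/-- If `RΓ_Z(G) = 0` then `G` is in the essential image of `Rj_*`, for `j` the inclusion of the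
open complement of `Z`. -/
theorem mem_essImage_Rpush_of_isZero_RgammaZ [CxOX.HasRgammaZ W.ι] [DCoh.HasRpush W.ι]
    (G : DCoh.D Y) (hz : IsZero ((CxOX.RgammaZ W.ι).obj G)) : (DCoh.Rpush W.ι).essImage G := by
  obtain ⟨I, hK, hinj, ⟨eG⟩⟩ := Groth.Agent.H31.MV.exists_kinj_rep G
  haveI := hK
  let a : ((DCoh.gammaZ W.ι).mapHomologicalComplex (ComplexShape.up ℤ)).obj I ⟶ Idc.obj I :=
    (NatTrans.mapHomologicalComplex (CxOX.gammaZι W.ι) (ComplexShape.up ℤ)).app I
  let b : Idc.obj I ⟶ (Tc W).obj I :=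
    (NatTrans.mapHomologicalComplex (MV.η W) (ComplexShape.up ℤ)).app I
  have hab : a ≫ b = 0 := by
    apply HomologicalComplex.hom_ext
    intro n
    exact kernel.condition _
  have hS : (ShortComplex.mk a b hab).ShortExact := by
    refine HomologicalComplex.shortExact_of_degreewise_shortExact _ (fun n => ?_)
    haveI := hinj n
    exact gammaZ_shortExact W (I.X n)
  have hT := DerivedCategory.triangleOfSES_distinguished hS
  haveI := isIso_uZ_app W I
  have h1 : IsZero (DerivedCategory.Q.obj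
      (((DCoh.gammaZ W.ι).mapHomologicalComplex (ComplexShape.up ℤ)).obj I)) :=
    IsZero.of_iso hz (asIso ((uZ W).app I) ≪≫ (CxOX.RgammaZ W.ι).mapIso eG.symm)
  haveI : IsIso (DerivedCategory.Q.map b) :=
    (Pretriangulated.Triangle.isZero₁_iff_isIso₂ _ hT).1 h1
  haveI := isKInjective_restrict W I
  haveI := isIso_uC_app W.ι (((Scheme.Modules.restrictFunctor W.ι).mapHomologicalComplex
    (ComplexShape.up ℤ)).obj I)
  refine ⟨DerivedCategory.Q.obj (((Scheme.Modules.restrictFunctor W.ι).mapHomologicalComplex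
    (ComplexShape.up ℤ)).obj I), ⟨Iso.symm ?_⟩⟩
  exact eG ≪≫ DerivedCategory.Q.mapIso
      ((Functor.mapHomologicalComplexIdIso Y.Modules (ComplexShape.up ℤ)).app I).symm ≪≫
    asIso (DerivedCategory.Q.map b) ≪≫
    asIso ((uC W.ι).app (((Scheme.Modules.restrictFunctor W.ι).mapHomologicalComplex
      (ComplexShape.up ℤ)).obj I))

section PushGamma

variable {X : Scheme.{u}} (j : X ⟶ Y) (T : Y.Opens) (hT : Set.range j ⊆ (T : Set Y))

include hT in
theorem isIso_unit_app_pushforward (M : X.Modules) :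
    IsIso ((Scheme.Modules.restrictAdjunction T.ι).unit.app
      ((Scheme.Modules.pushforward j).obj M)) := by
  rw [Scheme.Modules.Hom.isIso_iff_isIso_app]
  intro Ω
  have h : j ⁻¹ᵁ (T.ι ''ᵁ T.ι ⁻¹ᵁ Ω) = j ⁻¹ᵁ Ω := by
    rw [Scheme.Hom.image_preimage_eq_opensRange_inf, Scheme.Opens.opensRange_ι]
    ext x
    constructor
    · rintro ⟨-, h2⟩
      exact h2
    · intro h2
      exact ⟨hT ⟨x, rfl⟩, h2⟩
  rw [Scheme.Modules.restrictAdjunction_unit_app_app]
  show IsIso (M.presheaf.map ((Opens.map j.base).map (homOfLE (T.ι.image_preimage_le Ω))).op)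
  have h2 : (Opens.map j.base).map (homOfLE (T.ι.image_preimage_le Ω)) = eqToHom h :=
    Subsingleton.elim _ _
  rw [h2]
  exact (M.presheaf.mapIso (eqToIso h).op).isIso_hom

include hT in
theorem isZero_gammaZ_pushforward (M : X.Modules) :
    IsZero ((DCoh.gammaZ T.ι).obj ((Scheme.Modules.pushforward j).obj M)) := by
  haveI := isIso_unit_app_pushforward j T hT M
  exact isZero_kernel_of_mono _

include hT in
/-- `RΓ_Z (Rj_* F) = 0` if `Z` does not meet the image of `j`. -/
theorem isZero_RgammaZ_Rpush [IsOpenImmersion j] [DCoh.HasRpush j] [CxOX.HasRgammaZ T.ι]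
    (F : DCoh.D X) : IsZero ((CxOX.RgammaZ T.ι).obj ((DCoh.Rpush j).obj F)) := by
  obtain ⟨I, hK, -, ⟨eF⟩⟩ := Groth.Agent.H31.MV.exists_kinj_rep F
  haveI := hK
  haveI : CochainComplex.IsKInjective (((Scheme.Modules.pushforward j).mapHomologicalComplex
      (ComplexShape.up ℤ)).obj I) :=
    Groth.Agent.H45.isKInjective_map_of_adj (Scheme.Modules.restrictAdjunction j) I
  haveI := isIso_uC_app j I
  haveI := isIso_uZ_app T (((Scheme.Modules.pushforward j).mapHomologicalComplex
      (ComplexShape.up ℤ)).obj I)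
  have hz : IsZero (((DCoh.gammaZ T.ι).mapHomologicalComplex (ComplexShape.up ℤ)).obj
      (((Scheme.Modules.pushforward j).mapHomologicalComplex (ComplexShape.up ℤ)).obj I)) := by
    rw [IsZero.iff_id_eq_zero]
    apply HomologicalComplex.hom_ext
    intro n
    exact (isZero_gammaZ_pushforward j T hT (I.X n)).eq_of_src _ _
  exact IsZero.of_iso (DerivedCategory.Q.map_isZero hz)
    ((CxOX.RgammaZ T.ι).mapIso ((DCoh.Rpush j).mapIso eF ≪≫ (asIso ((uC j).app I)).symm) ≪≫
      (asIso ((uZ T).app _)).symm)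

end PushGamma

end Groth.Agent.H31.GammaZTri
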