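import Groth.Agent.H31.MVShriek
import Groth.Agent.H30.ExtZeroSch

/-!
# Gluing objects of `D(O_U)` and `D(O_V)` along `U ∩ V` (helper31)
-/

set_option backward.isDefEq.respectTransparency false
set_option autoImplicit false
universe u
open CategoryTheory CategoryTheory.Limits AlgebraicGeometry TopologicalSpace Pretriangulated
attribute [local instance] HasDerivedCategory.standard

namespace Groth.Agent.H31.Glue

open Groth.Agent.H31.MV Groth.Agent.H31.MVS Groth.Agent.H31.LocalD Groth.Agent.H31.RpushSupport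

section Tri

variable {𝒯 : Type*} [Category 𝒯] [HasZeroObject 𝒯] [HasShift 𝒯 ℤ] [Preadditive 𝒯]
  [∀ n : ℤ, (shiftFunctor 𝒯 n).Additive] [Pretriangulated 𝒯]

/-- In a distinguished triangle `X₀ ⟶ Y ⟶ Z ⟶ X₀[1]` with `Y = A₁ ⊕ B₁` such that the component
`X₀ ⟶ B₁` is invertible, the composite `A₁ ⟶ Y ⟶ Z` is invertible. -/
theorem isIso_inl_comp_of_isIso_comp_snd {X₀ Y Z A₁ B₁ : 𝒯} (f : X₀ ⟶ Y) (g : Y ⟶ Z)
    (h : Z ⟶ X₀⟦(1 : ℤ)⟧) (hT : Triangle.mk f g h ∈ distTriang 𝒯)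
    (i₁ : A₁ ⟶ Y) (i₂ : B₁ ⟶ Y) (p₁ : Y ⟶ A₁) (p₂ : Y ⟶ B₁)
    (h11 : i₁ ≫ p₁ = 𝟙 _) (h12 : i₁ ≫ p₂ = 0) (htot : p₁ ≫ i₁ + p₂ ≫ i₂ = 𝟙 Y)
    (hiso : IsIso (f ≫ p₂)) : IsIso (i₁ ≫ g) := by
  obtain ⟨r, hfr, hr2, hr3⟩ : ∃ r : Y ⟶ X₀, f ≫ r = 𝟙 X₀ ∧ r ≫ f ≫ p₂ = p₂ ∧ i₁ ≫ r = 0 := by
    refine ⟨p₂ ≫ inv (f ≫ p₂), ?_, ?_, ?_⟩
    · rw [← Category.assoc, IsIso.hom_inv_id]
    · rw [Category.assoc, IsIso.inv_hom_id, Category.comp_id]
    · rw [← Category.assoc, h12, zero_comp]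
  have hfg : f ≫ g = 0 := comp_distTriang_mor_zero₁₂ _ hT
  have hhf : h ≫ f⟦(1 : ℤ)⟧' = 0 := comp_distTriang_mor_zero₃₁ _ hT
  have hh : h = 0 := by
    have h1 : h ≫ f⟦(1 : ℤ)⟧' ≫ r⟦(1 : ℤ)⟧' = h := by
      rw [← (shiftFunctor 𝒯 (1 : ℤ)).map_comp, hfr, (shiftFunctor 𝒯 (1 : ℤ)).map_id,
        Category.comp_id]
    rw [← h1, ← Category.assoc, hhf, zero_comp]
  obtain ⟨p, hpdef⟩ : ∃ p : Y ⟶ A₁, p = p₁ - r ≫ f ≫ p₁ := ⟨_, rfl⟩
  have hfp : f ≫ p = 0 := by
    rw [hpdef, Preadditive.comp_sub, ← Category.assoc f r, hfr, Category.id_comp, sub_self]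
  obtain ⟨q, hq⟩ := Triangle.yoneda_exact₂ _ hT p hfp
  obtain ⟨s, hs⟩ := Triangle.coyoneda_exact₃ _ hT (𝟙 Z) (by
    show 𝟙 Z ≫ h = 0
    rw [hh, comp_zero])
  have hq' : g ≫ q = p := hq.symm
  have hs' : s ≫ g = 𝟙 Z := hs.symm
  have hp : p ≫ i₁ ≫ g = g := by
    have h1 : p₁ ≫ i₁ = 𝟙 Y - p₂ ≫ i₂ := by rw [← htot]; abel
    have h3 : r ≫ f ≫ p₂ ≫ i₂ = p₂ ≫ i₂ := by
      rw [← Category.assoc f, ← Category.assoc r, hr2]
    have h2 : p ≫ i₁ = 𝟙 Y - r ≫ f := by
      calc p ≫ i₁ = p₁ ≫ i₁ - r ≫ f ≫ p₁ ≫ i₁ := by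
            rw [hpdef, Preadditive.sub_comp, Category.assoc, Category.assoc]
        _ = (𝟙 Y - p₂ ≫ i₂) - (r ≫ f - r ≫ f ≫ p₂ ≫ i₂) := by
            rw [h1, Preadditive.comp_sub, Preadditive.comp_sub, Category.comp_id]
        _ = 𝟙 Y - r ≫ f := by rw [h3]; abel
    rw [← Category.assoc, h2, Preadditive.sub_comp, Category.id_comp, Category.assoc, hfg,
      comp_zero, sub_zero]
  refine ⟨⟨q, ?_, ?_⟩⟩
  · rw [Category.assoc, hq', hpdef, Preadditive.comp_sub, h11, ← Category.assoc i₁ r, hr3,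
      zero_comp, sub_zero]
  · calc q ≫ i₁ ≫ g = (s ≫ g) ≫ q ≫ i₁ ≫ g := by rw [hs', Category.id_comp]
      _ = s ≫ p ≫ i₁ ≫ g := by rw [Category.assoc, ← Category.assoc g q, hq']
      _ = 𝟙 Z := by rw [hp, hs']

end Tri

section Pieces

/-- An exact functor sends (the image in the derived category of) a morphism of complexes which
becomes invertible termwise after applying the functor to an isomorphism. -/
theorem isIso_mapDerivedCategory_map_Q_map {C₁ C₂ : Type*} [Category C₁] [Category C₂] [Abelian C₁]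
    [Abelian C₂] [HasDerivedCategory C₁] [HasDerivedCategory C₂] (F : C₁ ⥤ C₂) [F.Additive]
    [PreservesFiniteLimits F] [PreservesFiniteColimits F] {K L : CochainComplex C₁ ℤ} (ψ : K ⟶ L)
    (hψ : ∀ n, IsIso (F.map (ψ.f n))) :
    IsIso (F.mapDerivedCategory.map (DerivedCategory.Q.map ψ)) := by
  haveI : ∀ n, IsIso (((F.mapHomologicalComplex (ComplexShape.up ℤ)).map ψ).f n) := hψ
  haveI : IsIso ((F.mapHomologicalComplex (ComplexShape.up ℤ)).map ψ) :=
    HomologicalComplex.Hom.isIso_of_components _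
  have h1 : IsIso ((F.mapHomologicalComplex (ComplexShape.up ℤ) ⋙ DerivedCategory.Q).map ψ) := by
    show IsIso (DerivedCategory.Q.map ((F.mapHomologicalComplex (ComplexShape.up ℤ)).map ψ))
    infer_instance
  have h2 := (NatIso.isIso_map_iff F.mapDerivedCategoryFactors ψ).2 h1
  exact h2

variable {X : Scheme.{u}}

/-- `(j_! K)|_U ≅ K` in the derived category. -/
noncomputable def unitIsoD (U : X.Opens) (K : CochainComplex (U : Scheme.{u}).Modules ℤ) :
    (DCoh.restrictD U.ι).obj (DerivedCategory.Q.obj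
      (((CxOX.extZero U.ι).mapHomologicalComplex (ComplexShape.up ℤ)).obj K)) ≅
      DerivedCategory.Q.obj K :=
  (Scheme.Modules.restrictFunctor U.ι).mapDerivedCategoryFactors.app _ ≪≫
    DerivedCategory.Q.mapIso
      (((NatIso.mapHomologicalComplex (asIso (CxOX.extZeroAdj U.ι).unit) (ComplexShape.up ℤ)).app K).symm ≪≫
        (Functor.mapHomologicalComplexIdIso _ (ComplexShape.up ℤ)).app K)

/-- `E|_W ≅ (E|_U)|_W` for `W ≤ U`. -/
noncomputable def resWIso (U W : X.Opens) (h : W ≤ U) (K : CochainComplex X.Modules ℤ) :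
    (DCoh.restrictD W.ι).obj (DerivedCategory.Q.obj K) ≅
      (DCoh.restrictD (X.homOfLE h)).obj ((DCoh.restrictD U.ι).obj (DerivedCategory.Q.obj K)) :=
  (Scheme.Modules.restrictFunctor W.ι).mapDerivedCategoryFactors.app K ≪≫
    DerivedCategory.Q.mapIso ((NatIso.mapHomologicalComplex
      (Scheme.Modules.restrictFunctorCongr (X.homOfLE_ι h).symm ≪≫
        Scheme.Modules.restrictFunctorComp (X.homOfLE h) U.ι) (ComplexShape.up ℤ)).app K) ≪≫
    ((Scheme.Modules.restrictFunctor (X.homOfLE h)).mapDerivedCategoryFactors.app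
      (((Scheme.Modules.restrictFunctor U.ι).mapHomologicalComplex (ComplexShape.up ℤ)).obj K)).symm ≪≫
    (DCoh.restrictD (X.homOfLE h)).mapIso
      ((Scheme.Modules.restrictFunctor U.ι).mapDerivedCategoryFactors.app K).symm

/-- `(j_! j^* K)|_U ≅ K|_U`. -/
noncomputable def resSIso (U : X.Opens) (K : CochainComplex X.Modules ℤ) :
    (DCoh.restrictD U.ι).obj (DerivedCategory.Q.obj ((Sc U).obj K)) ≅
      (DCoh.restrictD U.ι).obj (DerivedCategory.Q.obj K) :=
  haveI : IsIso ((DCoh.restrictD U.ι).map (DerivedCategory.Q.map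
      ((NatTrans.mapHomologicalComplex (ε U) (ComplexShape.up ℤ)).app K))) :=
    isIso_mapDerivedCategory_map_Q_map (Scheme.Modules.restrictFunctor U.ι) _
      (fun n => isIso_restrict_ε U (K.X n))
  asIso ((DCoh.restrictD U.ι).map (DerivedCategory.Q.map
      ((NatTrans.mapHomologicalComplex (ε U) (ComplexShape.up ℤ)).app K))) ≪≫
    (DCoh.restrictD U.ι).mapIso (DerivedCategory.Q.mapIso
      ((Functor.mapHomologicalComplexIdIso _ (ComplexShape.up ℤ)).app K))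

end Pieces

section Main

variable {X : Scheme.{u}}

/-- Gluing objects of the derived categories of two opens covering `X`. -/
theorem exists_glue (U V : X.Opens) (A : DCoh.D (U : Scheme.{u}))
    (B : DCoh.D (V : Scheme.{u}))
    (c : (DCoh.restrictD (X.homOfLE (inf_le_left : U ⊓ V ≤ U))).obj A ≅
      (DCoh.restrictD (X.homOfLE (inf_le_right : U ⊓ V ≤ V))).obj B) :
    ∃ F : DCoh.D X, Nonempty ((DCoh.restrictD U.ι).obj F ≅ A) ∧
      Nonempty ((DCoh.restrictD V.ι).obj F ≅ B) := by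
  let KA := DerivedCategory.Q.objPreimage A
  have eA : DerivedCategory.Q.obj KA ≅ A := DerivedCategory.Q.objObjPreimageIso A
  let KB := DerivedCategory.Q.objPreimage B
  have eB : DerivedCategory.Q.obj KB ≅ B := DerivedCategory.Q.objObjPreimageIso B
  let K₁ := ((CxOX.extZero U.ι).mapHomologicalComplex (ComplexShape.up ℤ)).obj KA
  let K₂ := ((CxOX.extZero V.ι).mapHomologicalComplex (ComplexShape.up ℤ)).obj KB
  have e1 : (DCoh.restrictD U.ι).obj (DerivedCategory.Q.obj K₁) ≅ A := unitIsoD U KA ≪≫ eA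
  have e2 : (DCoh.restrictD V.ι).obj (DerivedCategory.Q.obj K₂) ≅ B := unitIsoD V KB ≪≫ eB
  have c' : (DCoh.restrictD (U ⊓ V).ι).obj (DerivedCategory.Q.obj K₁) ≅
      (DCoh.restrictD (U ⊓ V).ι).obj (DerivedCategory.Q.obj K₂) :=
    resWIso U (U ⊓ V) inf_le_left K₁ ≪≫ (DCoh.restrictD (X.homOfLE inf_le_left)).mapIso e1 ≪≫ c ≪≫
      ((DCoh.restrictD (X.homOfLE inf_le_right)).mapIso e2).symm ≪≫
      (resWIso V (U ⊓ V) inf_le_right K₂).symm
  let f₁ : DerivedCategory.Q.obj ((Sc (U ⊓ V)).obj K₁) ⟶ DerivedCategory.Q.obj ((Sc U).obj K₁) :=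
    DerivedCategory.Q.map
      ((NatTrans.mapHomologicalComplex (lam U (U ⊓ V) inf_le_left) (ComplexShape.up ℤ)).app K₁)
  let t : DerivedCategory.Q.obj ((Sc (U ⊓ V)).obj K₁) ≅
      DerivedCategory.Q.obj ((Sc (U ⊓ V)).obj K₂) :=
    vertexIso K₁ (U ⊓ V) (DerivedCategory.Q.obj K₁) (Iso.refl _) ≪≫
      (CxOX.extZeroD (U ⊓ V).ι).mapIso c' ≪≫
      (vertexIso K₂ (U ⊓ V) (DerivedCategory.Q.obj K₂) (Iso.refl _)).symm
  let f₂ : DerivedCategory.Q.obj ((Sc (U ⊓ V)).obj K₁) ⟶ DerivedCategory.Q.obj ((Sc V).obj K₂) :=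
    t.hom ≫ DerivedCategory.Q.map
      ((NatTrans.mapHomologicalComplex (lam V (U ⊓ V) inf_le_right) (ComplexShape.up ℤ)).app K₂)
  obtain ⟨Z, g, h, hT⟩ := distinguished_cocone_triangle (biprod.lift f₁ f₂)
  refine ⟨Z, ⟨?_⟩, ⟨?_⟩⟩
  · let R := DCoh.restrictD U.ι
    have hT' := R.map_distinguished _ hT
    have hiso : IsIso (R.map (biprod.inl ≫ g)) := by
      rw [R.map_comp]
      refine isIso_inl_comp_of_isIso_comp_snd (R.map (biprod.lift f₁ f₂)) (R.map g)
        (R.map h ≫ (R.commShiftIso (1 : ℤ)).hom.app _) hT'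
        (R.map biprod.inl) (R.map biprod.inr) (R.map biprod.fst) (R.map biprod.snd)
        ?_ ?_ ?_ ?_
      · rw [← R.map_comp, biprod.inl_fst, R.map_id]
      · rw [← R.map_comp, biprod.inl_snd, R.map_zero]
      · rw [← R.map_comp, ← R.map_comp, ← R.map_add, biprod.total, R.map_id]
      · rw [← R.map_comp, biprod.lift_snd]
        show IsIso (R.map (t.hom ≫ _))
        rw [R.map_comp]
        haveI : IsIso (R.map (DerivedCategory.Q.map
            ((NatTrans.mapHomologicalComplex (lam V (U ⊓ V) inf_le_right)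
              (ComplexShape.up ℤ)).app K₂))) :=
          isIso_mapDerivedCategory_map_Q_map (Scheme.Modules.restrictFunctor U.ι) _
            (fun n => isIso_restrict_lam_right U V (K₂.X n))
        infer_instance
    exact (asIso (R.map (biprod.inl ≫ g))).symm ≪≫ resSIso U K₁ ≪≫ e1
  · let R := DCoh.restrictD V.ι
    have hT' := R.map_distinguished _ hT
    have hiso : IsIso (R.map (biprod.inr ≫ g)) := by
      rw [R.map_comp]
      refine isIso_inl_comp_of_isIso_comp_snd (R.map (biprod.lift f₁ f₂)) (R.map g)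
        (R.map h ≫ (R.commShiftIso (1 : ℤ)).hom.app _) hT'
        (R.map biprod.inr) (R.map biprod.inl) (R.map biprod.snd) (R.map biprod.fst)
        ?_ ?_ ?_ ?_
      · rw [← R.map_comp, biprod.inr_snd, R.map_id]
      · rw [← R.map_comp, biprod.inr_fst, R.map_zero]
      · rw [← R.map_comp, ← R.map_comp, ← R.map_add, add_comm, biprod.total, R.map_id]
      · rw [← R.map_comp, biprod.lift_fst]
        exact isIso_mapDerivedCategory_map_Q_map (Scheme.Modules.restrictFunctor V.ι) _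
          (fun n => isIso_restrict_lam_left U V (K₁.X n))
    exact (asIso (R.map (biprod.inr ≫ g))).symm ≪≫ resSIso V K₂ ≪≫ e2

end Main

end Groth.Agent.H31.Glue
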