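import Mathlib

/-!
# (GL) for S18863 (helper40): `Grp.forget` preserves a limit as soon as the underlying limit exists
-/

set_option backward.isDefEq.respectTransparency false
open CategoryTheory Limits MonoidalCategory CartesianMonoidalCategory
universe v u w w'

namespace Groth.Agent.H31.GrpLimForget

open MonObj

variable {C : Type u} [Category.{v} C] [CartesianMonoidalCategory C] {J : Type w}
  [Category.{w'} J]

section
variable (F : J ⥤ Grp C) (c : Cone (F ⋙ Grp.forget C)) (hc : IsLimit c)

/-- the legs of the cone, with the underlying objects made explicit -/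
def leg (j : J) : c.pt ⟶ (F.obj j).X := c.π.app j

theorem leg_w {j j' : J} (φ : j ⟶ j') : leg F c j ≫ (F.map φ).hom.hom = leg F c j' := c.w φ

include hc in
theorem leg_ext {Z : C} (f g : Z ⟶ c.pt) (h : ∀ j, f ≫ leg F c j = g ≫ leg F c j) : f = g :=
  hc.hom_ext h

/-- cone from explicit legs -/
def mkCone (Z : C) (q : ∀ j, Z ⟶ (F.obj j).X)
    (hq : ∀ (j j' : J) (φ : j ⟶ j'), q j ≫ (F.map φ).hom.hom = q j') :
    Cone (F ⋙ Grp.forget C) where
  pt := Z
  π :=
    { app := q
      naturality := fun j j' φ => by
        have := hq j j' φ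
        simpa using this.symm }

/-- lift from explicit legs -/
def liftOf (Z : C) (q : ∀ j, Z ⟶ (F.obj j).X)
    (hq : ∀ (j j' : J) (φ : j ⟶ j'), q j ≫ (F.map φ).hom.hom = q j') : Z ⟶ c.pt :=
  hc.lift (mkCone F Z q hq)

theorem liftOf_leg (Z : C) (q : ∀ j, Z ⟶ (F.obj j).X)
    (hq : ∀ (j j' : J) (φ : j ⟶ j'), q j ≫ (F.map φ).hom.hom = q j') (j : J) :
    liftOf F c hc Z q hq ≫ leg F c j = q j :=
  hc.fac (mkCone F Z q hq) j

/-- the monoid object structure on the limit of underlying objects -/
noncomputable abbrev limMon : Mon C := Mon.limit (F ⋙ Grp.forget₂Mon C) c hc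

/-- the monoid structure on `c.pt` -/
@[instance_reducible]
noncomputable def limMonObj : MonObj c.pt := (limMon F c hc).mon

theorem mul_leg (j : J) :
    (limMonObj F c hc).mul ≫ leg F c j = (leg F c j ⊗ₘ leg F c j) ≫ μ[(F.obj j).X] :=
  hc.fac _ j

theorem one_leg (j : J) : (limMonObj F c hc).one ≫ leg F c j = η[(F.obj j).X] :=
  hc.fac _ j

/-- the group object structure on the limit of the underlying objects -/
@[instance_reducible]
noncomputable def limGrpObj : GrpObj c.pt where
  toMonObj := limMonObj F c hc
  inv := liftOf F c hc c.pt (fun j => leg F c j ≫ ι[(F.obj j).X]) (fun j j' φ => by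
    rw [Category.assoc, GrpObj.inv_hom, ← Category.assoc, leg_w])
  left_inv := by
    apply leg_ext F c hc
    intro j
    rw [Category.assoc, mul_leg, ← Category.assoc, lift_map, liftOf_leg, Category.id_comp,
      Category.assoc, one_leg]
    have h : lift (leg F c j ≫ ι[(F.obj j).X]) (leg F c j) =
        leg F c j ≫ lift ι[(F.obj j).X] (𝟙 _) := by
      rw [comp_lift, Category.comp_id]
    rw [h, Category.assoc, GrpObj.left_inv, ← Category.assoc, comp_toUnit]
  right_inv := by
    apply leg_ext F c hc
    intro j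
    rw [Category.assoc, mul_leg, ← Category.assoc, lift_map, liftOf_leg, Category.id_comp,
      Category.assoc, one_leg]
    have h : lift (leg F c j) (leg F c j ≫ ι[(F.obj j).X]) =
        leg F c j ≫ lift (𝟙 _) ι[(F.obj j).X] := by
      rw [comp_lift, Category.comp_id]
    rw [h, Category.assoc, GrpObj.right_inv, ← Category.assoc, comp_toUnit]

/-- the limit group object -/
noncomputable def limGrp : Grp C := @Grp.mk C _ _ c.pt (limGrpObj F c hc)

/-- the limit cone in `Grp C` -/
noncomputable def limGrpCone : Cone F where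
  pt := limGrp F c hc
  π :=
    { app := fun j => InducedCategory.homMk ((Mon.limitCone (F ⋙ Grp.forget₂Mon C) c hc).π.app j)
      naturality := fun j j' φ => by
        apply Grp.hom_ext
        have := c.w φ
        simpa using this.symm }

/-- it is a limit cone -/
noncomputable def limGrpConeIsLimit : IsLimit (limGrpCone F c hc) := by
  haveI : ReflectsLimit F (Grp.forget₂Mon C) := inferInstance
  refine isLimitOfReflects (Grp.forget₂Mon C) ?_
  refine IsLimit.ofIsoLimit (Mon.limitConeIsLimit (F ⋙ Grp.forget₂Mon C) c hc) ?_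
  exact Cone.ext (Iso.refl _) (fun j => by ext; simp [limGrpCone])

/-- its image in `C` is the original cone -/
noncomputable def forgetLimGrpConeIso : (Grp.forget C).mapCone (limGrpCone F c hc) ≅ c :=
  Cone.ext (Iso.refl _) (fun j => by simp [limGrpCone])

end

theorem isLimit_forget_mapCone {C : Type u} [Category.{v} C] [CartesianMonoidalCategory C]
    {J : Type w} [Category.{w'} J] (F : J ⥤ Grp C) (c : Cone F) (hc : IsLimit c)
    [HasLimit (F ⋙ Grp.forget C)] : Nonempty (IsLimit ((Grp.forget C).mapCone c)) := by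
  let c₀ := limit.cone (F ⋙ Grp.forget C)
  let hc₀ : IsLimit c₀ := limit.isLimit _
  let e : c ≅ limGrpCone F c₀ hc₀ := hc.uniqueUpToIso (limGrpConeIsLimit F c₀ hc₀)
  let e' : (Grp.forget C).mapCone c ≅ c₀ :=
    (Cone.functoriality F (Grp.forget C)).mapIso e ≪≫ forgetLimGrpConeIso F c₀ hc₀
  exact ⟨IsLimit.ofIsoLimit hc₀ e'.symm⟩

end Groth.Agent.H31.GrpLimForget
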