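import Groth.Agent.S0477

/-!
# Homology of a coproduct of cochain complexes (helper31 library)

For a Grothendieck abelian category `A` and a family `E : J → CochainComplex A ℤ`, the homology of
`∐ E` in degree `n` is a colimit of a functor `Discrete J ⥤ A` whose values are the homologies
`(E j).homology n` (AB4).

* `HSigma.S E n : ShortComplex (Discrete J ⥤ A)`.
* `HSigma.homologyObjIso E n j : (S E n).homology.obj j ≅ (E j.as).homology n`.
* `HSigma.homologySigmaIso E n : (∐ E).homology n ≅ colimit (S E n).homology`.
-/

set_option autoImplicit false
set_option backward.isDefEq.respectTransparency false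
universe v u
open CategoryTheory CategoryTheory.Limits HomologicalComplex

namespace Groth.Agent.H31.HSigma

open Groth.Agent.S0477

variable {A : Type u} [Category.{v} A] [Abelian A] [IsGrothendieckAbelian.{v} A] {J : Type v}
  (E : J → CochainComplex A ℤ) (n : ℤ)

/-- The short complex `E^{n-1} → E^n → E^{n+1}` in the functor category `Discrete J ⥤ A`. -/
noncomputable def S : ShortComplex (Discrete J ⥤ A) :=
  ShortComplex.mk
    (Functor.whiskerLeft (Discrete.functor E) (dNat ((ComplexShape.up ℤ).prev n) n))
    (Functor.whiskerLeft (Discrete.functor E) (dNat n ((ComplexShape.up ℤ).next n)))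
    (by ext p; exact ((Discrete.functor E).obj p).d_comp_d _ _ _)

/-- The values of the homology of `S E n` are the homologies of the `E j`. -/
noncomputable def homologyObjIso (j : Discrete J) :
    ((S E n).homology).obj j ≅ (E j.as).homology n := by
  have : PreservesFiniteLimits ((evaluation (Discrete J) A).obj j) :=
    ⟨fun _ _ _ => inferInstance⟩
  have : PreservesFiniteColimits ((evaluation (Discrete J) A).obj j) :=
    ⟨fun _ _ _ => inferInstance⟩
  exact ((S E n).mapHomologyIso ((evaluation (Discrete J) A).obj j)).symm

/-- The comparison isomorphism in degree `k`. -/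
noncomputable abbrev xIso (k : ℤ) :
    (∐ E).X k ≅ colimit (Discrete.functor E ⋙ eval A (ComplexShape.up ℤ) k) :=
  preservesColimitIso (eval A (ComplexShape.up ℤ) k) (Discrete.functor E)

lemma xIso_comm (i k : ℤ) :
    (∐ E).d i k ≫ (xIso E k).hom =
      (xIso E i).hom ≫ colim.map (Functor.whiskerLeft (Discrete.functor E) (dNat i k)) := by
  rw [← cancel_epi (xIso E i).inv, Iso.inv_hom_id_assoc]
  refine colimit.hom_ext (fun j => ?_)
  dsimp only [xIso]
  rw [ι_preservesColimitIso_inv_assoc]
  simp only [eval_map, colim_map, ι_colimMap, Functor.whiskerLeft_app]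
  rw [(colimit.ι (Discrete.functor E) j).comm_assoc i k]
  have := ι_preservesColimitIso_hom (eval A (ComplexShape.up ℤ) k) (Discrete.functor E) j
  simp only [eval_map] at this
  rw [this]
  rfl

/-- The short complex of `∐ E` in degree `n` is the image of `S E n` under `colim`. -/
noncomputable def scIso : (∐ E).sc n ≅ (S E n).map colim :=
  ShortComplex.isoMk (xIso E _) (xIso E _) (xIso E _)
    (xIso_comm E _ _).symm (xIso_comm E _ _).symm

/-- The homology of a coproduct of complexes is the colimit of the homologies. -/
noncomputable def homologySigmaIso : (∐ E).homology n ≅ colimit (S E n).homology :=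
  ShortComplex.homologyMapIso (scIso E n) ≪≫ (S E n).mapHomologyIso colim

end Groth.Agent.H31.HSigma
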