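import Mathlib.Algebra.Homology.BifunctorShift
import Mathlib.Algebra.Homology.BifunctorHomotopy
import Mathlib.Algebra.Homology.HomotopyCategory.DegreewiseSplit
import Mathlib.Algebra.Homology.HomotopyCategory.Acyclic
import Mathlib.Algebra.Homology.HomotopyCategory.ShiftSequence
import Mathlib.Algebra.Homology.HomologySequenceLemmas
import Mathlib.Algebra.Homology.HomologicalComplexAbelian
import Mathlib.Algebra.Homology.Localization
import Mathlib.CategoryTheory.Abelian.GrothendieckAxioms.Colim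
import Mathlib.CategoryTheory.Limits.FunctorCategory.EpiMono

/-!
# Generic lemmas on total complexes of bifunctors (towards K-flat complexes)
-/

set_option autoImplicit false

namespace Groth.Agent.H31.KFlat

open CategoryTheory Limits HomologicalComplex

section Cofan

variable {D : Type*} [Category D] [Abelian D] {ι : Type*}
  [HasColimitsOfShape (Discrete ι) D] [HasExactColimitsOfShape (Discrete ι) D]

/-- A coproduct of short exact sequences is short exact (AB4). -/
theorem shortExact_of_cofan {X₁ X₂ X₃ : ι → D} (f : ∀ i, X₁ i ⟶ X₂ i) (g : ∀ i, X₂ i ⟶ X₃ i)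
    (w : ∀ i, f i ≫ g i = 0) (hS : ∀ i, (ShortComplex.mk (f i) (g i) (w i)).ShortExact)
    {c₁ : Cofan X₁} {c₂ : Cofan X₂} {c₃ : Cofan X₃}
    (h₁ : IsColimit c₁) (h₂ : IsColimit c₂) (h₃ : IsColimit c₃)
    (F : c₁.pt ⟶ c₂.pt) (G : c₂.pt ⟶ c₃.pt)
    (hF : ∀ i, c₁.inj i ≫ F = f i ≫ c₂.inj i) (hG : ∀ i, c₂.inj i ≫ G = g i ≫ c₃.inj i)
    (zero : F ≫ G = 0) : (ShortComplex.mk F G zero).ShortExact := by
  have hepi_g : ∀ i, Epi (g i) := fun i => (hS i).epi_g
  have hmono_f : ∀ i, Mono (f i) := fun i => (hS i).mono_f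
  have hmono : Mono F := by
    let φ : Discrete.functor X₁ ⟶ Discrete.functor X₂ := Discrete.natTrans (fun i => f i.as)
    have : Mono φ := by
      rw [NatTrans.mono_iff_mono_app]
      intro i
      exact hmono_f i.as
    exact colim.map_mono' φ h₁ h₂ F (fun i => hF i.as)
  have hepi : Epi G := ⟨fun {Z} a b hab => by
    refine Cofan.IsColimit.hom_ext h₃ _ _ (fun i => ?_)
    have := hepi_g i
    rw [← cancel_epi (g i), ← Category.assoc, ← hG i, Category.assoc, hab, ← Category.assoc,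
      hG i, Category.assoc]⟩
  have hk' : ∀ {Z : D} (k : c₂.pt ⟶ Z), F ≫ k = 0 → ∀ i, f i ≫ c₂.inj i ≫ k = 0 := by
    intro Z k hk i
    rw [← Category.assoc, ← hF i, Category.assoc, hk, comp_zero]
  have hcoker : IsColimit (CokernelCofork.ofπ G zero) :=
    CokernelCofork.IsColimit.ofπ _ _
      (fun {Z} k hk => Cofan.IsColimit.desc h₃ (fun i =>
        have : Epi (ShortComplex.mk (f i) (g i) (w i)).g := hepi_g i
        (hS i).exact.desc (c₂.inj i ≫ k) (hk' k hk i)))
      (fun {Z} k hk => Cofan.IsColimit.hom_ext h₂ _ _ (fun i => by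
        have : Epi (ShortComplex.mk (f i) (g i) (w i)).g := hepi_g i
        rw [← Category.assoc, hG i, Category.assoc, Cofan.IsColimit.fac]
        exact (hS i).exact.g_desc _ _))
      (fun {Z} k hk m hm => Cofan.IsColimit.hom_ext h₃ _ _ (fun i => by
        have : Epi (ShortComplex.mk (f i) (g i) (w i)).g := hepi_g i
        have := hepi_g i
        rw [Cofan.IsColimit.fac, ← cancel_epi (g i)]
        refine Eq.trans ?_ ((hS i).exact.g_desc _ _).symm
        rw [← Category.assoc, ← hG i, Category.assoc, hm]))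
  exact ShortComplex.ShortExact.mk' (ShortComplex.exact_of_g_is_cokernel _ hcoker) hmono hepi

end Cofan

/-! ### Generalities on acyclic complexes -/

section Acyclic

variable {B : Type*} [Category B] [Abelian B]

theorem acyclic_of_homotopy_id_zero (K : CochainComplex B ℤ) (h : Homotopy (𝟙 K) 0) :
    K.Acyclic := by
  intro i
  rw [exactAt_iff_isZero_homology, IsZero.iff_id_eq_zero, ← homologyMap_id,
    h.homologyMap_eq i, homologyMap_zero]

theorem acyclic_of_iso {K L : CochainComplex B ℤ} (e : K ≅ L) (hK : K.Acyclic) : L.Acyclic :=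
  fun i => (quasiIsoAt_iff_exactAt e.hom i (hK i)).1 inferInstance

theorem acyclic_iff_of_iso {K L : CochainComplex B ℤ} (e : K ≅ L) : K.Acyclic ↔ L.Acyclic :=
  ⟨acyclic_of_iso e, acyclic_of_iso e.symm⟩

theorem acyclic_iff_forall_isZero_homology (K : CochainComplex B ℤ) :
    K.Acyclic ↔ ∀ i : ℤ, IsZero (K.homology i) :=
  forall_congr' (fun _ => exactAt_iff_isZero_homology _ _)

theorem acyclic_shift_iff (K : CochainComplex B ℤ) (n : ℤ) : (K⟦n⟧).Acyclic ↔ K.Acyclic := by
  rw [acyclic_iff_forall_isZero_homology, acyclic_iff_forall_isZero_homology]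
  constructor
  · intro h i
    exact ((CochainComplex.ShiftSequence.shiftIso B n (i - n) i (by omega)).app K).isZero_iff.1
      (h (i - n))
  · intro h i
    exact ((CochainComplex.ShiftSequence.shiftIso B n i (n + i) rfl).app K).isZero_iff.2
      (h (n + i))

theorem quasiIso_of_acyclic {K L : CochainComplex B ℤ} (f : K ⟶ L) (hK : K.Acyclic)
    (hL : L.Acyclic) : QuasiIso f :=
  ⟨fun i => (quasiIsoAt_iff_exactAt f i (hK i)).2 (hL i)⟩

variable {S : ShortComplex (CochainComplex B ℤ)}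

theorem acyclic_X₁_of_shortExact (hS : S.ShortExact) (h₂ : S.X₂.Acyclic) (h₃ : S.X₃.Acyclic) :
    S.X₁.Acyclic :=
  hS.acyclic_X₁ (quasiIso_of_acyclic S.g h₂ h₃)

theorem acyclic_X₃_of_shortExact (hS : S.ShortExact) (h₁ : S.X₁.Acyclic) (h₂ : S.X₂.Acyclic) :
    S.X₃.Acyclic :=
  hS.acyclic_X₃ (quasiIso_of_acyclic S.f h₁ h₂)

open CochainComplex in
theorem quasiIso_iff_acyclic_mappingCone {K L : CochainComplex B ℤ} (φ : K ⟶ L) :
    QuasiIso φ ↔ (mappingCone φ).Acyclic := by
  rw [← HomologicalComplex.mem_quasiIso_iff, ← HomotopyCategory.quotient_map_mem_quasiIso_iff,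
    HomotopyCategory.quasiIso_eq_trW_subcategoryAcyclic,
    ← HomotopyCategory.quotient_obj_mem_subcategoryAcyclic_iff_acyclic]
  exact (HomotopyCategory.subcategoryAcyclic B).trW_iff_of_distinguished _
    (HomotopyCategory.mappingCone_triangleh_distinguished φ)

end Acyclic

/-! ### The key lemma: functors preserving degreewise split sequences and contractibility -/

section G1

variable {A B : Type*} [Category A] [Abelian A] [Category B] [Abelian B]
  (T : CochainComplex A ℤ ⥤ CochainComplex B ℤ) [T.PreservesZeroMorphisms]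

open CochainComplex

theorem quasiIso_map_of_acyclic_mappingCone
    (hT₁ : ∀ (S : ShortComplex (CochainComplex A ℤ)),
      (∀ n, Nonempty ((S.map (eval A (ComplexShape.up ℤ) n)).Splitting)) → (S.map T).ShortExact)
    (hT₂ : ∀ K : CochainComplex A ℤ, Nonempty (Homotopy (𝟙 K) 0) → (T.obj K).Acyclic)
    {K L : CochainComplex A ℤ} (φ : K ⟶ L) (h : (T.obj (mappingCone φ)).Acyclic) :
    QuasiIso (T.map φ) := by
  have hS₁ : ((mappingCone.triangleRotateShortComplex (𝟙 K)).map T).ShortExact :=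
    hT₁ _ (fun n => ⟨mappingCone.triangleRotateShortComplexSplitting (𝟙 K) n⟩)
  have hS₂ : ((mappingCone.triangleRotateShortComplex φ).map T).ShortExact :=
    hT₁ _ (fun n => ⟨mappingCone.triangleRotateShortComplexSplitting φ n⟩)
  let tm := mappingCone.triangleMap (𝟙 K) φ (𝟙 K) φ rfl
  let ψ : mappingCone.triangleRotateShortComplex (𝟙 K) ⟶
      mappingCone.triangleRotateShortComplex φ :=
    { τ₁ := φ
      τ₂ := mappingCone.map (𝟙 K) φ (𝟙 K) φ rfl
      τ₃ := (𝟙 K)⟦(1 : ℤ)⟧'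
      comm₁₂ := tm.comm₂.symm
      comm₂₃ := tm.comm₃.symm }
  have hz₁ : ∀ i, IsZero (((mappingCone.triangleRotateShortComplex (𝟙 K)).map T).X₂.homology i) :=
    fun i => (exactAt_iff_isZero_homology _ _).1
      (hT₂ (mappingCone (𝟙 K)) ⟨mappingCone.homotopyToZeroOfId K⟩ i)
  have hz₂ : ∀ i, IsZero (((mappingCone.triangleRotateShortComplex φ).map T).X₂.homology i) :=
    fun i => (exactAt_iff_isZero_homology _ _).1 (h i)
  let ψ' : (mappingCone.triangleRotateShortComplex (𝟙 K)).map T ⟶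
      (mappingCone.triangleRotateShortComplex φ).map T := T.mapShortComplex.map ψ
  have iτ₃ : IsIso ψ'.τ₃ := by
    have : IsIso ((𝟙 K)⟦(1 : ℤ)⟧') := inferInstance
    exact (inferInstance : IsIso (T.map ((𝟙 K)⟦(1 : ℤ)⟧')))
  rw [quasiIso_iff]
  intro m
  obtain ⟨n, rfl⟩ : ∃ n, m = n + 1 := ⟨m - 1, by omega⟩
  rw [quasiIsoAt_iff_isIso_homologyMap]
  have nat := HomologicalComplex.HomologySequence.δ_naturality ψ' hS₁ hS₂ n (n + 1) rfl
  have i₁ : IsIso (hS₁.δ n (n + 1) rfl) := hS₁.isIso_δ n (n + 1) rfl (hz₁ n) (hz₁ (n + 1))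
  have i₂ : IsIso (hS₂.δ n (n + 1) rfl) := hS₂.isIso_δ n (n + 1) rfl (hz₂ n) (hz₂ (n + 1))
  have i₄ : IsIso (homologyMap ψ'.τ₃ n) :=
    (inferInstance : IsIso ((homologyFunctor B (ComplexShape.up ℤ) n).map ψ'.τ₃))
  have i₃ : IsIso (hS₁.δ n (n + 1) rfl ≫ homologyMap ψ'.τ₁ (n + 1)) := by
    rw [nat]; infer_instance
  exact IsIso.of_isIso_comp_left (hS₁.δ n (n + 1) rfl) (homologyMap ψ'.τ₁ (n + 1))

end G1

section Bifunctor

variable {C₁ C₂ D : Type*} [Category C₁] [Category C₂] [Category D]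
  [Abelian C₁] [Abelian C₂] [Abelian D]
  (F : C₁ ⥤ C₂ ⥤ D) [F.Additive] [∀ X, (F.obj X).Additive]
  [∀ (K₁ : CochainComplex C₁ ℤ) (K₂ : CochainComplex C₂ ℤ),
    HasMapBifunctor K₁ K₂ F (ComplexShape.up ℤ)]
  [∀ ι : Type, HasColimitsOfShape (Discrete ι) D]
  [∀ ι : Type, HasExactColimitsOfShape (Discrete ι) D]

/-- The bigraded object underlying the bicomplex `F(K₁, K₂)`. -/
noncomputable abbrev gr (K₁ : CochainComplex C₁ ℤ) (K₂ : CochainComplex C₂ ℤ) :
    GradedObject (ℤ × ℤ) D :=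
  (((F.mapBifunctorHomologicalComplex (ComplexShape.up ℤ) (ComplexShape.up ℤ)).obj K₁).obj
    K₂).toGradedObject

/-- The projection `(p, q) ↦ p + q`. -/
abbrev pp : ℤ × ℤ → ℤ :=
  ComplexShape.π (ComplexShape.up ℤ) (ComplexShape.up ℤ) (ComplexShape.up ℤ)

omit [∀ ι : Type, HasColimitsOfShape (Discrete ι) D]
  [∀ ι : Type, HasExactColimitsOfShape (Discrete ι) D] in
theorem mapBifunctorMap_zero_left (K L : CochainComplex C₁ ℤ) {E E' : CochainComplex C₂ ℤ}
    (g : E ⟶ E') : mapBifunctorMap (0 : K ⟶ L) g F (ComplexShape.up ℤ) = 0 := by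
  ext n p q h
  simp

omit [∀ ι : Type, HasColimitsOfShape (Discrete ι) D]
  [∀ ι : Type, HasExactColimitsOfShape (Discrete ι) D] in
theorem mapBifunctorMap_zero_right {K L : CochainComplex C₁ ℤ} (f : K ⟶ L)
    (E E' : CochainComplex C₂ ℤ) : mapBifunctorMap f (0 : E ⟶ E') F (ComplexShape.up ℤ) = 0 := by
  ext n p q h
  simp

instance (E : CochainComplex C₂ ℤ) :
    (F.map₂CochainComplex.flip.obj E).PreservesZeroMorphisms where
  map_zero K L := mapBifunctorMap_zero_left F K L (𝟙 E)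

instance (L : CochainComplex C₁ ℤ) :
    (F.map₂CochainComplex.obj L).PreservesZeroMorphisms where
  map_zero E E' := mapBifunctorMap_zero_right F (𝟙 L) E E'

theorem shortExact_map_flip_obj (S : ShortComplex (CochainComplex C₁ ℤ))
    (E : CochainComplex C₂ ℤ)
    (h : ∀ p q : ℤ, ((S.map (eval C₁ (ComplexShape.up ℤ) p)).map
      (F.flip.obj (E.X q))).ShortExact) :
    (S.map (F.map₂CochainComplex.flip.obj E)).ShortExact := by
  refine HomologicalComplex.shortExact_of_degreewise_shortExact _ (fun n => ?_)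
  exact shortExact_of_cofan
    (X₁ := (gr F S.X₁ E).mapObjFun pp n) (X₂ := (gr F S.X₂ E).mapObjFun pp n)
    (X₃ := (gr F S.X₃ E).mapObjFun pp n)
    (fun i => (F.map (S.f.f i.1.1)).app (E.X i.1.2))
    (fun i => (F.map (S.g.f i.1.1)).app (E.X i.1.2))
    (fun i => ((S.map (eval C₁ (ComplexShape.up ℤ) i.1.1)).map (F.flip.obj (E.X i.1.2))).zero)
    (fun i => h i.1.1 i.1.2)
    (c₁ := (gr F S.X₁ E).cofanMapObj pp n) (c₂ := (gr F S.X₂ E).cofanMapObj pp n)
    (c₃ := (gr F S.X₃ E).cofanMapObj pp n)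
    ((gr F S.X₁ E).isColimitCofanMapObj pp n) ((gr F S.X₂ E).isColimitCofanMapObj pp n)
    ((gr F S.X₃ E).isColimitCofanMapObj pp n)
    ((mapBifunctorMap S.f (𝟙 E) F (ComplexShape.up ℤ)).f n)
    ((mapBifunctorMap S.g (𝟙 E) F (ComplexShape.up ℤ)).f n)
    (by
      rintro ⟨⟨p, q⟩, hpq⟩
      refine (ι_mapBifunctorMap S.f (𝟙 E) F (ComplexShape.up ℤ) p q n hpq).trans ?_
      simp
      rfl)
    (by
      rintro ⟨⟨p, q⟩, hpq⟩
      refine (ι_mapBifunctorMap S.g (𝟙 E) F (ComplexShape.up ℤ) p q n hpq).trans ?_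
      simp
      rfl)
    (((S.map (F.map₂CochainComplex.flip.obj E)).map (eval _ _ n)).zero)

theorem shortExact_map_obj (L : CochainComplex C₁ ℤ) (S : ShortComplex (CochainComplex C₂ ℤ))
    (h : ∀ p q : ℤ, ((S.map (eval C₂ (ComplexShape.up ℤ) q)).map (F.obj (L.X p))).ShortExact) :
    (S.map (F.map₂CochainComplex.obj L)).ShortExact := by
  refine HomologicalComplex.shortExact_of_degreewise_shortExact _ (fun n => ?_)
  exact shortExact_of_cofan
    (X₁ := (gr F L S.X₁).mapObjFun pp n) (X₂ := (gr F L S.X₂).mapObjFun pp n)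
    (X₃ := (gr F L S.X₃).mapObjFun pp n)
    (fun i => (F.obj (L.X i.1.1)).map (S.f.f i.1.2))
    (fun i => (F.obj (L.X i.1.1)).map (S.g.f i.1.2))
    (fun i => ((S.map (eval C₂ (ComplexShape.up ℤ) i.1.2)).map (F.obj (L.X i.1.1))).zero)
    (fun i => h i.1.1 i.1.2)
    (c₁ := (gr F L S.X₁).cofanMapObj pp n) (c₂ := (gr F L S.X₂).cofanMapObj pp n)
    (c₃ := (gr F L S.X₃).cofanMapObj pp n)
    ((gr F L S.X₁).isColimitCofanMapObj pp n) ((gr F L S.X₂).isColimitCofanMapObj pp n)
    ((gr F L S.X₃).isColimitCofanMapObj pp n)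
    ((mapBifunctorMap (𝟙 L) S.f F (ComplexShape.up ℤ)).f n)
    ((mapBifunctorMap (𝟙 L) S.g F (ComplexShape.up ℤ)).f n)
    (by
      rintro ⟨⟨p, q⟩, hpq⟩
      refine (ι_mapBifunctorMap (𝟙 L) S.f F (ComplexShape.up ℤ) p q n hpq).trans ?_
      simp
      rfl)
    (by
      rintro ⟨⟨p, q⟩, hpq⟩
      refine (ι_mapBifunctorMap (𝟙 L) S.g F (ComplexShape.up ℤ) p q n hpq).trans ?_
      simp
      rfl)
    (((S.map (F.map₂CochainComplex.obj L)).map (eval _ _ n)).zero)

/-! ### Degreewise split sequences, contractible complexes and quasi-isomorphisms -/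

omit [∀ ι : Type, HasColimitsOfShape (Discrete ι) D]
  [∀ ι : Type, HasExactColimitsOfShape (Discrete ι) D] in
theorem additive_flip_obj (Y : C₂) : (F.flip.obj Y).Additive := { }

theorem shortExact_map_flip_obj_of_split (S : ShortComplex (CochainComplex C₁ ℤ))
    (E : CochainComplex C₂ ℤ)
    (σ : ∀ n, Nonempty ((S.map (eval C₁ (ComplexShape.up ℤ) n)).Splitting)) :
    (S.map (F.map₂CochainComplex.flip.obj E)).ShortExact :=
  shortExact_map_flip_obj F S E (fun p q => by
    obtain ⟨s⟩ := σ p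
    have : (F.flip.obj (E.X q)).Additive := additive_flip_obj F _
    exact (s.map (F.flip.obj (E.X q))).shortExact)

theorem shortExact_map_obj_of_split (L : CochainComplex C₁ ℤ)
    (S : ShortComplex (CochainComplex C₂ ℤ))
    (σ : ∀ n, Nonempty ((S.map (eval C₂ (ComplexShape.up ℤ) n)).Splitting)) :
    (S.map (F.map₂CochainComplex.obj L)).ShortExact :=
  shortExact_map_obj F L S (fun p q => by
    obtain ⟨s⟩ := σ q
    exact (s.map (F.obj (L.X p))).shortExact)

omit [∀ ι : Type, HasColimitsOfShape (Discrete ι) D]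
  [∀ ι : Type, HasExactColimitsOfShape (Discrete ι) D] in
theorem acyclic_mapBifunctor_left (K : CochainComplex C₁ ℤ) (E : CochainComplex C₂ ℤ)
    (h : Homotopy (𝟙 K) 0) : (mapBifunctor K E F (ComplexShape.up ℤ)).Acyclic := by
  apply acyclic_of_homotopy_id_zero
  have H := mapBifunctorMapHomotopy₁ h (𝟙 E) F (ComplexShape.up ℤ)
  have e1 : mapBifunctorMap (𝟙 K) (𝟙 E) F (ComplexShape.up ℤ) = 𝟙 _ :=
    (F.map₂CochainComplex.flip.obj E).map_id K
  rw [e1, mapBifunctorMap_zero_left] at H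
  exact H

omit [∀ ι : Type, HasColimitsOfShape (Discrete ι) D]
  [∀ ι : Type, HasExactColimitsOfShape (Discrete ι) D] in
theorem acyclic_mapBifunctor_right (L : CochainComplex C₁ ℤ) (E : CochainComplex C₂ ℤ)
    (h : Homotopy (𝟙 E) 0) : (mapBifunctor L E F (ComplexShape.up ℤ)).Acyclic := by
  apply acyclic_of_homotopy_id_zero
  have H := mapBifunctorMapHomotopy₂ (𝟙 L) h F (ComplexShape.up ℤ)
  have e1 : mapBifunctorMap (𝟙 L) (𝟙 E) F (ComplexShape.up ℤ) = 𝟙 _ :=
    (F.map₂CochainComplex.flip.obj E).map_id L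
  rw [e1, mapBifunctorMap_zero_right] at H
  exact H

/-- If `Tot(F(cone φ, E))` is acyclic then `Tot(F(φ, E))` is a quasi-isomorphism. -/
theorem quasiIso_mapBifunctorMap_left {K L : CochainComplex C₁ ℤ} (φ : K ⟶ L)
    (E : CochainComplex C₂ ℤ)
    (h : (mapBifunctor (CochainComplex.mappingCone φ) E F (ComplexShape.up ℤ)).Acyclic) :
    QuasiIso (mapBifunctorMap φ (𝟙 E) F (ComplexShape.up ℤ)) :=
  quasiIso_map_of_acyclic_mappingCone (F.map₂CochainComplex.flip.obj E)
    (fun S σ => shortExact_map_flip_obj_of_split F S E σ)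
    (fun K ⟨hK⟩ => acyclic_mapBifunctor_left F K E hK) φ h

/-- If `Tot(F(L, cone φ))` is acyclic then `Tot(F(L, φ))` is a quasi-isomorphism. -/
theorem quasiIso_mapBifunctorMap_right (L : CochainComplex C₁ ℤ)
    {K K' : CochainComplex C₂ ℤ} (φ : K ⟶ K')
    (h : (mapBifunctor L (CochainComplex.mappingCone φ) F (ComplexShape.up ℤ)).Acyclic) :
    QuasiIso (mapBifunctorMap (𝟙 L) φ F (ComplexShape.up ℤ)) :=
  quasiIso_map_of_acyclic_mappingCone (F.map₂CochainComplex.obj L)
    (fun S σ => shortExact_map_obj_of_split F L S σ)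
    (fun K ⟨hK⟩ => acyclic_mapBifunctor_right F L K hK) φ h

/-- Two-out-of-three for acyclicity of `Tot(F(L, -))` along mapping cones. -/
theorem acyclic_mappingCone_right (L : CochainComplex C₁ ℤ) {K₁ K₂ : CochainComplex C₂ ℤ}
    (φ : K₁ ⟶ K₂) :
    ((mapBifunctor L K₁ F (ComplexShape.up ℤ)).Acyclic →
      (mapBifunctor L K₂ F (ComplexShape.up ℤ)).Acyclic →
        (mapBifunctor L (CochainComplex.mappingCone φ) F (ComplexShape.up ℤ)).Acyclic) ∧
    ((mapBifunctor L K₁ F (ComplexShape.up ℤ)).Acyclic →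
      (mapBifunctor L (CochainComplex.mappingCone φ) F (ComplexShape.up ℤ)).Acyclic →
        (mapBifunctor L K₂ F (ComplexShape.up ℤ)).Acyclic) ∧
    ((mapBifunctor L K₂ F (ComplexShape.up ℤ)).Acyclic →
      (mapBifunctor L (CochainComplex.mappingCone φ) F (ComplexShape.up ℤ)).Acyclic →
        (mapBifunctor L K₁ F (ComplexShape.up ℤ)).Acyclic) := by
  have hS : ((CochainComplex.mappingCone.triangleRotateShortComplex φ).map
      (F.map₂CochainComplex.obj L)).ShortExact :=
    shortExact_map_obj_of_split F L _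
      (fun n => ⟨CochainComplex.mappingCone.triangleRotateShortComplexSplitting φ n⟩)
  have e : (mapBifunctor L (K₁⟦(1 : ℤ)⟧) F (ComplexShape.up ℤ)).Acyclic ↔
      (mapBifunctor L K₁ F (ComplexShape.up ℤ)).Acyclic :=
    (acyclic_iff_of_iso (((F.map₂CochainComplex.obj L).commShiftIso (1 : ℤ)).app K₁)).trans
      (acyclic_shift_iff _ _)
  refine ⟨fun h₁ h₂ => ?_, fun h₁ h₃ => ?_, fun h₂ h₃ => ?_⟩
  · exact hS.acyclic_X₂ h₂ (e.2 h₁)
  · exact acyclic_X₁_of_shortExact hS h₃ (e.2 h₁)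
  · exact e.1 (acyclic_X₃_of_shortExact hS h₂ h₃)

end Bifunctor

end Groth.Agent.H31.KFlat
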