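import Groth.Agent.H31.KFlat
import Mathlib.Algebra.Homology.HomologicalComplexLimits
import Mathlib.Algebra.Homology.ShortComplex.ExactFunctor
import Mathlib.CategoryTheory.Limits.FunctorCategory.Basic
import Mathlib.CategoryTheory.Abelian.GrothendieckAxioms.Basic

/-!
# Total complexes of bifunctors and colimits (helper31 library)

* `exact_of_evaluation` : exactness in a functor category is checked pointwise;
* `acyclic_of_isColimit` : with exact `J`-shaped colimits, a colimit of acyclic complexes is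
  acyclic;
* `isColimitMapCocone` : `Tot(F(L, -))` preserves colimits of shape `J` if each `F(X, -)` does;
* `acyclic_mapBifunctor_of_isColimit`.
-/

set_option autoImplicit false

namespace Groth.Agent.H31.KFlat

open CategoryTheory Limits HomologicalComplex

section G2

variable {D : Type*} [Category D] [Abelian D] {J : Type*} [Category J]

theorem exact_of_evaluation (S : ShortComplex (J ⥤ D))
    (h : ∀ j, (S.map ((evaluation J D).obj j)).Exact) : S.Exact := by
  rw [ShortComplex.exact_iff_isZero_homology, Functor.isZero_iff]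
  intro j
  have e := S.mapHomologyIso ((evaluation J D).obj j)
  exact IsZero.of_iso ((ShortComplex.exact_iff_isZero_homology _).1 (h j)) e.symm

variable [HasColimitsOfShape J D] [HasExactColimitsOfShape J D]

/-- With exact colimits of shape `J`, a colimit of acyclic complexes is acyclic. -/
theorem acyclic_of_isColimit (Φ : J ⥤ CochainComplex D ℤ) (s : Cocone Φ) (hs : IsColimit s)
    (h : ∀ j, (Φ.obj j).Acyclic) : s.pt.Acyclic := by
  intro n
  rw [exactAt_iff' _ (n - 1) n (n + 1) (by simp) (by simp)]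
  let α : Φ ⋙ eval D (ComplexShape.up ℤ) (n - 1) ⟶ Φ ⋙ eval D (ComplexShape.up ℤ) n :=
    { app := fun j => (Φ.obj j).d (n - 1) n
      naturality := fun _ _ f => (Φ.map f).comm (n - 1) n }
  let β : Φ ⋙ eval D (ComplexShape.up ℤ) n ⟶ Φ ⋙ eval D (ComplexShape.up ℤ) (n + 1) :=
    { app := fun j => (Φ.obj j).d n (n + 1)
      naturality := fun _ _ f => (Φ.map f).comm n (n + 1) }
  let SJ : ShortComplex (J ⥤ D) := ShortComplex.mk α β (by
    ext j
    exact (Φ.obj j).d_comp_d _ _ _)
  have hSJ : SJ.Exact := exact_of_evaluation SJ (fun j =>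
    (exactAt_iff' (Φ.obj j) (n - 1) n (n + 1) (by simp) (by simp)).1 (h j n))
  have hc : (SJ.map colim).Exact := hSJ.map colim
  have h1 := isColimitOfPreserves (eval D (ComplexShape.up ℤ) (n - 1)) hs
  have h2 := isColimitOfPreserves (eval D (ComplexShape.up ℤ) n) hs
  have h3 := isColimitOfPreserves (eval D (ComplexShape.up ℤ) (n + 1)) hs
  let e1 := IsColimit.coconePointUniqueUpToIso (colimit.isColimit _) h1
  let e2 := IsColimit.coconePointUniqueUpToIso (colimit.isColimit _) h2
  let e3 := IsColimit.coconePointUniqueUpToIso (colimit.isColimit _) h3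
  refine ShortComplex.exact_of_iso (ShortComplex.isoMk e1 e2 e3 ?_ ?_) hc
  · apply colimit.hom_ext
    intro j
    refine Eq.symm ?_
    have a1 : colimit.ι _ j ≫ colimMap α = α.app j ≫ colimit.ι _ j := ι_colimMap α j
    have a2 : colimit.ι _ j ≫ e2.hom = (s.ι.app j).f n :=
      IsColimit.comp_coconePointUniqueUpToIso_hom (colimit.isColimit _) h2 j
    have a3 : colimit.ι _ j ≫ e1.hom = (s.ι.app j).f (n - 1) :=
      IsColimit.comp_coconePointUniqueUpToIso_hom (colimit.isColimit _) h1 j
    show colimit.ι _ j ≫ colimMap α ≫ e2.hom = colimit.ι _ j ≫ e1.hom ≫ s.pt.d (n - 1) n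
    rw [reassoc_of% a1, a2]
    exact ((s.ι.app j).comm (n - 1) n).symm.trans
      ((congrArg (fun x => x ≫ s.pt.d (n - 1) n) a3.symm).trans (Category.assoc _ _ _))
  · apply colimit.hom_ext
    intro j
    refine Eq.symm ?_
    have a1 : colimit.ι _ j ≫ colimMap β = β.app j ≫ colimit.ι _ j := ι_colimMap β j
    have a2 : colimit.ι _ j ≫ e3.hom = (s.ι.app j).f (n + 1) :=
      IsColimit.comp_coconePointUniqueUpToIso_hom (colimit.isColimit _) h3 j
    have a3 : colimit.ι _ j ≫ e2.hom = (s.ι.app j).f n :=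
      IsColimit.comp_coconePointUniqueUpToIso_hom (colimit.isColimit _) h2 j
    show colimit.ι _ j ≫ colimMap β ≫ e3.hom = colimit.ι _ j ≫ e2.hom ≫ s.pt.d n (n + 1)
    rw [reassoc_of% a1, a2]
    exact ((s.ι.app j).comm n (n + 1)).symm.trans
      ((congrArg (fun x => x ≫ s.pt.d n (n + 1)) a3.symm).trans (Category.assoc _ _ _))

end G2

section G1

variable {C₁ C₂ D : Type*} [Category C₁] [Category C₂] [Category D]
  [Abelian C₁] [Abelian C₂] [Abelian D]
  (F : C₁ ⥤ C₂ ⥤ D) [F.Additive] [∀ X, (F.obj X).Additive]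
  [∀ (K₁ : CochainComplex C₁ ℤ) (K₂ : CochainComplex C₂ ℤ),
    HasMapBifunctor K₁ K₂ F (ComplexShape.up ℤ)]

theorem ι_mapBifunctorMap_id_left (L : CochainComplex C₁ ℤ) {K K' : CochainComplex C₂ ℤ}
    (g : K ⟶ K') (p q n : ℤ)
    (h : ComplexShape.π (ComplexShape.up ℤ) (ComplexShape.up ℤ) (ComplexShape.up ℤ) (p, q) = n) :
    ιMapBifunctor L K F (ComplexShape.up ℤ) p q n h ≫
        (mapBifunctorMap (𝟙 L) g F (ComplexShape.up ℤ)).f n =
      (F.obj (L.X p)).map (g.f q) ≫ ιMapBifunctor L K' F (ComplexShape.up ℤ) p q n h := by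
  rw [ι_mapBifunctorMap]
  simp

variable {J : Type*} [Category J] [∀ X : C₁, PreservesColimitsOfShape J (F.obj X)]
  [HasColimitsOfShape J C₂]

/-- The universal property of `Tot(F(L, colim))` in a fixed degree, in clean terms. -/
theorem existsUnique_desc (L : CochainComplex C₁ ℤ) (Φ : J ⥤ CochainComplex C₂ ℤ)
    (s : Cocone Φ) (hs : IsColimit s) (n : ℤ) {Z : D}
    (g : ∀ j, (mapBifunctor L (Φ.obj j) F (ComplexShape.up ℤ)).X n ⟶ Z)
    (hg : ∀ {j j' : J} (f : j ⟶ j'),
      (mapBifunctorMap (𝟙 L) (Φ.map f) F (ComplexShape.up ℤ)).f n ≫ g j' = g j) :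
    ∃! m : (mapBifunctor L s.pt F (ComplexShape.up ℤ)).X n ⟶ Z,
      ∀ j, (mapBifunctorMap (𝟙 L) (s.ι.app j) F (ComplexShape.up ℤ)).f n ≫ m = g j := by
  have hpq : ∀ p q : ℤ, IsColimit ((F.obj (L.X p)).mapCocone
      ((eval C₂ (ComplexShape.up ℤ) q).mapCocone s)) :=
    fun p q => isColimitOfPreserves (F.obj (L.X p))
      (isColimitOfPreserves (eval C₂ (ComplexShape.up ℤ) q) hs)
  let tc : ∀ (p q : ℤ)
      (_ : ComplexShape.π (ComplexShape.up ℤ) (ComplexShape.up ℤ) (ComplexShape.up ℤ) (p, q) = n),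
      Cocone ((Φ ⋙ eval C₂ (ComplexShape.up ℤ) q) ⋙ F.obj (L.X p)) := fun p q h =>
    { pt := Z
      ι :=
        { app := fun j => ιMapBifunctor L (Φ.obj j) F (ComplexShape.up ℤ) p q n h ≫ g j
          naturality := fun j j' f => by
            have h1 := ι_mapBifunctorMap_id_left F L (Φ.map f) p q n h
            have h3 : (F.obj (L.X p)).map ((Φ.map f).f q) ≫
                ιMapBifunctor L (Φ.obj j') F (ComplexShape.up ℤ) p q n h ≫ g j' =
              ιMapBifunctor L (Φ.obj j) F (ComplexShape.up ℤ) p q n h ≫ g j := by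
              rw [← reassoc_of% h1, hg f]
            exact h3.trans (Category.comp_id _).symm } }
  let dd : ∀ (p q : ℤ)
      (_ : ComplexShape.π (ComplexShape.up ℤ) (ComplexShape.up ℤ) (ComplexShape.up ℤ) (p, q) = n),
      (F.obj (L.X p)).obj (s.pt.X q) ⟶ Z := fun p q h => (hpq p q).desc (tc p q h)
  have hfac : ∀ (p q : ℤ)
      (h : ComplexShape.π (ComplexShape.up ℤ) (ComplexShape.up ℤ) (ComplexShape.up ℤ) (p, q) = n)
      (j : J), (F.obj (L.X p)).map ((s.ι.app j).f q) ≫ dd p q h =
        ιMapBifunctor L (Φ.obj j) F (ComplexShape.up ℤ) p q n h ≫ g j :=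
    fun p q h j => (hpq p q).fac (tc p q h) j
  refine ⟨mapBifunctorDesc dd, fun j => ?_, fun m hm => ?_⟩
  · apply mapBifunctor.hom_ext
    intro p q h
    have h1 := ι_mapBifunctorMap_id_left F L (s.ι.app j) p q n h
    exact (Category.assoc _ _ _).symm.trans
      ((congrArg (fun x => x ≫ mapBifunctorDesc dd) h1).trans
      ((Category.assoc _ _ _).trans
      ((congrArg (fun x => (F.obj (L.X p)).map ((s.ι.app j).f q) ≫ x)
        (ι_mapBifunctorDesc dd p q h)).trans (hfac p q h j))))
  · apply mapBifunctor.hom_ext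
    intro p q h
    rw [ι_mapBifunctorDesc]
    refine (hpq p q).uniq (tc p q h)
      (ιMapBifunctor L s.pt F (ComplexShape.up ℤ) p q n h ≫ m) (fun j => ?_)
    have h1 := ι_mapBifunctorMap_id_left F L (s.ι.app j) p q n h
    exact (Category.assoc _ _ _).symm.trans
      ((congrArg (fun x => x ≫ m) h1.symm).trans
      ((Category.assoc _ _ _).trans
      (congrArg (fun x => ιMapBifunctor L (Φ.obj j) F (ComplexShape.up ℤ) p q n h ≫ x) (hm j))))

/-- `Tot(F(L, -))` preserves colimits of shape `J` when each `F(X, -)` does. -/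
noncomputable def isColimitMapCocone (L : CochainComplex C₁ ℤ) (Φ : J ⥤ CochainComplex C₂ ℤ)
    (s : Cocone Φ) (hs : IsColimit s) :
    IsColimit ((F.map₂CochainComplex.obj L).mapCocone s) := by
  refine isColimitOfEval _ _ (fun n => ?_)
  refine IsColimit.ofExistsUnique (fun t => ?_)
  exact existsUnique_desc F L Φ s hs n (fun j => t.ι.app j) (fun f => t.w f)

variable [HasColimitsOfShape J D] [HasExactColimitsOfShape J D]

theorem acyclic_mapBifunctor_of_isColimit (L : CochainComplex C₁ ℤ)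
    (Φ : J ⥤ CochainComplex C₂ ℤ) (s : Cocone Φ) (hs : IsColimit s)
    (h : ∀ j, (mapBifunctor L (Φ.obj j) F (ComplexShape.up ℤ)).Acyclic) :
    (mapBifunctor L s.pt F (ComplexShape.up ℤ)).Acyclic :=
  acyclic_of_isColimit (Φ ⋙ F.map₂CochainComplex.obj L) _ (isColimitMapCocone F L Φ s hs) h

end G1

end Groth.Agent.H31.KFlat
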