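import Groth.Agent.H31.KFlatResolutionGen
import Groth.Agent.H31.ConeColim
import Mathlib.Algebra.Homology.HomotopyCategory.ShortExact
import Mathlib.Algebra.Homology.DerivedCategory.Basic

/-!
# Factorisation of maps out of K-flat complexes (helper31 library)

* `quasiIso_mappingCone_map` : a map of mapping cones induced by quasi-isomorphisms is a
  quasi-isomorphism (five lemma in the derived category);
* `Resolution.exists_factorization` : abstract factorisation `a = b ≫ c` with `c` a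
  quasi-isomorphism from a "K-flat" complex.
-/

set_option autoImplicit false
set_option backward.isDefEq.respectTransparency false

namespace Groth.Agent.H31.Resolution

open CategoryTheory Limits HomologicalComplex CochainComplex Pretriangulated

universe v u

section

variable {C : Type u} [Category.{v} C] [Abelian C]
  {K₁ L₁ K₂ L₂ : CochainComplex C ℤ} (φ₁ : K₁ ⟶ L₁) (φ₂ : K₂ ⟶ L₂)
  (a : K₁ ⟶ K₂) (b : L₁ ⟶ L₂) (comm : φ₁ ≫ b = a ≫ φ₂)

theorem quasiIso_mappingCone_map [QuasiIso a] [QuasiIso b] :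
    QuasiIso (mappingCone.map φ₁ φ₂ a b comm) := by
  let _ : HasDerivedCategory C := HasDerivedCategory.standard C
  rw [← DerivedCategory.isIso_Q_map_iff_quasiIso]
  let ψ := DerivedCategory.Q.mapTriangle.map (mappingCone.triangleMap φ₁ φ₂ a b comm)
  have h1 : IsIso ψ.hom₁ := (DerivedCategory.isIso_Q_map_iff_quasiIso _ a).2 inferInstance
  have h2 : IsIso ψ.hom₂ := (DerivedCategory.isIso_Q_map_iff_quasiIso _ b).2 inferInstance
  exact isIso₃_of_isIso₁₂ ψ (DerivedCategory.mappingCone_triangle_distinguished φ₁)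
    (DerivedCategory.mappingCone_triangle_distinguished φ₂) h1 h2

theorem inr_map : mappingCone.inr φ₁ ≫ mappingCone.map φ₁ φ₂ a b comm = b ≫ mappingCone.inr φ₂ := by
  ext n
  exact ConeColim.inr_f_map_f φ₁ φ₂ a b comm n

end

variable {D : Type u} [Category.{v} D] [Abelian D]

/-- Abstract factorisation lemma. -/
theorem exists_factorization (KF : CochainComplex D ℤ → Prop) (Fl : D → Prop)
    (h_res : ∀ G : CochainComplex D ℤ, ∃ (P : CochainComplex D ℤ) (q : P ⟶ G),
      KF P ∧ (∀ n, Fl (P.X n)) ∧ QuasiIso q ∧ ∀ n, Epi (q.f n))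
    (h_cone : ∀ {P Q : CochainComplex D ℤ} (f : P ⟶ Q), KF P → KF Q → KF (mappingCone f))
    (h_biprod : ∀ P Q : CochainComplex D ℤ, KF P → KF Q → KF (P ⊞ Q))
    (h_Fl_iso : ∀ {X Y : D}, (X ≅ Y) → Fl X → Fl Y)
    (h_Fl_biprod : ∀ X Y : D, Fl X → Fl Y → Fl (X ⊞ Y))
    {K L : CochainComplex D ℤ} (a : K ⟶ L) (hK : KF K) :
    ∃ (N : CochainComplex D ℤ) (b : K ⟶ N) (c : N ⟶ L), KF N ∧ QuasiIso c ∧ b ≫ c = a ∧
      ((∀ n, Fl (K.X n)) → ∀ n, Fl (N.X n)) := by
  obtain ⟨L', r, hL'KF, hL'Fl, hr, hrepi⟩ := h_res L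
  have hrE : Epi r := HomologicalComplex.epi_of_epi_f r hrepi
  let a' : K ⊞ L' ⟶ L := biprod.desc a r
  have ha'E : Epi a' := epi_of_epi_fac (biprod.inr_desc a r)
  let S : ShortComplex (CochainComplex D ℤ) :=
    ShortComplex.mk (kernel.ι a') a' (kernel.condition a')
  have hS : S.ShortExact := ShortComplex.ShortExact.mk' (ShortComplex.exact_kernel a')
    (inferInstanceAs (Mono (kernel.ι a'))) ha'E
  obtain ⟨M', m, hM'KF, hM'Fl, hm, -⟩ := h_res (kernel a')
  let θ : M' ⟶ K ⊞ L' := m ≫ kernel.ι a'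
  have comm : θ ≫ 𝟙 (K ⊞ L') = m ≫ S.f := Category.comp_id _
  let κ : mappingCone θ ⟶ mappingCone S.f := mappingCone.map θ S.f m (𝟙 _) comm
  have hκ : QuasiIso κ := quasiIso_mappingCone_map θ S.f m (𝟙 _) comm
  have hd : QuasiIso (mappingCone.descShortComplex S) := mappingCone.quasiIso_descShortComplex hS
  refine ⟨mappingCone θ, biprod.inl ≫ mappingCone.inr θ, κ ≫ mappingCone.descShortComplex S,
    h_cone θ hM'KF (h_biprod K L' hK hL'KF), inferInstance, ?_, fun hKFl n => ?_⟩
  · rw [Category.assoc, ← Category.assoc (mappingCone.inr θ), inr_map, Category.id_comp,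
      mappingCone.inr_descShortComplex]
    exact biprod.inl_desc a r
  · refine h_Fl_iso (homotopyCofiber.XIsoBiprod θ n (n + 1) rfl).symm
      (h_Fl_biprod _ _ (hM'Fl (n + 1)) ?_)
    exact h_Fl_iso ((eval D (ComplexShape.up ℤ) n).mapBiprod K L').symm
      (h_Fl_biprod _ _ (hKFl n) (hL'Fl n))

end Groth.Agent.H31.Resolution
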