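import Groth.Agent.H31.KFlat

/-!
# Total complexes `Tot(F(L, S))` for `S` concentrated in one degree (helper31 library)
-/

set_option autoImplicit false

namespace Groth.Agent.H31.KFlat

open CategoryTheory Limits HomologicalComplex

section CofanZero

variable {D : Type*} [Category D] [HasZeroMorphisms D] {ι : Type*}

/-- In a coproduct all of whose summands but one are zero, the inclusion of the remaining
summand is an isomorphism. -/
theorem isIso_inj_of_isZero {f : ι → D} (c : Cofan f) (hc : IsColimit c) (i₀ : ι)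
    (hz : ∀ i, i ≠ i₀ → IsZero (f i)) : IsIso (c.inj i₀) := by
  classical
  let r : c.pt ⟶ f i₀ := Cofan.IsColimit.desc hc
    (fun i => if h : i = i₀ then eqToHom (by rw [h]) else 0)
  have hr : c.inj i₀ ≫ r = 𝟙 _ := by
    rw [Cofan.IsColimit.fac, dif_pos rfl]
    rfl
  refine ⟨r, hr, ?_⟩
  apply Cofan.IsColimit.hom_ext hc
  intro i
  by_cases h : i = i₀
  · subst h
    rw [reassoc_of% hr, Category.comp_id]
  · exact (hz i h).eq_of_src _ _

end CofanZero

section Single

variable {C₁ C₂ D : Type*} [Category C₁] [Category C₂] [Category D]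
  [Abelian C₁] [Abelian C₂] [Abelian D]
  (F : C₁ ⥤ C₂ ⥤ D) [F.Additive] [∀ X, (F.obj X).Additive]
  [∀ (K₁ : CochainComplex C₁ ℤ) (K₂ : CochainComplex C₂ ℤ),
    HasMapBifunctor K₁ K₂ F (ComplexShape.up ℤ)]

theorem isIso_ιMapBifunctor_of_isZero (L : CochainComplex C₁ ℤ) (S : CochainComplex C₂ ℤ)
    (j : ℤ) (hS : ∀ q, q ≠ j → IsZero (S.X q)) (p n : ℤ)
    (h : ComplexShape.π (ComplexShape.up ℤ) (ComplexShape.up ℤ) (ComplexShape.up ℤ) (p, j) = n) :
    IsIso (ιMapBifunctor L S F (ComplexShape.up ℤ) p j n h) := by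
  refine isIso_inj_of_isZero ((gr F L S).cofanMapObj pp n)
    ((gr F L S).isColimitCofanMapObj pp n) ⟨(p, j), h⟩ ?_
  rintro ⟨⟨p', q'⟩, hpq'⟩ hne
  have hq : q' ≠ j := by
    rintro rfl
    apply hne
    have h1 : p' + q' = n := hpq'
    have h2 : p + q' = n := h
    have h3 : p' = p := by omega
    subst h3
    rfl
  exact (F.obj (L.X p')).map_isZero (hS q' hq)

/-- If `S` is concentrated in degree `j` and `F(-, S^j)` is exact, then `Tot(F(L, S))` is
acyclic for every acyclic `L`. -/
theorem acyclic_mapBifunctor_of_concentrated (L : CochainComplex C₁ ℤ)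
    (S : CochainComplex C₂ ℤ) (j : ℤ) (hS : ∀ q, q ≠ j → IsZero (S.X q)) (hL : L.Acyclic)
    [PreservesFiniteLimits (F.flip.obj (S.X j))] [PreservesFiniteColimits (F.flip.obj (S.X j))] :
    (mapBifunctor L S F (ComplexShape.up ℤ)).Acyclic := by
  intro n
  rw [exactAt_iff' _ (n - 1) n (n + 1) (by simp) (by simp)]
  have hG : (F.flip.obj (S.X j)).Additive := additive_flip_obj F _
  have hex : (L.sc' (n - 1 - j) (n - j) (n + 1 - j)).Exact :=
    (L.exactAt_iff' _ _ _ (by simp; omega) (by simp; omega)).1 (hL (n - j))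
  have hex' := hex.map (F.flip.obj (S.X j))
  have π1 : ComplexShape.π (ComplexShape.up ℤ) (ComplexShape.up ℤ) (ComplexShape.up ℤ)
      (n - 1 - j, j) = n - 1 := by simp
  have π2 : ComplexShape.π (ComplexShape.up ℤ) (ComplexShape.up ℤ) (ComplexShape.up ℤ)
      (n - j, j) = n := by simp
  have π3 : ComplexShape.π (ComplexShape.up ℤ) (ComplexShape.up ℤ) (ComplexShape.up ℤ)
      (n + 1 - j, j) = n + 1 := by simp
  have i1 := isIso_ιMapBifunctor_of_isZero F L S j hS (n - 1 - j) (n - 1) π1
  have i2 := isIso_ιMapBifunctor_of_isZero F L S j hS (n - j) n π2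
  have i3 := isIso_ιMapBifunctor_of_isZero F L S j hS (n + 1 - j) (n + 1) π3
  have hd0 : S.d j (j + 1) = 0 := (hS (j + 1) (by omega)).eq_of_tgt _ _
  have key : ∀ (a b m m' : ℤ) (hab : a + 1 = b)
      (ha : ComplexShape.π (ComplexShape.up ℤ) (ComplexShape.up ℤ) (ComplexShape.up ℤ) (a, j) = m)
      (hb : ComplexShape.π (ComplexShape.up ℤ) (ComplexShape.up ℤ) (ComplexShape.up ℤ) (b, j) = m'),
      ιMapBifunctor L S F (ComplexShape.up ℤ) a j m ha ≫
          (mapBifunctor L S F (ComplexShape.up ℤ)).d m m' =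
        (F.map (L.d a b)).app (S.X j) ≫ ιMapBifunctor L S F (ComplexShape.up ℤ) b j m' hb := by
    intro a b m m' hab ha hb
    have hm : m + 1 = m' := by
      have h1 : a + j = m := ha
      have h2 : b + j = m' := hb
      omega
    rw [mapBifunctor.d_eq, Preadditive.comp_add, mapBifunctor.ι_D₁, mapBifunctor.ι_D₂,
      mapBifunctor.d₁_eq L S F (ComplexShape.up ℤ) (show (ComplexShape.up ℤ).Rel a b from hab)
        j m' hb,
      mapBifunctor.d₂_eq L S F (ComplexShape.up ℤ) a
        (show (ComplexShape.up ℤ).Rel j (j + 1) from rfl) m' (by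
          show a + (j + 1) = m'
          have h1 : a + j = m := ha
          omega),
      hd0, Functor.map_zero, zero_comp, smul_zero, add_zero]
    have hε : ComplexShape.ε₁ (ComplexShape.up ℤ) (ComplexShape.up ℤ) (ComplexShape.up ℤ)
        (a, j) = 1 := rfl
    rw [hε, one_smul]
  refine ShortComplex.exact_of_iso (ShortComplex.isoMk
    (@asIso _ _ _ _ _ i1) (@asIso _ _ _ _ _ i2) (@asIso _ _ _ _ _ i3) ?_ ?_) hex'
  · exact key (n - 1 - j) (n - j) (n - 1) n (by omega) π1 π2
  · exact key (n - j) (n + 1 - j) n (n + 1) (by omega) π2 π3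

end Single

end Groth.Agent.H31.KFlat
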