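import Groth.Agent.H31.KFlatResolution
import Groth.Agent.H31.KFlatColim
import Groth.Agent.H31.KFlatSingle
import Groth.Agent.H31.FlatAcyclic
import Mathlib.CategoryTheory.Abelian.GrothendieckAxioms.Colim

/-!
# K-flat resolutions for a tensor-like bifunctor (helper31 library)
-/

set_option autoImplicit false
set_option backward.isDefEq.respectTransparency false

namespace Groth.Agent.H31.KFlat

open CategoryTheory Limits HomologicalComplex CochainComplex

variable {A : Type*} [Category A] [Abelian A]
  (T : A ⥤ A ⥤ A) [T.Additive] [∀ X, (T.obj X).Additive]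
  [∀ (K₁ : CochainComplex A ℤ) (K₂ : CochainComplex A ℤ),
    HasMapBifunctor K₁ K₂ T (ComplexShape.up ℤ)]

/-- A contractible complex is "K-flat". -/
theorem acyclic_mapBifunctor_of_contractible (L P : CochainComplex A ℤ)
    (h : Homotopy (𝟙 P) 0) : (mapBifunctor L P T (ComplexShape.up ℤ)).Acyclic := by
  apply acyclic_of_homotopy_id_zero
  have H := mapBifunctorMapHomotopy₂ (𝟙 L) h T (ComplexShape.up ℤ)
  have e1 : mapBifunctorMap (𝟙 L) (𝟙 P) T (ComplexShape.up ℤ) = 𝟙 _ :=
    (T.map₂CochainComplex.obj L).map_id P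
  have e2 : mapBifunctorMap (𝟙 L) (0 : P ⟶ P) T (ComplexShape.up ℤ) = 0 :=
    mapBifunctorMap_zero_right T (𝟙 L) P P
  rw [e1, e2] at H
  exact H

variable {T}

theorem preservesFiniteLimits_flip_obj_of_flat (hT : TensorLike T) (N : A)
    (hN : (T.flip.obj N).PreservesMonomorphisms) : PreservesFiniteLimits (T.flip.obj N) := by
  have hc := hT.right_colim N
  have ha : (T.flip.obj N).Additive := additive_flip_obj T N
  rw [Functor.preservesFiniteLimits_iff_forall_exact_map_and_mono]
  intro S hS
  have := hS.epi_g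
  have := hS.mono_f
  exact ⟨hS.exact.map_of_epi_of_preservesCokernel _ inferInstance inferInstance,
    inferInstance⟩

theorem flat_of_iso {X Y : A} (e : X ≅ Y) (h : (T.flip.obj X).PreservesMonomorphisms) :
    (T.flip.obj Y).PreservesMonomorphisms :=
  Functor.PreservesMonomorphisms.of_iso (T.flip.mapIso e)

theorem flat_biprod (hT : TensorLike T) (X Y : A) (hX : (T.flip.obj X).PreservesMonomorphisms)
    (hY : (T.flip.obj Y).PreservesMonomorphisms) :
    (T.flip.obj (X ⊞ Y)).PreservesMonomorphisms :=
  hT.flat_middle (ShortComplex.mk (biprod.inl : X ⟶ X ⊞ Y) (biprod.snd : X ⊞ Y ⟶ Y) (by simp))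
    (ShortComplex.Splitting.ofHasBinaryBiproduct X Y).shortExact hX hY

variable [∀ X : A, PreservesColimitsOfShape ℕ (T.obj X)] [HasColimitsOfShape ℕ A]
  [HasExactColimitsOfShape ℕ A]

theorem flat_of_isColimit (G : ℕ ⥤ A) (c : Cocone G) (hc : IsColimit c)
    (hG : ∀ n, (T.flip.obj (G.obj n)).PreservesMonomorphisms) :
    (T.flip.obj c.pt).PreservesMonomorphisms := by
  constructor
  intro M M' u hu
  let φ : G ⋙ T.obj M ⟶ G ⋙ T.obj M' := Functor.whiskerLeft G (T.map u)
  have hφ : ∀ i, Mono (φ.app i) := fun i => (hG i).preserves u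
  have : Mono φ := NatTrans.mono_of_mono_app φ
  exact colim.map_mono' φ (isColimitOfPreserves (T.obj M) hc)
    (isColimitOfPreserves (T.obj M') hc) ((T.map u).app c.pt)
    (fun j => (T.map u).naturality (c.ι.app j))

variable [∀ ι : Type, HasColimitsOfShape (Discrete ι) A]
  [∀ ι : Type, HasExactColimitsOfShape (Discrete ι) A]

/-- Existence of K-flat resolutions with flat terms which are degreewise epimorphisms. -/
theorem exists_kflat_resolution (hT : TensorLike T) (K : CochainComplex A ℤ) :
    ∃ (P : CochainComplex A ℤ) (q : P ⟶ K),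
      (∀ L : CochainComplex A ℤ, L.Acyclic →
        (mapBifunctor L P T (ComplexShape.up ℤ)).Acyclic) ∧
      (∀ n, (T.flip.obj (P.X n)).PreservesMonomorphisms) ∧ QuasiIso q ∧ ∀ n, Epi (q.f n) := by
  refine Resolution.exists_resolution
    (fun P => ∀ L : CochainComplex A ℤ, L.Acyclic →
      (mapBifunctor L P T (ComplexShape.up ℤ)).Acyclic)
    (fun X => (T.flip.obj X).PreservesMonomorphisms) hT.enough
    (fun e h => flat_of_iso e h) (fun X hX => hT.flat_of_isZero hX)
    (fun X Y hX hY => flat_biprod hT X Y hX hY)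
    (fun G c hc hG => flat_of_isColimit G c hc hG) ?_ ?_ ?_ ?_ K
  · intro F i hF L hL
    have hF' : (T.flip.obj (((singleFunctor A i).obj F).X i)).PreservesMonomorphisms :=
      flat_of_iso (singleObjXSelf (ComplexShape.up ℤ) i F).symm hF
    have h1 := preservesFiniteLimits_flip_obj_of_flat hT _ hF'
    have h2 := hT.right_colim (((singleFunctor A i).obj F).X i)
    exact acyclic_mapBifunctor_of_concentrated T L ((singleFunctor A i).obj F) i
      (fun q hq => isZero_single_obj_X (ComplexShape.up ℤ) i F q hq) hL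
  · intro P Q f hP hQ L hL
    exact (acyclic_mappingCone_right T L f).1 (hP L hL) (hQ L hL)
  · intro P h L _
    exact acyclic_mapBifunctor_of_contractible T L P h
  · intro Φ s hs h L hL
    exact acyclic_mapBifunctor_of_isColimit T L Φ s hs (fun j => h j L hL)

end Groth.Agent.H31.KFlat
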