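import Groth.Agent.H31.KFlatFactor
import Groth.Agent.H31.KFlatResolutionGen

/-!
# Factorisation through K-flat complexes for a tensor-like bifunctor (helper31 library)
-/

set_option autoImplicit false
set_option backward.isDefEq.respectTransparency false

namespace Groth.Agent.H31.KFlat

open CategoryTheory Limits HomologicalComplex CochainComplex

universe v u

variable {A : Type u} [Category.{v} A] [Abelian A]
  (T : A ⥤ A ⥤ A) [T.Additive] [∀ X, (T.obj X).Additive]
  [∀ (K₁ : CochainComplex A ℤ) (K₂ : CochainComplex A ℤ),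
    HasMapBifunctor K₁ K₂ T (ComplexShape.up ℤ)]
  [∀ ι : Type, HasColimitsOfShape (Discrete ι) A]
  [∀ ι : Type, HasExactColimitsOfShape (Discrete ι) A]

/-- "K-flat" complexes are stable under binary biproducts. -/
theorem acyclic_mapBifunctor_biprod (L P Q : CochainComplex A ℤ)
    (hP : (mapBifunctor L P T (ComplexShape.up ℤ)).Acyclic)
    (hQ : (mapBifunctor L Q T (ComplexShape.up ℤ)).Acyclic) :
    (mapBifunctor L (P ⊞ Q) T (ComplexShape.up ℤ)).Acyclic := by
  let S : ShortComplex (CochainComplex A ℤ) :=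
    ShortComplex.mk (biprod.inl : P ⟶ P ⊞ Q) (biprod.snd : P ⊞ Q ⟶ Q) (by simp)
  let s : S.Splitting := ShortComplex.Splitting.ofHasBinaryBiproduct P Q
  have hS : (S.map (T.map₂CochainComplex.obj L)).ShortExact :=
    shortExact_map_obj_of_split T L S (fun n => ⟨s.map (eval A (ComplexShape.up ℤ) n)⟩)
  exact hS.acyclic_X₂ hP hQ

variable {T}
variable [∀ X : A, PreservesColimitsOfShape ℕ (T.obj X)] [HasColimitsOfShape ℕ A]
  [HasExactColimitsOfShape ℕ A]

/-- Factorisation of a map out of a "K-flat" complex through a "K-flat" complex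
quasi-isomorphic to the target. -/
theorem exists_kflat_factorization (hT : TensorLike T) {K L : CochainComplex A ℤ} (a : K ⟶ L)
    (hK : ∀ L' : CochainComplex A ℤ, L'.Acyclic →
        (mapBifunctor L' K T (ComplexShape.up ℤ)).Acyclic) :
    ∃ (N : CochainComplex A ℤ) (b : K ⟶ N) (c : N ⟶ L),
      (∀ L' : CochainComplex A ℤ, L'.Acyclic →
        (mapBifunctor L' N T (ComplexShape.up ℤ)).Acyclic) ∧ QuasiIso c ∧ b ≫ c = a ∧
      ((∀ n, (T.flip.obj (K.X n)).PreservesMonomorphisms) →
        ∀ n, (T.flip.obj (N.X n)).PreservesMonomorphisms) :=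
  Resolution.exists_factorization
    (fun P => ∀ L' : CochainComplex A ℤ, L'.Acyclic →
      (mapBifunctor L' P T (ComplexShape.up ℤ)).Acyclic)
    (fun X => (T.flip.obj X).PreservesMonomorphisms)
    (fun G => exists_kflat_resolution hT G)
    (fun f hP hQ L' hL' => (acyclic_mappingCone_right T L' f).1 (hP L' hL') (hQ L' hL'))
    (fun P Q hP hQ L' hL' => acyclic_mapBifunctor_biprod T L' P Q (hP L' hL') (hQ L' hL'))
    (fun e h => flat_of_iso e h)
    (fun X Y hX hY => flat_biprod hT X Y hX hY) a hK

end Groth.Agent.H31.KFlat
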