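import Groth.Agent.H31.KFlatFactorGen
import Groth.Agent.H31.KFlatResolutionSite

/-!
# Factorisation through K-flat complexes on ringed sites and over rings (helper31 library)
-/

set_option autoImplicit false
universe u
open CategoryTheory CategoryTheory.Limits HomologicalComplex MonoidalCategory

namespace Groth.Agent.H31.KFlat

variable {C : Type u} [SmallCategory C] {J : GrothendieckTopology C} {O : Sheaf J CommRingCat.{u}}

/-- A map out of a K-flat complex of `O`-modules factors through a K-flat complex
quasi-isomorphic to the target (with flat terms if the source has flat terms). -/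
theorem exists_isKFlat_factorization {K L : CochainComplex (ModSite.Mod O) ℤ} (a : K ⟶ L)
    (hK : ModSite.IsKFlat K) :
    ∃ (N : CochainComplex (ModSite.Mod O) ℤ) (b : K ⟶ N) (c : N ⟶ L), ModSite.IsKFlat N ∧
      QuasiIso c ∧ b ≫ c = a ∧
      ((∀ n : ℤ, ModSite.IsFlat (K.X n)) → ∀ n : ℤ, ModSite.IsFlat (N.X n)) := by
  have := hasExactColimitsOfShape_nat_Mod (O := O)
  obtain ⟨N, b, c, h1, h2, h3, h4⟩ :=
    exists_kflat_factorization (T := ModSite.tensorBi O) tensorLike_tensorBi a
      ((isKFlat_iff K).1 hK)
  exact ⟨N, b, c, (isKFlat_iff N).2 h1, h2, h3, fun hKFl n =>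
    (isFlat_iff_preservesMonomorphisms _).2
      (h4 (fun m => (isFlat_iff_preservesMonomorphisms _).1 (hKFl m)) n)⟩

end Groth.Agent.H31.KFlat

namespace Groth.Agent.H31.KFlatRing

open Groth.Agent.H31.KFlat

variable {R : Type u} [CommRing R]

/-- A map out of a K-flat complex of `R`-modules factors through a K-flat complex
quasi-isomorphic to the target (with flat terms if the source has flat terms). -/
theorem exists_isKFlat_factorization {K L : DRing.Cx R} (a : K ⟶ L)
    (hK : DRing.IsKFlat R K) :
    ∃ (N : DRing.Cx R) (b : K ⟶ N) (c : N ⟶ L), DRing.IsKFlat R N ∧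
      QuasiIso c ∧ b ≫ c = a ∧ (DRing.TermwiseFlat K → DRing.TermwiseFlat N) := by
  have := hasExactColimitsOfShape_nat (R := R)
  obtain ⟨N, b, c, h1, h2, h3, h4⟩ :=
    exists_kflat_factorization (T := curriedTensor (ModuleCat.{u} R)) tensorLike a
      ((isKFlat_iff K).1 hK)
  exact ⟨N, b, c, (isKFlat_iff N).2 h1, h2, h3, fun hKFl n =>
    flat_of_preservesMono _
      (h4 (fun m => by
        have := hKFl m
        exact tensorRight_preservesMono_of_flat (K.X m)) n)⟩

end Groth.Agent.H31.KFlatRing
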