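import Groth.Agent.H31.SeqColimHomology
import Groth.Agent.H31.CellAttach
import Groth.Agent.H31.ConeColim
import Groth.Agent.H31.KFlat

/-!
# Resolutions by iterated cell attachment (helper31 library)

Given functorial-free "covers" `πc X : Fc X ⟶ X` (epimorphisms) in an abelian category with exact
sequential colimits, every map `φ₀ : P₀ ⟶ K` of cochain complexes is the start of a sequence
`P₀ ⟶ P₁ ⟶ ...` over `K`, each `P_{n+1}` obtained from `P_n` by attaching one cell `Fc(-)[-j]`,
such that the induced map from the colimit to `K` is a quasi-isomorphism.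
-/

set_option autoImplicit false
set_option backward.isDefEq.respectTransparency false

namespace Groth.Agent.H31.Resolution

open CategoryTheory Limits HomologicalComplex CochainComplex HomComplex

variable {D : Type*} [Category D] [Abelian D] (K : CochainComplex D ℤ)
  (Fc : D → D) (πc : ∀ X, Fc X ⟶ X) [∀ X, Epi (πc X)]

/-- A complex over `K`. -/
structure Stage where
  /-- the complex -/
  P : CochainComplex D ℤ
  /-- the structure map -/
  φ : P ⟶ K

variable {K}

namespace Stage

variable (st : Stage K) (i : ℤ)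

/-- The universal cycle of degree `i` of the mapping cone, from the chosen cover. -/
noncomputable def z : Fc ((mappingCone st.φ).cycles i) ⟶ (mappingCone st.φ).X i :=
  πc _ ≫ (mappingCone st.φ).iCycles i

theorem hz : st.z Fc πc i ≫ (mappingCone st.φ).d i (i + 1) = 0 := by
  simp [z]

/-- Attach a cell killing the homology of the mapping cone in degree `i`. -/
noncomputable def next : Stage K where
  P := mappingCone (Cell.cellMap st.φ i (st.z Fc πc i) (st.hz Fc πc i))
  φ := Cell.cellDesc st.φ i (st.z Fc πc i) (st.hz Fc πc i)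

/-- The inclusion into the next stage. -/
noncomputable def nextMap : st.P ⟶ (st.next Fc πc i).P :=
  mappingCone.inr _

theorem nextMap_φ : st.nextMap Fc πc i ≫ (st.next Fc πc i).φ = st.φ :=
  Cell.inr_cellDesc _ _ _ _

theorem homologyMap_eq_zero :
    homologyMap (mappingCone.map st.φ (st.next Fc πc i).φ (st.nextMap Fc πc i) (𝟙 K)
      (by rw [nextMap_φ, Category.comp_id])) i = 0 :=
  Cell.homologyMap_cellConeMap_eq_zero st.φ i (πc _) (st.hz Fc πc i)

end Stage

/-- An enumeration of the integers hitting every integer infinitely often. -/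
def deg (n : ℕ) : ℤ := ((Nat.unpair n).1 : ℤ) - ((Nat.unpair n).2 : ℤ)

theorem exists_deg (i : ℤ) (n : ℕ) : ∃ m, n ≤ m ∧ deg m = i := by
  refine ⟨Nat.pair (n + i.toNat) (n + (-i).toNat), ?_, ?_⟩
  · exact le_trans (Nat.le_add_right _ _) (Nat.left_le_pair _ _)
  · unfold deg
    rw [Nat.unpair_pair]
    dsimp
    push_cast
    omega

variable (st₀ : Stage K)

/-- The sequence of stages. -/
noncomputable def stage : ℕ → Stage K
  | 0 => st₀
  | n + 1 => (stage n).next Fc πc (deg n)

/-- The transition maps. -/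
noncomputable def stageMap (n : ℕ) :
    (stage Fc πc st₀ n).P ⟶ (stage Fc πc st₀ (n + 1)).P :=
  (stage Fc πc st₀ n).nextMap Fc πc (deg n)

theorem stageMap_φ (n : ℕ) :
    stageMap Fc πc st₀ n ≫ (stage Fc πc st₀ (n + 1)).φ = (stage Fc πc st₀ n).φ :=
  Stage.nextMap_φ _ _ _ _

/-- The sequence of complexes. -/
noncomputable def seq : ℕ ⥤ CochainComplex D ℤ := Functor.ofSequence (stageMap Fc πc st₀)

/-- The maps to `K`, as a natural transformation. -/
noncomputable def toK : seq Fc πc st₀ ⟶ (Functor.const ℕ).obj K :=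
  NatTrans.ofSequence (fun n => (stage Fc πc st₀ n).φ) (fun n => by
    have h : (seq Fc πc st₀).map (homOfLE (n.le_add_right 1)) = stageMap Fc πc st₀ n :=
      Functor.ofSequence_map_homOfLE_succ _ n
    rw [h]
    dsimp
    rw [Category.comp_id]
    exact stageMap_φ Fc πc st₀ n)

/-- The maps to `K`. -/
noncomputable def φs (n : ℕ) : (seq Fc πc st₀).obj n ⟶ K := (stage Fc πc st₀ n).φ

theorem hφs {n n' : ℕ} (f : n ⟶ n') :
    (seq Fc πc st₀).map f ≫ φs Fc πc st₀ n' = φs Fc πc st₀ n := by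
  have h := (toK Fc πc st₀).naturality f
  dsimp at h
  rw [Category.comp_id] at h
  exact h

theorem seq_map_succ (n : ℕ) :
    (seq Fc πc st₀).map (homOfLE (Nat.le_succ n)) = stageMap Fc πc st₀ n :=
  Functor.ofSequence_map_homOfLE_succ _ n

variable [HasColimitsOfShape ℕ D] [HasExactColimitsOfShape ℕ D]

/-- The map from the colimit of the sequence to `K`. -/
noncomputable def colimToK : colimit (seq Fc πc st₀) ⟶ K :=
  colimit.desc (seq Fc πc st₀) ⟨K, toK Fc πc st₀⟩

theorem ι_colimToK (n : ℕ) :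
    colimit.ι (seq Fc πc st₀) n ≫ colimToK Fc πc st₀ = φs Fc πc st₀ n :=
  colimit.ι_desc _ _

omit [HasColimitsOfShape ℕ D] [HasExactColimitsOfShape ℕ D] in
theorem homologyMap_coneFunctor_map_succ (m : ℕ) :
    homologyMap ((ConeColim.coneFunctor (seq Fc πc st₀) (φs Fc πc st₀)
      (fun f => hφs Fc πc st₀ f)).map (homOfLE (Nat.le_succ m))) (deg m) = 0 := by
  have h0 := Stage.homologyMap_eq_zero Fc πc (stage Fc πc st₀ m) (deg m)
  rw [ConeColim.coneFunctor_map]
  rw [ConeColim.map_congr _ _ (seq_map_succ Fc πc st₀ m) rfl _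
    (by rw [Category.comp_id]; exact (stageMap_φ Fc πc st₀ m).symm)]
  exact h0

theorem quasiIso_colimToK : QuasiIso (colimToK Fc πc st₀) := by
  rw [KFlat.quasiIso_iff_acyclic_mappingCone]
  intro i
  rw [exactAt_iff_isZero_homology]
  have hc := ConeColim.isColimitConeCocone (seq Fc πc st₀) (φs Fc πc st₀)
    (fun f => hφs Fc πc st₀ f) (colimit.cocone _) (colimToK Fc πc st₀)
    (ι_colimToK Fc πc st₀) (colimit.isColimit _)
  refine SeqColim.isZero_homology_of_isColimit _ _ hc i (fun n => ?_)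
  obtain ⟨m, hnm, hm⟩ := exists_deg i n
  refine ⟨m, hnm, ?_⟩
  subst hm
  exact homologyMap_coneFunctor_map_succ Fc πc st₀ m

/-! ### The starting stage: a contractible complex mapping degreewise epimorphically to `K` -/

section Start

omit [HasColimitsOfShape ℕ D] [HasExactColimitsOfShape ℕ D]

/-- The complex with terms `G p` and zero differential. -/
noncomputable def zeroCx (G : ℤ → D) : CochainComplex D ℤ where
  X := G
  d _ _ := 0
  shape _ _ _ := rfl
  d_comp_d' _ _ _ _ _ := zero_comp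

variable (K)

/-- The complex with zero differential and terms the covers of the `K.X (p - 1)`. -/
noncomputable def startZ : CochainComplex D ℤ := zeroCx (fun p => Fc (K.X (p - 1)))

/-- The cochain of degree `-1` given by the covers. -/
noncomputable def startCochain : Cochain (startZ K Fc) K (-1) :=
  Cochain.mk (fun p q hpq => πc (K.X (p - 1)) ≫ (K.XIsoOfEq (by omega : p - 1 = q)).hom)

/-- The coboundary of `startCochain`, as a morphism. -/
noncomputable def startHom : startZ K Fc ⟶ K :=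
  Cocycle.homOf (Cocycle.mk (δ (-1) 0 (startCochain K Fc πc)) 1 (zero_add 1) (δ_δ _ _ _ _))

/-- The map from the contractible complex `mappingCone (𝟙 (startZ K Fc))` to `K`. -/
noncomputable def startφ : mappingCone (𝟙 (startZ K Fc)) ⟶ K :=
  mappingCone.desc _ (startCochain K Fc πc) (startHom K Fc πc) (by simp [startHom])

omit [∀ X, Epi (πc X)] in
theorem inl_startφ (q : ℤ) :
    (mappingCone.inl (𝟙 (startZ K Fc))).v (q + 1) q (by omega) ≫ (startφ K Fc πc).f q =
      πc (K.X (q + 1 - 1)) ≫ (K.XIsoOfEq (by omega : q + 1 - 1 = q)).hom := by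
  rw [startφ, mappingCone.inl_v_desc_f, startCochain, Cochain.mk_v]

theorem epi_startφ_f (q : ℤ) : Epi ((startφ K Fc πc).f q) := by
  have h : Epi ((mappingCone.inl (𝟙 (startZ K Fc))).v (q + 1) q (by omega) ≫
      (startφ K Fc πc).f q) := by
    rw [inl_startφ]
    infer_instance
  exact epi_of_epi ((mappingCone.inl (𝟙 (startZ K Fc))).v (q + 1) q _)
    ((startφ K Fc πc).f q)

end Start

/-! ### The abstract existence theorem -/

end Groth.Agent.H31.Resolution

namespace Groth.Agent.H31.Resolution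

open CategoryTheory Limits HomologicalComplex CochainComplex HomComplex

section Main

variable {D : Type*} [Category D] [Abelian D] {K : CochainComplex D ℤ}
  (Fc : D → D) (πc : ∀ X, Fc X ⟶ X) [∀ X, Epi (πc X)] (st₀ : Stage K)

variable (Fl : D → Prop) (h_Fl_iso : ∀ {X Y : D}, (X ≅ Y) → Fl X → Fl Y)
  (h_Fl_zero : ∀ X : D, IsZero X → Fl X)
  (h_Fl_biprod : ∀ X Y : D, Fl X → Fl Y → Fl (X ⊞ Y))

include h_Fl_iso h_Fl_zero in
theorem fl_single_X (F : D) (hF : Fl F) (j m : ℤ) : Fl (((singleFunctor D j).obj F).X m) := by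
  by_cases h : m = j
  · subst h
    exact h_Fl_iso (singleObjXSelf (ComplexShape.up ℤ) m F).symm hF
  · exact h_Fl_zero _ (isZero_single_obj_X (ComplexShape.up ℤ) j F m h)

include h_Fl_iso h_Fl_biprod in
theorem fl_mappingCone_X {S P : CochainComplex D ℤ} (f : S ⟶ P) (hS : ∀ n, Fl (S.X n))
    (hP : ∀ n, Fl (P.X n)) (n : ℤ) : Fl ((mappingCone f).X n) :=
  h_Fl_iso (homotopyCofiber.XIsoBiprod f n (n + 1) rfl).symm (h_Fl_biprod _ _ (hS (n + 1)) (hP n))

variable (KF : CochainComplex D ℤ → Prop)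
  (h_single : ∀ (F : D) (i : ℤ), Fl F → KF ((singleFunctor D i).obj F))
  (h_cone : ∀ {P Q : CochainComplex D ℤ} (f : P ⟶ Q), KF P → KF Q → KF (mappingCone f))
  (hFc : ∀ X, Fl (Fc X))

include h_Fl_iso h_Fl_zero h_Fl_biprod h_single h_cone hFc in
theorem stage_inv (h0KF : KF st₀.P) (h0Fl : ∀ q, Fl (st₀.P.X q)) :
    ∀ n, KF (stage Fc πc st₀ n).P ∧ ∀ q, Fl ((stage Fc πc st₀ n).P.X q)
  | 0 => ⟨h0KF, h0Fl⟩
  | n + 1 => by
    obtain ⟨ih1, ih2⟩ := stage_inv h0KF h0Fl n
    refine ⟨h_cone _ (h_single _ _ (hFc _)) ih1, fun q => ?_⟩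
    exact fl_mappingCone_X Fl h_Fl_iso h_Fl_biprod _
      (fl_single_X Fl h_Fl_iso h_Fl_zero _ (hFc _) _) ih2 q

end Main

/-- Abstract existence of resolutions: `KF` plays the role of K-flatness and `Fl` of flatness. -/
theorem exists_resolution {D : Type*} [Category D] [Abelian D] [HasColimitsOfShape ℕ D]
    [HasExactColimitsOfShape ℕ D] (KF : CochainComplex D ℤ → Prop) (Fl : D → Prop)
    (h_enough : ∀ X : D, ∃ (F : D) (π : F ⟶ X), Fl F ∧ Epi π)
    (h_Fl_iso : ∀ {X Y : D}, (X ≅ Y) → Fl X → Fl Y)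
    (h_Fl_zero : ∀ X : D, IsZero X → Fl X)
    (h_Fl_biprod : ∀ X Y : D, Fl X → Fl Y → Fl (X ⊞ Y))
    (h_Fl_colim : ∀ (G : ℕ ⥤ D) (c : Cocone G), IsColimit c → (∀ n, Fl (G.obj n)) → Fl c.pt)
    (h_single : ∀ (F : D) (i : ℤ), Fl F → KF ((singleFunctor D i).obj F))
    (h_cone : ∀ {P Q : CochainComplex D ℤ} (f : P ⟶ Q), KF P → KF Q → KF (mappingCone f))
    (h_contr : ∀ P : CochainComplex D ℤ, Homotopy (𝟙 P) 0 → KF P)
    (h_colim : ∀ (Φ : ℕ ⥤ CochainComplex D ℤ) (s : Cocone Φ), IsColimit s →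
      (∀ m, KF (Φ.obj m)) → KF s.pt)
    (K : CochainComplex D ℤ) :
    ∃ (P : CochainComplex D ℤ) (q : P ⟶ K), KF P ∧ (∀ n, Fl (P.X n)) ∧ QuasiIso q ∧
      ∀ n, Epi (q.f n) := by
  choose Fc πc hFl hEpi using h_enough
  have : ∀ X, Epi (πc X) := hEpi
  let st₀ : Stage K := ⟨mappingCone (𝟙 (startZ K Fc)), startφ K Fc πc⟩
  have h0KF : KF st₀.P := h_contr _ (mappingCone.homotopyToZeroOfId _)
  have h0Fl : ∀ q, Fl (st₀.P.X q) :=
    fl_mappingCone_X Fl h_Fl_iso h_Fl_biprod _ (fun n => hFl _) (fun n => hFl _)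
  have hinv := stage_inv Fc πc st₀ Fl h_Fl_iso h_Fl_zero h_Fl_biprod KF h_single h_cone hFl
    h0KF h0Fl
  refine ⟨colimit (seq Fc πc st₀), colimToK Fc πc st₀, ?_, ?_, quasiIso_colimToK Fc πc st₀, ?_⟩
  · exact h_colim (seq Fc πc st₀) (colimit.cocone _) (colimit.isColimit _)
      (fun m => (hinv m).1)
  · intro q
    exact h_Fl_colim (seq Fc πc st₀ ⋙ eval D (ComplexShape.up ℤ) q)
      ((eval D (ComplexShape.up ℤ) q).mapCocone (colimit.cocone _))
      (isColimitOfPreserves _ (colimit.isColimit _)) (fun m => (hinv m).2 q)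
  · intro q
    have h : Epi ((colimit.ι (seq Fc πc st₀) 0).f q ≫ (colimToK Fc πc st₀).f q) := by
      rw [← HomologicalComplex.comp_f, ι_colimToK]
      exact epi_startφ_f K Fc πc q
    exact epi_of_epi ((colimit.ι (seq Fc πc st₀) 0).f q) ((colimToK Fc πc st₀).f q)

end Groth.Agent.H31.Resolution
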