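import Mathlib

/-!
# (Eb) for S1851-EXT (helper87): localizing a localization at a prime
-/

set_option autoImplicit false
set_option linter.style.haveILetI false
universe u
open IsLocalRing

namespace Groth.Agent.H31.KatoExt

theorem exists_ringEquiv_atPrime {B C : Type u} [CommRing B] [CommRing C] [Algebra B C]
    (M : Submonoid B) [IsLocalization M C] (p : Ideal B) [p.IsPrime]
    (hp : Disjoint (M : Set B) (p : Set B)) :
    ∃ (n : Ideal C) (_ : n.IsPrime), n.comap (algebraMap B C) = p ∧
      ∃ e : Localization.AtPrime n ≃+* Localization.AtPrime p,
        ∀ x : B, e (algebraMap C (Localization.AtPrime n) (algebraMap B C x)) =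
          algebraMap B (Localization.AtPrime p) x := by
  have hn : (Ideal.map (algebraMap B C) p).IsPrime :=
    IsLocalization.isPrime_of_isPrime_disjoint M C p inferInstance hp
  have hcomap : (Ideal.map (algebraMap B C) p).comap (algebraMap B C) = p :=
    IsLocalization.under_map_of_isPrime_disjoint M C inferInstance hp
  refine ⟨Ideal.map (algebraMap B C) p, hn, hcomap, ?_⟩
  set n : Ideal C := Ideal.map (algebraMap B C) p with hn_def
  haveI : IsScalarTower B C (Localization.AtPrime n) := inferInstance
  haveI h1 : IsLocalization.AtPrime (Localization.AtPrime n) (n.comap (algebraMap B C)) :=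
    IsLocalization.isLocalization_isLocalization_atPrime_isLocalization M
      (Localization.AtPrime n) n
  have h2 : IsLocalization p.primeCompl (Localization.AtPrime n) := by
    have : ∀ (q : Ideal B) [q.IsPrime], q = p →
        IsLocalization.AtPrime (Localization.AtPrime n) q →
        IsLocalization p.primeCompl (Localization.AtPrime n) := by
      intro q _ hq h
      subst hq
      exact h
    exact this _ hcomap h1
  let e : Localization.AtPrime n ≃ₐ[B] Localization.AtPrime p :=
    IsLocalization.algEquiv p.primeCompl _ _
  refine ⟨e.toRingEquiv, fun x => ?_⟩
  have : algebraMap C (Localization.AtPrime n) (algebraMap B C x) =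
      algebraMap B (Localization.AtPrime n) x :=
    (IsScalarTower.algebraMap_apply B C (Localization.AtPrime n) x).symm
  rw [this]
  exact e.commutes x

end Groth.Agent.H31.KatoExt
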