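import Mathlib

/-!
# (Ec) for S1851-EXT (helper87): a power of the maximal ideal carries `M2` into `M`
-/

set_option autoImplicit false
universe u
open IsLocalRing

namespace Groth.Agent.H31.KatoExt

theorem exists_pow_smul_le {A K : Type u} [CommRing A] [IsNoetherianRing A] [IsLocalRing A]
    [AddCommGroup K] [Module A K] (M M2 : Submodule A K) (hfg : M2.FG)
    (h : ∀ (q : Ideal A), q.IsPrime → q ≠ maximalIdeal A → ∀ x ∈ M2, ∃ s : A, s ∉ q ∧ s • x ∈ M) :
    ∃ c : ℕ, maximalIdeal A ^ c • M2 ≤ M := by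
  classical
  obtain ⟨S, hS⟩ := hfg
  set I : Ideal A := M.colon (M2 : Set K) with hI
  have hrad : maximalIdeal A ≤ I.radical := by
    rw [Ideal.radical_eq_sInf]
    refine le_sInf ?_
    rintro q ⟨hIq, hq⟩
    by_contra hne
    have hqne : q ≠ maximalIdeal A := by
      rintro rfl
      exact hne le_rfl
    have hx : ∀ x : K, ∃ s : A, x ∈ M2 → s ∉ q ∧ s • x ∈ M := by
      intro x
      by_cases hxM : x ∈ M2
      · obtain ⟨s, hs⟩ := h q hq hqne x hxM
        exact ⟨s, fun _ => hs⟩
      · exact ⟨0, fun hx => absurd hx hxM⟩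
    choose s hs using hx
    have hSM2 : ∀ x ∈ S, x ∈ M2 := fun x hx => hS ▸ Submodule.subset_span hx
    have hprod : (∏ x ∈ S, s x) ∉ q := by
      intro hmem
      obtain ⟨x, hxS, hxq⟩ := (hq.prod_mem_iff).1 hmem
      exact (hs x (hSM2 x hxS)).1 hxq
    apply hprod
    apply hIq
    rw [hI, Submodule.mem_colon]
    intro y hy
    have hy' : y ∈ Submodule.span A (S : Set K) := by rw [hS]; exact hy
    refine Submodule.span_induction ?_ ?_ ?_ ?_ hy'
    · intro x hxS
      rw [← Finset.mul_prod_erase S s hxS, mul_comm, mul_smul]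
      exact M.smul_mem _ (hs x (hSM2 x hxS)).2
    · simp
    · intro a b _ _ ha hb
      rw [smul_add]
      exact M.add_mem ha hb
    · intro a b _ hb
      rw [smul_comm]
      exact M.smul_mem _ hb
  obtain ⟨c, hc⟩ := Ideal.exists_pow_le_of_le_radical_of_fg hrad
    (IsNoetherian.noetherian (maximalIdeal A))
  refine ⟨c, ?_⟩
  rw [Submodule.smul_le]
  intro r hr n hn
  have := hc hr
  rw [hI, Submodule.mem_colon] at this
  exact this n hn

end Groth.Agent.H31.KatoExt
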