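import Mathlib
import Groth.Prelude.Def_Tame

/-!
# (GA) for S1851 (helper34): the Herbrand quotient of `(R/(ab), a, b)` vanishes
-/

set_option autoImplicit false
set_option linter.style.haveILetI false
universe u
open IsLocalRing Pointwise

namespace Groth.Agent.H31.KatoGA

/-- If `ker φ ≤ range ψ` then `perH φ ψ` is trivial. -/
theorem subsingleton_perH {R : Type u} [CommRing R] {M N : Type u} [AddCommGroup M] [Module R M]
    [AddCommGroup N] [Module R N] (φ : M →ₗ[R] N) (ψ : N →ₗ[R] M)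
    (h : LinearMap.ker φ ≤ LinearMap.range ψ) : Subsingleton (CycAlg.perH φ ψ) := by
  rw [Submodule.Quotient.subsingleton_iff]
  exact Submodule.comap_subtype_eq_top.2 h

theorem ker_le_range {R : Type u} [CommRing R] (a b c : R) (hc : c = a * b)
    (ha : a ∈ nonZeroDivisors R) :
    LinearMap.ker (a • LinearMap.id : (R ⧸ Ideal.span {c}) →ₗ[R] (R ⧸ Ideal.span {c})) ≤
      LinearMap.range (b • LinearMap.id : (R ⧸ Ideal.span {c}) →ₗ[R] (R ⧸ Ideal.span {c})) := by
  intro x hx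
  obtain ⟨r, rfl⟩ := Ideal.Quotient.mk_surjective x
  rw [LinearMap.mem_ker] at hx
  have h1 : Ideal.Quotient.mk (Ideal.span {c}) (a * r) = 0 := by
    rw [← hx]
    simp [Algebra.smul_def]
  rw [Ideal.Quotient.eq_zero_iff_mem, Ideal.mem_span_singleton'] at h1
  obtain ⟨d, hd⟩ := h1
  have h2 : a * r = a * (b * d) := by rw [← hd, hc]; ring
  have h3 : r = b * d := (mul_cancel_left_mem_nonZeroDivisors ha).1 h2
  refine ⟨Ideal.Quotient.mk _ d, ?_⟩
  rw [h3]
  simp [Algebra.smul_def]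

theorem herbrand_quot_mul (R : Type u) [CommRing R] (a b : R) (ha : a ∈ nonZeroDivisors R)
    (hb : b ∈ nonZeroDivisors R) :
    CycAlg.FinCoh R (a • LinearMap.id : (R ⧸ Ideal.span {a * b}) →ₗ[R] (R ⧸ Ideal.span {a * b}))
      (b • LinearMap.id) ∧
    CycAlg.herbrand R (a • LinearMap.id : (R ⧸ Ideal.span {a * b}) →ₗ[R] (R ⧸ Ideal.span {a * b}))
      (b • LinearMap.id) = 0 := by
  haveI h1 := subsingleton_perH
    (a • LinearMap.id : (R ⧸ Ideal.span {a * b}) →ₗ[R] (R ⧸ Ideal.span {a * b}))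
    (b • LinearMap.id) (ker_le_range a b (a * b) rfl ha)
  haveI h2 := subsingleton_perH
    (b • LinearMap.id : (R ⧸ Ideal.span {a * b}) →ₗ[R] (R ⧸ Ideal.span {a * b}))
    (a • LinearMap.id) (ker_le_range b a (a * b) (mul_comm a b) hb)
  have l1 := Module.length_eq_zero (R := R) (M := CycAlg.perH
    (a • LinearMap.id : (R ⧸ Ideal.span {a * b}) →ₗ[R] (R ⧸ Ideal.span {a * b}))
    (b • LinearMap.id))
  have l2 := Module.length_eq_zero (R := R) (M := CycAlg.perH
    (b • LinearMap.id : (R ⧸ Ideal.span {a * b}) →ₗ[R] (R ⧸ Ideal.span {a * b}))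
    (a • LinearMap.id))
  refine ⟨⟨?_, ?_⟩, ?_⟩
  · rw [l1]; exact ENat.top_pos
  · rw [l2]; exact ENat.top_pos
  · unfold CycAlg.herbrand
    rw [l1, l2]
    simp

end Groth.Agent.H31.KatoGA
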