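import Mathlib
import Groth.Prelude.Def_Tame

/-!
# (GC) for S1851 (helper34): the Herbrand quotient of a finite product
-/

set_option autoImplicit false
set_option linter.style.haveILetI false
universe u
open IsLocalRing Pointwise

namespace Groth.Agent.H31.KatoGC

section

variable {R : Type u} [CommRing R] {ι : Type u} (M : ι → Type u)
  [∀ i, AddCommGroup (M i)] [∀ i, Module R (M i)] (φ ψ : ∀ i, M i →ₗ[R] M i)

/-- The product endomorphism. -/
abbrev piMap : (∀ i, M i) →ₗ[R] (∀ i, M i) :=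
  LinearMap.pi (fun i => φ i ∘ₗ LinearMap.proj i)

theorem mem_ker_piMap (x : ∀ i, M i) :
    x ∈ LinearMap.ker (piMap M φ) ↔ ∀ i, x i ∈ LinearMap.ker (φ i) := by
  simp only [LinearMap.mem_ker]
  constructor
  · intro h i
    exact congrFun h i
  · intro h
    funext i
    exact h i

theorem mem_range_piMap (x : ∀ i, M i) :
    x ∈ LinearMap.range (piMap M ψ) ↔ ∀ i, x i ∈ LinearMap.range (ψ i) := by
  simp only [LinearMap.mem_range]
  constructor
  · rintro ⟨y, rfl⟩ i
    exact ⟨y i, rfl⟩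
  · intro h
    choose y hy using h
    exact ⟨y, funext hy⟩

/-- The kernel of the product map is the product of the kernels. -/
def kerEquiv : LinearMap.ker (piMap M φ) ≃ₗ[R] ∀ i, LinearMap.ker (φ i) where
  toFun x i := ⟨x.1 i, (mem_ker_piMap M φ x.1).1 x.2 i⟩
  invFun y := ⟨fun i => (y i).1, (mem_ker_piMap M φ _).2 (fun i => (y i).2)⟩
  map_add' _ _ := rfl
  map_smul' _ _ := rfl
  left_inv _ := rfl
  right_inv _ := rfl

theorem map_kerEquiv :
    ((LinearMap.range (piMap M ψ)).submoduleOf (LinearMap.ker (piMap M φ))).map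
      (kerEquiv M φ : LinearMap.ker (piMap M φ) →ₗ[R] ∀ i, LinearMap.ker (φ i)) =
      Submodule.pi Set.univ
        (fun i => (LinearMap.range (ψ i)).submoduleOf (LinearMap.ker (φ i))) := by
  ext y
  rw [Submodule.mem_map]
  simp only [Submodule.mem_pi, Set.mem_univ, forall_true_left]
  constructor
  · rintro ⟨x, hx, rfl⟩ i
    have hx' : x.1 ∈ LinearMap.range (piMap M ψ) := hx
    exact (mem_range_piMap M ψ x.1).1 hx' i
  · intro h
    refine ⟨(kerEquiv M φ).symm y, ?_, (kerEquiv M φ).apply_symm_apply y⟩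
    change ((kerEquiv M φ).symm y).1 ∈ LinearMap.range (piMap M ψ)
    rw [mem_range_piMap]
    intro i
    exact h i

/-- `perH` of the product is the product of the `perH`. -/
noncomputable def perHPiEquiv [Fintype ι] [DecidableEq ι] :
    CycAlg.perH (piMap M φ) (piMap M ψ) ≃ₗ[R] ∀ i, CycAlg.perH (φ i) (ψ i) :=
  (Submodule.Quotient.equiv _ _ (kerEquiv M φ) (map_kerEquiv M φ ψ)).trans
    (Submodule.quotientPi _)

theorem length_perH_pi [Fintype ι] :
    Module.length R (CycAlg.perH (piMap M φ) (piMap M ψ)) =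
      ∑ i, Module.length R (CycAlg.perH (φ i) (ψ i)) := by
  classical
  rw [(perHPiEquiv M φ ψ).length_eq, Module.length_pi_of_fintype]

end

theorem herbrand_pi {R : Type u} [CommRing R] {ι : Type u} [Fintype ι] (M : ι → Type u)
    [∀ i, AddCommGroup (M i)] [∀ i, Module R (M i)] (φ ψ : ∀ i, M i →ₗ[R] M i)
    (hper : ∀ i, CycAlg.IsPeriodic (φ i) (ψ i)) (hfin : ∀ i, CycAlg.FinCoh R (φ i) (ψ i)) :
    CycAlg.FinCoh R
      (LinearMap.pi (fun i => φ i ∘ₗ LinearMap.proj i) : (∀ i, M i) →ₗ[R] (∀ i, M i))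
      (LinearMap.pi (fun i => ψ i ∘ₗ LinearMap.proj i)) ∧
    CycAlg.herbrand R
      (LinearMap.pi (fun i => φ i ∘ₗ LinearMap.proj i) : (∀ i, M i) →ₗ[R] (∀ i, M i))
      (LinearMap.pi (fun i => ψ i ∘ₗ LinearMap.proj i)) = ∑ i, CycAlg.herbrand R (φ i) (ψ i) := by
  have _ := hper
  have l1 := length_perH_pi M φ ψ
  have l2 := length_perH_pi M ψ φ
  have f1 : ∀ i, Module.length R (CycAlg.perH (φ i) (ψ i)) ≠ ⊤ := fun i => (hfin i).1.ne
  have f2 : ∀ i, Module.length R (CycAlg.perH (ψ i) (φ i)) ≠ ⊤ := fun i => (hfin i).2.ne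
  have s1 : (∑ i, Module.length R (CycAlg.perH (φ i) (ψ i))) ≠ ⊤ := by
    rw [Ne, ENat.sum_eq_top]  
    push Not
    exact fun i _ => f1 i
  have s2 : (∑ i, Module.length R (CycAlg.perH (ψ i) (φ i))) ≠ ⊤ := by
    rw [Ne, ENat.sum_eq_top]
    push Not
    exact fun i _ => f2 i
  refine ⟨⟨?_, ?_⟩, ?_⟩
  · change Module.length R (CycAlg.perH (piMap M φ) (piMap M ψ)) < ⊤
    rw [l1]; exact lt_top_iff_ne_top.2 s1
  · change Module.length R (CycAlg.perH (piMap M ψ) (piMap M φ)) < ⊤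
    rw [l2]; exact lt_top_iff_ne_top.2 s2
  · change ((Module.length R (CycAlg.perH (piMap M φ) (piMap M ψ))).toNat : ℤ) -
      ((Module.length R (CycAlg.perH (piMap M ψ) (piMap M φ))).toNat : ℤ) = _
    rw [l1, l2]
    unfold CycAlg.herbrand
    rw [Finset.sum_sub_distrib]
    congr 1
    · rw [ENat.toNat_sum (fun i _ => f1 i)]
      push_cast
      rfl
    · rw [ENat.toNat_sum (fun i _ => f2 i)]
      push_cast
      rfl

end Groth.Agent.H31.KatoGC
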