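import Groth.Prelude.Def_ModSite
import Mathlib.CategoryTheory.Adjunction.AdjointFunctorTheorems
import Mathlib.CategoryTheory.Adjunction.Restrict
import Mathlib.CategoryTheory.Abelian.Subobject
import Mathlib.Algebra.Category.ModuleCat.Presheaf.Generator
import Mathlib.Algebra.Category.ModuleCat.Sheaf.Localization

/-!
# Tensor products of sheaves of modules on a ringed site: internal hom (helper31 library)

* `tensorRight_isLeftAdjoint`: on presheaves of modules `- ⊗ N₀` has a right adjoint (SAFT);
* `isIso_shf_map_free_sieve`: for a covering sieve `S` of `U`, the map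
  `R[S] ⊗ N₀ ⟶ R[yU] ⊗ N₀` becomes an iso after sheafification;
* `isSheaf_H`: the presheaf-level internal hom into a sheaf is a sheaf;
* `hasSheafHom`: `ModSite.HasSheafHom N` for every `N`.
-/

set_option autoImplicit false
universe u
open CategoryTheory CategoryTheory.Limits MonoidalCategory Opposite

namespace Groth.Agent.H31

variable {C : Type u} [SmallCategory C] {J : GrothendieckTopology C} (O : Sheaf J CommRingCat.{u})

/-- The presheaf of rings underlying `O`. -/
abbrev R₀ : Cᵒᵖ ⥤ RingCat.{u} := O.obj ⋙ forget₂ CommRingCat.{u} RingCat.{u}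

/-- Presheaves of modules over `O`. -/
abbrev PM : Type (u+1) := PresheafOfModules.{u} (O.obj ⋙ forget₂ CommRingCat.{u} RingCat.{u})

/-- The forgetful functor from sheaves of modules to presheaves of modules. -/
noncomputable def toPM : ModSite.Mod O ⥤ PM O := SheafOfModules.forget (ModSite.ringSh O)

/-- Sheafification of presheaves of modules. -/
noncomputable def shf : PM O ⥤ ModSite.Mod O := ModSite.sheafify O

/-- The right adjoint of sheafification. -/
noncomputable def incl : ModSite.Mod O ⥤ PM O :=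
  SheafOfModules.forget (ModSite.ringSh O) ⋙
    PresheafOfModules.restrictScalars (𝟙 (ModSite.ringSh O).obj)

/-- The sheafification adjunction. -/
noncomputable def shfAdj : shf O ⊣ incl O :=
  PresheafOfModules.sheafificationAdjunction (𝟙 (ModSite.ringSh O).obj)

variable {O}

instance tensorRight_isLeftAdjoint (N₀ : PM O) : (tensorRight N₀).IsLeftAdjoint := by
  have : PreservesColimits (tensorRight N₀) := inferInstance
  exact isLeftAdjoint_of_preservesColimits_of_isSeparating
    (PresheafOfModules.freeYoneda.isSeparating (R₀ O)) (tensorRight N₀)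

theorem tensorBi_flip_obj_eq (N : ModSite.Mod O) :
    (ModSite.tensorBi O).flip.obj N = toPM O ⋙ tensorRight ((toPM O).obj N) ⋙ shf O := rfl

/-- A morphism of presheaves of modules which is locally bijective becomes an isomorphism after
sheafification. -/
theorem isIso_shf_map_iff {A B : PM O} (ψ : A ⟶ B) :
    IsIso ((shf O).map ψ) ↔ J.W ((PresheafOfModules.toPresheaf (R₀ O)).map ψ) := by
  have h := PresheafOfModules.inverseImage_W_toPresheaf_eq_inverseImage_isomorphisms.{u}
    (J := J) (R₀ := (ModSite.ringSh O).obj) (R := ModSite.ringSh O) (𝟙 (ModSite.ringSh O).obj)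
  have h2 := congrFun (congrFun (congrFun h A) B) ψ
  exact (Iff.of_eq h2).symm


section WLemma

theorem free_map_whiskerRight_injective {R : Type u} [CommRing R] {A B : Type u} (f : A ⟶ B)
    (hf : Function.Injective f) (N : ModuleCat.{u} R) :
    Function.Injective ((ModuleCat.free R).map f ▷ N) := by
  let r : (ModuleCat.free R).obj B ⟶ (ModuleCat.free R).obj A :=
    ModuleCat.ofHom (Finsupp.lcomapDomain f hf)
  have hr : (ModuleCat.free R).map f ≫ r = 𝟙 _ := by
    apply ModuleCat.hom_ext
    apply LinearMap.ext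
    intro x
    exact Finsupp.leftInverse_lcomapDomain_mapDomain (R := R) (M := R) f hf x
  have h2 : ((ModuleCat.free R).map f ▷ N) ≫ (r ▷ N) = 𝟙 _ := by
    rw [← comp_whiskerRight, hr, id_whiskerRight]
  intro x y hxy
  have h3 := congrArg (r ▷ N) hxy
  have h4 : ∀ z, (r ▷ N) (((ModuleCat.free R).map f ▷ N) z) = z := fun z => by
    rw [← ModuleCat.comp_apply, h2]; rfl
  rwa [h4, h4] at h3

variable (N₀ : PM O) {U : C} (S : Sieve U)

/-- The comparison map `R[S] ⊗ N₀ ⟶ R[yU] ⊗ N₀`. -/
noncomputable def sieveMap : (PresheafOfModules.free (R₀ O)).obj S.functor ⊗ N₀ ⟶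
    (PresheafOfModules.free (R₀ O)).obj (yoneda.obj U) ⊗ N₀ :=
  (PresheafOfModules.free (R₀ O)).map S.functorInclusion ▷ N₀

theorem sieveMap_locallyInjective :
    Presheaf.IsLocallyInjective J ((PresheafOfModules.toPresheaf (R₀ O)).map (sieveMap N₀ S)) := by
  apply Presheaf.isLocallyInjective_of_injective
  intro V
  have h := free_map_whiskerRight_injective (R := O.obj.obj V) (S.functorInclusion.app V)
    (fun x y h => Subtype.ext h) (N₀.obj V)
  exact h

theorem imageSieve_zero_mem {F G : Cᵒᵖ ⥤ AddCommGrpCat.{u}} (φ : F ⟶ G) (V : C) :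
    Presheaf.imageSieve φ (U := V) (0 : G.obj (op V)) ∈ J V := by
  have h : Presheaf.imageSieve φ (U := V) (0 : G.obj (op V)) = ⊤ := by
    have := Presheaf.imageSieve_app φ (U := V) (0 : F.obj (op V))
    rwa [map_zero] at this
  rw [h]; exact J.top_mem V

theorem imageSieve_add_mem {F G : Cᵒᵖ ⥤ AddCommGrpCat.{u}} (φ : F ⟶ G) (V : C)
    (s t : G.obj (op V)) (hs : Presheaf.imageSieve φ (U := V) s ∈ J V)
    (ht : Presheaf.imageSieve φ (U := V) t ∈ J V) :
    Presheaf.imageSieve φ (U := V) (s + t) ∈ J V := by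
  refine J.superset_covering ?_ (J.intersection_covering hs ht)
  rintro W g ⟨⟨a, ha⟩, ⟨b, hb⟩⟩
  refine ⟨a + b, ?_⟩
  rw [map_add, map_add, ha, hb]

theorem sieveMap_app_tmul {V W : C} (f : V ⟶ U) (g : W ⟶ V) (hg : S (g ≫ f))
    (n : N₀.obj (op V)) :
    ((PresheafOfModules.toPresheaf (R₀ O)).map (sieveMap N₀ S)).app (op W)
      ((ModuleCat.freeMk (R := O.obj.obj (op W)) (X := S.functor.obj (op W)) ⟨g ≫ f, hg⟩) ⊗ₜ[O.obj.obj (op W)]
        (N₀.map g.op n)) =
    ((PresheafOfModules.toPresheaf (R₀ O)).obj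
      ((PresheafOfModules.free (R₀ O)).obj (yoneda.obj U) ⊗ N₀)).map g.op
      ((ModuleCat.freeMk (R := O.obj.obj (op V)) (X := (yoneda.obj U).obj (op V)) f) ⊗ₜ[O.obj.obj (op V)] n) := by
  have h1 : (ModuleCat.free (O.obj.obj (op W))).map (S.functorInclusion.app (op W))
      (ModuleCat.freeMk ⟨g ≫ f, hg⟩) = ModuleCat.freeMk (g ≫ f) :=
    ModuleCat.free_map_apply _ _
  have h2 : ((PresheafOfModules.free (R₀ O)).obj (yoneda.obj U)).map g.op
      (ModuleCat.freeMk (R := O.obj.obj (op V)) (X := (yoneda.obj U).obj (op V)) f) =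
      ModuleCat.freeMk (R := O.obj.obj (op W)) (X := (yoneda.obj U).obj (op W)) (g ≫ f) := by
    change (ModuleCat.freeDesc (R := O.obj.obj (op V))
      (M := (ModuleCat.restrictScalars ((R₀ O).map g.op).hom).obj
        ((ModuleCat.free ((R₀ O).obj (op W))).obj ((yoneda.obj U).obj (op W))))
      (TypeCat.ofHom fun x ↦ ModuleCat.freeMk ((yoneda.obj U).map g.op x)))
      (ModuleCat.freeMk f) = _
    erw [ModuleCat.freeDesc_apply]
    rfl
  change ((ModuleCat.free (O.obj.obj (op W))).map (S.functorInclusion.app (op W))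
      (ModuleCat.freeMk ⟨g ≫ f, hg⟩)) ⊗ₜ[O.obj.obj (op W)] (N₀.map g.op n) =
    (((PresheafOfModules.free (R₀ O)).obj (yoneda.obj U)).map g.op
      (ModuleCat.freeMk f)) ⊗ₜ[O.obj.obj (op W)] (N₀.map g.op n)
  rw [h1, h2]
  rfl

theorem tensor_free_induction {R : Type u} [CommRing R] {X : Type u} {N : Type u}
    [AddCommGroup N] [Module R N] (P : TensorProduct R (X →₀ R) N → Prop) (h0 : P 0)
    (hadd : ∀ a b, P a → P b → P (a + b))
    (hpure : ∀ (f : X) (n : N), P (Finsupp.single f 1 ⊗ₜ[R] n)) : ∀ z, P z := by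
  intro z
  induction z using TensorProduct.induction_on with
  | zero => exact h0
  | add a b ha hb => exact hadd a b ha hb
  | tmul x n =>
    induction x using Finsupp.induction_linear with
    | zero => rw [TensorProduct.zero_tmul]; exact h0
    | add a b ha hb => rw [TensorProduct.add_tmul]; exact hadd _ _ ha hb
    | single f r =>
      have h : (Finsupp.single f r : X →₀ R) ⊗ₜ[R] n = Finsupp.single f 1 ⊗ₜ[R] (r • n) := by
        rw [← TensorProduct.smul_tmul, Finsupp.smul_single_one]
      rw [h]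
      exact hpure f _

theorem sieveMap_locallySurjective (hS : S ∈ J U) :
    Presheaf.IsLocallySurjective J
      ((PresheafOfModules.toPresheaf (R₀ O)).map (sieveMap N₀ S)) := by
  constructor
  intro V z
  refine tensor_free_induction (R := O.obj.obj (op V)) (X := (yoneda.obj U).obj (op V))
    (N := N₀.obj (op V))
    (fun z => Presheaf.imageSieve
      ((PresheafOfModules.toPresheaf (R₀ O)).map (sieveMap N₀ S)) (U := V) z ∈ J V) ?_ ?_ ?_ z
  · exact imageSieve_zero_mem (J := J)
      ((PresheafOfModules.toPresheaf (R₀ O)).map (sieveMap N₀ S)) V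
  · intro s t hs ht
    exact imageSieve_add_mem (J := J)
      ((PresheafOfModules.toPresheaf (R₀ O)).map (sieveMap N₀ S)) V s t hs ht
  · intro f n
    refine J.superset_covering ?_ (J.pullback_stable f hS)
    intro W g hg
    exact ⟨_, sieveMap_app_tmul N₀ S f g hg n⟩

theorem isIso_shf_map_sieveMap (hS : S ∈ J U) : IsIso ((shf O).map (sieveMap N₀ S)) := by
  rw [isIso_shf_map_iff, GrothendieckTopology.W_iff_isLocallyBijective]
  exact ⟨sieveMap_locallyInjective N₀ S, sieveMap_locallySurjective N₀ S hS⟩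

end WLemma

section InternalHom

/-- The presheaf-level internal hom `Hom(N₀, -)`: the right adjoint of `- ⊗ N₀`. -/
noncomputable def H (N₀ : PM O) : PM O ⥤ PM O := (tensorRight N₀).rightAdjoint

/-- The presheaf-level tensor-hom adjunction. -/
noncomputable def tensorAdj (N₀ : PM O) : tensorRight N₀ ⊣ H N₀ := Adjunction.ofIsLeftAdjoint _

theorem existsUnique_of_isIso_map {A B : Type*} [Category A] [Category B] {L : A ⥤ B} {R : B ⥤ A}
    (adj : L ⊣ R) {X Y : A} (ι : X ⟶ Y) [IsIso (L.map ι)] (P : B) (f : X ⟶ R.obj P) :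
    ∃! g : Y ⟶ R.obj P, ι ≫ g = f := by
  refine ⟨adj.homEquiv _ _ (inv (L.map ι) ≫ (adj.homEquiv _ _).symm f), ?_, ?_⟩
  · dsimp only
    rw [← Adjunction.homEquiv_naturality_left, IsIso.hom_inv_id_assoc, Equiv.apply_symm_apply]
  · intro g hg
    subst hg
    rw [Adjunction.homEquiv_naturality_left_symm, IsIso.inv_hom_id_assoc, Equiv.apply_symm_apply]

/-- The composite adjunction `sets ⇄ presheaf modules ⇄ presheaf modules ⇄ sheaf modules`. -/
noncomputable def bigAdj (N₀ : PM O) :
    PresheafOfModules.free (R₀ O) ⋙ (tensorRight N₀ ⋙ shf O) ⊣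
      (incl O ⋙ H N₀) ⋙ (PresheafOfModules.toPresheaf (R₀ O) ⋙
        (Functor.whiskeringRight _ _ _).obj (forget AddCommGrpCat.{u})) :=
  (PresheafOfModules.freeAdjunction (R₀ O)).comp ((tensorAdj N₀).comp (shfAdj O))

theorem isSheaf_H (N₀ : PM O) (P : ModSite.Mod O) :
    Presheaf.IsSheaf J ((H N₀).obj ((incl O).obj P)).presheaf := by
  rw [Presheaf.isSheaf_iff_isSheaf_forget J _ (forget AddCommGrpCat.{u}),
    isSheaf_iff_isSheaf_of_type]
  intro U S hS
  rw [Presieve.isSheafFor_iff_yonedaSheafCondition]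
  intro f
  have : IsIso ((PresheafOfModules.free (R₀ O) ⋙ (tensorRight N₀ ⋙ shf O)).map
      S.functorInclusion) := isIso_shf_map_sieveMap N₀ S hS
  exact existsUnique_of_isIso_map (bigAdj N₀) S.functorInclusion P f

/-- The sheaf-level internal hom `Hom_O(N₀, -)`. -/
noncomputable def Hsh (N₀ : PM O) : ModSite.Mod O ⥤ ModSite.Mod O where
  obj P := ⟨(H N₀).obj ((incl O).obj P), isSheaf_H N₀ P⟩
  map f := ⟨(H N₀).map ((incl O).map f)⟩
  map_id P := by
    apply SheafOfModules.hom_ext
    simp
    rfl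
  map_comp f g := by
    apply SheafOfModules.hom_ext
    simp
    rfl

/-- The tensor-hom adjunction on sheaves of modules. -/
noncomputable def sheafHomAdj (N : ModSite.Mod O) :
    (ModSite.tensorBi O).flip.obj N ⊣ Hsh ((toPM O).obj N) :=
  ((tensorAdj ((toPM O).obj N)).comp (shfAdj O)).restrictFullyFaithful
    (iC := toPM O) (iD := 𝟭 (ModSite.Mod O))
    (SheafOfModules.fullyFaithfulForget _) (Functor.FullyFaithful.id _)
    ((Functor.rightUnitor ((ModSite.tensorBi O).flip.obj N)).symm)
    (Functor.leftUnitor _ ≪≫ NatIso.ofComponents (fun P => Iso.refl _) (by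
      intro P Q f
      simp
      rfl))

theorem hasSheafHom (N : ModSite.Mod O) : ModSite.HasSheafHom N :=
  (sheafHomAdj N).isLeftAdjoint

end InternalHom

end Groth.Agent.H31
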