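import Mathlib
import Groth.Agent.H40.LTensorInv
import Groth.Agent.H6.QCoprod
import Groth.Agent.H31.KFlatColim
import Groth.Agent.H31.GrothAb
import Groth.Agent.H31.TensorSite

/-!
# `- ⊗^L D` commutes with coproducts (helper31)
-/

set_option backward.isDefEq.respectTransparency false
set_option linter.style.haveILetI false
set_option autoImplicit false
set_option synthInstance.maxHeartbeats 400000
universe u
open CategoryTheory CategoryTheory.Limits HomologicalComplex
attribute [local instance] HasDerivedCategory.standard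

namespace Groth.Agent.H31.LTensorCoprod

open Groth.Agent.H31 Groth.Agent.H31.KFlat Groth.Agent.H40.LTensorComp Groth.Agent.H40.LTensorInv
  Groth.Agent.H53.SiteTensor Groth.Agent.H40.LeftDer DerivedCategory

variable {C : Type u} [SmallCategory C] {J : GrothendieckTopology C} {O : Sheaf J CommRingCat.{u}}

instance preservesColimits_Tf_obj (X : ModSite.Mod O) :
    PreservesColimitsOfSize.{u, u} ((Tf O).obj X) := by
  have : ((ModSite.tensorBi O).flip.obj X).IsLeftAdjoint := hasSheafHom X
  exact (Adjunction.ofIsLeftAdjoint ((ModSite.tensorBi O).flip.obj X)).leftAdjoint_preservesColimits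

/-- The flip isomorphism `Tot_{Tf}(D, -) ≅ Tot(- ⊗ D)`. -/
noncomputable def flipIso (D : CochainComplex (ModSite.Mod O) ℤ) :
    (Tf O).map₂CochainComplex.obj D ≅ (ModSite.tensorCx O).flip.obj D :=
  NatIso.ofComponents
    (fun P => mapBifunctorFlipIso P D (ModSite.tensorBi O) (ComplexShape.up ℤ))
    (fun {P P'} f => by
      exact mapBifunctorFlipIso_hom_naturality (φ₁ := f) (φ₂ := 𝟙 D) (F := ModSite.tensorBi O)
        (c := ComplexShape.up ℤ))

theorem kf_sigma {ι : Type u} (P : ι → CochainComplex (ModSite.Mod O) ℤ)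
    (hP : ∀ i, KF (Tf O) (P i)) : KF (Tf O) (∐ P) := by
  haveI : IsGrothendieckAbelian.{u} (ModSite.Mod O) :=
    Groth.Agent.H31.GrothAb.isGrothendieckAbelian J (ModSite.ringSh O)
  intro N hN
  exact acyclic_mapBifunctor_of_isColimit (Tf O) N (Discrete.functor P)
    (colimit.cocone (Discrete.functor P)) (colimit.isColimit _) (fun j => hP j.as N hN)

theorem preservesCoproduct_LTensorCx (D : CochainComplex (ModSite.Mod O) ℤ)
    [ModSite.HasLTensorCx D] {ι : Type u} (P : ι → CochainComplex (ModSite.Mod O) ℤ)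
    (hP : ∀ i, KF (Tf O) (P i)) :
    PreservesColimit (Discrete.functor (fun i => Q.obj (P i))) (ModSite.LTensorCx D) := by
  haveI : IsGrothendieckAbelian.{u} (ModSite.Mod O) :=
    Groth.Agent.H31.GrothAb.isGrothendieckAbelian J (ModSite.ringSh O)
  let c : Cofan P := Cofan.mk (∐ P) (Sigma.ι P)
  have hc : IsColimit c := coproductIsCoproduct P
  have hQ := Groth.Agent.H6.QCoprod.isColimitQCofan c hc
  let G := (ModSite.tensorCx O).flip.obj D
  have h0 : IsColimit (((Tf O).map₂CochainComplex.obj D).mapCocone c) :=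
    isColimitMapCocone (Tf O) D (Discrete.functor P) c hc
  have h1 : IsColimit (G.mapCocone c) := IsColimit.mapCoconeEquiv (flipIso D) h0
  let c' : Cofan (fun i => G.obj (P i)) :=
    Cofan.mk (G.obj (∐ P)) (fun i => G.map (Sigma.ι P i))
  have hc' : IsColimit c' := (isColimitMapCoconeCofanMkEquiv G P (Sigma.ι P)) h1
  have hQ' := Groth.Agent.H6.QCoprod.isColimitQCofan c' hc'
  have hε : IsIso ((ε D).app (∐ P)) := isIso_ε_app D _ (kf_sigma P hP)
  have hεi : ∀ i, IsIso ((ε D).app (P i)) := fun i => isIso_ε_app D _ (hP i)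
  have nat : ∀ j, (ModSite.LTensorCx D).map (Q.map (Sigma.ι P j)) ≫ (ε D).app (∐ P) =
      (ε D).app (P j) ≫ Q.map (G.map (Sigma.ι P j)) :=
    fun j => (ε D).naturality (Sigma.ι P j)
  apply preservesColimit_of_preserves_colimit_cocone hQ
  refine (isColimitMapCoconeCofanMkEquiv (ModSite.LTensorCx D) _ _).symm ?_
  refine Cofan.IsColimit.mk _ (fun s => (ε D).app (∐ P) ≫
    Cofan.IsColimit.desc hQ' (fun j => inv ((ε D).app (P j)) ≫ s.inj j)) ?_ ?_
  · intro s j
    have h2 := Cofan.IsColimit.fac hQ' (fun j => inv ((ε D).app (P j)) ≫ s.inj j) j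
    change Q.map (G.map (Sigma.ι P j)) ≫ _ = _ at h2
    change (ModSite.LTensorCx D).map (Q.map (Sigma.ι P j)) ≫ _ ≫ _ = _
    rw [← Category.assoc, nat j, Category.assoc, h2, IsIso.hom_inv_id_assoc]
  · intro s m hm
    rw [← IsIso.inv_comp_eq]
    apply Cofan.IsColimit.hom_ext hQ'
    intro j
    have h2 := Cofan.IsColimit.fac hQ' (fun j => inv ((ε D).app (P j)) ≫ s.inj j) j
    rw [h2]
    change Q.map (G.map (Sigma.ι P j)) ≫ _ ≫ m = _
    have h3 : Q.map (G.map (Sigma.ι P j)) ≫ inv ((ε D).app (∐ P)) =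
        inv ((ε D).app (P j)) ≫ (ModSite.LTensorCx D).map (Q.map (Sigma.ι P j)) := by
      rw [IsIso.comp_inv_eq, Category.assoc, nat j, IsIso.inv_hom_id_assoc]
    rw [← Category.assoc, h3, Category.assoc]
    congr 1
    exact hm j

theorem isIso_sigmaDesc_LTensorCx (D : CochainComplex (ModSite.Mod O) ℤ)
    [ModSite.HasLTensorCx D] {ι : Type u} (K : ι → DerivedCategory (ModSite.Mod O))
    [HasCoproduct K] [HasCoproduct (fun i => (ModSite.LTensorCx D).obj (K i))] :
    IsIso (Sigma.desc (fun i => (ModSite.LTensorCx D).map (Sigma.ι K i))) := by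
  have := hasExactColimitsOfShape_nat_Mod (O := O)
  have hmod : ∀ i, ∃ (P : CochainComplex (ModSite.Mod O) ℤ), KF (Tf O) P ∧
      Nonempty (Q.obj P ≅ K i) := by
    intro i
    obtain ⟨P, q, h1, -, hq, -⟩ :=
      exists_kflat_resolution (T := Tf O) (tensorLike_Tf O) (Q.objPreimage (K i))
    have hq' : IsIso (Q.map q) := (DerivedCategory.isIso_Q_map_iff_quasiIso _ _).2 hq
    exact ⟨P, h1, ⟨asIso (Q.map q) ≪≫ Q.objObjPreimageIso (K i)⟩⟩
  choose P hP he using hmod
  have hp := preservesCoproduct_LTensorCx D P hP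
  have hp' : PreservesColimit (Discrete.functor K) (ModSite.LTensorCx D) :=
    preservesColimit_of_iso_diagram (ModSite.LTensorCx D)
      (Discrete.natIso (F := Discrete.functor (fun i => Q.obj (P i))) (G := Discrete.functor K)
        (fun i => (he i.as).some))
  exact inferInstanceAs (IsIso (sigmaComparison (ModSite.LTensorCx D) K))

end Groth.Agent.H31.LTensorCoprod
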