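import Groth.Agent.H31.MVTri
import Groth.Agent.H31.RpushRestrict
import Groth.Agent.S0476

/-!
# Mayer–Vietoris triangles for `Rj_*`, `Rf_*` and `RΓ` (helper31)
-/

set_option backward.isDefEq.respectTransparency false
set_option autoImplicit false
universe w v' u' u
open CategoryTheory CategoryTheory.Limits AlgebraicGeometry Pretriangulated
attribute [local instance] HasDerivedCategory.standard

namespace Groth.Agent.H31.MV

open Groth.Agent.H5.KInjDer Groth.Agent.H31.RpushRestrict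

/-- Transport a distinguished triangle along isomorphisms of its three vertices. -/
theorem exists_triangle_of_isos {C : Type*} [Category C] [HasZeroObject C] [HasShift C ℤ]
    [Preadditive C] [∀ n : ℤ, (shiftFunctor C n).Additive] [Pretriangulated C]
    {A M N A' M' N' : C} (a : A ⟶ M) (b : M ⟶ N) (c : N ⟶ A⟦(1 : ℤ)⟧)
    (h : Triangle.mk a b c ∈ distTriang C) (eA : A ≅ A') (eM : M ≅ M') (eN : N ≅ N') :
    ∃ (a' : A' ⟶ M') (b' : M' ⟶ N') (c' : N' ⟶ A'⟦(1 : ℤ)⟧),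
      Triangle.mk a' b' c' ∈ distTriang C := by
  refine ⟨eA.inv ≫ a ≫ eM.hom, eM.inv ≫ b ≫ eN.hom, eN.inv ≫ c ≫ eA.hom⟦1⟧', ?_⟩
  refine isomorphic_distinguished _ h _ (Triangle.isoMk _ _ eA.symm eM.symm eN.symm ?_ ?_ ?_)
  · simp
  · simp
  · simp [← Functor.map_comp]

variable {X : Scheme.{u}} (U V : X.Opens)

section General

variable {𝒜 : Type u'} [Category.{v'} 𝒜] [Abelian 𝒜] [HasDerivedCategory.{w} 𝒜]
  (Φ : X.Modules ⥤ 𝒜) [Φ.Additive]

theorem exists_triangle_general (hUV : U ⊔ V = ⊤)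
    (I : CochainComplex X.Modules ℤ) (hI : ∀ n, Injective (I.X n))
    {A' MU MV N' : DerivedCategory 𝒜}
    (e0 : DerivedCategory.Q.obj ((Φc Φ).obj I) ≅ A')
    (eU : DerivedCategory.Q.obj ((Φc Φ).obj ((Tc U).obj I)) ≅ MU)
    (eV : DerivedCategory.Q.obj ((Φc Φ).obj ((Tc V).obj I)) ≅ MV)
    (eW : DerivedCategory.Q.obj ((Φc Φ).obj ((Tc (U ⊓ V)).obj I)) ≅ N') :
    ∃ (a : A' ⟶ MU ⊞ MV) (b : MU ⊞ MV ⟶ N') (c : N' ⟶ A'⟦(1 : ℤ)⟧),
      Triangle.mk a b c ∈ distTriang (DerivedCategory 𝒜) := by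
  obtain ⟨δ, hδ⟩ := exists_MV_triangle U V Φ I hUV hI
  exact exists_triangle_of_isos _ _ _ hδ e0 (middleIso U V Φ I ≪≫ biprod.mapIso eU eV) eW

/-- The comparison isomorphism `Q(Φ(j_* (I|_W))) ≅ RΦ_W (E|_W)`. -/
noncomputable def isoOfUnit (W : X.Opens)
    [PreservesFiniteLimits (Scheme.Modules.restrictFunctor W.ι)]
    (ΦW : (W : Scheme.{u}).Modules ⥤ 𝒜) [ΦW.Additive]
    (θ : Scheme.Modules.pushforward W.ι ⋙ Φ ≅ ΦW)
    (RW : DCoh.D (W : Scheme.{u}) ⥤ DerivedCategory 𝒜)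
    (uW : ΦW.mapHomologicalComplex (ComplexShape.up ℤ) ⋙ DerivedCategory.Q ⟶
      DerivedCategory.Q ⋙ RW)
    (I : CochainComplex X.Modules ℤ)
    (hu : IsIso (uW.app (((Scheme.Modules.restrictFunctor W.ι).mapHomologicalComplex
      (ComplexShape.up ℤ)).obj I)))
    (E : DCoh.D X) (eE : E ≅ DerivedCategory.Q.obj I) :
    DerivedCategory.Q.obj ((Φc Φ).obj ((Tc W).obj I)) ≅ RW.obj ((DCoh.restrictD W.ι).obj E) :=
  let J := ((Scheme.Modules.restrictFunctor W.ι).mapHomologicalComplex (ComplexShape.up ℤ)).obj I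
  let e1 : (Φc Φ).obj ((Tc W).obj I) ≅ (ΦW.mapHomologicalComplex (ComplexShape.up ℤ)).obj J :=
    (NatIso.mapHomologicalComplex θ (ComplexShape.up ℤ)).app J
  haveI := hu
  DerivedCategory.Q.mapIso e1 ≪≫ (asIso (uW.app J)) ≪≫
    RW.mapIso (((Scheme.Modules.restrictFunctor W.ι).mapDerivedCategoryFactors.app I).symm ≪≫
      (DCoh.restrictD W.ι).mapIso eE.symm)

end General

/-- Every object of `D(O_X)` is represented by a K-injective complex with injective terms. -/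
theorem exists_kinj_rep (E : DCoh.D X) :
    ∃ (I : CochainComplex X.Modules ℤ), I.IsKInjective ∧ (∀ n, Injective (I.X n)) ∧
      Nonempty (E ≅ DerivedCategory.Q.obj I) := by
  obtain ⟨I, f, hK, hf, -, hinj⟩ := Groth.Agent.S0476.result (DerivedCategory.Q.objPreimage E)
  haveI : IsIso (DerivedCategory.Q.map f) :=
    (DerivedCategory.isIso_Q_map_iff_quasiIso _ f).2 hf
  exact ⟨I, hK, hinj,
    ⟨(DerivedCategory.Q.objObjPreimageIso E).symm ≪≫ asIso (DerivedCategory.Q.map f)⟩⟩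

end Groth.Agent.H31.MV
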