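import Mathlib.AlgebraicGeometry.Modules.Sheaf
import Mathlib.AlgebraicGeometry.Restrict
import Mathlib.Algebra.Homology.ShortComplex.ShortExact

/-!
# The Mayer–Vietoris short exact sequence of modules, formal part (helper31)

* `shortExact_of_biproduct_isos` : a short complex `A ⟶ B₁ ⊞ B₂ ⟶ C` (biproduct given by maps satisfying the
  usual identities) with `A ⟶ B₁` and `B₂ ⟶ C` invertible is short exact.
* `T U = j_* j^*`, its unit `η U`, `isIso_η_app_app`.
-/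

set_option autoImplicit false
universe v u
open CategoryTheory CategoryTheory.Limits AlgebraicGeometry TopologicalSpace

namespace Groth.Agent.H31.MV

section Abstract

variable {𝒜 : Type u} [Category.{v} 𝒜] [Abelian 𝒜]

/-- A short complex `A ⟶ B ⟶ C`, with `B` a biproduct of `B₁` and `B₂`, such that `A ⟶ B₁` and
`B₂ ⟶ C` are invertible, is split short exact. -/
theorem shortExact_of_biproduct_isos (S : ShortComplex 𝒜) {B₁ B₂ : 𝒜}
    (i₁ : B₁ ⟶ S.X₂) (i₂ : B₂ ⟶ S.X₂) (p₁ : S.X₂ ⟶ B₁) (p₂ : S.X₂ ⟶ B₂)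
    (htot : p₁ ≫ i₁ + p₂ ≫ i₂ = 𝟙 S.X₂)
    (ha : IsIso (S.f ≫ p₁)) (hb : IsIso (i₂ ≫ S.g)) : S.ShortExact := by
  -- notation
  set a := S.f ≫ p₁ with ha'
  set b := i₂ ≫ S.g with hb'
  set c := S.f ≫ p₂ with hc'
  set d := i₁ ≫ S.g with hd'
  have hf : S.f = a ≫ i₁ + c ≫ i₂ := by
    have := congrArg (fun t => S.f ≫ t) htot
    simp only [Preadditive.comp_add, Category.comp_id] at this
    rw [← this, ← Category.assoc, ← Category.assoc]
  have hg : S.g = p₁ ≫ d + p₂ ≫ b := by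
    have := congrArg (fun t => t ≫ S.g) htot
    simp only [Preadditive.add_comp, Category.id_comp] at this
    rw [← this, Category.assoc, Category.assoc]
  have hz : a ≫ d + c ≫ b = 0 := by
    have h0 : S.f ≫ (p₁ ≫ i₁ + p₂ ≫ i₂) ≫ S.g = 0 := by rw [htot, Category.id_comp, S.zero]
    show (S.f ≫ p₁) ≫ (i₁ ≫ S.g) + (S.f ≫ p₂) ≫ (i₂ ≫ S.g) = 0
    simpa only [Preadditive.comp_add, Preadditive.add_comp, Category.assoc] using h0
  have hz' : inv a ≫ c + d ≫ inv b = 0 := by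
    have h1 : inv a ≫ (a ≫ d + c ≫ b) ≫ inv b = 0 := by rw [hz]; simp
    simp only [Preadditive.add_comp, Preadditive.comp_add, Category.assoc, IsIso.hom_inv_id,
      Category.comp_id, IsIso.inv_hom_id_assoc] at h1
    rw [add_comm]
    exact h1
  have hsplit : S.Splitting :=
    { r := p₁ ≫ inv a
      s := inv b ≫ i₂
      f_r := by
        rw [← Category.assoc]
        exact IsIso.hom_inv_id a
      s_g := by
        rw [Category.assoc]
        exact IsIso.inv_hom_id b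
      id := by
        have e1 : (p₁ ≫ inv a) ≫ S.f = p₁ ≫ i₁ + p₁ ≫ (inv a ≫ c) ≫ i₂ := by
          rw [hf]
          simp only [Preadditive.comp_add, Category.assoc, IsIso.inv_hom_id_assoc]
        have e2 : S.g ≫ inv b ≫ i₂ = p₁ ≫ (d ≫ inv b) ≫ i₂ + p₂ ≫ i₂ := by
          rw [hg]
          simp only [Preadditive.add_comp, Category.assoc, IsIso.hom_inv_id_assoc]
        rw [e1, e2]
        have e3 : p₁ ≫ (inv a ≫ c) ≫ i₂ + p₁ ≫ (d ≫ inv b) ≫ i₂ = 0 := by
          rw [← Preadditive.comp_add, ← Preadditive.add_comp, hz', zero_comp, comp_zero]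
        calc p₁ ≫ i₁ + p₁ ≫ (inv a ≫ c) ≫ i₂ + (p₁ ≫ (d ≫ inv b) ≫ i₂ + p₂ ≫ i₂)
            = (p₁ ≫ i₁ + p₂ ≫ i₂) + (p₁ ≫ (inv a ≫ c) ≫ i₂ + p₁ ≫ (d ≫ inv b) ≫ i₂) := by abel
          _ = 𝟙 S.X₂ := by rw [e3, htot, add_zero] }
  exact hsplit.shortExact

end Abstract

section Unit

variable {X : Scheme.{u}} (U : X.Opens)

/-- `T_U = j_* j^*`. -/
noncomputable abbrev T : X.Modules ⥤ X.Modules :=
  Scheme.Modules.restrictFunctor U.ι ⋙ Scheme.Modules.pushforward U.ι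

/-- The unit `𝟭 ⟶ j_* j^*`. -/
noncomputable abbrev η : 𝟭 X.Modules ⟶ T U := (Scheme.Modules.restrictAdjunction U.ι).unit

theorem image_preimage_eq_of_le (Ω : X.Opens) (h : Ω ≤ U) : U.ι ''ᵁ U.ι ⁻¹ᵁ Ω = Ω := by
  rw [Scheme.Hom.image_preimage_eq_opensRange_inf, Scheme.Opens.opensRange_ι]
  exact inf_eq_right.2 h

/-- The unit is invertible on sections over opens contained in `U`. -/
theorem isIso_η_app_app (F : X.Modules) (Ω : X.Opens) (h : Ω ≤ U) :
    IsIso (((η U).app F).app Ω) := by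
  have e := image_preimage_eq_of_le U Ω h
  rw [Scheme.Modules.restrictAdjunction_unit_app_app]
  have h2 : homOfLE (U.ι.image_preimage_le Ω) = eqToHom e := Subsingleton.elim _ _
  rw [h2]
  exact (F.presheaf.mapIso (eqToIso e).op).isIso_hom


theorem restrict_map_app {A : Scheme.{u}} (j : A ⟶ X) [IsOpenImmersion j] {M N : X.Modules}
    (φ : M ⟶ N) (O : A.Opens) :
    ((Scheme.Modules.restrictFunctor j).map φ).app O = φ.app (j ''ᵁ O) := rfl

theorem isIso_restrict_map_of_sections {A : Scheme.{u}} (j : A ⟶ X) [IsOpenImmersion j]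
    {M N : X.Modules} (φ : M ⟶ N) (h : ∀ O : A.Opens, IsIso (φ.app (j ''ᵁ O))) :
    IsIso ((Scheme.Modules.restrictFunctor j).map φ) := by
  rw [Scheme.Modules.Hom.isIso_iff_isIso_app]
  intro O
  rw [restrict_map_app]
  exact h O

/-- The unit of `T_U` is invertible on every open subscheme `W ≤ U`. -/
theorem isIso_restrict_η (W : X.Opens) (h : W ≤ U) (F : X.Modules) :
    IsIso ((Scheme.Modules.restrictFunctor W.ι).map ((η U).app F)) :=
  isIso_restrict_map_of_sections _ _ (fun O =>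
    isIso_η_app_app U F _ ((W.ι_image_le O).trans h))

/-- The unit of `T_W` at a module pushed forward from `V` is invertible on sections over `Ω`, as
soon as `W ∩ Ω` and `Ω` have the same trace on `V`. -/
theorem isIso_η_app_app_push (W V : X.Opens) (N : (V : Scheme.{u}).Modules) (Ω : X.Opens)
    (h : V.ι ⁻¹ᵁ (W.ι ''ᵁ W.ι ⁻¹ᵁ Ω) = V.ι ⁻¹ᵁ Ω) :
    IsIso (((η W).app ((Scheme.Modules.pushforward V.ι).obj N)).app Ω) := by
  rw [Scheme.Modules.restrictAdjunction_unit_app_app]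
  show IsIso (N.presheaf.map ((Opens.map V.ι.base).map (homOfLE (W.ι.image_preimage_le Ω))).op)
  have h2 : (Opens.map V.ι.base).map (homOfLE (W.ι.image_preimage_le Ω)) = eqToHom h :=
    Subsingleton.elim _ _
  rw [h2]
  exact (N.presheaf.mapIso (eqToIso h).op).isIso_hom

theorem preimage_image_preimage_inf (U V : X.Opens) (Ω : X.Opens) (h : Ω ≤ U) :
    V.ι ⁻¹ᵁ ((U ⊓ V).ι ''ᵁ (U ⊓ V).ι ⁻¹ᵁ Ω) = V.ι ⁻¹ᵁ Ω := by
  rw [Scheme.Hom.image_preimage_eq_opensRange_inf, Scheme.Opens.opensRange_ι]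
  ext x
  constructor
  · rintro ⟨-, h2⟩
    exact h2
  · intro h2
    exact ⟨⟨h h2, x.2⟩, h2⟩

theorem preimage_image_preimage_inf' (U V : X.Opens) (Ω : X.Opens) (h : Ω ≤ V) :
    U.ι ⁻¹ᵁ ((U ⊓ V).ι ''ᵁ (U ⊓ V).ι ⁻¹ᵁ Ω) = U.ι ⁻¹ᵁ Ω := by
  rw [Scheme.Hom.image_preimage_eq_opensRange_inf, Scheme.Opens.opensRange_ι]
  ext x
  constructor
  · rintro ⟨-, h2⟩
    exact h2
  · intro h2
    exact ⟨⟨x.2, h h2⟩, h2⟩

end Unit

end Groth.Agent.H31.MV
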