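import Groth.Agent.H31.MVMod
import Groth.Agent.H31.LocalD

/-!
# The Mayer–Vietoris short exact sequence `0 → F → j_{U*}F|_U ⊕ j_{V*}F|_V → j_{W*}F|_W → 0` (helper31)

* `exact_of_cover`, `shortExact_of_cover` : exactness of complexes of modules is local.
* `ρ U W h : T U ⟶ T W` for `W ≤ U`; `η_ρ`.
* `B U V`, `aT`, `bT`, `inlT`, `inrT`, `fstT`, `sndT`, `MVsc U V F`.
* `MV_shortExact`.
-/

set_option backward.isDefEq.respectTransparency false
set_option autoImplicit false
universe u
open CategoryTheory CategoryTheory.Limits AlgebraicGeometry TopologicalSpace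

namespace Groth.Agent.H31.MV

open Groth.Agent.H31.LocalD

variable {X : Scheme.{u}}

section Local

/-- Exactness of a short complex of modules can be checked on an open cover. -/
theorem exact_of_cover (S : ShortComplex X.Modules) (U V : X.Opens) (hUV : U ⊔ V = ⊤)
    (hU : (S.map (Scheme.Modules.restrictFunctor U.ι)).Exact)
    (hV : (S.map (Scheme.Modules.restrictFunctor V.ι)).Exact) : S.Exact := by
  rw [ShortComplex.exact_iff_isZero_homology] at hU hV ⊢
  refine isZero_of_cover _ U V hUV ?_ ?_
  · exact IsZero.of_iso hU (S.mapHomologyIso (Scheme.Modules.restrictFunctor U.ι)).symm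
  · exact IsZero.of_iso hV (S.mapHomologyIso (Scheme.Modules.restrictFunctor V.ι)).symm

/-- Short exactness of a short complex of modules can be checked on an open cover. -/
theorem shortExact_of_cover (S : ShortComplex X.Modules) (U V : X.Opens) (hUV : U ⊔ V = ⊤)
    (hU : (S.map (Scheme.Modules.restrictFunctor U.ι)).ShortExact)
    (hV : (S.map (Scheme.Modules.restrictFunctor V.ι)).ShortExact) : S.ShortExact := by
  have hex := exact_of_cover S U V hUV hU.exact hV.exact
  have hmono : Mono S.f := by
    let S₁ : ShortComplex X.Modules := ShortComplex.mk (0 : S.X₁ ⟶ S.X₁) S.f zero_comp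
    have h1 : S₁.Exact := by
      refine exact_of_cover S₁ U V hUV ?_ ?_
      · exact ((S₁.map (Scheme.Modules.restrictFunctor U.ι)).exact_iff_mono
          (by simp [S₁])).2 hU.mono_f
      · exact ((S₁.map (Scheme.Modules.restrictFunctor V.ι)).exact_iff_mono
          (by simp [S₁])).2 hV.mono_f
    exact (S₁.exact_iff_mono rfl).1 h1
  have hepi : Epi S.g := by
    let S₃ : ShortComplex X.Modules := ShortComplex.mk S.g (0 : S.X₃ ⟶ S.X₃) comp_zero
    have h1 : S₃.Exact := by
      refine exact_of_cover S₃ U V hUV ?_ ?_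
      · exact ((S₃.map (Scheme.Modules.restrictFunctor U.ι)).exact_iff_epi
          (by simp [S₃])).2 hU.epi_g
      · exact ((S₃.map (Scheme.Modules.restrictFunctor V.ι)).exact_iff_epi
          (by simp [S₃])).2 hV.epi_g
    exact (S₃.exact_iff_epi rfl).1 h1
  exact ShortComplex.ShortExact.mk' hex hmono hepi

end Local

section Rho

variable (U W : X.Opens) (h : W ≤ U)

include h in
theorem isIso_T_map_η (F : X.Modules) : IsIso ((T W).map ((η U).app F)) := by
  haveI := isIso_restrict_η U W h F
  exact Functor.map_isIso (Scheme.Modules.pushforward W.ι) _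

/-- The restriction map `j_{U*} F|_U ⟶ j_{W*} F|_W` for `W ≤ U`. -/
noncomputable def ρ : T U ⟶ T W where
  app F := (η W).app ((T U).obj F) ≫
    @inv _ _ _ _ ((T W).map ((η U).app F)) (isIso_T_map_η U W h F)
  naturality F F' φ := by
    haveI := isIso_T_map_η U W h F
    haveI := isIso_T_map_η U W h F'
    have h1 : (T U).map φ ≫ (η W).app ((T U).obj F') =
        (η W).app ((T U).obj F) ≫ (T W).map ((T U).map φ) := (η W).naturality ((T U).map φ)
    have h2 : (T W).map ((η U).app F) ≫ (T W).map ((T U).map φ) =
        (T W).map φ ≫ (T W).map ((η U).app F') := by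
      rw [← (T W).map_comp, ← (T W).map_comp]
      exact congrArg (T W).map ((η U).naturality φ).symm
    have h3 : inv ((T W).map ((η U).app F)) ≫ (T W).map φ =
        (T W).map ((T U).map φ) ≫ inv ((T W).map ((η U).app F')) := by
      rw [IsIso.inv_comp_eq, ← Category.assoc, h2, Category.assoc, IsIso.hom_inv_id,
        Category.comp_id]
    rw [← Category.assoc, h1, Category.assoc, Category.assoc, h3]

theorem η_ρ (F : X.Modules) : (η U).app F ≫ (ρ U W h).app F = (η W).app F := by
  haveI := isIso_T_map_η U W h F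
  have h1 : (η U).app F ≫ (η W).app ((T U).obj F) =
      (η W).app F ≫ (T W).map ((η U).app F) := (η W).naturality ((η U).app F)
  show (η U).app F ≫ (η W).app ((T U).obj F) ≫ inv ((T W).map ((η U).app F)) = _
  rw [← Category.assoc, h1, Category.assoc, IsIso.hom_inv_id, Category.comp_id]

end Rho

section Seq

variable (U V : X.Opens)

/-- `F ↦ j_{U*} F|_U ⊞ j_{V*} F|_V`. -/
noncomputable def B : X.Modules ⥤ X.Modules where
  obj F := (T U).obj F ⊞ (T V).obj F
  map φ := biprod.map ((T U).map φ) ((T V).map φ)
  map_id F := by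
    apply biprod.hom_ext <;> simp
  map_comp φ ψ := by
    apply biprod.hom_ext <;> simp

noncomputable def fstT : B U V ⟶ T U where
  app F := biprod.fst
  naturality _ _ φ := by simp [B]

noncomputable def sndT : B U V ⟶ T V where
  app F := biprod.snd
  naturality _ _ φ := by simp [B]

noncomputable def inlT : T U ⟶ B U V where
  app F := biprod.inl
  naturality _ _ φ := by simp [B]

noncomputable def inrT : T V ⟶ B U V where
  app F := biprod.inr
  naturality _ _ φ := by simp [B]

/-- `F ⟶ j_{U*} F|_U ⊞ j_{V*} F|_V`. -/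
noncomputable def aT : 𝟭 X.Modules ⟶ B U V where
  app F := biprod.lift ((η U).app F) ((η V).app F)
  naturality F F' φ := by
    apply biprod.hom_ext
    · simpa [B] using (η U).naturality φ
    · simpa [B] using (η V).naturality φ

/-- `j_{U*} F|_U ⊞ j_{V*} F|_V ⟶ j_{W*} F|_W`, the difference of the restrictions. -/
noncomputable def bT : B U V ⟶ T (U ⊓ V) where
  app F := biprod.desc ((ρ U (U ⊓ V) inf_le_left).app F) (-(ρ V (U ⊓ V) inf_le_right).app F)
  naturality F F' φ := by
    apply biprod.hom_ext'
    · simpa [B] using (ρ U (U ⊓ V) inf_le_left).naturality φ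
    · simpa [B] using (ρ V (U ⊓ V) inf_le_right).naturality φ

theorem aT_bT (F : X.Modules) : (aT U V).app F ≫ (bT U V).app F = 0 := by
  show biprod.lift ((η U).app F) ((η V).app F) ≫
    biprod.desc ((ρ U (U ⊓ V) inf_le_left).app F) (-(ρ V (U ⊓ V) inf_le_right).app F) = 0
  rw [biprod.lift_desc, Preadditive.comp_neg, η_ρ, η_ρ, add_neg_cancel]

/-- The Mayer–Vietoris short complex. -/
noncomputable def MVsc (F : X.Modules) : ShortComplex X.Modules :=
  ShortComplex.mk ((aT U V).app F) ((bT U V).app F) (aT_bT U V F)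


theorem isIso_neg' {𝒜 : Type*} [Category 𝒜] [Preadditive 𝒜] {A B : 𝒜} (f : A ⟶ B) [IsIso f] :
    IsIso (-f) :=
  ⟨-inv f, by simp, by simp⟩

theorem isIso_restrict_ρ_left (F : X.Modules) :
    IsIso ((Scheme.Modules.restrictFunctor V.ι).map ((ρ U (U ⊓ V) inf_le_left).app F)) := by
  haveI := isIso_T_map_η U (U ⊓ V) inf_le_left F
  haveI : IsIso ((Scheme.Modules.restrictFunctor V.ι).map ((η (U ⊓ V)).app ((T U).obj F))) :=
    isIso_restrict_map_of_sections _ _ (fun O =>
      isIso_η_app_app_push (U ⊓ V) U _ _
        (preimage_image_preimage_inf' U V _ (V.ι_image_le O)))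
  show IsIso ((Scheme.Modules.restrictFunctor V.ι).map
    ((η (U ⊓ V)).app ((T U).obj F) ≫ inv ((T (U ⊓ V)).map ((η U).app F))))
  rw [Functor.map_comp]
  infer_instance

theorem isIso_restrict_ρ_right (F : X.Modules) :
    IsIso ((Scheme.Modules.restrictFunctor U.ι).map ((ρ V (U ⊓ V) inf_le_right).app F)) := by
  haveI := isIso_T_map_η V (U ⊓ V) inf_le_right F
  haveI : IsIso ((Scheme.Modules.restrictFunctor U.ι).map ((η (U ⊓ V)).app ((T V).obj F))) :=
    isIso_restrict_map_of_sections _ _ (fun O =>
      isIso_η_app_app_push (U ⊓ V) V _ _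
        (preimage_image_preimage_inf U V _ (U.ι_image_le O)))
  show IsIso ((Scheme.Modules.restrictFunctor U.ι).map
    ((η (U ⊓ V)).app ((T V).obj F) ≫ inv ((T (U ⊓ V)).map ((η V).app F))))
  rw [Functor.map_comp]
  infer_instance

/-- The Mayer–Vietoris sequence `0 → F → j_{U*}F|_U ⊕ j_{V*}F|_V → j_{W*}F|_W → 0` is exact. -/
theorem MV_shortExact (hUV : U ⊔ V = ⊤) (F : X.Modules) : (MVsc U V F).ShortExact := by
  refine shortExact_of_cover _ U V hUV ?_ ?_
  · let R := Scheme.Modules.restrictFunctor U.ι
    refine shortExact_of_biproduct_isos ((MVsc U V F).map R) (R.map biprod.inl)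
      (R.map biprod.inr) (R.map biprod.fst) (R.map biprod.snd) ?_ ?_ ?_
    · rw [← R.map_comp, ← R.map_comp, ← R.map_add, biprod.total]
      exact R.map_id _
    · have h1 : ((MVsc U V F).map R).f ≫ R.map biprod.fst = R.map ((η U).app F) := by
        show R.map _ ≫ R.map _ = _
        rw [← R.map_comp]
        exact congrArg R.map (biprod.lift_fst _ _)
      rw [h1]
      exact isIso_restrict_η U U le_rfl F
    · have h1 : R.map biprod.inr ≫ ((MVsc U V F).map R).g =
          -R.map ((ρ V (U ⊓ V) inf_le_right).app F) := by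
        show R.map _ ≫ R.map _ = _
        rw [← R.map_comp, ← R.map_neg]
        exact congrArg R.map (biprod.inr_desc _ _)
      rw [h1]
      haveI := isIso_restrict_ρ_right U V F
      exact isIso_neg' _
  · let R := Scheme.Modules.restrictFunctor V.ι
    refine shortExact_of_biproduct_isos ((MVsc U V F).map R) (R.map biprod.inr)
      (R.map biprod.inl) (R.map biprod.snd) (R.map biprod.fst) ?_ ?_ ?_
    · rw [← R.map_comp, ← R.map_comp, ← R.map_add, add_comm, biprod.total]
      exact R.map_id _
    · have h1 : ((MVsc U V F).map R).f ≫ R.map biprod.snd = R.map ((η V).app F) := by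
        show R.map _ ≫ R.map _ = _
        rw [← R.map_comp]
        exact congrArg R.map (biprod.lift_snd _ _)
      rw [h1]
      exact isIso_restrict_η V V le_rfl F
    · have h1 : R.map biprod.inl ≫ ((MVsc U V F).map R).g =
          R.map ((ρ U (U ⊓ V) inf_le_left).app F) := by
        show R.map _ ≫ R.map _ = _
        rw [← R.map_comp]
        exact congrArg R.map (biprod.inl_desc _ _)
      rw [h1]
      exact isIso_restrict_ρ_left U V F

end Seq

end Groth.Agent.H31.MV
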