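import Groth.Agent.H31.MVSeq
import Mathlib.Algebra.Homology.DerivedCategory.ShortExact
import Mathlib.Algebra.Homology.HomologicalComplexAbelian

/-!
# The Mayer–Vietoris distinguished triangle for an additive functor applied to a complex of injectives
(helper31)

For `X = U ∪ V`, an additive functor `Φ : Mod(O_X) ⥤ 𝒜` and a complex `I` of injective `O_X`-modules, the sequence
`0 → Φ I → Φ (j_{U*} I|_U ⊕ j_{V*} I|_V) → Φ (j_{W*} I|_W) → 0` is a (termwise split) short exact sequence of
complexes, whence a distinguished triangle in `D(𝒜)`; the middle term is a biproduct in `D(𝒜)`.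
-/

set_option backward.isDefEq.respectTransparency false
set_option autoImplicit false
universe w v' u' u
open CategoryTheory CategoryTheory.Limits AlgebraicGeometry TopologicalSpace

namespace Groth.Agent.H31.MV

variable {X : Scheme.{u}} (U V : X.Opens)

instance B_additive : (B U V).Additive where
  map_add {F G φ ψ} := by
    show biprod.map ((T U).map (φ + ψ)) ((T V).map (φ + ψ)) =
      biprod.map ((T U).map φ) ((T V).map φ) + biprod.map ((T U).map ψ) ((T V).map ψ)
    apply biprod.hom_ext <;> simp [Functor.map_add]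

variable {𝒜 : Type u'} [Category.{v'} 𝒜] [Abelian 𝒜] [HasDerivedCategory.{w} 𝒜]
  (Φ : X.Modules ⥤ 𝒜) [Φ.Additive]

/-- The functor on complexes induced by `Φ`. -/
noncomputable abbrev Φc : CochainComplex X.Modules ℤ ⥤ CochainComplex 𝒜 ℤ :=
  Φ.mapHomologicalComplex (ComplexShape.up ℤ)

noncomputable abbrev Bc : CochainComplex X.Modules ℤ ⥤ CochainComplex X.Modules ℤ :=
  (B U V).mapHomologicalComplex (ComplexShape.up ℤ)

noncomputable abbrev Tc (W : X.Opens) : CochainComplex X.Modules ℤ ⥤ CochainComplex X.Modules ℤ :=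
  (T W).mapHomologicalComplex (ComplexShape.up ℤ)

variable (I : CochainComplex X.Modules ℤ)

/-- `I ⟶ B I`. -/
noncomputable def aC : I ⟶ (Bc U V).obj I :=
  (NatTrans.mapHomologicalComplex (aT U V) (ComplexShape.up ℤ)).app I

/-- `B I ⟶ T_W I`. -/
noncomputable def bC : (Bc U V).obj I ⟶ (Tc (U ⊓ V)).obj I :=
  (NatTrans.mapHomologicalComplex (bT U V) (ComplexShape.up ℤ)).app I

theorem aC_bC : aC U V I ≫ bC U V I = 0 := by
  apply HomologicalComplex.hom_ext
  intro n
  exact aT_bT U V (I.X n)

/-- The short complex of complexes `Φ I ⟶ Φ B I ⟶ Φ T_W I`. -/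
noncomputable def MVcx : ShortComplex (CochainComplex 𝒜 ℤ) :=
  ShortComplex.mk ((Φc Φ).map (aC U V I)) ((Φc Φ).map (bC U V I))
    (by rw [← Functor.map_comp, aC_bC, Functor.map_zero])

omit [HasDerivedCategory 𝒜] in
theorem MVcx_shortExact (hUV : U ⊔ V = ⊤) (hI : ∀ n, Injective (I.X n)) :
    (MVcx U V Φ I).ShortExact := by
  refine HomologicalComplex.shortExact_of_degreewise_shortExact _ (fun n => ?_)
  haveI := hI n
  have h0 := MV_shortExact U V hUV (I.X n)
  haveI : Injective (MVsc U V (I.X n)).X₁ := hI n
  have h1 : ((MVsc U V (I.X n)).map Φ).ShortExact := (h0.splittingOfInjective.map Φ).shortExact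
  exact h1

/-- The Mayer–Vietoris distinguished triangle. -/
theorem exists_MV_triangle (hUV : U ⊔ V = ⊤) (hI : ∀ n, Injective (I.X n)) :
    ∃ δ : DerivedCategory.Q.obj ((Φc Φ).obj ((Tc (U ⊓ V)).obj I)) ⟶
        (DerivedCategory.Q.obj ((Φc Φ).obj I))⟦(1 : ℤ)⟧,
      Pretriangulated.Triangle.mk (DerivedCategory.Q.map ((Φc Φ).map (aC U V I)))
        (DerivedCategory.Q.map ((Φc Φ).map (bC U V I))) δ ∈
        Pretriangulated.distinguishedTriangles :=
  ⟨DerivedCategory.triangleOfSESδ (MVcx_shortExact U V Φ I hUV hI),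
    DerivedCategory.triangleOfSES_distinguished (MVcx_shortExact U V Φ I hUV hI)⟩

/-- The middle term is a biproduct in the derived category. -/
noncomputable def middleIso :
    DerivedCategory.Q.obj ((Φc Φ).obj ((Bc U V).obj I)) ≅
      DerivedCategory.Q.obj ((Φc Φ).obj ((Tc U).obj I)) ⊞
        DerivedCategory.Q.obj ((Φc Φ).obj ((Tc V).obj I)) :=
  let FF : CochainComplex X.Modules ℤ ⥤ DerivedCategory 𝒜 := Φc Φ ⋙ DerivedCategory.Q
  let b : BinaryBicone (FF.obj ((Tc U).obj I)) (FF.obj ((Tc V).obj I)) :=
    { pt := FF.obj ((Bc U V).obj I)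
      fst := FF.map ((NatTrans.mapHomologicalComplex (fstT U V) (ComplexShape.up ℤ)).app I)
      snd := FF.map ((NatTrans.mapHomologicalComplex (sndT U V) (ComplexShape.up ℤ)).app I)
      inl := FF.map ((NatTrans.mapHomologicalComplex (inlT U V) (ComplexShape.up ℤ)).app I)
      inr := FF.map ((NatTrans.mapHomologicalComplex (inrT U V) (ComplexShape.up ℤ)).app I)
      inl_fst := by
        rw [← FF.map_comp, ← FF.map_id]
        congr 1
        apply HomologicalComplex.hom_ext
        intro n
        exact biprod.inl_fst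
      inl_snd := by
        rw [← FF.map_comp, ← FF.map_zero]
        congr 1
        apply HomologicalComplex.hom_ext
        intro n
        exact biprod.inl_snd
      inr_fst := by
        rw [← FF.map_comp, ← FF.map_zero]
        congr 1
        apply HomologicalComplex.hom_ext
        intro n
        exact biprod.inr_fst
      inr_snd := by
        rw [← FF.map_comp, ← FF.map_id]
        congr 1
        apply HomologicalComplex.hom_ext
        intro n
        exact biprod.inr_snd }
  have hb : b.IsBilimit := isBinaryBilimitOfTotal b (by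
    show FF.map _ ≫ FF.map _ + FF.map _ ≫ FF.map _ = 𝟙 _
    rw [← FF.map_comp, ← FF.map_comp, ← FF.map_add, ← FF.map_id]
    congr 1
    apply HomologicalComplex.hom_ext
    intro n
    exact biprod.total)
  biprod.uniqueUpToIso _ _ hb

end Groth.Agent.H31.MV
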