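import Mathlib
import Groth.Prelude.Def_CurvBase
import Groth.Agent.H14.NN.Defs

/-!
# (F1) for S7889 (helper14): the image point as a prime of `R`
-/

set_option autoImplicit false
set_option backward.isDefEq.respectTransparency false
set_option linter.style.haveILetI false
universe u
open CategoryTheory CategoryTheory.Limits AlgebraicGeometry

namespace Groth.Agent.H31.NN_F1

theorem asIdeal_eq_comap {R : Type u} [CommRing R] {X : Scheme.{u}}
    (f : X ⟶ Spec (CommRingCat.of R)) (x : X) :
    (f.base x).asIdeal =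
      (IsLocalRing.maximalIdeal (X.presheaf.stalk x)).comap (Groth.Agent.H14.NN.rho f x) := by
  ext r
  rw [Ideal.mem_comap, IsLocalRing.mem_maximalIdeal, mem_nonunits_iff]
  have h1 : r ∈ (f.base x).asIdeal ↔ ¬ (f.base x ∈ PrimeSpectrum.basicOpen r) :=
    (not_not (a := r ∈ (f.base x).asIdeal)).symm
  rw [h1, not_iff_not]
  have h2 : (f.base x ∈ PrimeSpectrum.basicOpen r) ↔
      x ∈ f ⁻¹ᵁ ((Spec (CommRingCat.of R)).basicOpen
        ((Scheme.ΓSpecIso (CommRingCat.of R)).inv r)) := by
    rw [basicOpen_eq_of_affine]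
    rfl
  rw [h2, Scheme.preimage_basicOpen_top, Scheme.mem_basicOpen_top]
  rfl

end Groth.Agent.H31.NN_F1
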