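import Mathlib
import Groth.Prelude.Def_CurvBase
import Groth.Agent.H14.NN.Defs

/-!
# (F3) for S7889 (helper14): `R → O_{X,x}` is flat for flat `f : X ⟶ Spec R`
-/

set_option autoImplicit false
set_option backward.isDefEq.respectTransparency false
set_option linter.style.haveILetI false
universe u
open CategoryTheory CategoryTheory.Limits AlgebraicGeometry

namespace Groth.Agent.H31.NN_F3

/-- germs at a point of an affine scheme are flat -/
theorem flat_germ_top (R : CommRingCat.{u}) (p : Spec R) :
    ((Spec R).presheaf.germ ⊤ p trivial).hom.Flat := by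
  letI := (Spec R).presheaf.algebra_section_stalk (U := ⊤) ⟨p, trivial⟩
  haveI : IsLocalization.AtPrime ((Spec R).presheaf.stalk p)
      ((isAffineOpen_top (Spec R)).primeIdealOf ⟨p, trivial⟩).asIdeal :=
    (isAffineOpen_top (Spec R)).isLocalization_stalk ⟨p, trivial⟩
  have : Module.Flat Γ(Spec R, ⊤) ((Spec R).presheaf.stalk p) :=
    IsLocalization.flat _
      ((isAffineOpen_top (Spec R)).primeIdealOf ⟨p, trivial⟩).asIdeal.primeCompl
  exact RingHom.flat_algebraMap_iff.2 this

theorem rho_flat {R : Type u} [CommRing R] {X : Scheme.{u}} (f : X ⟶ Spec (CommRingCat.of R))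
    [Flat f] (x : X) : (Groth.Agent.H14.NN.rho f x).Flat := by
  have h1 : ((Scheme.ΓSpecIso (CommRingCat.of R)).inv.hom).Flat :=
    RingHom.Flat.of_bijective
      (ConcreteCategory.bijective_of_isIso (Scheme.ΓSpecIso (CommRingCat.of R)).inv)
  have h2 := flat_germ_top (CommRingCat.of R) (f.base x)
  have h3 : (f.stalkMap x).hom.Flat := Flat.stalkMap f x
  have e : Groth.Agent.H14.NN.rho f x =
      ((f.stalkMap x).hom.comp ((Spec (CommRingCat.of R)).presheaf.germ ⊤ (f.base x) trivial).hom).comp
        (Scheme.ΓSpecIso (CommRingCat.of R)).inv.hom := by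
    have := Scheme.Hom.germ_stalkMap f ⊤ x trivial
    ext r
    have h := congrArg (fun φ => φ.hom ((Scheme.ΓSpecIso (CommRingCat.of R)).inv.hom r)) this
    exact h.symm
  rw [e]
  exact (h1.comp h2).comp h3 |> fun h => by simpa [RingHom.comp_assoc] using h

end Groth.Agent.H31.NN_F3
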