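import Mathlib
import Groth.Prelude.Def_CurvBase
import Groth.Agent.H14.NN.Defs
import Groth.Agent.H9.FiberStalk
import Groth.Agent.H31.NN_F1

/-!
# (F4) for S7889 (helper14): `O_{X,x} / p O_{X,x}` is the local ring of the fibre
-/

set_option autoImplicit false
set_option backward.isDefEq.respectTransparency false
set_option linter.style.haveILetI false
universe u
open CategoryTheory CategoryTheory.Limits AlgebraicGeometry

namespace Groth.Agent.H31.NN_F4

open Groth.Agent.H14.NN

/-- `rho` factors through the stalk map -/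
theorem rho_eq {R : Type u} [CommRing R] {X : Scheme.{u}} (f : X ⟶ Spec (CommRingCat.of R))
    (x : X) : rho f x =
      (f.stalkMap x).hom.comp
        (((Spec (CommRingCat.of R)).presheaf.germ ⊤ (f.base x) trivial).hom.comp
          (Scheme.ΓSpecIso (CommRingCat.of R)).inv.hom) := by
  have := Scheme.Hom.germ_stalkMap f ⊤ x trivial
  ext r
  have h := congrArg (fun φ => φ.hom ((Scheme.ΓSpecIso (CommRingCat.of R)).inv.hom r)) this
  exact h.symm

/-- the maximal ideal of the stalk of `Spec R` at `p` is generated by `p` -/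
theorem map_toStalk_eq (R : CommRingCat.{u}) (p : Spec R) :
    Ideal.map (((Spec R).presheaf.germ ⊤ p trivial).hom.comp (Scheme.ΓSpecIso R).inv.hom)
      p.asIdeal = IsLocalRing.maximalIdeal ((Spec R).presheaf.stalk p) := by
  letI k : Algebra R ((Spec R).presheaf.stalk p) := StructureSheaf.stalkAlgebra R p
  haveI : IsLocalization.AtPrime ((Spec R).presheaf.stalk p) p.asIdeal :=
    StructureSheaf.IsLocalization.to_stalk R p
  exact IsLocalization.AtPrime.map_eq_maximalIdeal p.asIdeal ((Spec R).presheaf.stalk p)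

theorem nonempty_quot_equiv_fiberStalk {R : Type u} [CommRing R] {X : Scheme.{u}}
    (f : X ⟶ Spec (CommRingCat.of R)) (x : X) :
    ∃ y : ↥(f.fiber (f.base x)), Nonempty ((X.presheaf.stalk x ⧸
      ((IsLocalRing.maximalIdeal (X.presheaf.stalk x)).comap
        (Groth.Agent.H14.NN.rho f x)).map (Groth.Agent.H14.NN.rho f x)) ≃+*
      (f.fiber (f.base x)).presheaf.stalk y) := by
  refine ⟨f.asFiber x, ?_⟩
  have hy : (f.fiberι (f.base x)).base (f.asFiber x) = x := f.fiberι_asFiber x
  have key : ∀ x' : X,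
      Ideal.map (f.stalkMap x').hom
        (IsLocalRing.maximalIdeal ((Spec (CommRingCat.of R)).presheaf.stalk (f.base x'))) =
      Ideal.map (rho f x') (Ideal.comap (rho f x')
        (IsLocalRing.maximalIdeal (X.presheaf.stalk x'))) := by
    intro x'
    rw [← Groth.Agent.H31.NN_F1.asIdeal_eq_comap f x', ← map_toStalk_eq, Ideal.map_map,
      ← rho_eq]
  have e2 : ∀ (x₁ x₂ : X) (_ : x₁ = x₂),
      Nonempty ((X.presheaf.stalk x₂ ⧸
        ((IsLocalRing.maximalIdeal (X.presheaf.stalk x₂)).comap (rho f x₂)).map (rho f x₂)) ≃+*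
        (X.presheaf.stalk x₁ ⧸
        ((IsLocalRing.maximalIdeal (X.presheaf.stalk x₁)).comap (rho f x₁)).map (rho f x₁))) := by
    intro x₁ x₂ h
    subst h
    exact ⟨RingEquiv.refl _⟩
  obtain ⟨e2'⟩ := e2 _ _ hy
  exact ⟨e2'.trans ((Ideal.quotEquivOfEq (key _).symm).trans
    (Groth.Agent.H9.fiberStalkEquiv f (f.base x) (f.asFiber x)))⟩

end Groth.Agent.H31.NN_F4
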