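import Groth.Agent.H31.ShriekProj
import Groth.Agent.H31.RpushSupport
import Groth.Agent.H45.AdjDerived
import Groth.Agent.S6515

/-!
# The internal `RHom` exists on an open subscheme when it exists on the ambient scheme
(helper31, piece (P1) for helper56's S1115 / S11112)
-/

set_option autoImplicit false
set_option backward.isDefEq.respectTransparency false
set_option linter.style.haveILetI false
universe u
open CategoryTheory CategoryTheory.Limits AlgebraicGeometry HomologicalComplex
  CategoryTheory.Pretriangulated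
attribute [local instance] HasDerivedCategory.standard

namespace Groth.Agent.PC

section General

universe w v u'

variable {A B : Type u'} [Category.{v} A] [Category.{v} B] [Abelian A] [Abelian B]
  [HasDerivedCategory.{w} A] [HasDerivedCategory.{w} B]
  {L : A ⥤ B} {R : B ⥤ A} [L.Additive] [R.Additive]
  [PreservesFiniteLimits L] [PreservesFiniteColimits L]
  [PreservesFiniteLimits R] [PreservesFiniteColimits R]

/-- If the unit of an adjunction between exact functors is invertible, so is the unit of the
induced adjunction on derived categories. -/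
theorem isIso_unit_adjMapDerivedCategory (adj : L ⊣ R) [IsIso adj.unit] :
    IsIso (Groth.Agent.H45.adjMapDerivedCategory adj).unit := by
  haveI : ∀ Y : DerivedCategory A,
      IsIso ((Groth.Agent.H45.adjMapDerivedCategory adj).unit.app Y) := by
    intro Y
    let K := DerivedCategory.Q.objPreimage Y
    let eK : DerivedCategory.Q.obj K ≅ Y := DerivedCategory.Q.objObjPreimageIso Y
    rw [← NatTrans.isIso_app_iff_of_iso _ eK]
    haveI : IsIso ((Groth.Agent.H45.adjMapHomologicalComplex adj (ComplexShape.up ℤ)).unit.app K) := by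
      haveI : ∀ i, IsIso (((Groth.Agent.H45.adjMapHomologicalComplex adj
          (ComplexShape.up ℤ)).unit.app K).f i) := fun i =>
        inferInstanceAs (IsIso (adj.unit.app (K.X i)))
      exact HomologicalComplex.Hom.isIso_of_components _
    dsimp only [Groth.Agent.H45.adjMapDerivedCategory]
    rw [Adjunction.localization_unit_app]
    infer_instance
  exact NatIso.isIso_of_isIso_app _

end General

open Groth.Agent.H31.ShriekProj Groth.Agent.H31.RpushSupport in
theorem hasRSheafHom_restrict {X : Scheme.{u}} (V : X.Opens) (F : CochainComplex X.Modules ℤ)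
    [DCoh.HasLTensorCx F] [DCoh.HasRSheafHom F] [DCoh.HasLTensorCx ((DCoh.restrictCx V).obj F)] :
    DCoh.HasRSheafHom ((DCoh.restrictCx V).obj F) := by
  haveI : ModSite.HasLTensorCx (O := Groth.Agent.H31.Stalk.shX X) F := ‹DCoh.HasLTensorCx F›
  haveI : ModSite.HasLTensorCx (O := Groth.Agent.H31.Stalk.shX (V : Scheme.{u}))
      ((Groth.Agent.H31.ShriekProj.rsC V).obj F) :=
    ‹DCoh.HasLTensorCx ((DCoh.restrictCx V).obj F)›
  let adjE : CxOX.extZeroD V.ι ⊣ DCoh.restrictD V.ι :=
    Groth.Agent.H45.adjMapDerivedCategory (CxOX.extZeroAdj V.ι)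
  haveI : IsIso adjE.unit := isIso_unit_adjMapDerivedCategory (CxOX.extZeroAdj V.ι)
  haveI : DCoh.HasRpush V.ι := hasRpush V.ι
  obtain ⟨adjR, -⟩ := exists_restrict_Rpush_adj V
  let e : LF₂ V F ≅ LF₁ V F := derivedProjIso V F
  let iso : DCoh.LTensorCx ((DCoh.restrictCx V).obj F) ≅
      (CxOX.extZeroD V.ι ⋙ DCoh.LTensorCx F) ⋙ DCoh.restrictD V.ι :=
    (Functor.rightUnitor _).symm ≪≫ Functor.isoWhiskerLeft _ (asIso adjE.unit) ≪≫
      (Functor.associator _ _ _).symm ≪≫ Functor.isoWhiskerRight e _
  haveI hL : ((CxOX.extZeroD V.ι ⋙ DCoh.LTensorCx F) ⋙ DCoh.restrictD V.ι).IsLeftAdjoint :=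
    ⟨_, ⟨(adjE.comp (DCoh.RSheafHomAdj F)).comp adjR⟩⟩
  exact Functor.isLeftAdjoint_of_iso iso.symm

end Groth.Agent.PC
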