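import Groth.Agent.H31.StalkExact
import Mathlib.Algebra.Category.ModuleCat.Descent

/-!
# Stalks of pullbacks of modules along a morphism of ringed spaces (helper31 library)

The ringed-space version of `H31/StalkPullback` (which is for schemes): for a continuous map
`f : X ⟶ Y`, sheaves of rings `O_X`, `O_Y` and `c : O_Y ⟶ f_* O_X`, with
`FF f c := ModSite.RMor.ofFlat (Opens.map f) c`:

* `φx f c x : O_{Y, f x} →+* O_{X, x}` the stalk map, `φx_germ`;
* `pushSkyIso` : `f_* (sky_x P) ≅ sky_{f x} (P restricted to O_{Y, f x})`;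
* `stkPullbackIso` : `(f^* M)_x ≅ O_{X,x} ⊗_{O_{Y, f x}} M_{f x}`, naturally in `M`.
-/

set_option autoImplicit false
set_option backward.isDefEq.respectTransparency false
universe u
open CategoryTheory CategoryTheory.Limits Opposite TopologicalSpace

namespace Groth.Agent.H31.StalkRS

open Groth.Agent.H31 Groth.Agent.H31.Stalk Groth.Agent.H40.StalkTensor
  Groth.Agent.H40.FlatBridge2

variable {X Y : TopCat.{u}} (f : X ⟶ Y) {O_X : TopCat.Sheaf CommRingCat.{u} X}
  {O_Y : TopCat.Sheaf CommRingCat.{u} Y}
  (c : O_Y ⟶ ((Opens.map f).sheafPushforwardContinuous CommRingCat.{u}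
      (Opens.grothendieckTopology Y) (Opens.grothendieckTopology X)).obj O_X)

/-- The morphism of ringed sites of a morphism of ringed spaces. -/
noncomputable abbrev FF : ModSite.RMor O_X O_Y := ModSite.RMor.ofFlat (Opens.map f) c

/-- The map induced on the stalks of the structure sheaves. -/
noncomputable def φx (x : X) : Rx O_Y.obj (f x) →+* Rx O_X.obj x :=
  ((TopCat.Presheaf.stalkFunctor CommRingCat.{u} (f x)).map
      (show O_Y.presheaf ⟶ (TopCat.Presheaf.pushforward CommRingCat.{u} f).obj O_X.presheaf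
        from c.hom) ≫
    TopCat.Presheaf.stalkPushforward CommRingCat.{u} f O_X.presheaf x).hom

lemma φx_germ (x : X) (V : Opens Y) (h : f x ∈ V) (r : O_Y.obj.obj (op V)) :
    φx f c x (TopCat.Presheaf.germ O_Y.obj V (f x) h r) =
      TopCat.Presheaf.germ O_X.obj ((Opens.map f).obj V) x h (c.hom.app (op V) r) := by
  have h1 := TopCat.Presheaf.stalkFunctor_map_germ_apply V (f x) h
    (show O_Y.presheaf ⟶ (TopCat.Presheaf.pushforward CommRingCat.{u} f).obj O_X.presheaf
        from c.hom) r
  have h2 := TopCat.Presheaf.stalkPushforward_germ CommRingCat.{u} f O_X.presheaf V x h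
  show (TopCat.Presheaf.stalkPushforward CommRingCat.{u} f O_X.presheaf x).hom
    (((TopCat.Presheaf.stalkFunctor CommRingCat.{u} (f x)).map
      (show O_Y.presheaf ⟶ (TopCat.Presheaf.pushforward CommRingCat.{u} f).obj O_X.presheaf
        from c.hom)).hom (TopCat.Presheaf.germ O_Y.obj V (f x) h r)) = _
  refine (congrArg (fun t => (TopCat.Presheaf.stalkPushforward CommRingCat.{u} f
    O_X.presheaf x).hom t) h1).trans ?_
  exact congrArg (fun g => g.hom (c.hom.app (op V) r)) h2

variable (x : X)

/-- `f_* (sky_x P) ⟶ sky_{f x} P`. -/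
noncomputable def pushSkyHom (P : ModuleCat.{u} (Rx O_X.obj x)) :
    (FF f c).push.obj ((skyF O_X x).obj P) ⟶
      (skyF O_Y (f x)).obj ((ModuleCat.restrictScalars (φx f c x)).obj P) :=
  ⟨PresheafOfModules.homMk
    (M₁ := ((FF f c).push.obj ((skyF O_X x).obj P)).val)
    (M₂ := skPM O_Y.obj (f x) ((ModuleCat.restrictScalars (φx f c x)).obj P))
    { app := fun V => AddCommGrpCat.ofHom
        { toFun := fun s h => (s : SkSec x P ((Opens.map f).obj V.unop)) ⟨h.down⟩
          map_zero' := rfl
          map_add' := fun _ _ => rfl }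
      naturality := fun V W i => rfl }
    (by
      intro V r s
      refine funext (fun h => ?_)
      exact congrArg (fun t : Rx O_X.obj x =>
        t • ((s : SkSec x P ((Opens.map f).obj V.unop)) ⟨h.down⟩))
        (φx_germ f c x V.unop h.down r).symm)⟩

/-- `sky_{f x} P ⟶ f_* (sky_x P)`. -/
noncomputable def pushSkyInv (P : ModuleCat.{u} (Rx O_X.obj x)) :
    (skyF O_Y (f x)).obj ((ModuleCat.restrictScalars (φx f c x)).obj P) ⟶
      (FF f c).push.obj ((skyF O_X x).obj P) :=
  ⟨PresheafOfModules.homMk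
    (M₁ := skPM O_Y.obj (f x) ((ModuleCat.restrictScalars (φx f c x)).obj P))
    (M₂ := ((FF f c).push.obj ((skyF O_X x).obj P)).val)
    { app := fun V => AddCommGrpCat.ofHom
        { toFun := fun s h => (s : SkSec (f x) P V.unop) ⟨h.down⟩
          map_zero' := rfl
          map_add' := fun _ _ => rfl }
      naturality := fun V W i => rfl }
    (by
      intro V r s
      refine funext (fun h => ?_)
      exact congrArg (fun t : Rx O_X.obj x => t • ((s : SkSec (f x) P V.unop) ⟨h.down⟩))
        (φx_germ f c x V.unop h.down r))⟩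

/-- `f_* (sky_x P) ≅ sky_{f x} P`, naturally in `P`. -/
noncomputable def pushSkyIso :
    skyF O_X x ⋙ (FF f c).push ≅
      ModuleCat.restrictScalars (φx f c x) ⋙ skyF O_Y (f x) :=
  NatIso.ofComponents
    (fun P => ⟨pushSkyHom f c x P, pushSkyInv f c x P, rfl, rfl⟩)
    (fun g => rfl)

/-- The adjunction `f^* ⋙ (-)_x ⊣ sky_x ⋙ f_*`. -/
noncomputable def adjPullStk :
    (FF f c).pull ⋙ stk O_X x ⊣ skyF O_X x ⋙ (FF f c).push :=
  (FF f c).adj.comp (adj O_X x)

/-- The adjunction `(-)_{f x} ⋙ extension of scalars ⊣ sky_x ⋙ f_*`. -/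
noncomputable def adjStkExt :
    stk O_Y (f x) ⋙ ModuleCat.extendScalars.{u, u, u} (φx f c x) ⊣
      skyF O_X x ⋙ (FF f c).push :=
  ((adj O_Y (f x)).comp (ModuleCat.extendRestrictScalarsAdj.{u, u, u} (φx f c x))).ofNatIsoRight
    (pushSkyIso f c x).symm

/-- The stalk of a pullback: `(f^* M)_x ≅ O_{X,x} ⊗_{O_{Y, f x}} M_{f x}`. -/
noncomputable def stkPullbackIso :
    (FF f c).pull ⋙ stk O_X x ≅
      stk O_Y (f x) ⋙ ModuleCat.extendScalars.{u, u, u} (φx f c x) :=
  (adjPullStk f c x).leftAdjointUniq (adjStkExt f c x)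

instance pull_additive : (FF f c).pull.Additive := (FF f c).adj.left_adjoint_additive

instance pull_preservesFiniteColimits : PreservesFiniteColimits (FF f c).pull :=
  ⟨fun _ _ _ => (FF f c).adj.leftAdjoint_preservesColimits.preservesColimitsOfShape⟩

/-- If the stalk maps `O_{Y, f x} → O_{X, x}` are flat, then `f^*` is exact. -/
theorem preservesFiniteLimits_pull (hflat : ∀ x : X, (φx f c x).Flat) :
    PreservesFiniteLimits (FF f c).pull := by
  have key : ∀ (S : ShortComplex (ModSite.Mod O_Y)), S.Exact →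
      (S.map (FF f c).pull).Exact := by
    intro S hS
    apply exact_of_stk
    intro x
    have h1 : PreservesFiniteLimits
        (stk O_Y (f x) ⋙ ModuleCat.extendScalars.{u, u, u} (φx f c x)) := by
      have := ModuleCat.preservesFiniteLimits_extendScalars_of_flat.{u} (hflat x)
      infer_instance
    have h2 : PreservesFiniteLimits ((FF f c).pull ⋙ stk O_X x) :=
      preservesFiniteLimits_of_natIso (stkPullbackIso f c x).symm
    have h3 : PreservesFiniteColimits ((FF f c).pull ⋙ stk O_X x) := inferInstance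
    have h4 : ∀ (S : ShortComplex (ModSite.Mod O_Y)), S.Exact →
        (S.map ((FF f c).pull ⋙ stk O_X x)).Exact :=
      ((Functor.exact_tfae ((FF f c).pull ⋙ stk O_X x)).out 3 1).1
        (And.intro h2 h3)
    exact h4 S hS
  have h5 : PreservesFiniteLimits (FF f c).pull ∧ PreservesFiniteColimits (FF f c).pull :=
    ((Functor.exact_tfae (FF f c).pull).out 1 3).1 key
  exact h5.1

end Groth.Agent.H31.StalkRS
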