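import Mathlib.AlgebraicGeometry.Modules.Sheaf
import Mathlib.AlgebraicGeometry.Restrict

/-!
# Pushforward commutes with restriction to opens, on modules (helper31)

`pushRestrictIso f V : f_* ⋙ (-)|_V ≅ (-)|_{f⁻¹V} ⋙ (f|_V)_*`.
-/

set_option autoImplicit false
universe u
open CategoryTheory CategoryTheory.Limits AlgebraicGeometry TopologicalSpace

namespace Groth.Agent.H31.PushRestrict

variable {X Y : Scheme.{u}} (f : X ⟶ Y) (V : Y.Opens)

set_option backward.isDefEq.respectTransparency false in
/-- `(f_* M)|_V ≅ (f|_V)_* (M|_{f⁻¹V})`, naturally in `M`. -/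
noncomputable def pushRestrictIso :
    Scheme.Modules.pushforward f ⋙ Scheme.Modules.restrictFunctor V.ι ≅
      Scheme.Modules.restrictFunctor (f ⁻¹ᵁ V).ι ⋙ Scheme.Modules.pushforward (f ∣_ V) :=
  letI := CategoryTheory.Functor.isContinuous_comp.{u} V.ι.opensFunctor (Opens.map f.base)
    (Opens.grothendieckTopology (V : Scheme.{u})) (Opens.grothendieckTopology Y)
    (Opens.grothendieckTopology X)
  letI := CategoryTheory.Functor.isContinuous_comp.{u} (Opens.map (f ∣_ V).base)
    (f ⁻¹ᵁ V).ι.opensFunctor
    (Opens.grothendieckTopology (V : Scheme.{u}))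
    (Opens.grothendieckTopology ((f ⁻¹ᵁ V : X.Opens) : Scheme.{u}))
    (Opens.grothendieckTopology X)
  (SheafOfModules.pushforwardComp _ _) ≪≫
    SheafOfModules.pushforwardCongr₂ _ (NatIso.ofComponents
      (fun W => eqToIso (image_morphismRestrict_preimage f V W)) (fun _ => rfl))
      (by
        ext W x
        have H : (V.ι.appIso W.unop).inv ≫ f.app (V.ι ''ᵁ W.unop) ≫
            X.presheaf.map (eqToHom (image_morphismRestrict_preimage f V W.unop)).op =
            (f ∣_ V).app W.unop ≫ ((f ⁻¹ᵁ V).ι.appIso ((f ∣_ V) ⁻¹ᵁ W.unop)).inv := by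
          rw [Scheme.Opens.ι_appIso, Scheme.Opens.ι_appIso, morphismRestrict_app]
          simp only [Iso.refl_inv]
          exact (Category.id_comp _).trans (Category.comp_id _).symm
        exact congr($H x)) ≪≫
    (SheafOfModules.pushforwardComp _ _).symm

end Groth.Agent.H31.PushRestrict
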