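import Groth.Agent.H31.CohTri
import Groth.Agent.H31.KFlat
import Groth.Agent.H31.LpullTensor
import Groth.Agent.H28.LpullLoc2
import Groth.Agent.H28.PerfLocal
import Groth.Agent.H40.FlatBridge
import Groth.Agent.H6.TensorQCoh
import Groth.Agent.H90.CohPC
import Groth.Agent.H56.PerfDual
import Groth.Agent.S6515
import Groth.Agent.H86.Q1b
import Groth.Agent.H45.DCOH_Q1c

/-!
# (Q1) for S6498: `D ⊗^L G` has coherent cohomology for `D` a bounded complex of finite free modules
and `G ∈ D_Coh` (helper31)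
-/

set_option autoImplicit false
set_option linter.style.haveILetI false
set_option backward.isDefEq.respectTransparency false
universe u
open CategoryTheory CategoryTheory.Limits AlgebraicGeometry HomologicalComplex
  CategoryTheory.Pretriangulated
attribute [local instance] HasDerivedCategory.standard

namespace Groth.Agent.H31.Q1

variable {Z : Scheme.{u}}

/-- A complex with coherent cohomology sheaves. -/
def CohH (K : CochainComplex Z.Modules ℤ) : Prop := ∀ i : ℤ, Coh.IsCoh (K.homology i)

/-- Two-out-of-three for short exact sequences of complexes. -/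
theorem cohH_X₂ [IsLocallyNoetherian Z] (S : ShortComplex (CochainComplex Z.Modules ℤ))
    (hS : S.ShortExact) (h1 : CohH S.X₁) (h3 : CohH S.X₃) : CohH S.X₂ := by
  intro i
  exact Groth.Agent.H31.CohTri.prop_of_five_exact (fun M : Z.Modules => Coh.IsCoh M)
    (fun φ hM hN => Groth.Agent.H8.isCoh_cokernel hM hN φ)
    (fun φ hM hN => Groth.Agent.H8.isCoh_kernel hM hN φ)
    (fun T hT h1 h3 => Groth.Agent.H31.CohTri.isCoh_of_shortExact T hT h1 h3)
    (hS.δ (i - 1) i (by simp))
    (HomologicalComplex.homologyMap S.f i)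
    (HomologicalComplex.homologyMap S.g i)
    (hS.δ i (i + 1) (by simp))
    _ _ _
    (hS.homology_exact₁ (i - 1) i (by simp))
    (hS.homology_exact₂ i)
    (hS.homology_exact₃ i (i + 1) (by simp))
    (h3 (i - 1)) (h1 i) (h3 i) (h1 (i + 1))

theorem cohH_of_isZero (K : CochainComplex Z.Modules ℤ) (hK : IsZero K) : CohH K := fun i =>
  Groth.Agent.H90.QH.isCoh_of_isZero
    ((HomologicalComplex.homologyFunctor Z.Modules (ComplexShape.up ℤ) i).map_isZero hK)

/-- The single-term case. -/
theorem cohH_tot_single [IsLocallyNoetherian Z] (P S : CochainComplex Z.Modules ℤ) (hP : CohH P)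
    (b : ℤ) (hS : ∀ q : ℤ, q ≠ b → IsZero (S.X q)) (n : ℕ)
    (e : S.X b ≅ FlatMod.freeMod Z n) : CohH ((DCoh.tensorCx.obj P).obj S) := by
  intro i
  obtain ⟨p, rfl⟩ : ∃ p : ℤ, i = p + b := ⟨i - b, by omega⟩
  obtain ⟨φ⟩ := Groth.Agent.H86.Q1b.nonempty_homology_tot_single_iso P S b hS p
  let F := (DCoh.tensorBi (X := Z)).flip.obj (S.X b)
  have hfl : ModSite.IsFlat (O := Z.sheaf) (S.X b) :=
    Groth.Agent.H40.FlatBridge.isFlat_of_stalkFlat _
      (Groth.Agent.H28.LpullLoc.isFlat_of_isFinLocFree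
        (Groth.Agent.H28.LpullLoc.isFinLocFree_of_iso_freeMod e))
  haveI : PreservesFiniteLimits F := hfl.1
  haveI : PreservesFiniteColimits F := hfl.2
  haveI : F.Additive := Groth.Agent.H31.KFlat.additive_flip_obj (DCoh.tensorBi (X := Z)) _
  haveI : F.PreservesHomology := inferInstance
  have ψ : ((F.mapHomologicalComplex (ComplexShape.up ℤ)).obj P).homology p ≅
      F.obj (P.homology p) := (P.sc p).mapHomologyIso F
  exact Groth.Agent.H90.QH.isCoh_of_iso (φ ≪≫ ψ).symm
    (Groth.Agent.H45.DCOH_Q1c.isCoh_tensor_free (P.homology p) (S.X b) n e (hP p))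

theorem isZero_of_forall_isZero_X (D : CochainComplex Z.Modules ℤ) (h : ∀ i, IsZero (D.X i)) :
    IsZero D := by
  rw [IsZero.iff_id_eq_zero]
  refine HomologicalComplex.hom_ext _ _ (fun i => ?_)
  exact (h i).eq_of_src _ _

/-- The inductive statement. -/
theorem cohH_tot_of_free [IsLocallyNoetherian Z] (P : CochainComplex Z.Modules ℤ) (hP : CohH P) :
    ∀ (n : ℕ) (D : CochainComplex Z.Modules ℤ) (a b : ℤ), b < a + n →
      DCoh.VanishesOutside D a b →
      (∀ i : ℤ, ∃ m : ℕ, Nonempty (D.X i ≅ FlatMod.freeMod Z m)) →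
      CohH ((DCoh.tensorCx.obj P).obj D) := by
  intro n
  induction n with
  | zero =>
    intro D a b hab hD _
    have hz : IsZero D := isZero_of_forall_isZero_X D (fun i => hD i (by omega))
    exact cohH_of_isZero _ ((DCoh.tensorCx.obj P).map_isZero hz)
  | succ n ih =>
    intro D a b hab hD hfree
    -- the top term
    have hd : ∀ k : ℤ, (ComplexShape.up ℤ).Rel b k → 𝟙 (D.X b) ≫ D.d b k = 0 := by
      intro k hk
      exact (hD k (Or.inr (by simp at hk; omega))).eq_of_tgt _ _
    let ι : (HomologicalComplex.single Z.Modules (ComplexShape.up ℤ) b).obj (D.X b) ⟶ D :=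
      HomologicalComplex.mkHomFromSingle (𝟙 (D.X b)) hd
    have hιb : IsIso (ι.f b) := by
      have : ι.f b = (HomologicalComplex.singleObjXSelf (ComplexShape.up ℤ) b (D.X b)).hom ≫ 𝟙 _ :=
        HomologicalComplex.mkHomFromSingle_f _ _
      rw [this]
      infer_instance
    have hsz : ∀ q : ℤ, q ≠ b →
        IsZero (((HomologicalComplex.single Z.Modules (ComplexShape.up ℤ) b).obj (D.X b)).X q) :=
      fun q hq => HomologicalComplex.isZero_single_obj_X _ _ _ _ hq
    haveI : Mono ι := by
      haveI : ∀ q, Mono (ι.f q) := fun q => by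
        by_cases hq : q = b
        · subst hq; infer_instance
        · exact ⟨fun _ _ _ => (hsz q hq).eq_of_tgt _ _⟩
      exact HomologicalComplex.mono_of_mono_f ι (fun q => inferInstance)
    let S : ShortComplex (CochainComplex Z.Modules ℤ) :=
      ShortComplex.mk ι (cokernel.π ι) (cokernel.condition ι)
    have hS : S.ShortExact :=
      ShortComplex.ShortExact.mk' (ShortComplex.exact_cokernel ι) ‹Mono ι› inferInstance
    have hSq : ∀ q : ℤ, (S.map (HomologicalComplex.eval Z.Modules (ComplexShape.up ℤ) q)).ShortExact :=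
      fun q => hS.map_of_exact _
    have hsplit : ∀ q : ℤ, Nonempty
        ((S.map (HomologicalComplex.eval Z.Modules (ComplexShape.up ℤ) q)).Splitting) := by
      intro q
      haveI := (hSq q).epi_g
      by_cases hq : q = b
      · subst hq
        exact ⟨ShortComplex.Splitting.ofExactOfRetraction _ (hSq q).exact (inv (ι.f q))
          (IsIso.hom_inv_id (ι.f q)) inferInstance⟩
      · exact ⟨ShortComplex.Splitting.ofExactOfRetraction _ (hSq q).exact 0
          ((hsz q hq).eq_of_src _ _) inferInstance⟩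
    have hS' : (S.map (DCoh.tensorCx.obj P)).ShortExact :=
      Groth.Agent.H31.KFlat.shortExact_map_obj_of_split (DCoh.tensorBi (X := Z)) P S hsplit
    -- the terms of the cokernel
    let D' : CochainComplex Z.Modules ℤ := cokernel ι
    have hD'b : IsZero (D'.X b) := ((hSq b).isIso_f_iff).1 hιb
    have hD'iso : ∀ q : ℤ, q ≠ b → IsIso ((cokernel.π ι).f q) := fun q hq =>
      ((hSq q).isIso_g_iff).2 (hsz q hq)
    have hvan : DCoh.VanishesOutside D' a (b - 1) := by
      intro q hq
      by_cases hqb : q = b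
      · subst hqb; exact hD'b
      · haveI := hD'iso q hqb
        exact IsZero.of_iso (hD q (by omega)) (asIso ((cokernel.π ι).f q)).symm
    have hfree' : ∀ i : ℤ, ∃ m : ℕ, Nonempty (D'.X i ≅ FlatMod.freeMod Z m) := by
      intro q
      by_cases hqb : q = b
      · subst hqb
        exact ⟨0, ⟨hD'b.iso Groth.Agent.H28.LpullLoc.isZero_freeMod_zero⟩⟩
      · haveI := hD'iso q hqb
        obtain ⟨m, ⟨em⟩⟩ := hfree q
        exact ⟨m, ⟨(asIso ((cokernel.π ι).f q)).symm ≪≫ em⟩⟩
    obtain ⟨m, ⟨em⟩⟩ := hfree b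
    have h1 : CohH ((DCoh.tensorCx.obj P).obj
        ((HomologicalComplex.single Z.Modules (ComplexShape.up ℤ) b).obj (D.X b))) :=
      cohH_tot_single P _ hP b hsz m
        ((HomologicalComplex.singleObjXSelf (ComplexShape.up ℤ) b (D.X b)) ≪≫ em)
    have h3 : CohH ((DCoh.tensorCx.obj P).obj D') :=
      ih D' a (b - 1) (by push_cast at hab; omega) hvan hfree'
    exact cohH_X₂ (S.map (DCoh.tensorCx.obj P)) hS' h1 h3

/-- **(Q1)** -/
theorem isCohD_LTensorCx_of_free [IsLocallyNoetherian Z] (D : CochainComplex Z.Modules ℤ) (a b : ℤ)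
    (hD : DCoh.VanishesOutside D a b)
    (hfree : ∀ i : ℤ, ∃ n : ℕ, Nonempty (D.X i ≅ FlatMod.freeMod Z n)) [DCoh.HasLTensorCx D]
    (G : DCoh.D Z) (hG : DCoh.IsCohD G) : DCoh.IsCohD ((DCoh.LTensorCx D).obj G) := by
  let P := DerivedCategory.Q.objPreimage G
  let eG : DerivedCategory.Q.obj P ≅ G := DerivedCategory.Q.objObjPreimageIso G
  have hP : CohH P := fun i =>
    Groth.Agent.H90.QH.isCoh_of_iso
      ((DerivedCategory.homologyFunctor Z.Modules i).mapIso eG.symm ≪≫
        (DerivedCategory.homologyFunctorFactors Z.Modules i).app P) (hG i)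
  have hsp : DCoh.IsStrictlyPerfect D := ⟨⟨a, b, hD⟩, fun i => by
    obtain ⟨n, ⟨e⟩⟩ := hfree i
    exact Groth.Agent.H28.LpullLoc.isFinLocFree_of_iso_freeMod e⟩
  have hK : DCoh.IsKFlat D := Groth.Agent.H28.LpullLoc.isKFlat_of_isStrictlyPerfect hsp
  have hT : CohH ((DCoh.tensorCx.obj P).obj D) :=
    cohH_tot_of_free P hP (b - a + 1).toNat D a b (by omega) hD hfree
  intro i
  exact Groth.Agent.H90.QH.isCoh_of_iso
    ((DerivedCategory.homologyFunctor Z.Modules i).mapIso ((DCoh.LTensorCx D).mapIso eG.symm) ≪≫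
      (DerivedCategory.homologyFunctor Z.Modules i).mapIso
        (Groth.Agent.H31.PullTensor.LTensorCxObjIso D hK P) ≪≫
      (DerivedCategory.homologyFunctorFactors Z.Modules i).app _).symm
    (hT i)

end Groth.Agent.H31.Q1
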