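import Groth.Agent.H31.BddRes
import Groth.Agent.H31.FreeSum
import Groth.Agent.H31.KFlatColimSite
import Mathlib.Algebra.Homology.HomologicalComplexBiprod

/-!
# The relative resolution step on a ringed site (helper31 library)

Given a map `β : K ⟶ L` of complexes of `O`-modules which are zero above degree `b`, we factor
`β = ι ≫ π` with `π` a degreewise epimorphic quasi-isomorphism and `ι` degreewise a split inclusion
whose complement is a coproduct of modules `j_! O_U`; the middle complex is zero above `b + 1`.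
-/

set_option autoImplicit false
set_option backward.isDefEq.respectTransparency false
universe u
open CategoryTheory CategoryTheory.Limits HomologicalComplex CochainComplex

namespace Groth.Agent.H31.FreeSum

open ModSite Groth.Agent.H31.Resolution

variable {C : Type u} [SmallCategory C] {J : GrothendieckTopology C} {O : Sheaf J CommRingCat.{u}}

theorem exists_relStep (L K : CochainComplex (ModSite.Mod O) ℤ) (b : ℤ)
    (hL : ∀ q, b < q → IsZero (L.X q)) (hK : ∀ q, b < q → IsZero (K.X q)) (β : K ⟶ L) :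
    ∃ (K' : CochainComplex (ModSite.Mod O) ℤ) (ι : K ⟶ K') (π : K' ⟶ L),
      (∀ q, b + 1 < q → IsZero (K'.X q)) ∧ ι ≫ π = β ∧ QuasiIso π ∧ (∀ q, Epi (π.f q)) ∧
        ∀ q, SplitFS O (ι.f q) := by
  have := KFlat.hasExactColimitsOfShape_nat_Mod (O := O)
  let Cz : CochainComplex (ModSite.Mod O) ℤ := mappingCone (𝟙 (startZ L Fc))
  let st₀ : Stage L := ⟨Cz ⊞ K, biprod.desc (startφ L Fc πc) β⟩
  have hL' : ∀ q, b + 1 < q → IsZero (L.X q) := fun q hq => hL q (by omega)
  have hZ : ∀ p, b + 1 < p → IsZero ((startZ L (Fc (O := O))).X p) := fun p hp =>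
    isZero_Fc (hL (p - 1) (by omega))
  have hCz : ∀ q, b + 1 < q → IsZero (Cz.X q) := fun q hq =>
    isZero_mappingCone_X _ q (hZ (q + 1) (by omega)) (hZ q hq)
  have h0 : ∀ q, b + 1 < q → IsZero (st₀.P.X q) := fun q hq =>
    IsZero.of_iso (isZero_biprod' (hCz q hq) (hK q (by omega))) (biprodXIso Cz K q)
  refine ⟨colimit (seq Fc πc st₀), biprod.inr ≫ colimit.ι (seq Fc πc st₀) 0,
    colimToK Fc πc st₀, ?_, ?_, quasiIso_colimToK Fc πc st₀, ?_, ?_⟩
  · exact isZero_colimit_X Fc πc st₀ (fun X hX => isZero_Fc hX) (b + 1) hL' h0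
  · rw [Category.assoc, ι_colimToK]
    show biprod.inr ≫ biprod.desc (startφ L Fc πc) β = β
    rw [biprod.inr_desc]
  · intro q
    have h1 : Epi ((biprod.inl : Cz ⟶ Cz ⊞ K).f q ≫ (colimit.ι (seq Fc πc st₀) 0).f q ≫
        (colimToK Fc πc st₀).f q) := by
      rw [← HomologicalComplex.comp_f, ← HomologicalComplex.comp_f, ι_colimToK]
      have h2 : (biprod.inl : Cz ⟶ Cz ⊞ K) ≫ φs Fc πc st₀ 0 = startφ L Fc πc :=
        biprod.inl_desc _ _
      rw [h2]
      exact epi_startφ_f L Fc πc q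
    have h3 := epi_of_epi ((biprod.inl : Cz ⟶ Cz ⊞ K).f q)
      ((colimit.ι (seq Fc πc st₀) 0).f q ≫ (colimToK Fc πc st₀).f q)
    exact epi_of_epi ((colimit.ι (seq Fc πc st₀) 0).f q) ((colimToK Fc πc st₀).f q)
  · intro q
    rw [HomologicalComplex.comp_f]
    refine SplitFS.comp ?_ ?_
    · refine SplitFS.mk' _ (biprodXIso Cz K q) ?_ ?_
      · refine IsFS.of_iso (homotopyCofiber.XIsoBiprod (𝟙 (startZ L Fc)) q (q + 1) rfl).symm ?_
        exact (isFS_Fc _).biprod (isFS_Fc _)
      · rw [← inr_biprodXIso_inv, Category.assoc, Iso.inv_hom_id, Category.comp_id]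
    · obtain ⟨F, ε, hF, hε⟩ := exists_termIso Fc πc st₀ q
      refine SplitFS.mk' _ ε (IsFS.sigma F (fun m => ?_)) hε
      rcases hF m with h | ⟨X, ⟨e⟩⟩
      · exact IsFS.of_isZero h
      · exact (isFS_Fc X).of_iso e.symm

end Groth.Agent.H31.FreeSum
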