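import Groth.Agent.H31.RelStep
import Mathlib.Algebra.Homology.Embedding.CochainComplex
import Mathlib.Algebra.Homology.HomotopyCategory.HomologicalFunctor
import Mathlib.Algebra.Homology.HomotopyCategory.ShiftSequence

/-!
# Resolution systems over the canonical truncations (helper31 library)

For a complex `G` of modules on a ringed site we construct a sequence `K_0 ⟶ K_1 ⟶ ...` of bounded
above complexes of coproducts of modules `j_! O_U` over the canonical truncations `τ_{≤ n+1} G`,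
with degreewise split transition maps, whose colimit resolves `G`.
-/

set_option autoImplicit false
set_option backward.isDefEq.respectTransparency false
universe u
open CategoryTheory CategoryTheory.Limits HomologicalComplex CochainComplex ZeroObject

namespace Groth.Agent.H31.FreeSum

/-! ### Homology of a mapping cone in one degree -/

section Cone

variable {D : Type*} [Category D] [Abelian D]

theorem isZero_homology_mappingCone {K L : CochainComplex D ℤ} (f : K ⟶ L) (n : ℤ)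
    (h1 : QuasiIsoAt f n) (h2 : QuasiIsoAt f (n + 1)) :
    IsZero ((mappingCone f).homology n) := by
  let F := HomotopyCategory.homologyFunctor D (ComplexShape.up ℤ) 0
  have hT := HomotopyCategory.mappingCone_triangleh_distinguished f
  have e1 : IsIso ((F.shift n).map (mappingCone.triangleh f).mor₁) := by
    rw [quasiIsoAt_iff_isIso_homologyMap] at h1
    exact (NatIso.isIso_map_iff
      (HomotopyCategory.homologyFunctorFactors D (ComplexShape.up ℤ) n) f).2 h1
  have e2 : IsIso ((F.shift (n + 1)).map (mappingCone.triangleh f).mor₁) := by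
    rw [quasiIsoAt_iff_isIso_homologyMap] at h2
    exact (NatIso.isIso_map_iff
      (HomotopyCategory.homologyFunctorFactors D (ComplexShape.up ℤ) (n + 1)) f).2 h2
  have z1 : (F.shift n).map (mappingCone.triangleh f).mor₂ = 0 :=
    (F.homologySequence_epi_shift_map_mor₁_iff _ hT n).1 inferInstance
  have z2 : F.homologySequenceδ (mappingCone.triangleh f) n (n + 1) rfl = 0 :=
    (F.homologySequence_mono_shift_map_mor₁_iff _ hT n (n + 1) rfl).1 inferInstance
  have hz : IsZero ((F.shift n).obj (mappingCone.triangleh f).obj₃) :=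
    (F.homologySequence_exact₃ _ hT n (n + 1) rfl).isZero_X₂_iff.2 ⟨z1, z2⟩
  exact IsZero.of_iso hz
    ((HomotopyCategory.homologyFunctorFactors D (ComplexShape.up ℤ) n).app (mappingCone f)).symm

end Cone

open ModSite Groth.Agent.H31.Resolution

variable {C : Type u} [SmallCategory C] {J : GrothendieckTopology C} {O : Sheaf J CommRingCat.{u}}
  (G : CochainComplex (ModSite.Mod O) ℤ)

/-- A resolution of `τ_{≤ n+1} G` of the required kind. -/
structure Lvl (n : ℕ) where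
  /-- the complex -/
  K : CochainComplex (ModSite.Mod O) ℤ
  /-- the map to the truncation -/
  π : K ⟶ G.truncLE ((n : ℤ) + 1)
  bdd : ∀ q, (n : ℤ) + 2 < q → IsZero (K.X q)
  qi : QuasiIso π
  epi : ∀ q, Epi (π.f q)
  fs : ∀ q, IsFS O (K.X q)

theorem nonempty_lvl_zero : Nonempty (Lvl G 0) := by
  have hL : ∀ q, ((0 : ℕ) : ℤ) + 1 < q → IsZero ((G.truncLE (((0 : ℕ) : ℤ) + 1)).X q) :=
    fun q hq => isZero_of_isStrictlyLE _ (((0 : ℕ) : ℤ) + 1) q hq
  have h0 : ∀ q, IsZero ((0 : CochainComplex (ModSite.Mod O) ℤ).X q) := fun q =>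
    Functor.map_isZero (eval _ _ q) (isZero_zero _)
  obtain ⟨K', ι, π, hb, -, hqi, hepi, hs⟩ := exists_relStep (G.truncLE (((0 : ℕ) : ℤ) + 1))
    (0 : CochainComplex (ModSite.Mod O) ℤ) (((0 : ℕ) : ℤ) + 1) hL (fun q _ => h0 q) 0
  exact ⟨⟨K', π, fun q hq => hb q (by omega), hqi, hepi,
    fun q => (hs q).isFS (IsFS.of_isZero (h0 q))⟩⟩

theorem exists_step (n : ℕ) (l : Lvl G n) :
    ∃ (l' : Lvl G (n + 1)) (ι : l.K ⟶ l'.K),
      ι ≫ l'.π ≫ G.ιTruncLE (((n + 1 : ℕ) : ℤ) + 1) = l.π ≫ G.ιTruncLE ((n : ℤ) + 1) ∧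
        ∀ q, SplitFS O (ι.f q) := by
  have hL : ∀ q, ((n + 1 : ℕ) : ℤ) + 1 < q →
      IsZero ((G.truncLE (((n + 1 : ℕ) : ℤ) + 1)).X q) :=
    fun q hq => isZero_of_isStrictlyLE _ (((n + 1 : ℕ) : ℤ) + 1) q hq
  have hK : ∀ q, ((n + 1 : ℕ) : ℤ) + 1 < q → IsZero (l.K.X q) := fun q hq =>
    l.bdd q (by push_cast at hq; omega)
  have : l.K.IsStrictlyLE (((n + 1 : ℕ) : ℤ) + 1) :=
    (isStrictlyLE_iff _ _).2 (fun i hi => hK i hi)
  let β : l.K ⟶ G.truncLE (((n + 1 : ℕ) : ℤ) + 1) :=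
    inv (l.K.ιTruncLE (((n + 1 : ℕ) : ℤ) + 1)) ≫
      truncLEMap (l.π ≫ G.ιTruncLE ((n : ℤ) + 1)) (((n + 1 : ℕ) : ℤ) + 1)
  have hβ : β ≫ G.ιTruncLE (((n + 1 : ℕ) : ℤ) + 1) = l.π ≫ G.ιTruncLE ((n : ℤ) + 1) := by
    rw [Category.assoc, CochainComplex.ιTruncLE_naturality, IsIso.inv_hom_id_assoc]
  obtain ⟨K', ι, π, hb, hιπ, hqi, hepi, hs⟩ := exists_relStep
    (G.truncLE (((n + 1 : ℕ) : ℤ) + 1)) l.K (((n + 1 : ℕ) : ℤ) + 1) hL hK β
  refine ⟨⟨K', π, fun q hq => hb q (by omega), hqi, hepi, fun q => (hs q).isFS (l.fs q)⟩, ι,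
    ?_, hs⟩
  rw [← Category.assoc, hιπ, hβ]

/-- The chosen sequence of resolutions. -/
noncomputable def lvl : ∀ n, Lvl G n
  | 0 => (nonempty_lvl_zero G).some
  | n + 1 => (exists_step G n (lvl n)).choose

/-- The transition maps. -/
noncomputable def tr (n : ℕ) : (lvl G n).K ⟶ (lvl G (n + 1)).K :=
  (exists_step G n (lvl G n)).choose_spec.choose

theorem tr_spec (n : ℕ) :
    tr G n ≫ (lvl G (n + 1)).π ≫ G.ιTruncLE (((n + 1 : ℕ) : ℤ) + 1) =
        (lvl G n).π ≫ G.ιTruncLE ((n : ℤ) + 1) ∧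
      ∀ q, SplitFS O ((tr G n).f q) :=
  (exists_step G n (lvl G n)).choose_spec.choose_spec

/-- The sequence of complexes. -/
noncomputable def Kc : ℕ ⥤ CochainComplex (ModSite.Mod O) ℤ := Functor.ofSequence (tr G)

theorem Kc_map_succ (n : ℕ) : (Kc G).map (homOfLE (Nat.le_succ n)) = tr G n :=
  Functor.ofSequence_map_homOfLE_succ _ n

/-- The maps to `G`. -/
noncomputable def φG (n : ℕ) : (Kc G).obj n ⟶ G := (lvl G n).π ≫ G.ιTruncLE ((n : ℤ) + 1)

/-- The maps to `G`, as a natural transformation. -/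
noncomputable def toG : Kc G ⟶ (Functor.const ℕ).obj G :=
  NatTrans.ofSequence (fun n => φG G n) (fun n => by
    have h : (Kc G).map (homOfLE (n.le_add_right 1)) = tr G n := Kc_map_succ G n
    rw [h]
    dsimp
    rw [Category.comp_id]
    exact (tr_spec G n).1)

theorem hφG {n n' : ℕ} (f : n ⟶ n') : (Kc G).map f ≫ φG G n' = φG G n := by
  have h := (toG G).naturality f
  dsimp at h
  rw [Category.comp_id] at h
  exact h

/-- The map from the colimit to `G`. -/
noncomputable def colimToG : colimit (Kc G) ⟶ G := colimit.desc (Kc G) ⟨G, toG G⟩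

theorem ι_colimToG (n : ℕ) : colimit.ι (Kc G) n ≫ colimToG G = φG G n :=
  colimit.ι_desc _ _

theorem quasiIsoAt_φG (n : ℕ) (j : ℤ) (hj : j ≤ (n : ℤ) + 1) : QuasiIsoAt (φG G n) j := by
  have h1 : QuasiIsoAt (lvl G n).π j := (lvl G n).qi.quasiIsoAt j
  have h2 : QuasiIsoAt (G.ιTruncLE ((n : ℤ) + 1)) j := G.quasiIsoAt_ιTruncLE _ _ hj
  exact quasiIsoAt_comp (lvl G n).π (G.ιTruncLE ((n : ℤ) + 1)) j

theorem quasiIso_colimToG : QuasiIso (colimToG G) := by
  have := KFlat.hasExactColimitsOfShape_nat_Mod (O := O)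
  rw [KFlat.quasiIso_iff_acyclic_mappingCone]
  intro i
  rw [exactAt_iff_isZero_homology]
  have hc := ConeColim.isColimitConeCocone (Kc G) (φG G) (fun f => hφG G f)
    (colimit.cocone _) (colimToG G) (ι_colimToG G) (colimit.isColimit _)
  refine SeqColim.isZero_homology_of_isColimit _ _ hc i (fun n => ?_)
  refine ⟨max n i.toNat, le_max_left _ _, ?_⟩
  have hi : i ≤ ((max n i.toNat : ℕ) : ℤ) := by
    have := Int.self_le_toNat i
    have h2 : (i.toNat : ℤ) ≤ ((max n i.toNat : ℕ) : ℤ) := by exact_mod_cast le_max_right _ _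
    omega
  have hz : IsZero ((mappingCone (φG G (max n i.toNat + 1))).homology i) :=
    isZero_homology_mappingCone _ i (quasiIsoAt_φG G _ i (by push_cast; omega))
      (quasiIsoAt_φG G _ (i + 1) (by push_cast; omega))
  exact hz.eq_of_tgt _ _

/-- The resolution system. -/
theorem exists_resSystem :
    ∃ (Kc : ℕ ⥤ CochainComplex (ModSite.Mod O) ℤ) (π : ∀ n : ℕ, Kc.obj n ⟶ G.truncLE ((n : ℤ) + 1)),
      (∀ n : ℕ, Kc.map (homOfLE (Nat.le_succ n)) ≫ π (n + 1) ≫ G.ιTruncLE (((n + 1 : ℕ) : ℤ) + 1) =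
        π n ≫ G.ιTruncLE ((n : ℤ) + 1)) ∧
      (∀ n : ℕ, QuasiIso (π n) ∧ ∀ i : ℤ, Epi ((π n).f i)) ∧
      (∀ n : ℕ, ∃ b : ℤ, (Kc.obj n).IsStrictlyLE b) ∧
      (∀ (n : ℕ) (i : ℤ), ∃ (ι : Type u) (U : ι → C),
        Nonempty ((Kc.obj n).X i ≅ ∐ fun j => ModSite.freeOn O (U j))) ∧
      (∀ (n : ℕ) (i : ℤ), ∃ r : (Kc.obj (n + 1)).X i ⟶ (Kc.obj n).X i,
        (Kc.map (homOfLE (Nat.le_succ n))).f i ≫ r = 𝟙 _ ∧
        ∃ (ι : Type u) (U : ι → C),
          Nonempty (cokernel ((Kc.map (homOfLE (Nat.le_succ n))).f i) ≅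
            ∐ fun j => ModSite.freeOn O (U j))) ∧
      ∃ c : colimit Kc ⟶ G, (∀ n : ℕ, colimit.ι Kc n ≫ c = π n ≫ G.ιTruncLE ((n : ℤ) + 1)) ∧
        QuasiIso c := by
  refine ⟨Kc G, fun n => (lvl G n).π, ?_, ?_, ?_, ?_, ?_, colimToG G, ι_colimToG G,
    quasiIso_colimToG G⟩
  · intro n
    rw [Kc_map_succ]
    exact (tr_spec G n).1
  · exact fun n => ⟨(lvl G n).qi, (lvl G n).epi⟩
  · exact fun n => ⟨(n : ℤ) + 2, (isStrictlyLE_iff _ _).2 (fun i hi => (lvl G n).bdd i hi)⟩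
  · exact fun n i => (lvl G n).fs i
  · intro n i
    rw [Kc_map_succ]
    obtain ⟨r, hr⟩ := (tr_spec G n).2 i |>.exists_retraction
    exact ⟨r, hr, ((tr_spec G n).2 i).isFS_cokernel⟩

end Groth.Agent.H31.FreeSum
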