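import Mathlib
import Groth.Agent.H6.AcycUnit
import Groth.Agent.H6.QCoprod
import Groth.Agent.S0800
import Groth.Agent.S11319
import Groth.Agent.H45.ToSheafColim

/-!
# `Rf_*` commutes with coproducts of uniformly bounded below complexes, `f` qcqs (helper31)

* `preservesCoproduct_of_filtered` : an additive functor preserving filtered colimits preserves
  coproducts (generic).
* `pushAb_preservesCoproducts`, `RpushAb_preservesCoproducts`, `pushforward_preservesCoproducts`.
* `facyc_sigma` : a coproduct of `f_*`-acyclic modules is `f_*`-acyclic (`f` qcqs).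
* `preservesCoproduct_Rpush_of_models`, `isIso_sigmaDesc_Rpush_of_isGE` (= `S11116`).
-/

set_option backward.isDefEq.respectTransparency false
set_option linter.style.haveILetI false
set_option autoImplicit false
universe w w' v u v' u'
open CategoryTheory CategoryTheory.Limits AlgebraicGeometry
attribute [local instance] HasDerivedCategory.standard

namespace Groth.Agent.H31.RpushCoprod

section Generic

open CoproductsFromFiniteFiltered

variable {C : Type u'} [Category.{v'} C] [Abelian C] [HasColimitsOfSize.{u, u} C]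
  {B : Type v} [Category.{w} B] [Preadditive B]
  (F' : C ⥤ B) [F'.Additive]

include F' in
theorem fin_hom_ext {S : Type u} [Finite S] (g : S → C) {T : B}
    (a b : F'.obj (∐ g) ⟶ T)
    (h : ∀ x, F'.map (Sigma.ι g x) ≫ a = F'.map (Sigma.ι g x) ≫ b) : a = b := by
  have : PreservesColimitsOfShape (Discrete S) F' := inferInstance
  apply (isColimitOfPreserves F' (colimit.isColimit (Discrete.functor g))).hom_ext
  rintro ⟨x⟩
  exact h x

include F' in
theorem fin_desc {S : Type u} [Finite S] (g : S → C) {T : B}
    (t : ∀ x, F'.obj (g x) ⟶ T) :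
    ∃ a : F'.obj (∐ g) ⟶ T, ∀ x, F'.map (Sigma.ι g x) ≫ a = t x := by
  have : PreservesColimitsOfShape (Discrete S) F' := inferInstance
  let h := isColimitOfPreserves F' (colimit.isColimit (Discrete.functor g))
  let s : Cocone (Discrete.functor g ⋙ F') :=
    { pt := T, ι := Discrete.natTrans fun x => t x.as }
  exact ⟨h.desc s, fun x => h.fac s ⟨x⟩⟩

include F' in
theorem preservesCoproduct_of_filtered
    (hF : ∀ (K : Type u) [SmallCategory K] [IsFiltered K], PreservesColimitsOfShape K F')
    (J : Type u) (f : J → C) :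
    PreservesColimit (Discrete.functor f) F' := by
  have : PreservesColimitsOfShape (Finset (Discrete J)) F' := hF _
  have H := isColimitOfPreserves F' (isColimitFiniteSubproductsCocone f)
  apply preservesColimit_of_preserves_colimit_cocone (colimit.isColimit (Discrete.functor f))
  apply IsColimit.ofExistsUnique
  intro s
  have hleg : ∀ S : Finset (Discrete J),
      ∃ a : F'.obj (∐ fun x : S => (Discrete.functor f).obj x) ⟶ s.pt,
      ∀ x : S, F'.map (Sigma.ι (fun x : S => (Discrete.functor f).obj x) x) ≫ a = s.ι.app x.1 :=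
    fun S => fin_desc F' (fun x : S => (Discrete.functor f).obj x) (fun x => s.ι.app x.1)
  choose leg hlegs using hleg
  let s' : Cocone (liftToFinsetObj (Discrete.functor f) ⋙ F') :=
    { pt := s.pt
      ι :=
        { app := fun S => leg S
          naturality := by
            intro S S' h
            apply fin_hom_ext F' (fun x : S => (Discrete.functor f).obj x)
            intro x
            have e : Sigma.ι (fun x : S => (Discrete.functor f).obj x) x ≫
                (liftToFinsetObj (Discrete.functor f)).map h =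
                Sigma.ι (fun x : S' => (Discrete.functor f).obj x) ⟨x.1, h.down.down x.2⟩ := by
              simp [liftToFinsetObj]
            have e2 : (liftToFinsetObj (Discrete.functor f) ⋙ F').map h =
                F'.map ((liftToFinsetObj (Discrete.functor f)).map h) := rfl
            rw [e2, ← Category.assoc, ← F'.map_comp, e, hlegs S']
            simp only [Functor.const_obj_obj, Functor.const_obj_map, Category.comp_id]
            rw [hlegs S] } }
  have key : ∀ (S : Finset (Discrete J)) (x : S),
      Sigma.ι (fun x : S => (Discrete.functor f).obj x) x ≫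
        (finiteSubcoproductsCocone f).ι.app S = Sigma.ι f x.1.as := by
    intro S x
    simp [finiteSubcoproductsCocone]
  refine ⟨H.desc s', ?_, ?_⟩
  · rintro ⟨j⟩
    have hj : (⟨j⟩ : Discrete J) ∈ ({⟨j⟩} : Finset (Discrete J)) := Finset.mem_singleton_self _
    have e1 : (F'.mapCocone (colimit.cocone (Discrete.functor f))).ι.app ⟨j⟩ =
        F'.map (Sigma.ι f j) := rfl
    rw [e1, ← key {⟨j⟩} ⟨⟨j⟩, hj⟩, F'.map_comp, Category.assoc]
    have := H.fac s' {⟨j⟩}
    have e3 : (F'.mapCocone (finiteSubcoproductsCocone f)).ι.app {⟨j⟩} =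
        F'.map ((finiteSubcoproductsCocone f).ι.app {⟨j⟩}) := rfl
    rw [e3] at this
    rw [this]
    exact hlegs {⟨j⟩} ⟨⟨j⟩, hj⟩
  · intro d hd
    apply H.uniq s'
    intro S
    apply fin_hom_ext F' (fun x : S => (Discrete.functor f).obj x)
    intro x
    have e3 : (F'.mapCocone (finiteSubcoproductsCocone f)).ι.app S =
        F'.map ((finiteSubcoproductsCocone f).ι.app S) := rfl
    rw [e3, ← Category.assoc, ← F'.map_comp, key S x]
    have := hd x.1
    have e1 : (F'.mapCocone (colimit.cocone (Discrete.functor f))).ι.app x.1 =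
        F'.map (Sigma.ι f x.1.as) := rfl
    rw [e1] at this
    rw [this]
    exact (hlegs S x).symm

include F' in
theorem preservesCoproducts_of_filtered
    (hF : ∀ (K : Type u) [SmallCategory K] [IsFiltered K], PreservesColimitsOfShape K F')
    (J : Type u) : PreservesColimitsOfShape (Discrete J) F' := by
  have : ∀ f : J → C, PreservesColimit (Discrete.functor f) F' :=
    fun f => preservesCoproduct_of_filtered F' hF J f
  exact preservesColimitsOfShape_of_discrete F'

/-- A coproduct of zero objects is zero. -/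
theorem isZero_sigma {D : Type*} [Category D] [HasZeroMorphisms D] {J : Type*} (Z : J → D)
    [HasCoproduct Z] (h : ∀ j, IsZero (Z j)) : IsZero (∐ Z) := by
  rw [IsZero.iff_id_eq_zero]
  apply Sigma.hom_ext
  intro j
  exact (h j).eq_of_src _ _

end Generic

section Sch

open Groth.Agent.H33

variable {X S : Scheme.{u}} (f : X ⟶ S) [QuasiCompact f] [QuasiSeparated f]

theorem RpushAb_preservesCoproducts (p : ℕ) (J : Type u) :
    PreservesColimitsOfShape (Discrete J) (Coh.RpushAb f p) :=
  preservesCoproducts_of_filtered (Coh.RpushAb f p)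
    (fun K _ _ => Groth.Agent.S0800.result f p K) J

theorem pushAb_preservesCoproducts (J : Type u) :
    PreservesColimitsOfShape (Discrete J) (Coh.pushAb f) := by
  have h2 : PreservesFiniteLimits (Coh.pushAb f) := by
    have := Groth.Agent.H42.CohTopLib.preservesLimits_push f.base
    exact inferInstanceAs (PreservesFiniteLimits (CohTop.push f.base))
  have := RpushAb_preservesCoproducts f 0 J
  exact preservesColimitsOfShape_of_natIso ((Coh.pushAb f).rightDerivedZeroIsoSelf)

theorem pushforward_preservesCoproducts (J : Type u) :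
    PreservesColimitsOfShape (Discrete J) (Scheme.Modules.pushforward f) := by
  let E : X.Modules ⥤ Sheaf (Opens.grothendieckTopology X) AddCommGrpCat.{u} :=
    SheafOfModules.toSheaf.{u} X.ringCatSheaf
  let E' : S.Modules ⥤ Sheaf (Opens.grothendieckTopology S) AddCommGrpCat.{u} :=
    SheafOfModules.toSheaf.{u} S.ringCatSheaf
  let e : Scheme.Modules.pushforward f ⋙ E' ≅ E ⋙ Coh.pushAb f :=
    NatIso.ofComponents (fun M => Iso.refl _) (by
      intro M N g
      rfl)
  have := pushAb_preservesCoproducts f J
  have h1 : PreservesColimitsOfShape (Discrete J) E :=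
    Groth.Agent.H45.toSheaf_preservesColimitsOfShape X.ringCatSheaf (Discrete J)
  have h2 : PreservesColimitsOfShape (Discrete J) E' :=
    Groth.Agent.H45.toSheaf_preservesColimitsOfShape S.ringCatSheaf (Discrete J)
  have h3 : PreservesColimitsOfShape (Discrete J) (Scheme.Modules.pushforward f ⋙ E') :=
    preservesColimitsOfShape_of_natIso e.symm
  have h4 : E'.ReflectsIsomorphisms :=
    inferInstanceAs (SheafOfModules.toSheaf.{u} S.ringCatSheaf).ReflectsIsomorphisms
  have h5 : ReflectsColimitsOfShape (Discrete J) E' :=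
    reflectsColimitsOfShape_of_reflectsIsomorphisms
  exact preservesColimitsOfShape_of_reflects_of_preserves (Scheme.Modules.pushforward f) E'

/-- A coproduct of `f_*`-acyclic modules is `f_*`-acyclic, `f` qcqs. -/
theorem facyc_sigma [HasInjectiveResolutions X.Modules] {ι : Type u} (M : ι → X.Modules)
    (hM : ∀ i, UnbDer.FAcyc (Scheme.Modules.pushforward f) (M i)) :
    UnbDer.FAcyc (Scheme.Modules.pushforward f) (∐ M) := by
  intro p hp
  obtain ⟨e⟩ := Groth.Agent.S11319.result f (∐ M) p
  let E : X.Modules ⥤ Sheaf (Opens.grothendieckTopology X) AddCommGrpCat.{u} :=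
    SheafOfModules.toSheaf.{u} X.ringCatSheaf
  have hz : IsZero ((E ⋙ Coh.RpushAb f p).obj (∐ M)) := by
    have h1 : PreservesColimitsOfShape (Discrete ι) E :=
      Groth.Agent.H45.toSheaf_preservesColimitsOfShape X.ringCatSheaf (Discrete ι)
    have h2 := RpushAb_preservesCoproducts f p ι
    have h3 : PreservesColimitsOfShape (Discrete ι) (E ⋙ Coh.RpushAb f p) := inferInstance
    refine IsZero.of_iso (isZero_sigma _ (fun j => ?_))
      (PreservesCoproduct.iso (E ⋙ Coh.RpushAb f p) M)
    obtain ⟨ej⟩ := Groth.Agent.S11319.result f (M j) p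
    exact IsZero.of_iso ((SheafOfModules.toSheaf.{u} S.ringCatSheaf).map_isZero (hM j p hp))
      ej.symm
  have hz' : IsZero (Coh.toAb ((Coh.Rpush f p).obj (∐ M))) := IsZero.of_iso hz e
  rw [IsZero.iff_id_eq_zero]
  exact (SheafOfModules.toSheaf S.ringCatSheaf).map_injective (hz'.eq_of_src _ _)

end Sch

section Main

open DerivedCategory Groth.Agent.H33 Groth.Agent.H31.RpushRestrict Groth.Agent.H6.AcycUnit

variable {X S : Scheme.{u}} (f : X ⟶ S) [QuasiCompact f] [QuasiSeparated f] [DCoh.HasRpush f]

/-- terms of a coproduct of complexes -/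
noncomputable def sigmaXIso {ι : Type u} (I : ι → CochainComplex X.Modules ℤ) (m : ℤ) :
    (∐ I).X m ≅ ∐ (fun i => (I i).X m) :=
  PreservesCoproduct.iso (HomologicalComplex.eval X.Modules (ComplexShape.up ℤ) m) I

theorem preservesCoproduct_Rpush_of_models {ι : Type u} (I : ι → CochainComplex X.Modules ℤ)
    (n : ℤ) (hGE : ∀ i, (I i).IsStrictlyGE n) (hinj : ∀ i m, Injective ((I i).X m)) :
    PreservesColimit (Discrete.functor (fun i => DerivedCategory.Q.obj (I i)))
      (DCoh.Rpush f) := by
  haveI : IsGrothendieckAbelian.{u} X.Modules :=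
    Groth.Agent.H31.GrothAb.isGrothendieckAbelian (Opens.grothendieckTopology X) X.ringCatSheaf
  haveI : IsGrothendieckAbelian.{u} S.Modules :=
    Groth.Agent.H31.GrothAb.isGrothendieckAbelian (Opens.grothendieckTopology S) S.ringCatSheaf
  have hK : ∀ i, (I i).IsKInjective := fun i => by
    have := hGE i
    have := hinj i
    exact CochainComplex.isKInjective_of_injective (I i) n
  let A : CochainComplex X.Modules ℤ := ∐ I
  have hAGE : A.IsStrictlyGE n := by
    rw [CochainComplex.isStrictlyGE_iff]
    intro m hm
    have := hGE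
    exact IsZero.of_iso (isZero_sigma _
      (fun i => CochainComplex.isZero_of_isStrictlyGE (I i) n m hm)) (sigmaXIso I m)
  have hAac : ∀ m, UnbDer.FAcyc (Scheme.Modules.pushforward f) (A.X m) := by
    intro m p hp
    have h := facyc_sigma f (fun i => (I i).X m)
      (fun i => by
        have := hinj i m
        exact Groth.Agent.H6.LerayBdd.FAcyc_of_injective _ _) p hp
    exact IsZero.of_iso h (((Scheme.Modules.pushforward f).rightDerived p).mapIso (sigmaXIso I m))
  have hu : IsIso ((uC f).app A) :=
    (isIso_uC_iff f A).2 (Groth.Agent.H6.LerayBdd.isIso_unit_of_isStrictlyGE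
      (Scheme.Modules.pushforward f) (DCoh.Rpush f) (βu f) A n hAac)
  have hui : ∀ i, IsIso ((uC f).app (I i)) := fun i => by
    have := hK i
    exact isIso_uC_app f (I i)
  let c : Cofan I := Cofan.mk (∐ I) (Sigma.ι I)
  have hc : IsColimit c := coproductIsCoproduct I
  have hQ := Groth.Agent.H6.QCoprod.isColimitQCofan c hc
  let G := (Scheme.Modules.pushforward f).mapHomologicalComplex (ComplexShape.up ℤ)
  have hpc : PreservesColimitsOfShape (Discrete ι) (Scheme.Modules.pushforward f) :=
    pushforward_preservesCoproducts f ι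
  let c' : Cofan (fun i => G.obj (I i)) :=
    Cofan.mk (G.obj (∐ I)) (fun i => G.map (Sigma.ι I i))
  have hc' : IsColimit c' :=
    (isColimitMapCoconeCofanMkEquiv G I (Sigma.ι I)) (isColimitOfPreserves G hc)
  have hQ' := Groth.Agent.H6.QCoprod.isColimitQCofan c' hc'
  apply preservesColimit_of_preserves_colimit_cocone hQ
  refine (isColimitMapCoconeCofanMkEquiv (DCoh.Rpush f) _ _).symm ?_
  have nat : ∀ j, Q.map (G.map (Sigma.ι I j)) ≫ (uC f).app A =
      (uC f).app (I j) ≫ (DCoh.Rpush f).map (Q.map (Sigma.ι I j)) :=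
    fun j => (uC f).naturality (Sigma.ι I j)
  refine Cofan.IsColimit.mk _ (fun s => inv ((uC f).app A) ≫
    Cofan.IsColimit.desc hQ' (fun j => (uC f).app (I j) ≫ s.inj j)) ?_ ?_
  · intro s j
    have h1 : (DCoh.Rpush f).map (Q.map (Sigma.ι I j)) ≫ inv ((uC f).app A) =
        inv ((uC f).app (I j)) ≫ Q.map (G.map (Sigma.ι I j)) := by
      rw [IsIso.comp_inv_eq, Category.assoc, nat j, IsIso.inv_hom_id_assoc]
    have h2 := Cofan.IsColimit.fac hQ' (fun j => (uC f).app (I j) ≫ s.inj j) j
    change (DCoh.Rpush f).map (Q.map (Sigma.ι I j)) ≫ _ ≫ _ = _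
    rw [← Category.assoc, h1, Category.assoc]
    change Q.map (G.map (Sigma.ι I j)) ≫ _ = _ at h2
    rw [h2, IsIso.inv_hom_id_assoc]
  · intro s m hm
    rw [IsIso.eq_inv_comp]
    apply Cofan.IsColimit.hom_ext hQ'
    intro j
    have h2 := Cofan.IsColimit.fac hQ' (fun j => (uC f).app (I j) ≫ s.inj j) j
    rw [h2]
    change Q.map (G.map (Sigma.ι I j)) ≫ _ ≫ m = _
    rw [← Category.assoc, nat j, Category.assoc]
    congr 1
    exact hm j

theorem isIso_sigmaDesc_Rpush_of_isGE {ι : Type u} (K : ι → DCoh.D X) (n : ℤ)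
    (hK : ∀ i, (K i).IsGE n)
    [HasCoproduct K] [HasCoproduct (fun i => (DCoh.Rpush f).obj (K i))] :
    IsIso (Sigma.desc (fun i => (DCoh.Rpush f).map (Sigma.ι K i))) := by
  have hmod : ∀ i, ∃ (I : CochainComplex X.Modules ℤ), I.IsStrictlyGE n ∧
      (∀ m, Injective (I.X m)) ∧ Nonempty (Q.obj I ≅ K i) := by
    intro i
    have := hK i
    obtain ⟨L, hL, ⟨e⟩⟩ := DerivedCategory.exists_iso_Q_obj_of_isGE (K i) n
    have := hL
    obtain ⟨I, φ, hφ, hI, hge⟩ :=
      CochainComplex.Plus.modelCategoryQuillen.exists_quasiIso_injective L n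
    have := hφ
    exact ⟨I, hge, hI, ⟨(asIso (Q.map φ)).symm ≪≫ e.symm⟩⟩
  choose I hGE hinj he using hmod
  have hp := preservesCoproduct_Rpush_of_models f I n hGE hinj
  have hp' : PreservesColimit (Discrete.functor K) (DCoh.Rpush f) :=
    preservesColimit_of_iso_diagram (DCoh.Rpush f)
      (Discrete.natIso (F := Discrete.functor (fun i => Q.obj (I i))) (G := Discrete.functor K)
        (fun i => (he i.as).some))
  exact inferInstanceAs (IsIso (sigmaComparison (DCoh.Rpush f) K))

end Main

end Groth.Agent.H31.RpushCoprod
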