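import Mathlib
import Groth.Agent.H31.RpushCoprod
import Groth.Agent.H31.GammaZCoprod
import Groth.Agent.S1040
import Groth.Agent.Lead.SigmaTri

/-!
# `Rf_*` commutes with coproducts on `D_QCoh`, `f` qcqs (helper31)

* `isZero_HD_sigma` : the cohomology of a coproduct in `D(O_X)` vanishes if it does for each summand.
* `isIso_sigmaDesc_Rpush_of_compact` : quasi-compact base.
* `isIso_sigmaDesc_Rpush_of_isQCohD` : any base (the statement of `S1000`).
Uses `Lead/SigmaTri` (coproducts of distinguished triangles) and `S11116` (`H31/RpushCoprod`).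
-/

set_option backward.isDefEq.respectTransparency false
set_option linter.style.haveILetI false
set_option autoImplicit false
universe w w' v u v' u'
open CategoryTheory CategoryTheory.Limits AlgebraicGeometry
attribute [local instance] HasDerivedCategory.standard

namespace Groth.Agent.H31.RpushCoprodQC



section Zero

open Groth.Agent.H31.GammaZCoprod

/-- The cohomology of a coproduct vanishes if the cohomology of each summand does. -/
theorem isZero_HD_sigma {X : Scheme.{u}} {ι : Type u} (K : ι → DCoh.D X) [HasCoproduct K] (n : ℤ)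
    (h : ∀ i, IsZero (DCoh.HD (K i) n)) : IsZero (DCoh.HD (∐ K) n) := by
  haveI : IsGrothendieckAbelian.{u} X.Modules :=
    Groth.Agent.H31.GrothAb.isGrothendieckAbelian (Opens.grothendieckTopology X) X.ringCatSheaf
  let E : ι → CochainComplex X.Modules ℤ := fun i => DerivedCategory.Q.objPreimage (K i)
  let e : ∀ i, DerivedCategory.Q.obj (E i) ≅ K i := fun i =>
    DerivedCategory.Q.objObjPreimageIso (K i)
  have hQ := Groth.Agent.H6.DSum.isColimitQ' E id Function.bijective_id
  let φ : ∐ K ≅ DerivedCategory.Q.obj (∐ E) :=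
    IsColimit.coconePointsIsoOfNatIso (colimit.isColimit (Discrete.functor K)) hQ
      (Discrete.natIso (fun i => (e i.as).symm))
  let ψ : DCoh.HD (∐ K) n ≅ (∐ E).homology n :=
    (DerivedCategory.homologyFunctor X.Modules n).mapIso φ ≪≫
      (DerivedCategory.homologyFunctorFactors X.Modules n).app (∐ E)
  let χ := ψ ≪≫ Groth.Agent.H31.HSigma.homologySigmaIso E n
  have hD : ∀ j, IsZero (((Groth.Agent.H31.HSigma.S E n).homology).obj j) := fun j => by
    have e1 : ((Groth.Agent.H31.HSigma.S E n).homology).obj j ≅ DCoh.HD (K j.as) n :=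
      Groth.Agent.H31.HSigma.homologyObjIso E n j ≪≫
        ((DerivedCategory.homologyFunctorFactors X.Modules n).app (E j.as)).symm ≪≫
        (DerivedCategory.homologyFunctor X.Modules n).mapIso (e j.as)
    exact IsZero.of_iso (h j.as) e1
  refine IsZero.of_iso ?_ χ
  rw [IsZero.iff_id_eq_zero]
  apply colimit.hom_ext
  intro j
  exact (hD j).eq_of_src _ _

end Zero

section Compact

open DerivedCategory Pretriangulated Groth.Agent.H33 Groth.Agent.H31.RpushRestrict
  Groth.Agent.H6.AcycUnit Groth.Agent.H6.RpushQC Groth.Agent.H6.RFBound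
  Groth.Agent.H31.GammaZCoprod Groth.Agent.H31.RpushCoprod Groth.Agent.Lead.SigmaTri

variable {X S : Scheme.{u}} (f : X ⟶ S) [QuasiCompact f] [QuasiSeparated f] [DCoh.HasRpush f]

theorem isIso_sigmaDesc_Rpush_of_compact [CompactSpace ↥S] {ι : Type u} (K : ι → DCoh.D X)
    (hK : ∀ i, DCoh.IsQCohD (K i))
    [HasCoproduct K] [HasCoproduct (fun i => (DCoh.Rpush f).obj (K i))] :
    IsIso (Sigma.desc (fun i => (DCoh.Rpush f).map (Sigma.ι K i))) := by
  haveI : IsGrothendieckAbelian.{u} X.Modules :=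
    Groth.Agent.H31.GrothAb.isGrothendieckAbelian (Opens.grothendieckTopology X) X.ringCatSheaf
  haveI : IsGrothendieckAbelian.{u} S.Modules :=
    Groth.Agent.H31.GrothAb.isGrothendieckAbelian (Opens.grothendieckTopology S) S.ringCatSheaf
  obtain ⟨N, hN⟩ := exists_bound f
  rw [DerivedCategory.isIso_iff]
  intro m
  obtain ⟨a, ha⟩ : ∃ a : ℤ, a = m - N - 1 := ⟨_, rfl⟩
  let Klt : ι → DCoh.D X := fun i => ((tD X.Modules).truncLT a).obj (K i)
  let Kge : ι → DCoh.D X := fun i => ((tD X.Modules).truncGE a).obj (K i)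
  haveI : HasCoproduct Klt := hasCoproduct_D _
  haveI : HasCoproduct Kge := hasCoproduct_D _
  haveI : HasCoproduct (fun i => (DCoh.Rpush f).obj (Klt i)) := hasCoproduct_D _
  haveI : HasCoproduct (fun i => (DCoh.Rpush f).obj (Kge i)) := hasCoproduct_D _
  let T : ι → Triangle (DCoh.D X) := fun i => ((tD X.Modules).triangleLTGE a).obj (K i)
  have hT : ∀ i, T i ∈ distTriang _ := fun i => (tD X.Modules).triangleLTGE_distinguished a (K i)
  haveI : HasCoproduct (fun i => (T i).obj₁) := inferInstanceAs (HasCoproduct Klt)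
  haveI : HasCoproduct (fun i => (T i).obj₂) := inferInstanceAs (HasCoproduct K)
  haveI : HasCoproduct (fun i => (T i).obj₃) := inferInstanceAs (HasCoproduct Kge)
  have hTc := sigma_distinguished T hT
  have hLq : DCoh.IsQCohD (∐ Klt) :=
    Groth.Agent.S1040.result X Klt (fun i => isQCohD_truncLT (K i) (hK i) a)
  have hLle : (∐ Klt).IsLE (a - 1) := by
    rw [DerivedCategory.isLE_iff]
    intro j hj
    exact isZero_HD_sigma Klt j
      (fun i => isZero_of_isLE (((tD X.Modules).truncLT a).obj (K i)) (a - 1) j hj)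
  have hz : ∀ j : ℤ, a + N ≤ j → IsZero (DCoh.HD ((DCoh.Rpush f).obj (∐ Klt)) j) := fun j hj =>
    isZero_HD_Rpush_of_isLE f N hN _ hLq (a - 1) hLle j (by omega)
  let ψ : ∐ K ⟶ ∐ Kge := Limits.Sigma.map (fun j => (T j).mor₂)
  have h1 : IsIso ((homologyFunctor S.Modules m).map ((DCoh.Rpush f).map ψ)) :=
    isIso_H_RF_map_of_isZero (Scheme.Modules.pushforward f) (DCoh.Rpush f) (βu f) _ hTc m
      (hz m (by omega)) (hz (m + 1) (by omega))
  -- triangles downstairs
  have hex : ∀ i, ∃ (a' : (DCoh.Rpush f).obj (Klt i) ⟶ (DCoh.Rpush f).obj (K i))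
      (c' : (DCoh.Rpush f).obj (Kge i) ⟶ ((DCoh.Rpush f).obj (Klt i))⟦(1 : ℤ)⟧),
      Triangle.mk a' ((DCoh.Rpush f).map (T i).mor₂) c' ∈ distTriang (DCoh.D S) := fun i =>
    Groth.Agent.H5.KInjDer.exists_distinguished_map
      ((Scheme.Modules.pushforward f).mapHomotopyCategory (ComplexShape.up ℤ) ⋙
        DerivedCategory.Qh) (DCoh.Rpush f) (βu f) (T i).mor₁ (T i).mor₂ (T i).mor₃ (hT i)
  choose a' c' hT' using hex
  let T' : ι → Triangle (DCoh.D S) := fun i =>
    Triangle.mk (a' i) ((DCoh.Rpush f).map (T i).mor₂) (c' i)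
  haveI : HasCoproduct (fun i => (T' i).obj₁) :=
    inferInstanceAs (HasCoproduct (fun i => (DCoh.Rpush f).obj (Klt i)))
  haveI : HasCoproduct (fun i => (T' i).obj₂) :=
    inferInstanceAs (HasCoproduct (fun i => (DCoh.Rpush f).obj (K i)))
  haveI : HasCoproduct (fun i => (T' i).obj₃) :=
    inferInstanceAs (HasCoproduct (fun i => (DCoh.Rpush f).obj (Kge i)))
  have hTc' := sigma_distinguished T' hT'
  have hz' : ∀ j : ℤ, a + N ≤ j →
      IsZero (DCoh.HD (∐ fun i => (DCoh.Rpush f).obj (Klt i)) j) := fun j hj =>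
    isZero_HD_sigma _ j (fun i => isZero_HD_Rpush_of_isLE f N hN _
      (isQCohD_truncLT (K i) (hK i) a) (a - 1) inferInstance j (by omega))
  let ψ' : (∐ fun i => (DCoh.Rpush f).obj (K i)) ⟶ ∐ fun i => (DCoh.Rpush f).obj (Kge i) :=
    Limits.Sigma.map (fun j => (T' j).mor₂)
  have h2 : IsIso ((homologyFunctor S.Modules m).map ψ') :=
    isIso_H_mor₂_of_isZero _ hTc' m (hz' m (by omega)) (hz' (m + 1) (by omega))
  have h3 : IsIso (Sigma.desc (fun i => (DCoh.Rpush f).map (Sigma.ι Kge i))) :=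
    isIso_sigmaDesc_Rpush_of_isGE f Kge a (fun i => inferInstance)
  have sq : Sigma.desc (fun i => (DCoh.Rpush f).map (Sigma.ι K i)) ≫ (DCoh.Rpush f).map ψ =
      ψ' ≫ Sigma.desc (fun i => (DCoh.Rpush f).map (Sigma.ι Kge i)) := by
    apply Sigma.hom_ext
    intro i
    rw [Sigma.ι_desc_assoc, ← (DCoh.Rpush f).map_comp]
    erw [Sigma.ι_map, Sigma.ι_map_assoc]
    rw [Sigma.ι_desc]
    exact (DCoh.Rpush f).map_comp _ _
  have sq' := congrArg (fun φ => (homologyFunctor S.Modules m).map φ) sq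
  simp only [Functor.map_comp] at sq'
  have h4 : IsIso ((homologyFunctor S.Modules m).map
      (Sigma.desc (fun i => (DCoh.Rpush f).map (Sigma.ι K i))) ≫
      (homologyFunctor S.Modules m).map ((DCoh.Rpush f).map ψ)) := by
    rw [sq']
    infer_instance
  exact IsIso.of_isIso_comp_right _ ((homologyFunctor S.Modules m).map ((DCoh.Rpush f).map ψ))

end Compact

section General

open DerivedCategory Pretriangulated Groth.Agent.H33 Groth.Agent.H31.RpushRestrict
  Groth.Agent.H6.AcycUnit Groth.Agent.H6.RpushQC Groth.Agent.H6.RFBound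
  Groth.Agent.H31.GammaZCoprod Groth.Agent.H31.RpushCoprod Groth.Agent.H31.Tower
  Groth.Agent.H5.KInjDer Groth.Agent.S1046 Groth.Agent.H31.LocalD Groth.Agent.H31.OpenImmD

variable {X S : Scheme.{u}} (f : X ⟶ S) [QuasiCompact f] [QuasiSeparated f] [DCoh.HasRpush f]

/-- `S1000`: `Rf_*` commutes with coproducts of objects of `D_QCoh`, `f` qcqs, any base. -/
theorem isIso_sigmaDesc_Rpush_of_isQCohD {ι : Type u} (K : ι → DCoh.D X)
    (hK : ∀ i, DCoh.IsQCohD (K i))
    [HasCoproduct K] [HasCoproduct (fun i => (DCoh.Rpush f).obj (K i))] :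
    IsIso (Sigma.desc (fun i => (DCoh.Rpush f).map (Sigma.ι K i))) := by
  apply isIso_of_forall_restrictD
  intro x
  obtain ⟨V, hV, hxV, -⟩ : ∃ V : S.Opens, V ∈ S.affineOpens ∧ x ∈ V ∧ V ≤ ⊤ :=
    (TopologicalSpace.Opens.isBasis_iff_nbhd.1 S.isBasis_affineOpens)
      (show x ∈ (⊤ : S.Opens) from trivial)
  refine ⟨V, hxV, ?_⟩
  have hV' : IsAffineOpen V := hV
  have : IsAffine (V : Scheme.{u}) := hV'
  have : CompactSpace ↥(V : Scheme.{u}) := inferInstance
  have := Groth.Agent.H31.RpushSupport.hasRpush (f ∣_ V)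
  have := Groth.Agent.H31.RpushSupport.hasRpush V.ι
  have := Groth.Agent.H31.RpushSupport.hasRpush (f ⁻¹ᵁ V).ι
  obtain ⟨adjV, -⟩ := exists_restrict_Rpush_adj_gen V.ι
  obtain ⟨adjU, -⟩ := exists_restrict_Rpush_adj_gen (f ⁻¹ᵁ V).ι
  have pV : PreservesColimitsOfSize.{u, u} (DCoh.restrictD V.ι) :=
    adjV.leftAdjoint_preservesColimits
  have pU : PreservesColimitsOfSize.{u, u} (DCoh.restrictD (f ⁻¹ᵁ V).ι) :=
    adjU.leftAdjoint_preservesColimits
  let K' : ι → DCoh.D ((f ⁻¹ᵁ V : X.Opens) : Scheme.{u}) :=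
    fun i => (DCoh.restrictD (f ⁻¹ᵁ V).ι).obj (K i)
  have hK' : ∀ i, DCoh.IsQCohD (K' i) := fun i q => by
    have := hK i q
    exact weakSerre_qcoh.iso (Groth.Agent.H31.LocalD.HDRestrictIso (f ⁻¹ᵁ V) (K i) q).symm
      (Scheme.Modules.isQuasicoherent_restrictFunctor (f ⁻¹ᵁ V).ι (DCoh.HD (K i) q))
  haveI : HasCoproduct K' := hasCoproduct_D _
  haveI : HasCoproduct (fun i => (DCoh.Rpush (f ∣_ V)).obj (K' i)) := hasCoproduct_D _
  have hA : IsIso (sigmaComparison (DCoh.Rpush (f ∣_ V)) K') :=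
    isIso_sigmaDesc_Rpush_of_compact (f ∣_ V) K' hK'
  have p1 : PreservesColimit (Discrete.functor K') (DCoh.Rpush (f ∣_ V)) :=
    PreservesCoproduct.of_iso_comparison _ _
  have p1' : PreservesColimit (Discrete.functor ((DCoh.restrictD (f ⁻¹ᵁ V).ι).obj ∘ K))
      (DCoh.Rpush (f ∣_ V)) := p1
  have p2 : PreservesColimit (Discrete.functor K ⋙ DCoh.restrictD (f ⁻¹ᵁ V).ι)
      (DCoh.Rpush (f ∣_ V)) :=
    preservesColimit_of_iso_diagram _
      (Discrete.compNatIsoDiscrete K (DCoh.restrictD (f ⁻¹ᵁ V).ι)).symm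
  haveI : HasCoproduct (fun b => (DCoh.restrictD V.ι).obj ((DCoh.Rpush f).obj (K b))) :=
    hasCoproduct_D _
  haveI : HasCoproduct (fun b => (DCoh.Rpush f ⋙ DCoh.restrictD V.ι).obj (K b)) :=
    inferInstanceAs (HasCoproduct (fun b => (DCoh.restrictD V.ι).obj ((DCoh.Rpush f).obj (K b))))
  have p3 : PreservesColimit (Discrete.functor K)
      (DCoh.restrictD (f ⁻¹ᵁ V).ι ⋙ DCoh.Rpush (f ∣_ V)) := inferInstance
  have p4 : PreservesColimit (Discrete.functor K) (DCoh.Rpush f ⋙ DCoh.restrictD V.ι) :=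
    preservesColimit_of_natIso _ (restrictRpushIso f V).symm
  have h5 : IsIso (sigmaComparison (DCoh.Rpush f ⋙ DCoh.restrictD V.ι) K) := inferInstance
  have h6 : IsIso (sigmaComparison (DCoh.restrictD V.ι) (fun i => (DCoh.Rpush f).obj (K i))) :=
    inferInstance
  have fac : sigmaComparison (DCoh.Rpush f ⋙ DCoh.restrictD V.ι) K =
      sigmaComparison (DCoh.restrictD V.ι) (fun i => (DCoh.Rpush f).obj (K i)) ≫
        (DCoh.restrictD V.ι).map (Sigma.desc (fun i => (DCoh.Rpush f).map (Sigma.ι K i))) := by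
    apply Sigma.hom_ext
    intro i
    rw [ι_comp_sigmaComparison]
    change _ = Sigma.ι (fun b => (DCoh.restrictD V.ι).obj ((DCoh.Rpush f).obj (K b))) i ≫ _ ≫ _
    rw [ι_comp_sigmaComparison_assoc, ← Functor.map_comp, Sigma.ι_desc]
    rfl
  rw [fac] at h5
  exact IsIso.of_isIso_comp_left
    (sigmaComparison (DCoh.restrictD V.ι) (fun i => (DCoh.Rpush f).obj (K i))) _

end General

end Groth.Agent.H31.RpushCoprodQC
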