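import Mathlib

/-!
# (RL) for S10259-P4 (helper65): a prime of `R₁ ⊗[A] B` over `(p₁, q)` at which the fibre is radicial
-/

set_option autoImplicit false
set_option linter.style.haveILetI false
universe u
open CategoryTheory CategoryTheory.Limits AlgebraicGeometry TensorProduct

namespace Groth.Agent.H31.SL_P4_RL

section aux

variable {A B R₁ : Type u} [CommRing A] [CommRing B] [CommRing R₁] [Algebra A B] [Algebra A R₁]

theorem tmul_eq (r : R₁) (b : B) :
    r ⊗ₜ[A] b = algebraMap R₁ (R₁ ⊗[A] B) r *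
      (Algebra.TensorProduct.includeRight : B →ₐ[A] R₁ ⊗[A] B).toRingHom b := by
  change r ⊗ₜ[A] b = algebraMap R₁ (R₁ ⊗[A] B) r *
      (Algebra.TensorProduct.includeRight : B →ₐ[A] R₁ ⊗[A] B) b
  rw [Algebra.TensorProduct.algebraMap_apply, Algebra.TensorProduct.includeRight_apply,
    Algebra.TensorProduct.tmul_mul_tmul]
  simp

/-- A ring hom out of the tensor product is determined by its two restrictions. -/
theorem ringHom_ext' {K : Type u} [CommRing K] (φ ψ : R₁ ⊗[A] B →+* K)
    (h1 : φ.comp (algebraMap R₁ (R₁ ⊗[A] B)) = ψ.comp (algebraMap R₁ (R₁ ⊗[A] B)))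
    (h2 : φ.comp (Algebra.TensorProduct.includeRight : B →ₐ[A] R₁ ⊗[A] B).toRingHom =
      ψ.comp (Algebra.TensorProduct.includeRight : B →ₐ[A] R₁ ⊗[A] B).toRingHom) : φ = ψ := by
  refine RingHom.ext fun x => ?_
  induction x using TensorProduct.induction_on with
  | zero => simp
  | tmul r b =>
    rw [tmul_eq, map_mul, map_mul]
    congr 1
    · exact RingHom.congr_fun h1 r
    · exact RingHom.congr_fun h2 b
  | add x y hx hy => rw [map_add, map_add, hx, hy]

/-- Lift a ring hom to a field with kernel exactly `I` to the residue field. -/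
noncomputable def liftField {R : Type u} [CommRing R] (I : Ideal R) [I.IsPrime] {K : Type u}
    [Field K] (f : R →+* K) (hf : RingHom.ker f = I) : I.ResidueField →+* K :=
  Ideal.ResidueField.lift I f hf.ge (by
    intro x hx
    simp only [Submonoid.mem_comap, IsUnit.mem_submonoid_iff]
    rw [isUnit_iff_ne_zero]
    intro h0
    exact hx (hf ▸ (RingHom.mem_ker.2 h0)))

theorem liftField_algebraMap {R : Type u} [CommRing R] (I : Ideal R) [I.IsPrime] {K : Type u}
    [Field K] (f : R →+* K) (hf : RingHom.ker f = I) (r : R) :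
    liftField I f hf (algebraMap R I.ResidueField r) = f r :=
  Ideal.ResidueField.lift_algebraMap _ _ _ _ _

theorem exists_frac {R : Type u} [CommRing R] (I : Ideal R) [I.IsPrime] (y : I.ResidueField) :
    ∃ (b s : R), s ∉ I ∧ y * algebraMap R I.ResidueField s = algebraMap R I.ResidueField b := by
  obtain ⟨⟨n, d⟩, h⟩ := IsLocalization.surj (nonZeroDivisors (R ⧸ I)) y
  obtain ⟨b, rfl⟩ := Ideal.Quotient.mk_surjective n
  obtain ⟨s, hs⟩ := Ideal.Quotient.mk_surjective d.1
  refine ⟨b, s, ?_, ?_⟩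
  · intro hsI
    have h0 : (d : R ⧸ I) = 0 := by rw [← hs]; exact Ideal.Quotient.eq_zero_iff_mem.2 hsI
    exact nonZeroDivisors.coe_ne_zero d h0
  · have h' : y * algebraMap (R ⧸ I) I.ResidueField (d : R ⧸ I) =
        algebraMap (R ⧸ I) I.ResidueField (Ideal.Quotient.mk I b) := h
    rw [← hs] at h'
    exact h'

end aux

theorem exists_radicial_prime {A B R₁ : Type u} [CommRing A] [CommRing B] [CommRing R₁]
    [Algebra A B] [Algebra A R₁]
    (p : Ideal A) [p.IsPrime] (q : Ideal B) [q.IsPrime] (hpq : p = q.comap (algebraMap A B))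
    (p₁ : Ideal R₁) [p₁.IsPrime] (hp₁ : p = p₁.comap (algebraMap A R₁))
    (k' : Type u) [Field k'] [Algebra p.ResidueField k'] [Algebra k' q.ResidueField]
    [IsPurelyInseparable k' q.ResidueField]
    (htower : (algebraMap k' q.ResidueField).comp (algebraMap p.ResidueField k') =
      Ideal.ResidueField.map p q (algebraMap A B) hpq)
    (ι : k' →+* p₁.ResidueField)
    (hι : ι.comp (algebraMap p.ResidueField k') =
      Ideal.ResidueField.map p p₁ (algebraMap A R₁) hp₁) :
    ∃ (Q : Ideal (R₁ ⊗[A] B)) (_ : Q.IsPrime),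
      Q.comap (Algebra.TensorProduct.includeRight : B →ₐ[A] R₁ ⊗[A] B).toRingHom = q ∧
      Q.comap (algebraMap R₁ (R₁ ⊗[A] B)) = p₁ ∧
      ∀ (K : Type u) [Field K] (φ ψ : R₁ ⊗[A] B →+* K), RingHom.ker φ = Q → RingHom.ker ψ = Q →
        φ.comp (algebraMap R₁ (R₁ ⊗[A] B)) = ψ.comp (algebraMap R₁ (R₁ ⊗[A] B)) → φ = ψ := by
  classical
  -- the algebraically closed field
  let Ω := AlgebraicClosure p₁.ResidueField
  let j₁ : p₁.ResidueField →+* Ω := algebraMap _ _
  letI algk : Algebra k' Ω := (j₁.comp ι).toAlgebra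
  haveI : Algebra.IsAlgebraic k' q.ResidueField :=
    Algebra.IsIntegral.isAlgebraic
  let ε : q.ResidueField →ₐ[k'] Ω := IsAlgClosed.lift
  have hε : ∀ x : k', ε (algebraMap k' q.ResidueField x) = j₁ (ι x) := fun x => ε.commutes x
  -- the two maps to Ω
  let fR : R₁ →+* Ω := j₁.comp (algebraMap R₁ p₁.ResidueField)
  let gB : B →+* Ω := ε.toRingHom.comp (algebraMap B q.ResidueField)
  have hcomm : ∀ a : A, gB (algebraMap A B a) = fR (algebraMap A R₁ a) := by
    intro a
    have e1 : algebraMap B q.ResidueField (algebraMap A B a) =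
        algebraMap k' q.ResidueField (algebraMap p.ResidueField k'
          (algebraMap A p.ResidueField a)) := by
      rw [← Ideal.ResidueField.map_algebraMap p q (algebraMap A B) hpq a, ← htower]
      rfl
    have e2 : ι (algebraMap p.ResidueField k' (algebraMap A p.ResidueField a)) =
        algebraMap R₁ p₁.ResidueField (algebraMap A R₁ a) := by
      rw [← Ideal.ResidueField.map_algebraMap p p₁ (algebraMap A R₁) hp₁ a, ← hι]
      rfl
    change ε (algebraMap B q.ResidueField (algebraMap A B a)) = _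
    rw [e1, hε, e2]
    rfl
  letI algA : Algebra A Ω := (fR.comp (algebraMap A R₁)).toAlgebra
  let fR' : R₁ →ₐ[A] Ω := { fR with commutes' := fun _ => rfl }
  let gB' : B →ₐ[A] Ω := { gB with commutes' := fun a => hcomm a }
  let μ' : R₁ ⊗[A] B →ₐ[A] Ω := Algebra.TensorProduct.lift fR' gB' (fun _ _ => Commute.all _ _)
  let μ : R₁ ⊗[A] B →+* Ω := μ'.toRingHom
  have hμ : ∀ (r : R₁) (b : B), μ (r ⊗ₜ[A] b) = fR r * gB b := fun r b =>
    Algebra.TensorProduct.lift_tmul _ _ _ r b
  have hμR : ∀ r : R₁, μ (algebraMap R₁ (R₁ ⊗[A] B) r) = fR r := by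
    intro r
    rw [Algebra.TensorProduct.algebraMap_apply, hμ]
    simp
  have hμB : ∀ b : B, μ ((Algebra.TensorProduct.includeRight : B →ₐ[A] R₁ ⊗[A] B).toRingHom b) =
      gB b := by
    intro b
    change μ ((Algebra.TensorProduct.includeRight : B →ₐ[A] R₁ ⊗[A] B) b) = gB b
    rw [Algebra.TensorProduct.includeRight_apply, hμ]
    simp
  have hfR0 : ∀ r : R₁, fR r = 0 ↔ r ∈ p₁ := by
    intro r
    change j₁ (algebraMap R₁ p₁.ResidueField r) = 0 ↔ _
    rw [map_eq_zero_iff _ j₁.injective, Ideal.algebraMap_residueField_eq_zero]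
  have hgB0 : ∀ b : B, gB b = 0 ↔ b ∈ q := by
    intro b
    change ε (algebraMap B q.ResidueField b) = 0 ↔ _
    rw [map_eq_zero_iff ε ε.toRingHom.injective, Ideal.algebraMap_residueField_eq_zero]
  refine ⟨RingHom.ker μ, RingHom.ker_isPrime μ, ?_, ?_, ?_⟩
  · ext b
    rw [Ideal.mem_comap, RingHom.mem_ker, hμB, hgB0]
  · ext r
    rw [Ideal.mem_comap, RingHom.mem_ker, hμR, hfR0]
  · intro K _ φ ψ hφ hψ hR
    -- restrictions
    have kerR : ∀ χ : R₁ ⊗[A] B →+* K, RingHom.ker χ = RingHom.ker μ →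
        RingHom.ker (χ.comp (algebraMap R₁ (R₁ ⊗[A] B))) = p₁ := by
      intro χ hχ
      ext r
      rw [RingHom.mem_ker, RingHom.comp_apply, ← RingHom.mem_ker, hχ, RingHom.mem_ker, hμR, hfR0]
    have kerB : ∀ χ : R₁ ⊗[A] B →+* K, RingHom.ker χ = RingHom.ker μ →
        RingHom.ker (χ.comp
          (Algebra.TensorProduct.includeRight : B →ₐ[A] R₁ ⊗[A] B).toRingHom) = q := by
      intro χ hχ
      ext b
      rw [RingHom.mem_ker, RingHom.comp_apply, ← RingHom.mem_ker, hχ, RingHom.mem_ker, hμB, hgB0]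
    -- the key compatibility
    have key : ∀ (χ : R₁ ⊗[A] B →+* K) (hχ : RingHom.ker χ = RingHom.ker μ),
        (liftField q _ (kerB χ hχ)).comp (algebraMap k' q.ResidueField) =
          (liftField p₁ _ (kerR χ hχ)).comp ι := by
      intro χ hχ
      refine RingHom.ext fun x => ?_
      set χB := liftField q _ (kerB χ hχ) with hχB
      set χR := liftField p₁ _ (kerR χ hχ) with hχR
      obtain ⟨b, s, hs, hbs⟩ := exists_frac q (algebraMap k' q.ResidueField x)
      obtain ⟨r, s', hs', hrs⟩ := exists_frac p₁ (ι x)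
      -- the element of the kernel
      have hker : μ (s' ⊗ₜ[A] b - r ⊗ₜ[A] s) = 0 := by
        rw [map_sub, hμ, hμ]
        change j₁ (algebraMap R₁ p₁.ResidueField s') * ε (algebraMap B q.ResidueField b) -
          j₁ (algebraMap R₁ p₁.ResidueField r) * ε (algebraMap B q.ResidueField s) = 0
        rw [← hbs, ← hrs, map_mul, map_mul, hε]
        ring
      have hχ0 : χ (s' ⊗ₜ[A] b - r ⊗ₜ[A] s) = 0 := by
        rw [← RingHom.mem_ker, hχ, RingHom.mem_ker]
        exact hker
      rw [map_sub, sub_eq_zero, tmul_eq, tmul_eq, map_mul, map_mul] at hχ0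
      have a1 : ∀ t : R₁, χ (algebraMap R₁ (R₁ ⊗[A] B) t) =
          χR (algebraMap R₁ p₁.ResidueField t) := fun t =>
        (liftField_algebraMap p₁ _ (kerR χ hχ) t).symm
      have a2 : ∀ t : B, χ ((Algebra.TensorProduct.includeRight : B →ₐ[A] R₁ ⊗[A] B).toRingHom t) =
          χB (algebraMap B q.ResidueField t) := fun t =>
        (liftField_algebraMap q _ (kerB χ hχ) t).symm
      rw [a1, a1, a2, a2, ← hbs, ← hrs, map_mul, map_mul] at hχ0
      have n1 : χR (algebraMap R₁ p₁.ResidueField s') ≠ 0 := by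
        rw [Ne, map_eq_zero_iff _ χR.injective, Ideal.algebraMap_residueField_eq_zero]
        exact hs'
      have n2 : χB (algebraMap B q.ResidueField s) ≠ 0 := by
        rw [Ne, map_eq_zero_iff _ χB.injective, Ideal.algebraMap_residueField_eq_zero]
        exact hs
      have : χR (algebraMap R₁ p₁.ResidueField s') * χB (algebraMap B q.ResidueField s) *
          (χB (algebraMap k' q.ResidueField x) - χR (ι x)) = 0 := by
        linear_combination hχ0
      rcases mul_eq_zero.1 this with h | h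
      · exact absurd h (mul_ne_zero n1 n2)
      · exact sub_eq_zero.1 h
    have hRlift : liftField p₁ _ (kerR φ hφ) = liftField p₁ _ (kerR ψ hψ) := by
      refine Ideal.ResidueField.ringHom_ext (RingHom.ext fun r => ?_)
      rw [RingHom.comp_apply, RingHom.comp_apply, liftField_algebraMap, liftField_algebraMap]
      exact RingHom.congr_fun hR r
    have hBlift : liftField q _ (kerB φ hφ) = liftField q _ (kerB ψ hψ) := by
      apply IsPurelyInseparable.injective_comp_algebraMap k' q.ResidueField K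
      change (liftField q _ (kerB φ hφ)).comp (algebraMap k' q.ResidueField) =
        (liftField q _ (kerB ψ hψ)).comp (algebraMap k' q.ResidueField)
      rw [key φ hφ, key ψ hψ, hRlift]
    refine ringHom_ext' φ ψ hR (RingHom.ext fun b => ?_)
    rw [← liftField_algebraMap q _ (kerB φ hφ) b, ← liftField_algebraMap q _ (kerB ψ hψ) b, hBlift]

end Groth.Agent.H31.SL_P4_RL
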