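import Mathlib.Algebra.Homology.HomologicalComplexLimits
import Mathlib.Algebra.Homology.HomologicalComplexAbelian
import Mathlib.Algebra.Homology.ShortComplex.HomologicalComplex
import Mathlib.Algebra.Homology.ShortComplex.ExactFunctor
import Mathlib.CategoryTheory.Limits.FunctorCategory.Basic
import Mathlib.CategoryTheory.Abelian.GrothendieckAxioms.Basic
import Mathlib.CategoryTheory.Functor.OfSequence

/-!
# Homology of sequential colimits whose transition maps eventually kill homology
(helper31 library)

In an abelian category with exact sequential colimits, if `Φ : ℕ ⥤ HomologicalComplex D c` is a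
sequence such that cofinally many transition maps induce zero on the homology in degree `i`, then
the homology in degree `i` of a colimit of `Φ` vanishes.
-/

set_option autoImplicit false

namespace Groth.Agent.H31.SeqColim

open CategoryTheory Limits HomologicalComplex

variable {D : Type*} [Category D]

/-- A sequential colimit with cofinally many zero transition maps is zero. -/
theorem isZero_of_isColimit_of_eventually_zero [HasZeroMorphisms D] (G : ℕ ⥤ D) (c : Cocone G)
    (hc : IsColimit c) (h : ∀ n, ∃ m, n ≤ m ∧ G.map (homOfLE (Nat.le_succ m)) = 0) :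
    IsZero c.pt := by
  rw [IsZero.iff_id_eq_zero]
  apply hc.hom_ext
  intro n
  obtain ⟨m, hnm, hm⟩ := h n
  have e1 : G.map (homOfLE hnm) ≫ G.map (homOfLE (Nat.le_succ m)) ≫ c.ι.app (m + 1) =
      c.ι.app n := by
    rw [c.w, c.w]
  rw [Category.comp_id, comp_zero, ← e1, hm, zero_comp, comp_zero]

variable [Abelian D] {ι : Type*} {c : ComplexShape ι}
  [HasColimitsOfShape ℕ D] [HasExactColimitsOfShape ℕ D]

theorem isZero_homology_of_isColimit (Φ : ℕ ⥤ HomologicalComplex D c) (s : Cocone Φ)
    (hs : IsColimit s) (i : ι)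
    (h : ∀ n, ∃ m, n ≤ m ∧ homologyMap (Φ.map (homOfLE (Nat.le_succ m))) i = 0) :
    IsZero (s.pt.homology i) := by
  let α : Φ ⋙ eval D c (c.prev i) ⟶ Φ ⋙ eval D c i :=
    { app := fun j => (Φ.obj j).d (c.prev i) i
      naturality := fun _ _ f => (Φ.map f).comm (c.prev i) i }
  let β : Φ ⋙ eval D c i ⟶ Φ ⋙ eval D c (c.next i) :=
    { app := fun j => (Φ.obj j).d i (c.next i)
      naturality := fun _ _ f => (Φ.map f).comm i (c.next i) }
  let SJ : ShortComplex (ℕ ⥤ D) := ShortComplex.mk α β (by
    ext j
    exact (Φ.obj j).d_comp_d _ _ _)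
  -- the homology of `SJ` has eventually zero transition maps
  have hG : ∀ n, ∃ m, n ≤ m ∧ SJ.homology.map (homOfLE (Nat.le_succ m)) = 0 := by
    intro n
    obtain ⟨m, hnm, hm⟩ := h n
    refine ⟨m, hnm, ?_⟩
    have e := NatTrans.app_homology ((evaluation ℕ D).map (homOfLE (Nat.le_succ m))) SJ
    have e' : ShortComplex.homologyMap
        (SJ.mapNatTrans ((evaluation ℕ D).map (homOfLE (Nat.le_succ m)))) = 0 := hm
    rw [e', zero_comp, comp_zero] at e
    exact e
  have hz : IsZero (colimit SJ.homology) :=
    isZero_of_isColimit_of_eventually_zero SJ.homology _ (colimit.isColimit _) hG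
  have hz' : IsZero (SJ.map colim).homology :=
    IsZero.of_iso hz (SJ.mapHomologyIso colim)
  -- identify `SJ.map colim` with the short complex of `s.pt`
  have h1 := isColimitOfPreserves (eval D c (c.prev i)) hs
  have h2 := isColimitOfPreserves (eval D c i) hs
  have h3 := isColimitOfPreserves (eval D c (c.next i)) hs
  let e1 := IsColimit.coconePointUniqueUpToIso (colimit.isColimit _) h1
  let e2 := IsColimit.coconePointUniqueUpToIso (colimit.isColimit _) h2
  let e3 := IsColimit.coconePointUniqueUpToIso (colimit.isColimit _) h3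
  have eS : SJ.map colim ≅ s.pt.sc i := by
    refine ShortComplex.isoMk e1 e2 e3 ?_ ?_
    · apply colimit.hom_ext
      intro j
      refine Eq.symm ?_
      have a1 : colimit.ι _ j ≫ colimMap α = α.app j ≫ colimit.ι _ j := ι_colimMap α j
      have a2 : colimit.ι _ j ≫ e2.hom = (s.ι.app j).f i :=
        IsColimit.comp_coconePointUniqueUpToIso_hom (colimit.isColimit _) h2 j
      have a3 : colimit.ι _ j ≫ e1.hom = (s.ι.app j).f (c.prev i) :=
        IsColimit.comp_coconePointUniqueUpToIso_hom (colimit.isColimit _) h1 j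
      show colimit.ι _ j ≫ colimMap α ≫ e2.hom = colimit.ι _ j ≫ e1.hom ≫ s.pt.d (c.prev i) i
      rw [reassoc_of% a1, a2]
      exact ((s.ι.app j).comm (c.prev i) i).symm.trans
        ((congrArg (fun x => x ≫ s.pt.d (c.prev i) i) a3.symm).trans (Category.assoc _ _ _))
    · apply colimit.hom_ext
      intro j
      refine Eq.symm ?_
      have a1 : colimit.ι _ j ≫ colimMap β = β.app j ≫ colimit.ι _ j := ι_colimMap β j
      have a2 : colimit.ι _ j ≫ e3.hom = (s.ι.app j).f (c.next i) :=
        IsColimit.comp_coconePointUniqueUpToIso_hom (colimit.isColimit _) h3 j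
      have a3 : colimit.ι _ j ≫ e2.hom = (s.ι.app j).f i :=
        IsColimit.comp_coconePointUniqueUpToIso_hom (colimit.isColimit _) h2 j
      show colimit.ι _ j ≫ colimMap β ≫ e3.hom = colimit.ι _ j ≫ e2.hom ≫ s.pt.d i (c.next i)
      rw [reassoc_of% a1, a2]
      exact ((s.ι.app j).comm i (c.next i)).symm.trans
        ((congrArg (fun x => x ≫ s.pt.d i (c.next i)) a3.symm).trans (Category.assoc _ _ _))
  exact IsZero.of_iso hz' (ShortComplex.homologyMapIso eS).symm

end Groth.Agent.H31.SeqColim
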