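import Groth.Agent.H40.FlatBridge2

/-!
# The stalk functor on modules over a ringed space and its right adjoint (helper31 library)

On top of helper40's `StalkTensor` / `FlatBridge2`: the stalk at `x` as a functor
`stk O x : Mod(O) ⥤ Mod(O_x)`, the skyscraper functor `skyF O x : Mod(O_x) ⥤ Mod(O)`, and the
adjunction `stk O x ⊣ skyF O x`, whose counit is an isomorphism.
-/

set_option autoImplicit false
set_option backward.isDefEq.respectTransparency false
universe u
open CategoryTheory CategoryTheory.Limits Opposite TopologicalSpace

namespace Groth.Agent.H31.Stalk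

open Groth.Agent.H31 Groth.Agent.H40.StalkTensor Groth.Agent.H40.FlatBridge2

section Presheaf

variable {X : TopCat.{u}} {R : X.Presheaf CommRingCat.{u}} (x : X)

/-- The stalk at `x`, as a functor on presheaves of modules. -/
noncomputable def stkP :
    PresheafOfModules.{u} (R ⋙ forget₂ CommRingCat RingCat) ⥤ ModuleCat.{u} (Rx R x) where
  obj N := ModuleCat.of (Rx R x) (St N x)
  map φ := ModuleCat.ofHom (stalkLin φ x)
  map_id N := by
    ext a
    obtain ⟨U, hU, n, rfl⟩ := exists_gm_eq N x a
    show stalkLin (𝟙 N) x (gm N x U hU n) = gm N x U hU n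
    rw [stalkLin_apply, stalkAdd_gm]
    rfl
  map_comp {N₁ N₂ N₃} φ ψ := by
    ext a
    obtain ⟨U, hU, n, rfl⟩ := exists_gm_eq N₁ x a
    show stalkLin (φ ≫ ψ) x (gm N₁ x U hU n) = stalkLin ψ x (stalkLin φ x (gm N₁ x U hU n))
    simp only [stalkLin_apply, stalkAdd_gm]
    rfl

theorem stkP_map_gm {N N' : PresheafOfModules.{u} (R ⋙ forget₂ CommRingCat RingCat)}
    (φ : N ⟶ N') (U : Opens X) (hU : x ∈ U) (n : N.obj (op U)) :
    ((stkP x).map φ).hom (gm N x U hU n) = gm N' x U hU (φ.app (op U) n) := by
  show stalkLin φ x (gm N x U hU n) = _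
  rw [stalkLin_apply, stalkAdd_gm]

end Presheaf

section Sheaf

variable {X : TopCat.{u}} (O : Sheaf (Opens.grothendieckTopology X) CommRingCat.{u}) (x : X)

/-- The stalk at `x`, as a functor on sheaves of modules. -/
noncomputable def stk : ModSite.Mod O ⥤ ModuleCat.{u} (Rx O.obj x) := toPM O ⋙ stkP x

/-- The skyscraper functor. -/
noncomputable def skyF : ModuleCat.{u} (Rx O.obj x) ⥤ ModSite.Mod O where
  obj P := sky O x P
  map f := skyMap O x f.hom
  map_id P := rfl
  map_comp f g := rfl

/-- The unit of the adjunction: a section goes to its germ. -/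
noncomputable def unitApp (M : ModSite.Mod O) : M ⟶ (skyF O x).obj ((stk O x).obj M) :=
  ⟨PresheafOfModules.homMk (M₁ := (toPM O).obj M)
    (M₂ := skPM O.obj x (St ((toPM O).obj M) x))
    { app := fun V => AddCommGrpCat.ofHom
        { toFun := fun s h => gm ((toPM O).obj M) x V.unop h.down s
          map_zero' := funext fun _ => map_zero _
          map_add' := fun _ _ => funext fun _ => map_add _ _ _ }
      naturality := fun V W f => by
        ext s
        refine funext (fun h => ?_)
        exact gm_res ((toPM O).obj M) x f.unop h.down s }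
    (by
      intro V r s
      refine funext (fun h => ?_)
      exact gm_smul ((toPM O).obj M) x V.unop h.down r s)⟩

theorem unitApp_apply (M : ModSite.Mod O) (U : Opens X) (hU : x ∈ U)
    (s : ((toPM O).obj M).obj (op U)) :
    (((unitApp O x M).val.app (op U)).hom s : SkSec x (St ((toPM O).obj M) x) U) ⟨hU⟩ =
      gm ((toPM O).obj M) x U hU s := rfl

/-- The adjunction between the stalk functor and the skyscraper functor. -/
noncomputable def adj : stk O x ⊣ skyF O x where
  unit :=
    { app := unitApp O x
      naturality := fun M N φ => by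
        apply SheafOfModules.hom_ext
        apply PresheafOfModules.hom_ext
        intro V
        ext s
        refine funext (fun h => ?_)
        exact (stkP_map_gm x ((toPM O).map φ) V.unop h.down s).symm }
  counit :=
    { app := fun P => ModuleCat.ofHom (skEquiv O.obj x P).toLinearMap
      naturality := fun P Q f => by
        ext a
        exact skEquiv_nat O.obj x f.hom a }
  left_triangle_components M := by
    ext a
    obtain ⟨U, hU, s, rfl⟩ := exists_gm_eq ((toPM O).obj M) x a
    show skEquiv O.obj x _ (((stkP x).map ((toPM O).map (unitApp O x M))).hom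
      (gm ((toPM O).obj M) x U hU s)) = gm ((toPM O).obj M) x U hU s
    rw [stkP_map_gm]
    exact skEvAdd_gm O.obj x _ U hU _
  right_triangle_components P := by
    apply SheafOfModules.hom_ext
    apply PresheafOfModules.hom_ext
    intro V
    ext s
    refine funext (fun h => ?_)
    exact skEvAdd_gm O.obj x P V.unop h.down s

instance : (stk O x).IsLeftAdjoint := (adj O x).isLeftAdjoint

instance : (skyF O x).IsRightAdjoint := (adj O x).isRightAdjoint

instance (P : ModuleCat.{u} (Rx O.obj x)) : IsIso ((adj O x).counit.app P) :=
  (skEquiv O.obj x P).toModuleIso.isIso_hom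

end Sheaf

end Groth.Agent.H31.Stalk
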