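import Groth.Agent.H31.StalkKFlat

/-!
# Flat modules on a ringed space have flat stalks; the equational criterion (helper31)
-/

set_option autoImplicit false
set_option backward.isDefEq.respectTransparency false
universe u
open CategoryTheory CategoryTheory.Limits Opposite TopologicalSpace MonoidalCategory

namespace Groth.Agent.H31.Stalk

open Groth.Agent.H31 Groth.Agent.H40.StalkTensor Groth.Agent.H40.FlatBridge2

section Ring

theorem flat_of_preservesMono' {R : Type u} [CommRing R] (N : ModuleCat.{u} R)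
    (h : ∀ {P P' : ModuleCat.{u} R} (f : P ⟶ P'), Mono f → Mono (f ▷ N)) :
    Module.Flat R N := by
  rw [Module.Flat.iff_rTensor_preserves_injective_linearMap'.{u}]
  intro M M' _ _ _ _ f hf
  have hm : Mono (ModuleCat.ofHom f) := (ModuleCat.mono_iff_injective _).2 hf
  have h1 := h (ModuleCat.ofHom f) hm
  exact (ModuleCat.mono_iff_injective _).1 h1

end Ring

section Flat

variable {X : TopCat.{u}} (O : Sheaf (Opens.grothendieckTopology X) CommRingCat.{u}) (x : X)

/-- The stalks of a flat module are flat. -/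
theorem flat_stk (F : ModSite.Mod O) (hF : ModSite.IsFlat F) :
    Module.Flat (Rx O.obj x) ((stk O x).obj F) := by
  refine flat_of_preservesMono' _ (fun {P P'} f hf => ?_)
  haveI := hF.1
  haveI : Mono ((skyF O x).map f) := inferInstance
  haveI : Mono (((ModSite.tensorBi O).flip.obj F).map ((skyF O x).map f)) := inferInstance
  haveI : Mono (((ModSite.tensorBi O).map ((skyF O x).map f)).app F) :=
    inferInstanceAs (Mono (((ModSite.tensorBi O).flip.obj F).map ((skyF O x).map f)))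
  haveI := stk_map_mono O x (((ModSite.tensorBi O).map ((skyF O x).map f)).app F)
  have h := τsky_natural_left O x f F
  have h2 : f ▷ (stk O x).obj F = (τsky O x P F).inv ≫
      (stk O x).map (((ModSite.tensorBi O).map ((skyF O x).map f)).app F) ≫
        (τsky O x P' F).hom := by
    rw [h, Iso.inv_hom_id_assoc]
  show Mono (f ▷ (stk O x).obj F)
  rw [h2]
  infer_instance

end Flat

section Nhds

/-- Finitely many monotone properties each holding on a neighbourhood hold on a common one. -/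
theorem exists_common_nhds {X : Type*} [TopologicalSpace X] (x : X) {ι : Type*} [Finite ι]
    (P : ι → Opens X → Prop) (hmono : ∀ i (V W : Opens X), W ≤ V → P i V → P i W)
    (hex : ∀ i, ∃ V : Opens X, x ∈ V ∧ P i V) : ∃ V : Opens X, x ∈ V ∧ ∀ i, P i V := by
  cases nonempty_fintype ι
  choose V hxV hP using hex
  refine ⟨Finset.univ.inf V, ?_,
    fun i => hmono i _ _ (Finset.inf_le (Finset.mem_univ i)) (hP i)⟩
  exact Finset.inf_induction (p := fun W : Opens X => x ∈ W) trivial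
    (fun a ha b hb => ⟨ha, hb⟩) (fun i _ => hxV i)

end Nhds

section Criterion

variable {X : TopCat.{u}} (O : Sheaf (Opens.grothendieckTopology X) CommRingCat.{u})

/-- Restriction of sections of the structure sheaf. -/
noncomputable abbrev resO {U V : Opens X} (h : V ≤ U) : O.obj.obj (op U) →+* O.obj.obj (op V) :=
  (O.obj.map (homOfLE h).op).hom

theorem resO_resO {U V W : Opens X} (h : V ≤ U) (h' : W ≤ V) (r : O.obj.obj (op U)) :
    resO O h' (resO O h r) = resO O (h'.trans h) r := by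
  have : O.obj.map (homOfLE h).op ≫ O.obj.map (homOfLE h').op =
      O.obj.map (homOfLE (h'.trans h)).op := by
    rw [← O.obj.map_comp]; rfl
  exact congrArg (fun f => f.hom r) this

/-- The germ map of the structure sheaf. -/
noncomputable abbrev grO (x : X) (U : Opens X) (hx : x ∈ U) : O.obj.obj (op U) →+* Rx O.obj x :=
  (TopCat.Presheaf.germ (C := CommRingCat.{u}) O.obj U x hx).hom

theorem grO_resO {U V : Opens X} (h : V ≤ U) (x : X) (hx : x ∈ V) (r : O.obj.obj (op U)) :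
    grO O x V hx (resO O h r) = grO O x U (h hx) r :=
  TopCat.Presheaf.germ_res_apply (C := CommRingCat.{u}) O.obj (homOfLE h) x hx r

theorem exists_grO_eq (x : X) (a : Rx O.obj x) :
    ∃ (V : Opens X) (hV : x ∈ V) (r : O.obj.obj (op V)), grO O x V hV r = a :=
  TopCat.Presheaf.exists_germ_eq (C := CommRingCat.{u}) O.obj a

theorem grO_eq {V : Opens X} (x : X) (hx : x ∈ V) (r r' : O.obj.obj (op V))
    (h : grO O x V hx r = grO O x V hx r') :
    ∃ (W : Opens X) (_ : x ∈ W) (hW : W ≤ V), resO O hW r = resO O hW r' := by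
  obtain ⟨W, hxW, i₁, i₂, e⟩ := TopCat.Presheaf.germ_eq (C := CommRingCat.{u}) O.obj x hx hx r r' h
  refine ⟨W, hxW, i₁.le, ?_⟩
  have h2 : i₂ = i₁ := Subsingleton.elim _ _
  rw [h2] at e
  exact e

variable (N : PM O)

theorem gm_smul' (x : X) (U : Opens X) (hx : x ∈ U) (r : O.obj.obj (op U)) (n : N.obj (op U)) :
    gm N x U hx (r • n) = grO O x U hx r • gm N x U hx n :=
  gm_smul N x U hx r n

theorem gm_eq {V : Opens X} (x : X) (hx : x ∈ V) (n n' : N.obj (op V))
    (h : gm N x V hx n = gm N x V hx n') :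
    ∃ (W : Opens X) (_ : x ∈ W) (hW : W ≤ V), Groth.Agent.H40.StalkTensor.res N hW n = Groth.Agent.H40.StalkTensor.res N hW n' := by
  obtain ⟨W, hxW, i₁, i₂, e⟩ := TopCat.Presheaf.germ_eq N.presheaf x hx hx n n' h
  refine ⟨W, hxW, i₁.le, ?_⟩
  have h2 : i₂ = i₁ := Subsingleton.elim _ _
  rw [h2] at e
  exact e

theorem res_smul' {U V : Opens X} (h : V ≤ U) (r : O.obj.obj (op U)) (n : N.obj (op U)) :
    Groth.Agent.H40.StalkTensor.res N h (r • n) = resO O h r • Groth.Agent.H40.StalkTensor.res N h n :=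
  res_smul N h r n

local notation "rs" => Groth.Agent.H40.StalkTensor.res

theorem rs_sum {U V : Opens X} (h : V ≤ U) {ι : Type*} (t : Finset ι) (g : ι → N.obj (op U)) :
    rs N h (∑ i ∈ t, g i) = ∑ i ∈ t, rs N h (g i) :=
  map_sum (rs N h) g t

/-- The equational criterion of flatness for presheaves of modules with a flat stalk. -/
theorem equational_criterion_aux (x : X) (hflat : Module.Flat (Rx O.obj x) (St N x))
    (U : Opens X) {n : ℕ} (f : Fin n → O.obj.obj (op U)) (s : Fin n → N.obj (op U))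
    (hrel : ∑ i, f i • s i = 0) (hx : x ∈ U) :
    ∃ (V : Opens X) (hV : V ≤ U) (m : ℕ) (a : Fin n → Fin m → O.obj.obj (op V))
      (t : Fin m → N.obj (op V)), x ∈ V ∧
      (∀ i, rs N hV (s i) = ∑ j, a i j • t j) ∧
        ∀ j, ∑ i, resO O hV (f i) * a i j = 0 := by
  classical
  have hrel' : ∑ i, grO O x U hx (f i) • gm N x U hx (s i) = 0 := by
    have h1 := congrArg (gm N x U hx) hrel
    rw [map_sum, map_zero] at h1
    rw [← h1]
    exact Finset.sum_congr rfl (fun i _ => (gm_smul' O N x U hx (f i) (s i)).symm)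
  obtain ⟨k, a', y, hy1, hy2⟩ := Module.Flat.iff_forall_isTrivialRelation.1 hflat hrel'
  have hy1' : ∀ i, gm N x U hx (s i) = ∑ j, a' i j • y j := hy1
  have hy2' : ∀ j, ∑ i, grO O x U hx (f i) * a' i j = 0 := hy2
  -- representatives of the `y j`
  obtain ⟨V₁, hxV₁, hV₁⟩ := exists_common_nhds x (ι := Fin k)
    (fun j V => ∀ hxV : x ∈ V, ∃ t : N.obj (op V), gm N x V hxV t = y j)
    (fun j V W hWV h hxW => by
      obtain ⟨t, ht⟩ := h (hWV hxW)
      exact ⟨rs N hWV t, by rw [gm_res', ht]⟩)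
    (fun j => by
      obtain ⟨V, hxV, t, ht⟩ := exists_gm_eq N x (y j)
      exact ⟨V, hxV, fun _ => ⟨t, ht⟩⟩)
  -- representatives of the `a' i j`
  obtain ⟨V₂, hxV₂, hV₂⟩ := exists_common_nhds x (ι := Fin n × Fin k)
    (fun p V => ∀ hxV : x ∈ V, ∃ a : O.obj.obj (op V), grO O x V hxV a = a' p.1 p.2)
    (fun p V W hWV h hxW => by
      obtain ⟨a, ha⟩ := h (hWV hxW)
      exact ⟨resO O hWV a, by rw [grO_resO, ha]⟩)
    (fun p => by
      obtain ⟨V, hxV, a, ha⟩ := exists_grO_eq O x (a' p.1 p.2)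
      exact ⟨V, hxV, fun _ => ⟨a, ha⟩⟩)
  -- a common neighbourhood
  obtain ⟨V₃, hxV₃, h31, h32, h3U⟩ : ∃ V₃ : Opens X, x ∈ V₃ ∧ V₃ ≤ V₁ ∧ V₃ ≤ V₂ ∧ V₃ ≤ U :=
    ⟨V₁ ⊓ V₂ ⊓ U, ⟨⟨hxV₁, hxV₂⟩, hx⟩, inf_le_left.trans inf_le_left,
      inf_le_left.trans inf_le_right, inf_le_right⟩
  choose t₁ ht₁ using fun j => hV₁ j hxV₁
  choose a₂ ha₂ using fun p => hV₂ p hxV₂
  let t₃ : Fin k → N.obj (op V₃) := fun j => rs N h31 (t₁ j)
  let a₃ : Fin n → Fin k → O.obj.obj (op V₃) := fun i j => resO O h32 (a₂ (i, j))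
  have ht₃ : ∀ j, gm N x V₃ hxV₃ (t₃ j) = y j := fun j => by
    show gm N x V₃ hxV₃ (rs N h31 (t₁ j)) = y j
    rw [gm_res', ht₁]
  have ha₃ : ∀ i j, grO O x V₃ hxV₃ (a₃ i j) = a' i j := fun i j => by
    show grO O x V₃ hxV₃ (resO O h32 (a₂ (i, j))) = a' i j
    rw [grO_resO, ha₂]
  -- the germ equations
  have E1 : ∀ i, gm N x V₃ hxV₃ (rs N h3U (s i)) = gm N x V₃ hxV₃ (∑ j, a₃ i j • t₃ j) := by
    intro i
    rw [gm_res']
    refine (hy1' i).trans ?_
    rw [map_sum]
    refine Finset.sum_congr rfl (fun j _ => ?_)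
    rw [gm_smul', ha₃, ht₃]
  have E2 : ∀ j, grO O x V₃ hxV₃ (∑ i, resO O h3U (f i) * a₃ i j) = grO O x V₃ hxV₃ 0 := by
    intro j
    rw [map_sum, map_zero, ← hy2' j]
    refine Finset.sum_congr rfl (fun i _ => ?_)
    rw [map_mul, grO_resO, ha₃]
  -- spread out
  obtain ⟨V₄, hxV₄, hV₄⟩ := exists_common_nhds x (ι := Fin n)
    (fun i V => ∃ h : V ≤ V₃, rs N h (rs N h3U (s i)) = rs N h (∑ j, a₃ i j • t₃ j))
    (fun i V W hWV ⟨h, e⟩ => ⟨hWV.trans h, by
      rw [← res_res N h hWV, ← res_res N h hWV, e]⟩)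
    (fun i => by
      obtain ⟨W, hxW, hW, e⟩ := gm_eq O N x hxV₃ _ _ (E1 i)
      exact ⟨W, hxW, hW, e⟩)
  obtain ⟨V₅, hxV₅, hV₅⟩ := exists_common_nhds x (ι := Fin k)
    (fun j V => ∃ h : V ≤ V₃, resO O h (∑ i, resO O h3U (f i) * a₃ i j) = resO O h 0)
    (fun j V W hWV ⟨h, e⟩ => ⟨hWV.trans h, by
      rw [← resO_resO O h hWV, ← resO_resO O h hWV, e]⟩)
    (fun j => by
      obtain ⟨W, hxW, hW, e⟩ := grO_eq O x hxV₃ _ _ (E2 j)
      exact ⟨W, hxW, hW, e⟩)
  obtain ⟨V, hxV, h4, h5, hVV₃⟩ : ∃ V : Opens X, x ∈ V ∧ V ≤ V₄ ∧ V ≤ V₅ ∧ V ≤ V₃ :=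
    ⟨V₄ ⊓ V₅ ⊓ V₃, ⟨⟨hxV₄, hxV₅⟩, hxV₃⟩, inf_le_left.trans inf_le_left,
      inf_le_left.trans inf_le_right, inf_le_right⟩
  have hV : V ≤ U := hVV₃.trans h3U
  refine ⟨V, hV, k, fun i j => resO O hVV₃ (a₃ i j), fun j => rs N hVV₃ (t₃ j), hxV, ?_, ?_⟩
  · intro i
    obtain ⟨h, e⟩ := hV₄ i
    have h1 : rs N hV (s i) = rs N h4 (rs N h (rs N h3U (s i))) := by
      rw [res_res, res_res]
    rw [h1, e, res_res, rs_sum]
    refine Finset.sum_congr rfl (fun j _ => ?_)
    rw [res_smul']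
  · intro j
    obtain ⟨h, e⟩ := hV₅ j
    have h1 : ∑ i, resO O hV (f i) * resO O hVV₃ (a₃ i j) =
        resO O h5 (resO O h (∑ i, resO O h3U (f i) * a₃ i j)) := by
      rw [resO_resO, map_sum]
      refine Finset.sum_congr rfl (fun i _ => ?_)
      rw [map_mul, resO_resO O h3U]
    rw [h1, e, map_zero, map_zero]

/-- The equational criterion of flatness for sheaves of modules on a ringed space. -/
theorem equational_criterion (F : ModSite.Mod O) (hF : ModSite.IsFlat F) (U : Opens X) {n : ℕ}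
    (f : Fin n → O.obj.obj (op U)) (s : Fin n → ((toPM O).obj F).obj (op U))
    (hrel : ∑ i, f i • s i = 0) (x : X) (hx : x ∈ U) :
    ∃ (V : Opens X) (hV : V ≤ U) (m : ℕ) (a : Fin n → Fin m → O.obj.obj (op V))
      (t : Fin m → ((toPM O).obj F).obj (op V)), x ∈ V ∧
      (∀ i, rs ((toPM O).obj F) hV (s i) = ∑ j, a i j • t j) ∧
        ∀ j, ∑ i, resO O hV (f i) * a i j = 0 :=
  equational_criterion_aux O ((toPM O).obj F) x (flat_stk O x F hF) U f s hrel hx

end Criterion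

end Groth.Agent.H31.Stalk
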