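import Groth.Agent.H31.TensorSite2

/-!
# Tensor products of sheaves of modules on a ringed site, part 3 (helper31 library)

* `isIso_shf_map_unit`, `isIso_shf_map_whiskerLeft`;
* `tensorRightShfIso B : T_{a B} ≅ toPM ⋙ tensorRight B ⋙ shf`;
* `tensorAssocIso G F : T_{G ⊗ F} ≅ T_G ⋙ T_F`;
* `isFlat_tensor`.
-/

set_option autoImplicit false
universe u
open CategoryTheory CategoryTheory.Limits MonoidalCategory Opposite

namespace Groth.Agent.H31

variable {C : Type u} [SmallCategory C] {J : GrothendieckTopology C} {O : Sheaf J CommRingCat.{u}}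

/-- The functor `- ⊗_O N` on sheaves of modules, for `N₀` a presheaf of modules. -/
noncomputable abbrev T (N₀ : PM O) : ModSite.Mod O ⥤ ModSite.Mod O :=
  toPM O ⋙ tensorRight N₀ ⋙ shf O

/-- The unit of the sheafification adjunction. -/
noncomputable def η (B : PM O) : B ⟶ (toPM O).obj ((shf O).obj B) := (shfAdj O).unit.app B

instance isIso_counit (P : ModSite.Mod O) : IsIso ((shfAdj O).counit.app P) := by
  have : IsIso (shfAdj O).counit :=
    inferInstanceAs (IsIso (PresheafOfModules.sheafificationAdjunction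
      (𝟙 (ModSite.ringSh O).obj)).counit)
  infer_instance

instance isIso_shf_map_unit (B : PM O) : IsIso ((shf O).map (η B)) := by
  have h : (shf O).map (η B) ≫ (shfAdj O).counit.app ((shf O).obj B) = 𝟙 _ :=
    (shfAdj O).left_triangle_components B
  have h2 : IsIso ((shf O).map (η B) ≫ (shfAdj O).counit.app ((shf O).obj B)) := by
    rw [h]; infer_instance
  have h3 : IsIso ((shfAdj O).counit.app ((shf O).obj B)) := isIso_counit _
  exact @IsIso.of_isIso_comp_right _ _ _ _ _ ((shf O).map (η B))
    ((shfAdj O).counit.app ((shf O).obj B)) h3 h2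

/-- Tensoring on the left with a presheaf of modules preserves local isomorphisms. -/
theorem isIso_shf_map_whiskerLeft {A B : PM O} (φ : A ⟶ B) [IsIso ((shf O).map φ)] (N₀ : PM O) :
    IsIso ((shf O).map (N₀ ◁ φ)) := by
  have h : N₀ ◁ φ = (β_ N₀ A).hom ≫ (φ ▷ N₀) ≫ (β_ N₀ B).inv := by
    rw [← Category.assoc, ← BraidedCategory.braiding_naturality_right, Category.assoc,
      Iso.hom_inv_id, Category.comp_id]
  have := isIso_shf_map_whiskerRight φ N₀
  rw [h, Functor.map_comp, Functor.map_comp]
  infer_instance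

/-- Tensoring with the sheafification of `B` is tensoring with `B`, then sheafifying. -/
noncomputable def tensorRightShfIso (B : PM O) :
    T B ≅ T ((toPM O).obj ((shf O).obj B)) :=
  NatIso.ofComponents
    (fun M => by
      have := isIso_shf_map_whiskerLeft (η B) ((toPM O).obj M)
      exact asIso ((shf O).map ((toPM O).obj M ◁ η B)))
    (by
      intro M M' f
      dsimp
      rw [← Functor.map_comp, ← Functor.map_comp, whisker_exchange])

/-- Associativity of the tensor product of sheaves of modules, as an isomorphism of functors. -/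
noncomputable def tensorAssocIso (G₀ F₀ : PM O) :
    T ((toPM O).obj ((shf O).obj (G₀ ⊗ F₀))) ≅ T G₀ ⋙ T F₀ :=
  (tensorRightShfIso (G₀ ⊗ F₀)).symm ≪≫
    Functor.isoWhiskerLeft (toPM O) (Functor.isoWhiskerRight (tensorRightTensor G₀ F₀) (shf O)) ≪≫
    Functor.isoWhiskerLeft (toPM O) (Functor.isoWhiskerLeft (tensorRight G₀) (tensorShfIso F₀))

theorem isFlat_iff (N : ModSite.Mod O) :
    ModSite.IsFlat N ↔ PreservesFiniteLimits (T ((toPM O).obj N)) ∧
      PreservesFiniteColimits (T ((toPM O).obj N)) := Iff.rfl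

theorem isFlat_tensor (G F : ModSite.Mod O) (hG : ModSite.IsFlat G) (hF : ModSite.IsFlat F) :
    ModSite.IsFlat (((ModSite.tensorBi O).obj G).obj F) := by
  rw [isFlat_iff] at hG hF
  obtain ⟨hG1, hG2⟩ := hG
  obtain ⟨hF1, hF2⟩ := hF
  have e := tensorAssocIso ((toPM O).obj G) ((toPM O).obj F)
  constructor
  · exact preservesFiniteLimits_of_natIso e.symm
  · exact preservesFiniteColimits_of_natIso e.symm

end Groth.Agent.H31
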