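import Groth.Agent.H31.StalkExact
import Groth.Agent.H31.TensorSite3
import Mathlib.Topology.Sheaves.Sheafify

/-!
# The stalk of a tensor product of modules over a ringed space (helper31 library)

`τ O x M N : (M ⊗_O N)_x ≅ M_x ⊗_{O_x} N_x`, natural in both variables.
-/

set_option autoImplicit false
set_option backward.isDefEq.respectTransparency false
universe u
open CategoryTheory CategoryTheory.Limits Opposite TopologicalSpace MonoidalCategory TensorProduct

namespace Groth.Agent.H31.Stalk

open Groth.Agent.H31 Groth.Agent.H40.StalkTensor Groth.Agent.H40.FlatBridge2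

section Presheaf

variable {X : TopCat.{u}} {R : X.Presheaf CommRingCat.{u}} (x : X)

section

variable (N M : PresheafOfModules.{u} (R ⋙ forget₂ CommRingCat RingCat))

lemma tm_induction' {U : Opens X} {motive : ↑((N ⊗ M).obj (op U)) → Prop}
    (zero : motive 0) (tmul : ∀ (n : N.obj (op U)) (m : M.obj (op U)), motive (tm N M U n m))
    (add : ∀ a b, motive a → motive b → motive (a + b)) (s : ↑((N ⊗ M).obj (op U))) :
    motive s :=
  TensorProduct.induction_on s zero tmul add

lemma theta_smul (r : Rx R x) (ξ : St (N ⊗ M) x) :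
    theta N M x (r • ξ) = r • theta N M x ξ := by
  obtain ⟨W, hW, r₀, s, -, rfl, rfl, -⟩ := exists_rep₃ (N ⊗ M) (N ⊗ M) x r ξ ξ
  rw [← gm_smul]
  refine tm_induction' N M (U := W)
    (motive := fun s => theta N M x (gm (N ⊗ M) x W hW (r₀ • s)) =
      R.germ W x hW r₀ • theta N M x (gm (N ⊗ M) x W hW s)) ?_ ?_ ?_ s
  · rw [smul_zero, map_zero, map_zero, smul_zero]
  · intro n m
    show theta N M x (TopCat.Presheaf.germ (N ⊗ M).presheaf W x hW (tm N M W (r₀ • n) m)) =
      R.germ W x hW r₀ •
        theta N M x (TopCat.Presheaf.germ (N ⊗ M).presheaf W x hW (tm N M W n m))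
    rw [theta_germ_tm, theta_germ_tm, gm_smul, TensorProduct.smul_tmul']
  · intro a b ha hb
    rw [smul_add, map_add, map_add, ha, hb, map_add, map_add, smul_add]

/-- The stalk of the sectionwise tensor product is the tensor product of the stalks. -/
noncomputable def thetaEquiv : St (N ⊗ M) x ≃ₗ[Rx R x] (St N x ⊗[Rx R x] St M x) where
  toFun := theta N M x
  map_add' := map_add _
  map_smul' := theta_smul x N M
  invFun := psi N M x
  left_inv := psi_theta N M x
  right_inv := theta_psi N M x

/-- The stalk of the sectionwise tensor product is the tensor product of the stalks. -/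
noncomputable def thetaIso : (stkP x).obj (N ⊗ M) ≅ (stkP x).obj N ⊗ (stkP x).obj M :=
  (thetaEquiv x N M).toModuleIso

end

variable {N' N : PresheafOfModules.{u} (R ⋙ forget₂ CommRingCat RingCat)}
  {M' M : PresheafOfModules.{u} (R ⋙ forget₂ CommRingCat RingCat)}

lemma whiskerLeft_app_tm (ψ : M' ⟶ M) (U : Opens X) (n : N.obj (op U)) (m : M'.obj (op U)) :
    ((PresheafOfModules.toPresheaf _).map (N ◁ ψ)).app (op U) (tm N M' U n m) =
      tm N M U n (ψ.app (op U) m) := rfl

lemma theta_natural_right (ψ : M' ⟶ M) (ξ : St (N ⊗ M') x) :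
    theta N M x (stalkAdd (N ◁ ψ) x ξ) =
      LinearMap.lTensor (St N x) (stalkLin ψ x) (theta N M' x ξ) := by
  obtain ⟨U, hU, s, rfl⟩ := TopCat.Presheaf.exists_germ_eq (N ⊗ M').presheaf ξ
  induction s using tm_induction with
  | zero => rw [map_zero, map_zero, map_zero, map_zero, map_zero]
  | tmul n m =>
    rw [theta_germ_tm, LinearMap.lTensor_tmul, stalkLin_apply, stalkAdd_gm]
    have : stalkAdd (N ◁ ψ) x (TopCat.Presheaf.germ (N ⊗ M').presheaf U x hU (tm N M' U n m)) =
        TopCat.Presheaf.germ (N ⊗ M).presheaf U x hU (tm N M U n (ψ.app (op U) m)) :=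
      TopCat.Presheaf.stalkFunctor_map_germ_apply U x hU
        ((PresheafOfModules.toPresheaf _).map (N ◁ ψ)) (tm N M' U n m)
    rw [this, theta_germ_tm]
  | add a b ha hb => rw [map_add, map_add, map_add, map_add, map_add, ha, hb]

theorem thetaIso_natural_left (φ : N' ⟶ N)
    (M : PresheafOfModules.{u} (R ⋙ forget₂ CommRingCat RingCat)) :
    (stkP x).map (φ ▷ M) ≫ (thetaIso x N M).hom =
      (thetaIso x N' M).hom ≫ ((stkP x).map φ ▷ (stkP x).obj M) := by
  ext ξ
  exact theta_natural φ M x ξ

theorem thetaIso_natural_right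
    (N : PresheafOfModules.{u} (R ⋙ forget₂ CommRingCat RingCat)) (ψ : M' ⟶ M) :
    (stkP x).map (N ◁ ψ) ≫ (thetaIso x N M).hom =
      (thetaIso x N M').hom ≫ ((stkP x).obj N ◁ (stkP x).map ψ) := by
  ext ξ
  exact theta_natural_right x ψ ξ

end Presheaf

section Sheaf

variable {X : TopCat.{u}} (O : Sheaf (Opens.grothendieckTopology X) CommRingCat.{u}) (x : X)

/-- The map from the stalk of a presheaf of modules to the stalk of its sheafification. -/
noncomputable def σ (A : PM O) : (stkP x).obj A ⟶ (stk O x).obj ((shf O).obj A) :=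
  (stkP x).map (η A)

instance isIso_σ (A : PM O) : IsIso (σ O x A) := by
  have h1 : IsIso ((TopCat.Presheaf.stalkFunctor AddCommGrpCat.{u} x).map
      (CategoryTheory.toSheafify (Opens.grothendieckTopology X) A.presheaf)) :=
    TopCat.Presheaf.stalkFunctor_map_unit_toSheafify_isIso x AddCommGrpCat.{u} A.presheaf
  have h2 : Function.Bijective (stalkAdd (η A) x) :=
    (ConcreteCategory.isIso_iff_bijective _).1 h1
  exact (ConcreteCategory.isIso_iff_bijective (σ O x A)).2 h2

theorem σ_natural {A A' : PM O} (g : A ⟶ A') :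
    σ O x A ≫ (stk O x).map ((shf O).map g) = (stkP x).map g ≫ σ O x A' := by
  show (stkP x).map (η A) ≫ (stkP x).map ((toPM O).map ((shf O).map g)) =
    (stkP x).map g ≫ (stkP x).map (η A')
  rw [← Functor.map_comp, ← Functor.map_comp]
  congr 1
  exact ((shfAdj O).unit.naturality g).symm

/-- The stalk of the tensor product of two sheaves of modules. -/
noncomputable def τ (M N : ModSite.Mod O) :
    (stk O x).obj (((ModSite.tensorBi O).obj M).obj N) ≅ (stk O x).obj M ⊗ (stk O x).obj N :=
  (asIso (σ O x ((toPM O).obj M ⊗ (toPM O).obj N))).symm ≪≫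
    thetaIso x ((toPM O).obj M) ((toPM O).obj N)

theorem τ_natural_left {M M' : ModSite.Mod O} (f : M ⟶ M') (N : ModSite.Mod O) :
    (stk O x).map (((ModSite.tensorBi O).map f).app N) ≫ (τ O x M' N).hom =
      (τ O x M N).hom ≫ ((stk O x).map f ▷ (stk O x).obj N) := by
  have h1 := σ_natural O x ((toPM O).map f ▷ (toPM O).obj N)
  have h2 := thetaIso_natural_left x ((toPM O).map f) ((toPM O).obj N)
  have h3 : (stk O x).map (((ModSite.tensorBi O).map f).app N) =
      inv (σ O x ((toPM O).obj M ⊗ (toPM O).obj N)) ≫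
        (stkP x).map ((toPM O).map f ▷ (toPM O).obj N) ≫
          σ O x ((toPM O).obj M' ⊗ (toPM O).obj N) := by
    rw [IsIso.eq_inv_comp]
    exact h1
  rw [h3]
  simp only [τ, Iso.trans_hom, Iso.symm_hom, asIso_inv, Category.assoc, IsIso.hom_inv_id_assoc]
  rw [h2]
  rfl

theorem τ_natural_right (M : ModSite.Mod O) {N N' : ModSite.Mod O} (g : N ⟶ N') :
    (stk O x).map (((ModSite.tensorBi O).obj M).map g) ≫ (τ O x M N').hom =
      (τ O x M N).hom ≫ ((stk O x).obj M ◁ (stk O x).map g) := by
  have h1 := σ_natural O x ((toPM O).obj M ◁ (toPM O).map g)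
  have h2 := thetaIso_natural_right x ((toPM O).obj M) ((toPM O).map g)
  have h3 : (stk O x).map (((ModSite.tensorBi O).obj M).map g) =
      inv (σ O x ((toPM O).obj M ⊗ (toPM O).obj N)) ≫
        (stkP x).map ((toPM O).obj M ◁ (toPM O).map g) ≫
          σ O x ((toPM O).obj M ⊗ (toPM O).obj N') := by
    rw [IsIso.eq_inv_comp]
    exact h1
  rw [h3]
  simp only [τ, Iso.trans_hom, Iso.symm_hom, asIso_inv, Category.assoc, IsIso.hom_inv_id_assoc]
  rw [h2]
  rfl

end Sheaf

end Groth.Agent.H31.Stalk
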