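import Groth.Agent.H31.GammaZCore

/-!
# Morphisms out of objects with proper support into an open immersion (helper31)

For an open immersion `j : X ⟶ X̄`, an open `W ⊆ X̄` with `X̄ ∖ W ⊆ j(X)`, and `N` vanishing on `W`,
the restriction map `Hom(N, M) ⟶ Hom(j^*N, j^*M)` is injective.
-/

set_option backward.isDefEq.respectTransparency false
set_option autoImplicit false
set_option linter.style.haveILetI false
universe u
open CategoryTheory CategoryTheory.Limits AlgebraicGeometry TopologicalSpace Opposite Pretriangulated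
attribute [local instance] HasDerivedCategory.standard

namespace Groth.Agent.H31.SuppAdj

open Groth.Agent.H5.KInjDer Groth.Agent.H31.Stalk Groth.Agent.H31.RpushRestrict
  Groth.Agent.H31.LocalD Groth.Agent.H31.RpushSupport Groth.Agent.H31.OpenImmD
  Groth.Agent.H31.GammaZTri Groth.Agent.H31.SuppEquiv Groth.Agent.H31.GammaZCore

variable {X Xbar : Scheme.{u}} (j : X ⟶ Xbar) [IsOpenImmersion j]

/-- Vanishing of the restriction along `j` implies vanishing on the open `j(X)`. -/
theorem isZero_restrictD_opensRange (D : DCoh.D Xbar) (h : IsZero ((DCoh.restrictD j).obj D)) :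
    IsZero ((DCoh.restrictD j.opensRange.ι).obj D) := by
  refine isZero_restrictD_of_support D (Set.range j.base)ᶜ (fun i y hy hyr => ?_) j.opensRange
    (fun x hx => hx ?_)
  · obtain ⟨x, rfl⟩ := hyr
    apply hy
    have h1 : IsZero ((DCoh.HD D i).restrict j) :=
      IsZero.of_iso ((isZero_iff_homology _).1 h i) (HDRestrictIso_gen j D i).symm
    exact (subsingleton_stalk_restrict_iff_gen j _ x).1 (subsingleton_stalk_of_isZero _ h1 _)
  · exact x.2

variable [DCoh.HasRpush j]

/-- A morphism out of an object vanishing on `W` (with `X̄ ∖ W ⊆ j(X)`) which restricts to zero on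
`X` is zero. -/
theorem eq_zero_of_restrictD_map_eq_zero (adjj : DCoh.restrictD j ⊣ DCoh.Rpush j) (W : Xbar.Opens)
    (hW : (W : Set Xbar)ᶜ ⊆ Set.range j.base) (N M : DCoh.D Xbar)
    (hN : IsZero ((DCoh.restrictD W.ι).obj N)) (ψ : N ⟶ M)
    (h : (DCoh.restrictD j).map ψ = 0) : ψ = 0 := by
  haveI : DCoh.HasRpush W.ι := hasRpush _
  haveI : (DCoh.Rpush j).Additive := adjj.right_adjoint_additive
  have h1 : ψ ≫ adjj.unit.app M = 0 := by
    have hn := adjj.unit.naturality ψ
    simp only [Functor.id_map, Functor.comp_map] at hn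
    rw [hn, h, Functor.map_zero, comp_zero]
  obtain ⟨D, f, g, hT⟩ := Pretriangulated.distinguished_cocone_triangle₁ (adjj.unit.app M)
  obtain ⟨ψ', hψ'⟩ := Triangle.coyoneda_exact₂ _ hT ψ h1
  have hD : IsZero ((DCoh.restrictD j).obj D) := by
    have hT' := (DCoh.restrictD j).map_distinguished _ hT
    refine (Triangle.isZero₁_iff_isIso₂ _ hT').2 ?_
    show IsIso ((DCoh.restrictD j).map (adjj.unit.app M))
    have h2 : (DCoh.restrictD j).map (adjj.unit.app M) ≫
        adjj.counit.app ((DCoh.restrictD j).obj M) = 𝟙 _ := adjj.left_triangle_components M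
    haveI : IsIso (adjj.counit.app ((DCoh.restrictD j).obj M)) := isIso_counit_app_of_adj j adjj _
    haveI : IsIso ((DCoh.restrictD j).map (adjj.unit.app M) ≫
        adjj.counit.app ((DCoh.restrictD j).obj M)) := by rw [h2]; infer_instance
    exact IsIso.of_isIso_comp_right _ (adjj.counit.app ((DCoh.restrictD j).obj M))
  have hD' := isZero_restrictD_opensRange j D hD
  have hess : (DCoh.Rpush W.ι).essImage D := by
    refine mem_essImage_Rpush_of_isZero_restrictD W.ι j.opensRange ?_ D hD'
    intro y hy
    have hyW : y ∈ W := by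
      by_contra hyW
      exact hy (hW hyW)
    exact ⟨⟨y, hyW⟩, rfl⟩
  rw [hψ', hom_eq_zero W N D hN hess ψ', zero_comp]

end Groth.Agent.H31.SuppAdj
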