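import Groth.Agent.H31.TensorSite3
import Mathlib.CategoryTheory.Functor.Trifunctor

/-!
# The associator of the tensor product of sheaves of modules, natural in three variables
(helper31 library)
-/

set_option autoImplicit false
universe u
open CategoryTheory CategoryTheory.Limits MonoidalCategory Opposite

namespace Groth.Agent.H31

variable {C : Type u} [SmallCategory C] {J : GrothendieckTopology C} {O : Sheaf J CommRingCat.{u}}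

theorem assoc_nat_aux {A : Type*} [Category A] {L L' M M' M₂ M₂' R R' : A}
    (a₁ : M ⟶ L) [IsIso a₁] (a₁' : M' ⟶ L') [IsIso a₁'] (a₂ : M ⟶ M₂) (a₂' : M' ⟶ M₂')
    (a₃ : M₂ ⟶ R) (a₃' : M₂' ⟶ R') (l : L ⟶ L') (m : M ⟶ M') (m₂ : M₂ ⟶ M₂') (r : R ⟶ R')
    (s1 : a₁ ≫ l = m ≫ a₁') (s2 : m ≫ a₂' = a₂ ≫ m₂) (s3 : m₂ ≫ a₃' = a₃ ≫ r) :
    l ≫ inv a₁' ≫ a₂' ≫ a₃' = (inv a₁ ≫ a₂ ≫ a₃) ≫ r := by
  rw [← cancel_epi a₁]
  simp only [Category.assoc, IsIso.hom_inv_id_assoc]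
  rw [reassoc_of% s1, IsIso.hom_inv_id_assoc, reassoc_of% s2, s3]

theorem η_naturality {B B' : PM O} (h : B ⟶ B') :
    h ≫ η B' = η B ≫ (toPM O).map ((shf O).map h) :=
  (shfAdj O).unit.naturality h

theorem η_whiskerRight_nat {B B' : PM O} (h : B ⟶ B') (N : PM O) :
    (shf O).map (η B ▷ N) ≫ (shf O).map ((toPM O).map ((shf O).map h) ▷ N) =
      (shf O).map (h ▷ N) ≫ (shf O).map (η B' ▷ N) := by
  rw [← Functor.map_comp, ← Functor.map_comp, ← comp_whiskerRight, ← comp_whiskerRight,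
    η_naturality]

theorem η_whiskerLeft_nat {B B' : PM O} (h : B ⟶ B') (N : PM O) :
    (shf O).map (N ◁ h) ≫ (shf O).map (N ◁ η B') =
      (shf O).map (N ◁ η B) ≫ (shf O).map (N ◁ (toPM O).map ((shf O).map h)) := by
  rw [← Functor.map_comp, ← Functor.map_comp, ← whiskerLeft_comp, ← whiskerLeft_comp,
    η_naturality]

instance isIso_a₁ (A₁ A₂ A₃ : PM O) : IsIso ((shf O).map (η (A₁ ⊗ A₂) ▷ A₃)) :=
  isIso_shf_map_whiskerRight (η (A₁ ⊗ A₂)) A₃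

instance isIso_a₃ (A₁ A₂ A₃ : PM O) : IsIso ((shf O).map (A₁ ◁ η (A₂ ⊗ A₃))) :=
  isIso_shf_map_whiskerLeft (η (A₂ ⊗ A₃)) A₁

/-- The associator `(A₁ ⊗ A₂)^# ⊗ A₃ ≅ A₁ ⊗ (A₂ ⊗ A₃)^#` after sheafification. -/
noncomputable def assocP (A₁ A₂ A₃ : PM O) :
    (shf O).obj ((toPM O).obj ((shf O).obj (A₁ ⊗ A₂)) ⊗ A₃) ≅
      (shf O).obj (A₁ ⊗ (toPM O).obj ((shf O).obj (A₂ ⊗ A₃))) :=
  (asIso ((shf O).map (η (A₁ ⊗ A₂) ▷ A₃))).symm ≪≫ (shf O).mapIso (α_ A₁ A₂ A₃) ≪≫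
    asIso ((shf O).map (A₁ ◁ η (A₂ ⊗ A₃)))

theorem assocP_hom (A₁ A₂ A₃ : PM O) :
    (assocP A₁ A₂ A₃).hom = inv ((shf O).map (η (A₁ ⊗ A₂) ▷ A₃)) ≫
      (shf O).map (α_ A₁ A₂ A₃).hom ≫ (shf O).map (A₁ ◁ η (A₂ ⊗ A₃)) := by
  simp [assocP]

theorem assocP_nat₁ {A₁ A₁' : PM O} (g : A₁ ⟶ A₁') (A₂ A₃ : PM O) :
    (shf O).map ((toPM O).map ((shf O).map (g ▷ A₂)) ▷ A₃) ≫ (assocP A₁' A₂ A₃).hom =
      (assocP A₁ A₂ A₃).hom ≫ (shf O).map (g ▷ (toPM O).obj ((shf O).obj (A₂ ⊗ A₃))) := by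
  rw [assocP_hom, assocP_hom]
  refine assoc_nat_aux _ _ _ _ _ _ _ ((shf O).map ((g ▷ A₂) ▷ A₃))
    ((shf O).map (g ▷ (A₂ ⊗ A₃))) _ (η_whiskerRight_nat (g ▷ A₂) A₃) ?_ ?_
  · rw [← Functor.map_comp, ← Functor.map_comp, associator_naturality_left]
  · rw [← Functor.map_comp, ← Functor.map_comp, whisker_exchange]

theorem assocP_nat₂ (A₁ : PM O) {A₂ A₂' : PM O} (g : A₂ ⟶ A₂') (A₃ : PM O) :
    (shf O).map ((toPM O).map ((shf O).map (A₁ ◁ g)) ▷ A₃) ≫ (assocP A₁ A₂' A₃).hom =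
      (assocP A₁ A₂ A₃).hom ≫ (shf O).map (A₁ ◁ (toPM O).map ((shf O).map (g ▷ A₃))) := by
  rw [assocP_hom, assocP_hom]
  refine assoc_nat_aux _ _ _ _ _ _ _ ((shf O).map ((A₁ ◁ g) ▷ A₃))
    ((shf O).map (A₁ ◁ (g ▷ A₃))) _ (η_whiskerRight_nat (A₁ ◁ g) A₃) ?_
    (η_whiskerLeft_nat (g ▷ A₃) A₁)
  rw [← Functor.map_comp, ← Functor.map_comp, associator_naturality_middle]

theorem assocP_nat₃ (A₁ A₂ : PM O) {A₃ A₃' : PM O} (g : A₃ ⟶ A₃') :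
    (shf O).map ((toPM O).obj ((shf O).obj (A₁ ⊗ A₂)) ◁ g) ≫ (assocP A₁ A₂ A₃').hom =
      (assocP A₁ A₂ A₃).hom ≫ (shf O).map (A₁ ◁ (toPM O).map ((shf O).map (A₂ ◁ g))) := by
  rw [assocP_hom, assocP_hom]
  refine assoc_nat_aux _ _ _ _ _ _ _ ((shf O).map ((A₁ ⊗ A₂) ◁ g))
    ((shf O).map (A₁ ◁ (A₂ ◁ g))) _ ?_ ?_ (η_whiskerLeft_nat (A₂ ◁ g) A₁)
  · rw [← Functor.map_comp, ← Functor.map_comp, whisker_exchange]
  · rw [← Functor.map_comp, ← Functor.map_comp, associator_naturality_right]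

/-- The associator of the tensor product of sheaves of modules, as an isomorphism of
trifunctors. -/
noncomputable def tensorBiAssociator :
    bifunctorComp₁₂ (ModSite.tensorBi O) (ModSite.tensorBi O) ≅
      bifunctorComp₂₃ (ModSite.tensorBi O) (ModSite.tensorBi O) :=
  NatIso.ofComponents (fun X₁ => NatIso.ofComponents (fun X₂ => NatIso.ofComponents
    (fun X₃ => assocP ((toPM O).obj X₁) ((toPM O).obj X₂) ((toPM O).obj X₃))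
    (fun {X₃ X₃'} f => assocP_nat₃ ((toPM O).obj X₁) ((toPM O).obj X₂) ((toPM O).map f)))
    (fun {X₂ X₂'} f => NatTrans.ext (funext fun X₃ =>
      assocP_nat₂ ((toPM O).obj X₁) ((toPM O).map f) ((toPM O).obj X₃))))
    (fun {X₁ X₁'} f => NatTrans.ext (funext fun X₂ => NatTrans.ext (funext fun X₃ =>
      assocP_nat₁ ((toPM O).map f) ((toPM O).obj X₂) ((toPM O).obj X₃))))

end Groth.Agent.H31
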