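import Groth.Agent.H31.TensorSite

/-!
# Tensor products of sheaves of modules on a ringed site, part 2 (helper31 library)

* `sheafHomAdj'`: `toPM ⋙ tensorRight N₀ ⋙ shf ⊣ Hsh N₀` for any presheaf of modules `N₀`;
* `tensorShfIso`: `a(A ⊗ N₀) ≅ a((aA).val ⊗ N₀)` naturally in `A`;
* `isIso_shf_map_whiskerRight`: tensoring preserves local isomorphisms;
* `shfTensorIso`: `a(M' ⊗ N') ≅ a M' ⊗ a N'`.
-/

set_option autoImplicit false
universe u
open CategoryTheory CategoryTheory.Limits MonoidalCategory Opposite

namespace Groth.Agent.H31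

variable {C : Type u} [SmallCategory C] {J : GrothendieckTopology C} {O : Sheaf J CommRingCat.{u}}

/-- The tensor-hom adjunction on sheaves of modules, for a presheaf of modules `N₀`. -/
noncomputable def sheafHomAdj' (N₀ : PM O) :
    toPM O ⋙ tensorRight N₀ ⋙ shf O ⊣ Hsh N₀ :=
  ((tensorAdj N₀).comp (shfAdj O)).restrictFullyFaithful
    (iC := toPM O) (iD := 𝟭 (ModSite.Mod O))
    (SheafOfModules.fullyFaithfulForget _) (Functor.FullyFaithful.id _)
    ((Functor.rightUnitor (toPM O ⋙ tensorRight N₀ ⋙ shf O)).symm)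
    (Functor.leftUnitor _ ≪≫ NatIso.ofComponents (fun P => Iso.refl _) (by
      intro P Q f
      simp
      rfl))

/-- `incl` is the forgetful functor. -/
noncomputable def inclIso : incl O ≅ toPM O := Iso.refl _

/-- Tensoring commutes with sheafification in the first variable. -/
noncomputable def tensorShfIso (N₀ : PM O) :
    tensorRight N₀ ⋙ shf O ≅ shf O ⋙ (toPM O ⋙ tensorRight N₀ ⋙ shf O) :=
  ((tensorAdj N₀).comp (shfAdj O)).leftAdjointUniq
    (((shfAdj O).comp (sheafHomAdj' N₀)).ofNatIsoRight
      (NatIso.ofComponents (fun P => Iso.refl _) (by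
        intro P Q f
        simp
        rfl)))

/-- Tensoring with a presheaf of modules preserves local isomorphisms. -/
theorem isIso_shf_map_whiskerRight {A B : PM O} (φ : A ⟶ B) [IsIso ((shf O).map φ)] (N₀ : PM O) :
    IsIso ((shf O).map (φ ▷ N₀)) := by
  have h := NatIso.naturality_2 (tensorShfIso N₀) φ
  have h2 : IsIso ((shf O ⋙ (toPM O ⋙ tensorRight N₀ ⋙ shf O)).map φ) := by
    rw [Functor.comp_map]
    infer_instance
  have h3 : (shf O).map (φ ▷ N₀) = (tensorRight N₀ ⋙ shf O).map φ := rfl
  rw [h3, ← h]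
  infer_instance

/-- The sheaf associated to the presheaf tensor product is the tensor product of the associated
sheaves. -/
noncomputable def shfTensorIso (M' N' : PM O) :
    (shf O).obj (M' ⊗ N') ≅
      ((ModSite.tensorBi O).obj ((shf O).obj M')).obj ((shf O).obj N') :=
  (tensorShfIso N').app M' ≪≫
    (shf O).mapIso (β_ ((toPM O).obj ((shf O).obj M')) N') ≪≫
    (tensorShfIso ((toPM O).obj ((shf O).obj M'))).app N' ≪≫
    (shf O).mapIso (β_ ((toPM O).obj ((shf O).obj N')) ((toPM O).obj ((shf O).obj M')))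

end Groth.Agent.H31
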