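import Groth.Agent.H31.TensorSite3
import Mathlib.CategoryTheory.Sites.PreservesLocallyBijective
import Mathlib.Algebra.Category.ModuleCat.Presheaf.PushforwardZeroMonoidal

/-!
# Restriction to `C/X` commutes with sheafification and with tensor products (helper31 library)
-/

set_option autoImplicit false
universe u
open CategoryTheory CategoryTheory.Limits MonoidalCategory Opposite

namespace Groth.Agent.H31

variable {C : Type u} [SmallCategory C] {J : GrothendieckTopology C} (O : Sheaf J CommRingCat.{u})
  (X : C)

/-- Restriction of presheaves of modules to `C/X`. -/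
noncomputable def res : PM O ⥤ PM (O.over X) :=
  PresheafOfModules.pushforward (F := Over.forget X) (R := (ModSite.ringSh O).obj)
    (S := ((ModSite.ringSh O).over X).obj)
    (InducedCategory.Hom.hom (𝟙 ((ModSite.ringSh O).over X)))

theorem toPM_restr (M : ModSite.Mod O) :
    (toPM (O.over X)).obj ((ModSite.restr O X).obj M) = (res O X).obj ((toPM O).obj M) := rfl

theorem toPresheaf_map_res {A B : PM O} (φ : A ⟶ B) :
    (PresheafOfModules.toPresheaf (R₀ (O.over X))).map ((res O X).map φ) =
      Functor.whiskerLeft (Over.forget X).op ((PresheafOfModules.toPresheaf (R₀ O)).map φ) := rfl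

variable {O}

theorem W_toPresheaf_of_isIso {A B : PM O} (φ : A ⟶ B) [IsIso ((shf O).map φ)] :
    J.W ((PresheafOfModules.toPresheaf (R₀ O)).map φ) :=
  (isIso_shf_map_iff φ).1 inferInstance

/-- Restriction to `C/X` preserves local isomorphisms of presheaves of modules. -/
theorem isIso_shf_map_res {A B : PM O} (φ : A ⟶ B) [IsIso ((shf O).map φ)] :
    IsIso ((shf (O.over X)).map ((res O X).map φ)) := by
  rw [isIso_shf_map_iff]
  have h := (GrothendieckTopology.W_iff_isLocallyBijective _ _).1 (W_toPresheaf_of_isIso φ)
  obtain ⟨h1, h2⟩ := h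
  exact (GrothendieckTopology.W_iff_isLocallyBijective (J.over X)
    (Functor.whiskerLeft (Over.forget X).op ((PresheafOfModules.toPresheaf (R₀ O)).map φ))).2
    ⟨Presheaf.isLocallyInjective_whisker (J.over X) J (Over.forget X) _,
    Presheaf.isLocallySurjective_whisker (J.over X) J (Over.forget X) _⟩

/-- Restriction to `C/X` commutes with sheafification of presheaves of modules. -/
noncomputable def shfResIso (G : PM O) :
    (shf (O.over X)).obj ((res O X).obj G) ≅ (ModSite.restr O X).obj ((shf O).obj G) := by
  have := isIso_shf_map_res X (η G)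
  have h2 : IsIso ((shfAdj (O.over X)).counit.app ((ModSite.restr O X).obj ((shf O).obj G))) :=
    isIso_counit (O := O.over X) _
  exact asIso ((shf (O.over X)).map ((res O X).map (η G))) ≪≫
    @asIso _ _ _ _ ((shfAdj (O.over X)).counit.app ((ModSite.restr O X).obj ((shf O).obj G))) h2

/-- Restriction to `C/X` commutes with the tensor product of presheaves of modules. -/
noncomputable def resTensorIso (A B : PM O) :
    (res O X).obj (A ⊗ B) ≅ (res O X).obj A ⊗ (res O X).obj B :=
  (Functor.Monoidal.μIso (PresheafOfModules.pushforward₀OfCommRingCat (Over.forget X) O.obj)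
    A B).symm

/-- Restriction to `C/X` commutes with the tensor product of sheaves of modules. -/
noncomputable def restrTensorIso (M N : ModSite.Mod O) :
    (ModSite.restr O X).obj (((ModSite.tensorBi O).obj M).obj N) ≅
      ((ModSite.tensorBi (O.over X)).obj ((ModSite.restr O X).obj M)).obj
        ((ModSite.restr O X).obj N) :=
  (shfResIso X ((toPM O).obj M ⊗ (toPM O).obj N)).symm ≪≫
    (shf (O.over X)).mapIso (resTensorIso X ((toPM O).obj M) ((toPM O).obj N))

end Groth.Agent.H31
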