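import Groth.Agent.H31.LTensorCoprod
import Groth.Agent.H31.LpullTensor
import Groth.Agent.H56.PerfDual
import Groth.Agent.S6515

/-!
# Left K-flat representatives compute `- ⊗^L X` for every `X` (helper31)
-/

set_option autoImplicit false
set_option linter.style.haveILetI false
set_option backward.isDefEq.respectTransparency false
set_option synthInstance.maxHeartbeats 400000
universe u
open CategoryTheory CategoryTheory.Limits AlgebraicGeometry HomologicalComplex
attribute [local instance] HasDerivedCategory.standard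

namespace Groth.Agent.H31.TotRep

open Groth.Agent.H31 Groth.Agent.H31.KFlat Groth.Agent.H40.LTensorComp Groth.Agent.H40.LTensorInv
  Groth.Agent.H53.SiteTensor Groth.Agent.H40.LeftDer Groth.Agent.H31.Stalk

variable {Z : Scheme.{u}}

/-- Every `N ∈ D(O_Z)` is represented by a complex `K` such that `N ⊗^L X` is computed by
`Tot(K ⊗ X)` for every complex `X`. -/
theorem exists_left_rep (N : DCoh.D Z) :
    ∃ K : CochainComplex Z.Modules ℤ, ∀ (X : CochainComplex Z.Modules ℤ) [DCoh.HasLTensorCx X]
      (i : ℤ), Nonempty (DCoh.HD ((DCoh.LTensorCx X).obj N) i ≅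
        ((DCoh.tensorCx.obj K).obj X).homology i) := by
  have := hasExactColimitsOfShape_nat_Mod (O := shX Z)
  obtain ⟨K, q, hK, -, hq, -⟩ :=
    exists_kflat_resolution (T := Tf (shX Z)) (tensorLike_Tf (shX Z))
      (DerivedCategory.Q.objPreimage N)
  have hq' : IsIso (DerivedCategory.Q.map q) := (DerivedCategory.isIso_Q_map_iff_quasiIso _ _).2 hq
  let eN : DerivedCategory.Q.obj K ≅ N :=
    asIso (DerivedCategory.Q.map q) ≪≫ DerivedCategory.Q.objObjPreimageIso N
  refine ⟨K, fun X _ i => ?_⟩
  haveI : ModSite.HasLTensorCx (O := shX Z) X := ‹DCoh.HasLTensorCx X›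
  haveI : IsIso ((ε (O := shX Z) X).app K) := isIso_ε_app (O := shX Z) X K hK
  exact ⟨(DerivedCategory.homologyFunctor Z.Modules i).mapIso
      ((DCoh.LTensorCx X).mapIso eN.symm ≪≫ asIso ((ε (O := shX Z) X).app K)) ≪≫
    (DerivedCategory.homologyFunctorFactors Z.Modules i).app _⟩

end Groth.Agent.H31.TotRep
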